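import Groth.Agent.PicAux.FreeBasis
import Groth.Agent.QCohMod.Coherent
import Groth.Agent.QCohMod.SupportPullback
import Groth.Agent.QCohMod.ClosedImm
import Mathlib.RingTheory.Localization.Free
import Mathlib.RingTheory.LocalRing.Module
import Mathlib.RingTheory.Spectrum.Prime.FreeLocus

/-!
# Finite locally free modules through local bases
-/

universe u

open CategoryTheory CategoryTheory.Limits AlgebraicGeometry Opposite TopologicalSpace

namespace Groth.KTheory.LocFree

open Groth.PicAux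
open Groth.QCohMod (exists_pow_smul_eq_zero app_injective_of_mono exists_app_eq_of_mono_exact)

variable {X : Scheme.{u}} {M N : X.Modules}

theorem qres_eq {U V : X.Opens} (h : V ≤ U) (x : Γ(M, U)) :
    Groth.QCohMod.res M h x = res M h x := rfl

theorem qresFun_eq {U V : X.Opens} (h : V ≤ U) (x : Γ(X, U)) :
    Groth.QCohMod.resFun X h x = resX X h x := rfl

theorem isUnit_resX {U : X.Opens} (hU : IsAffineOpen U) (g : Γ(X, U)) :
    IsUnit (resX X (X.basicOpen_le g) g) := by
  have := hU.isLocalization_basicOpen g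
  exact IsLocalization.map_units (S := Γ(X, X.basicOpen g))
    (⟨g, Submonoid.mem_powers g⟩ : Submonoid.powers g)

/-- `X` has a local basis of `M` near every point. -/
def HasBases (M : X.Modules) : Prop :=
  ∀ x : X, ∃ (U : X.Opens) (n : ℕ) (s : Fin n → Γ(M, U)), x ∈ U ∧ Basis' M U s

/-- A splitting gives an isomorphism with the free module. -/
noncomputable def splitIso {n : ℕ} (d : Split' n M) : M ≅ FlatMod.freeMod X n where
  hom := ∑ i, d.p i ≫ Sigma.ι (fun _ : Fin n => Coh.structureModule X) i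
  inv := Sigma.desc d.s
  hom_inv_id := by
    rw [Preadditive.sum_comp]
    simp [d.total]
  inv_hom_id := by
    refine Sigma.hom_ext _ _ fun i => ?_
    rw [colimit.ι_desc_assoc, Cofan.mk_ι_app, Preadditive.comp_sum, Finset.sum_eq_single i]
    · rw [← Category.assoc, d.diag]; simp
    · intro j _ hj
      rw [← Category.assoc, d.off i j hj.symm, zero_comp]
    · simp

theorem isFinLocFree_iff : FlatMod.IsFinLocFree M ↔ HasBases M := by
  refine ⟨exists_basis_of_isFinLocFree, fun h x => ?_⟩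
  obtain ⟨U, n, s, hx, hs⟩ := h x
  rw [basis'_iff_restrict] at hs
  obtain ⟨d, -⟩ := hs.exists_split
  exact ⟨U, n, hx, ⟨splitIso d⟩⟩

theorem isFinLocFree_of_iso (e : M ≅ N) (h : FlatMod.IsFinLocFree M) : FlatMod.IsFinLocFree N := by
  rw [isFinLocFree_iff] at h ⊢
  intro x
  obtain ⟨U, n, s, hx, hs⟩ := h x
  exact ⟨U, n, _, hx, hs.map e.hom⟩

theorem isFinLocFree_zero (hM : IsZero M) : FlatMod.IsFinLocFree M := by
  rw [isFinLocFree_iff]
  intro x
  refine ⟨⊤, 0, Fin.elim0, trivial, fun V h => ?_⟩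
  have : Subsingleton Γ(M, V) :=
    AddCommGrpCat.subsingleton_of_isZero ((Groth.QCohMod.sec V).map_isZero hM)
  exact ⟨fun a b _ => Subsingleton.elim a b, fun m => ⟨Fin.elim0, Subsingleton.elim _ _⟩⟩

/-- A basis on a family of opens containing every point up to shrinking is a basis. -/
theorem basis'_of_local {n : ℕ} {U : X.Opens} (s : Fin n → Γ(M, U))
    (h : ∀ V : X.Opens, V ≤ U → ∀ x ∈ V, ∃ (W : X.Opens) (hWV : W ≤ V) (hW : W ≤ U), x ∈ W ∧
      Function.Bijective fun r : Fin n → Γ(X, W) => ∑ i, r i • res M hW (s i)) :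
    Basis' M U s := by
  have hinj : ∀ (V : X.Opens) (hV : V ≤ U), Function.Injective
      fun r : Fin n → Γ(X, V) => ∑ i, r i • res M hV (s i) := by
    intro V hV r r' e
    choose W hWV hW hxW hbij using fun x : V => h V hV x.1 x.2
    funext j
    refine resX_ext W hWV (fun x hx => Opens.mem_iSup.2 ⟨⟨x, hx⟩, hxW _⟩) fun x => ?_
    have e' := congrArg (res M (hWV x)) e
    simp only [res_sum, res_smul, res_res] at e'
    exact congrFun ((hbij x).1 e') j
  intro V hV
  refine ⟨hinj V hV, fun m => ?_⟩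
  choose W hWV hW hxW hbij using fun x : V => h V hV x.1 x.2
  choose r hr using fun x => (hbij x).2 (res M (hWV x) m)
  have hc : V ≤ iSup W := fun x hx => Opens.mem_iSup.2 ⟨⟨x, hx⟩, hxW _⟩
  have hglue : ∀ a b (j : Fin n), resX X (inf_le_left : W a ⊓ W b ≤ W a) (r a j) =
      resX X (inf_le_right : W a ⊓ W b ≤ W b) (r b j) := by
    intro a b
    refine congrFun (hinj _ (inf_le_left.trans (hW a)) ?_)
    have h1 := congrArg (res M (inf_le_left : W a ⊓ W b ≤ W a)) (hr a)
    have h2 := congrArg (res M (inf_le_right : W a ⊓ W b ≤ W b)) (hr b)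
    simp only [res_sum, res_smul, res_res] at h1 h2
    exact h1.trans h2.symm
  choose c hc' using fun j =>
    (resX_glue W hWV hc (fun a => r a j) fun a b => hglue a b j).exists
  refine ⟨c, res_ext W hWV hc fun a => ?_⟩
  simp only [res_sum, res_smul, res_res, hc']
  exact hr a

/-- Germs of sections. -/
theorem exists_res_eq {U V : X.Opens} {x : X} (hxU : x ∈ U) (hxV : x ∈ V) (a : Γ(M, U)) (b : Γ(M, V))
    (h : M.presheaf.germ U x hxU a = M.presheaf.germ V x hxV b) :
    ∃ (W : X.Opens) (hU : W ≤ U) (hV : W ≤ V), x ∈ W ∧ res M hU a = res M hV b := by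
  obtain ⟨W, hxW, i, j, hW⟩ := TopCat.Presheaf.germ_eq M.presheaf x hxU hxV a b h
  exact ⟨W, i.le, j.le, hxW, hW⟩

/-- Sections of the quotient lift locally through an epimorphism. -/
theorem exists_lift {g : M ⟶ N} [Epi g] {U : X.Opens} {x : X} (hx : x ∈ U) {n : ℕ}
    (t : Fin n → Γ(N, U)) :
    ∃ (V : X.Opens) (hV : V ≤ U) (s : Fin n → Γ(M, V)), x ∈ V ∧
      ∀ i, g.app V (s i) = res N hV (t i) := by
  have hone : ∀ i, ∃ (V : X.Opens) (hV : V ≤ U) (s : Γ(M, V)), x ∈ V ∧ g.app V s = res N hV (t i) := by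
    intro i
    obtain ⟨z, hz⟩ := (Groth.QCohMod.epi_iff_stalk g).mp inferInstance x
      (Groth.QCohMod.germ N x hx (t i))
    obtain ⟨W, hxW, m, rfl⟩ := Groth.QCohMod.exists_germ M x z
    rw [Groth.QCohMod.stalk_map_germ] at hz
    obtain ⟨V, h1, h2, hxV, hV⟩ := exists_res_eq hxW hx _ _ hz
    exact ⟨V, h2, res M h1 m, hxV, by rw [app_res]; exact hV⟩
  choose V hV s hxV hs using hone
  refine ⟨U ⊓ (Finset.univ : Finset (Fin n)).inf V, inf_le_left,
    fun i => res M (inf_le_right.trans (Finset.inf_le (Finset.mem_univ i))) (s i), ⟨hx, ?_⟩, fun i => ?_⟩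
  · have : ∀ S : Finset (Fin n), x ∈ S.inf V := by
      intro S
      induction S using Finset.cons_induction with
      | empty => exact trivial
      | cons a S ha ih => rw [Finset.inf_cons]; exact ⟨hxV a, ih⟩
    exact this _
  · rw [app_res, hs, res_res]

/-- Decomposition of sections of an extension by a module with a basis. -/
theorem exists_decomp {S : ShortComplex X.Modules} (hS : S.ShortExact) {U : X.Opens} {n : ℕ}
    {t : Fin n → Γ(S.X₃, U)} (ht : Basis' S.X₃ U t) {s : Fin n → Γ(S.X₂, U)}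
    (hs : ∀ i, S.g.app U (s i) = t i) {V : X.Opens} (hV : V ≤ U) :
    Function.Bijective fun p : Γ(S.X₁, V) × (Fin n → Γ(X, V)) =>
      S.f.app V p.1 + ∑ i, p.2 i • res S.X₂ hV (s i) := by
  have := hS.mono_f
  have hgf : ∀ a, S.g.app V (S.f.app V a) = 0 := fun a =>
    congr($(congrArg (fun φ : S.X₁ ⟶ S.X₃ => φ.app V) S.zero) a)
  have hg : ∀ r : Fin n → Γ(X, V), S.g.app V (∑ i, r i • res S.X₂ hV (s i)) =
      ∑ i, r i • res S.X₃ hV (t i) := by
    intro r
    rw [map_sum]
    refine Finset.sum_congr rfl fun i _ => ?_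
    rw [Scheme.Modules.Hom.app_smul, app_res, hs]
  constructor
  · rintro ⟨a, r⟩ ⟨a', r'⟩ e
    have e' := congrArg (S.g.app V) e
    simp only [map_add, hgf, zero_add, hg] at e'
    obtain rfl := (ht V hV).1 e'
    simp only [add_left_inj] at e
    rw [app_injective_of_mono S.f V e]
  · intro m
    obtain ⟨r, hr⟩ := (ht V hV).2 (S.g.app V m)
    obtain ⟨a, ha⟩ := exists_app_eq_of_mono_exact hS.exact V (m - ∑ i, r i • res S.X₂ hV (s i))
      (by rw [map_sub, hg]; simp only [] at hr; rw [hr, sub_self])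
    exact ⟨(a, r), by simp [ha]⟩

/-- An extension of finite locally free modules is finite locally free. -/
theorem isFinLocFree_of_shortExact {S : ShortComplex X.Modules} (hS : S.ShortExact)
    (h₁ : FlatMod.IsFinLocFree S.X₁) (h₃ : FlatMod.IsFinLocFree S.X₃) :
    FlatMod.IsFinLocFree S.X₂ := by
  rw [isFinLocFree_iff] at h₁ h₃ ⊢
  intro x
  obtain ⟨U₁, m, a, hx₁, ha⟩ := h₁ x
  obtain ⟨U₃, n, t, hx₃, ht⟩ := h₃ x
  have := hS.epi_g
  obtain ⟨U₂, h₂₃, s, hx₂, hs⟩ := exists_lift (g := S.g) hx₃ t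
  refine ⟨U₁ ⊓ U₂, m + n, Fin.append (fun i => S.f.app _ (res S.X₁ inf_le_left (a i)))
    (fun i => res S.X₂ inf_le_right (s i)), ⟨hx₁, hx₂⟩, fun V hV => ?_⟩
  have hd := exists_decomp hS (ht.res' h₂₃) hs (hV.trans inf_le_right)
  have hb := ha V (hV.trans inf_le_left)
  let φ : (Fin (m + n) → Γ(X, V)) → Γ(S.X₁, V) × (Fin n → Γ(X, V)) := fun r =>
    (∑ i, r (Fin.castAdd n i) • res S.X₁ (hV.trans inf_le_left) (a i), fun i => r (Fin.natAdd m i))
  have hφ : Function.Bijective φ := by
    constructor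
    · intro r r' e
      simp only [φ, Prod.mk.injEq] at e
      funext i
      refine Fin.addCases (fun j => ?_) (fun j => ?_) i
      · exact congrFun (hb.1 e.1) j
      · exact congrFun e.2 j
    · rintro ⟨b, r⟩
      obtain ⟨q, hq⟩ := hb.2 b
      exact ⟨Fin.append q r, by simp [φ, ← hq]⟩
  convert hd.comp hφ using 1
  funext r
  simp [φ, Fin.sum_univ_add, map_sum, Scheme.Modules.Hom.app_smul, app_res]

theorem isFinLocFree_biprod (hM : FlatMod.IsFinLocFree M) (hN : FlatMod.IsFinLocFree N) :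
    FlatMod.IsFinLocFree (M ⊞ N) :=
  isFinLocFree_of_shortExact (S := ShortComplex.mk (biprod.inl : M ⟶ M ⊞ N) biprod.snd (by simp))
    (ShortComplex.Splitting.shortExact { r := biprod.fst, s := biprod.inr }) hM hN

/-- An extension of a quasi-coherent module by a finite locally free one is quasi-coherent. -/
theorem isQCoh_of_shortExact {S : ShortComplex X.Modules} (hS : S.ShortExact)
    [S.X₁.IsQuasicoherent] (h₃ : FlatMod.IsFinLocFree S.X₃) : S.X₂.IsQuasicoherent := by
  refine Groth.QCohMod.isQCoh_of_affine_cover _ fun x => ?_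
  obtain ⟨U₃, n, t, hx₃, ht⟩ := exists_basis_of_isFinLocFree h₃ x
  have := hS.epi_g
  have := hS.mono_f
  obtain ⟨U₂, h₂₃, s, hx₂, hs⟩ := exists_lift (g := S.g) hx₃ t
  obtain ⟨_, ⟨U, hU, rfl⟩, hxU, hU2'⟩ :=
    X.isBasis_affineOpens.exists_subset_of_mem_open hx₂ U₂.2
  have hU2 : U ≤ U₂ := hU2'
  have hd := @exists_decomp X S hS U₂ n _ (ht.res' h₂₃) s hs
  refine ⟨U, hU, hxU, fun f m => ?_, fun f m hm => ?_⟩
  · have hf : X.basicOpen f ≤ U₂ := (X.basicOpen_le f).trans hU2
    obtain ⟨⟨a, r⟩, hm⟩ := (hd hf).2 m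
    have := hU.isLocalization_basicOpen f
    obtain ⟨k, b, hb⟩ := Groth.QCohMod.exists_pow_smul_eq_res S.X₁ hU f a
    have hr : ∀ i, ∃ (l : ℕ) (q : Γ(X, U)),
        resX X (X.basicOpen_le f) q = resX X (X.basicOpen_le f) f ^ l * r i := by
      intro i
      obtain ⟨⟨q, _, l, rfl⟩, hq⟩ := IsLocalization.surj (M := Submonoid.powers f) (r i)
      refine ⟨l, q, ?_⟩
      rw [RingHom.algebraMap_toAlgebra, map_pow, mul_comm] at hq
      exact hq.symm
    choose l q hq using hr
    let L := k + ∑ i, l i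
    refine ⟨L, S.f.app U (f ^ (L - k) • b) + ∑ i, (f ^ (L - l i) * q i) • res S.X₂ hU2 (s i), ?_⟩
    have hle : ∀ i, l i ≤ L := fun i =>
      (Finset.single_le_sum (fun j _ => Nat.zero_le (l j)) (Finset.mem_univ i)).trans (Nat.le_add_left _ _)
    rw [qres_eq, qresFun_eq, res_add, res_sum, ← hm, smul_add, Finset.smul_sum]
    congr 1
    · rw [← app_res, res_smul, ← qres_eq, hb, qresFun_eq, map_pow, smul_smul, ← pow_add,
        Nat.sub_add_cancel (Nat.le_add_right k _), Scheme.Modules.Hom.app_smul]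
    · refine Finset.sum_congr rfl fun i _ => ?_
      rw [res_smul, res_res, map_mul, map_pow, hq, ← mul_assoc, ← pow_add, Nat.sub_add_cancel (hle i),
        mul_smul]
  · have hf : X.basicOpen f ≤ U₂ := (X.basicOpen_le f).trans hU2
    obtain ⟨⟨a, r⟩, rfl⟩ := (hd hU2).2 m
    have h0 : (fun p : Γ(S.X₁, X.basicOpen f) × (Fin n → Γ(X, X.basicOpen f)) =>
        S.f.app _ p.1 + ∑ i, p.2 i • res S.X₂ hf (s i))
          (res S.X₁ (X.basicOpen_le f) a, fun i => resX X (X.basicOpen_le f) (r i)) =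
        (fun p : Γ(S.X₁, X.basicOpen f) × (Fin n → Γ(X, X.basicOpen f)) =>
        S.f.app _ p.1 + ∑ i, p.2 i • res S.X₂ hf (s i)) (0, 0) := by
      rw [qres_eq] at hm
      simpa [res_add, res_sum, app_res] using hm
    have h1 := (hd hf).1 h0
    simp only [Prod.mk.injEq] at h1
    obtain ⟨k, hk⟩ := exists_pow_smul_eq_zero S.X₁ hU f a h1.1
    have := hU.isLocalization_basicOpen f
    have hr : ∀ i, ∃ l : ℕ, f ^ l * r i = 0 := by
      intro i
      obtain ⟨⟨_, l, rfl⟩, hl⟩ := (IsLocalization.map_eq_zero_iff (Submonoid.powers f)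
        Γ(X, X.basicOpen f) (r i)).1 (congrFun h1.2 i)
      exact ⟨l, hl⟩
    choose l hl using hr
    refine ⟨k + ∑ i, l i, ?_⟩
    have h2 : ∀ i, (f ^ (k + ∑ i, l i) * r i) = 0 := fun i => by
      obtain ⟨c, hc⟩ := le_iff_exists_add.mp ((Finset.single_le_sum (f := l) (fun j _ => Nat.zero_le _)
        (Finset.mem_univ i)).trans (Nat.le_add_left _ k))
      rw [hc, pow_add, mul_right_comm, hl, zero_mul]
    simp only [smul_add, Finset.smul_sum, smul_smul, h2, zero_smul, Finset.sum_const_zero, add_zero,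
      ← Scheme.Modules.Hom.app_smul]
    rw [pow_add, mul_comm, mul_smul, hk, smul_zero, map_zero]

/-- Finite locally free modules are quasi-coherent. -/
theorem isQCoh (h : FlatMod.IsFinLocFree M) : M.IsQuasicoherent := by
  refine Groth.QCohMod.isQCoh_of_forall_exists M fun x => ?_
  obtain ⟨U, n, hx, ⟨e⟩⟩ := h x
  refine ⟨U, hx, (Groth.QCohMod.isQCoh_iff_of_iso e).2 ?_⟩
  have : ∀ j, ((Discrete.functor fun _ : Fin n => Coh.structureModule (U : Scheme.{u})).obj j).IsQuasicoherent :=
    fun j => Groth.QCohMod.isQCoh_unit _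
  exact Groth.QCohMod.isQCoh_of_isColimit (Discrete.functor fun _ : Fin n => Coh.structureModule (U : Scheme.{u})) _
    (colimit.isColimit _)

/-- Finite locally free modules are coherent. -/
theorem isCoh (h : FlatMod.IsFinLocFree M) : Coh.IsCoh M := by
  have := isQCoh h
  refine ⟨this, Groth.QCohMod.isFT_of_affine_cover M fun x => ?_⟩
  obtain ⟨U, n, s, hx, hs⟩ := exists_basis_of_isFinLocFree h x
  obtain ⟨_, ⟨V, hV, rfl⟩, hxV, hVU⟩ := X.isBasis_affineOpens.exists_subset_of_mem_open hx U.2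
  refine ⟨V, hV, hxV, Module.Finite.of_surjective
    (Fintype.linearCombination Γ(X, V) fun i => res M hVU (s i)) fun m => ?_⟩
  obtain ⟨r, hr⟩ := (hs V hVU).2 m
  exact ⟨r, by rw [Fintype.linearCombination_apply]; exact hr⟩

/-- An extension of a coherent module by a finite locally free one is coherent. -/
theorem isCoh_of_shortExact {S : ShortComplex X.Modules} (hS : S.ShortExact)
    (h₁ : Coh.IsCoh S.X₁) (h₃ : FlatMod.IsFinLocFree S.X₃) : Coh.IsCoh S.X₂ :=
  have := h₁.1
  have := isQCoh_of_shortExact hS h₃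
  Groth.QCohMod.isCoh_of_shortExact hS h₁ (isCoh h₃)

/-- Bijectivity on a basic open from bijectivity up to a multiplier invertible there. -/
theorem bijective_basicOpen [M.IsQuasicoherent] {U : X.Opens} (hU : IsAffineOpen U) {n : ℕ}
    (s : Fin n → Γ(M, U)) (g c : Γ(X, U)) (hc : IsUnit (resX X (X.basicOpen_le g) c))
    (hs : ∀ b : Γ(M, U), ∃ q : Fin n → Γ(X, U), c • b = ∑ i, q i • s i)
    (hi : ∀ q : Fin n → Γ(X, U), ∑ i, q i • s i = 0 → ∀ i, c * q i = 0) :
    Function.Bijective fun r : Fin n → Γ(X, X.basicOpen g) =>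
      ∑ i, r i • res M (X.basicOpen_le g) (s i) := by
  have hu := isUnit_resX hU g
  have := hU.isLocalization_basicOpen g
  refine ⟨fun r r' e => ?_, fun m => ?_⟩
  · have hr : ∀ i, ∃ (l : ℕ) (q : Γ(X, U)),
        resX X (X.basicOpen_le g) q = resX X (X.basicOpen_le g) g ^ l * (r i - r' i) := by
      intro i
      obtain ⟨⟨q, _, l, rfl⟩, hq⟩ := IsLocalization.surj (M := Submonoid.powers g) (r i - r' i)
      refine ⟨l, q, ?_⟩
      rw [RingHom.algebraMap_toAlgebra, map_pow, mul_comm] at hq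
      exact hq.symm
    choose l q hq using hr
    let L := ∑ i, l i
    have hle : ∀ i, l i ≤ L := fun i => Finset.single_le_sum (fun j _ => Nat.zero_le (l j)) (Finset.mem_univ i)
    have h0 : res M (X.basicOpen_le g) (∑ i, (g ^ (L - l i) * q i) • s i) = 0 := by
      have e' : ∑ i, (r i - r' i) • res M (X.basicOpen_le g) (s i) = 0 := by
        simp only at e
        simp only [sub_smul, Finset.sum_sub_distrib, e, sub_self]
      rw [res_sum, ← smul_zero (resX X (X.basicOpen_le g) g ^ L), ← e', Finset.smul_sum]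
      refine Finset.sum_congr rfl fun i _ => ?_
      rw [res_smul, map_mul, map_pow, hq, ← mul_assoc, ← pow_add, Nat.sub_add_cancel (hle i), smul_smul]
    obtain ⟨k, hk⟩ := exists_pow_smul_eq_zero M hU g _ h0
    rw [Finset.smul_sum] at hk
    simp only [smul_smul] at hk
    have hz := hi _ hk
    funext i
    have hz' := congrArg (resX X (X.basicOpen_le g)) (hz i)
    rw [map_mul, map_mul, map_mul, map_pow, map_pow, hq, map_zero] at hz'
    rwa [hc.mul_right_eq_zero, (hu.pow k).mul_right_eq_zero, (hu.pow _).mul_right_eq_zero,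
      (hu.pow _).mul_right_eq_zero, sub_eq_zero] at hz'
  · obtain ⟨k, b, hb⟩ := Groth.QCohMod.exists_pow_smul_eq_res M hU g m
    obtain ⟨q, hq⟩ := hs b
    have hv : IsUnit (resX X (X.basicOpen_le g) c * resX X (X.basicOpen_le g) g ^ k) := hc.mul (hu.pow k)
    refine ⟨fun i => ↑hv.unit⁻¹ * resX X (X.basicOpen_le g) (q i), ?_⟩
    have e2 : ∑ i, resX X (X.basicOpen_le g) (q i) • res M (X.basicOpen_le g) (s i) =
        (resX X (X.basicOpen_le g) c * resX X (X.basicOpen_le g) g ^ k) • m := by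
      rw [qres_eq, qresFun_eq] at hb
      rw [mul_smul, ← hb, ← res_smul, hq, res_sum]
      simp only [res_smul]
    simp only [mul_smul, ← Finset.smul_sum, e2]
    rw [← mul_smul, smul_smul, mul_assoc, IsUnit.val_inv_mul hv, one_smul]

/-- A basis of the sections over an affine open is a basis. -/
theorem basis'_of_affine [M.IsQuasicoherent] {U : X.Opens} (hU : IsAffineOpen U) {n : ℕ}
    (s : Fin n → Γ(M, U)) (h : Function.Bijective fun r : Fin n → Γ(X, U) => ∑ i, r i • s i) :
    Basis' M U s := by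
  refine basis'_of_local s fun V hV x hx => ?_
  obtain ⟨g, hg, hxg⟩ := hU.exists_basicOpen_le (⟨x, hx⟩ : V) (hV hx)
  refine ⟨X.basicOpen g, hg, X.basicOpen_le g, hxg,
    bijective_basicOpen hU s g 1 (by rw [map_one]; exact isUnit_one) (fun b => ?_) fun q hq i => ?_⟩
  · obtain ⟨q, hq⟩ := h.2 b
    exact ⟨q, by rw [one_smul]; exact hq.symm⟩
  · rw [one_mul]
    exact congrFun (h.1 (a₂ := 0) (by simpa using hq)) i

/-- A coherent module with free stalk at `x` has a basis near `x`. -/
theorem exists_basis_of_free_stalk [IsLocallyNoetherian X] (hM : Coh.IsCoh M) (x : X)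
    [Module.Free (X.presheaf.stalk x) (M.presheaf.stalk x)] :
    ∃ (U : X.Opens) (n : ℕ) (s : Fin n → Γ(M, U)), x ∈ U ∧ Basis' M U s := by
  classical
  have := hM.1
  obtain ⟨U, hU, hxU⟩ := Groth.QCohMod.exists_affine_mem x
  have : IsNoetherianRing Γ(X, U) := IsLocallyNoetherian.component_noetherian ⟨U, hU⟩
  have := Groth.QCohMod.finite_stalk M hM.2 x
  have := Groth.QCohMod.finite_sections M hM.2 hU
  let b₀ := Module.Free.chooseBasis (X.presheaf.stalk x) (M.presheaf.stalk x)
  let b := b₀.reindex (Fintype.equivFin _)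
  set n := Fintype.card (Module.Free.ChooseBasisIndex (X.presheaf.stalk x) (M.presheaf.stalk x))
  choose a m ha hm using fun i => Groth.QCohMod.exists_smul_germ_eq M hU x hxU (b i)
  have hau : ∀ i, IsUnit (X.presheaf.germ U x hxU (a i)) := fun i =>
    (Scheme.mem_basicOpen X (a i) x hxU).mp (ha i)
  let b' := b.unitsSMul fun i => (hau i).unit
  have hb' : ∀ i, b' i = Groth.QCohMod.germ M x hxU (m i) := fun i => by
    rw [← hm i, Module.Basis.unitsSMul_apply]; rfl
  let : Algebra Γ(X, U) (X.presheaf.stalk x) :=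
    TopCat.Presheaf.algebra_section_stalk X.presheaf ⟨x, hxU⟩
  have hloc : IsLocalization.AtPrime (X.presheaf.stalk x) (hU.primeIdealOf ⟨x, hxU⟩).asIdeal :=
    hU.isLocalization_stalk ⟨x, hxU⟩
  have halg : ∀ r : Γ(X, U), algebraMap Γ(X, U) (X.presheaf.stalk x) r = X.presheaf.germ U x hxU r :=
    fun _ => rfl
  have hgsum : ∀ q : Fin n → Γ(X, U), Groth.QCohMod.germ M x hxU (∑ i, q i • m i) =
      ∑ i, X.presheaf.germ U x hxU (q i) • b' i := fun q => by
    rw [map_sum]
    simp only [Groth.QCohMod.germ_smul, hb']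
  -- every section is, up to a multiplier, in the span
  let W : Submodule Γ(X, U) Γ(M, U) := Submodule.span Γ(X, U) (Set.range m)
  have hspan : ∀ y : Γ(M, U), ∃ c : Γ(X, U), x ∈ X.basicOpen c ∧ c • y ∈ W := by
    intro y
    obtain ⟨⟨d, hd⟩, hd'⟩ := IsLocalization.exist_integer_multiples_of_finite
      (hU.primeIdealOf ⟨x, hxU⟩).asIdeal.primeCompl fun i => b'.repr (Groth.QCohMod.germ M x hxU y) i
    choose q hq using hd'
    have h0 : Groth.QCohMod.germ M x hxU (d • y - ∑ i, q i • m i) = 0 := by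
      rw [map_sub, Groth.QCohMod.germ_smul, hgsum, sub_eq_zero]
      conv_lhs => rw [← b'.sum_repr (Groth.QCohMod.germ M x hxU y), Finset.smul_sum]
      refine Finset.sum_congr rfl fun i _ => ?_
      rw [← halg (q i), hq i, Algebra.smul_def, halg, smul_smul]
    obtain ⟨c, hxc, hc⟩ := Groth.QCohMod.exists_smul_eq_zero_of_germ_eq_zero M hU x hxU _ h0
    refine ⟨c * d, ?_, ?_⟩
    · rw [X.basicOpen_mul]
      exact ⟨hxc, (Groth.QCohMod.mem_basicOpen_iff_notMem_primeIdealOf hU d x hxU).mpr hd⟩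
    · rw [smul_sub, sub_eq_zero] at hc
      rw [mul_smul, hc, Finset.smul_sum]
      refine Submodule.sum_mem _ fun i _ => ?_
      rw [smul_smul]
      exact W.smul_mem _ (Submodule.subset_span ⟨i, rfl⟩)
  obtain ⟨T, hT⟩ := Module.Finite.fg_top (R := Γ(X, U)) (M := Γ(M, U))
  choose c hxc hc using hspan
  -- relations are killed
  let ψ := Fintype.linearCombination Γ(X, U) m
  obtain ⟨T', hT'⟩ := IsNoetherian.noetherian (LinearMap.ker ψ)
  have hker : ∀ q : Fin n → Γ(X, U), q ∈ LinearMap.ker ψ → ∃ c : Γ(X, U), x ∈ X.basicOpen c ∧ ∀ i, c * q i = 0 := by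
    intro q hq
    rw [LinearMap.mem_ker, Fintype.linearCombination_apply] at hq
    have h0 := congrArg (Groth.QCohMod.germ M x hxU) hq
    rw [hgsum, map_zero] at h0
    have hz := Fintype.linearIndependent_iff.mp b'.linearIndependent _ h0
    have : ∀ i, ∃ c : (hU.primeIdealOf ⟨x, hxU⟩).asIdeal.primeCompl, ↑c * q i = 0 := fun i =>
      (IsLocalization.map_eq_zero_iff _ (X.presheaf.stalk x) (q i)).1 (hz i)
    choose c hc using this
    refine ⟨∏ i, (c i : Γ(X, U)), (Groth.QCohMod.mem_basicOpen_iff_notMem_primeIdealOf hU _ x hxU).mpr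
      (by simpa using (prod_mem fun i _ => (c i).2 : ∏ i, (c i : Γ(X, U)) ∈ _)), fun i => ?_⟩
    rw [← Finset.mul_prod_erase _ _ (Finset.mem_univ i), mul_comm, ← mul_assoc, mul_comm (q i), hc, zero_mul]
  choose c' hxc' hc' using hker
  let g : Γ(X, U) := (∏ y ∈ T, c y) * ∏ q ∈ T'.attach, c' q.1 (hT' ▸ Submodule.subset_span q.2)
  have hmem : ∀ {ι : Type u} (S : Finset ι) (v : ι → Γ(X, U)), (∀ j ∈ S, x ∈ X.basicOpen (v j)) →
      x ∈ X.basicOpen (∏ j ∈ S, v j) := by
    intro ι S v hv
    rw [Groth.QCohMod.mem_basicOpen_iff_notMem_primeIdealOf hU _ x hxU]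
    exact prod_mem (S := (hU.primeIdealOf ⟨x, hxU⟩).asIdeal.primeCompl) fun j hj =>
      (Groth.QCohMod.mem_basicOpen_iff_notMem_primeIdealOf hU _ x hxU).1 (hv j hj)
  have hxg : x ∈ X.basicOpen g := by
    rw [X.basicOpen_mul]
    exact ⟨hmem T c fun y _ => hxc y, hmem _ _ fun q _ => hxc' _ _⟩
  have hcover : ∀ y : Γ(M, U), ∃ q : Fin n → Γ(X, U), g • y = ∑ i, q i • m i := by
    intro y
    have hy : g • y ∈ W := by
      have hle : Submodule.span Γ(X, U) (T : Set Γ(M, U)) ≤
          W.comap (LinearMap.lsmul Γ(X, U) Γ(M, U) g) := by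
        rw [Submodule.span_le]
        intro z hz
        change g • z ∈ W
        rw [show g = ((∏ y ∈ T.erase z, c y) * ∏ q ∈ T'.attach, c' q.1 (hT' ▸ Submodule.subset_span q.2)) * c z by
          simp only [g]; rw [← Finset.mul_prod_erase _ _ hz]; ring, mul_smul]
        exact W.smul_mem _ (hc z)
      exact hle (hT ▸ Submodule.mem_top)
    obtain ⟨q, hq⟩ := (Submodule.mem_span_range_iff_exists_fun _).1 hy
    exact ⟨q, hq.symm⟩
  have hrel : ∀ q : Fin n → Γ(X, U), ∑ i, q i • m i = 0 → ∀ i, g * q i = 0 := by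
    intro q hq
    have hle : Submodule.span Γ(X, U) (T' : Set (Fin n → Γ(X, U))) ≤
        LinearMap.ker (LinearMap.lsmul Γ(X, U) (Fin n → Γ(X, U)) g) := by
      rw [Submodule.span_le]
      intro z hz
      rw [SetLike.mem_coe, LinearMap.mem_ker, LinearMap.lsmul_apply]
      funext i
      simp only [g, Pi.smul_apply, smul_eq_mul, Pi.zero_apply]
      rw [← Finset.mul_prod_erase _ _ (Finset.mem_attach T' ⟨z, hz⟩)]
      have := hc' z (hT' ▸ Submodule.subset_span hz) i
      linear_combination ((∏ y ∈ T, c y) *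
        ∏ q ∈ T'.attach.erase ⟨z, hz⟩, c' q.1 (hT' ▸ Submodule.subset_span q.2)) * this
    have := hle (hT'.symm ▸ (by rw [LinearMap.mem_ker, Fintype.linearCombination_apply]; exact hq : q ∈ LinearMap.ker ψ))
    exact fun i => congrFun this i
  exact ⟨X.basicOpen g, n, _, hxg, basis'_of_affine (hU.basicOpen g) _
    (bijective_basicOpen hU m g g (isUnit_resX hU g) hcover hrel)⟩

theorem isFinLocFree_of_free_stalks [IsLocallyNoetherian X] (hM : Coh.IsCoh M)
    (h : ∀ x : X, Module.Free (X.presheaf.stalk x) (M.presheaf.stalk x)) :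
    FlatMod.IsFinLocFree M :=
  isFinLocFree_iff.2 fun x => haveI := h x; exists_basis_of_free_stalk hM x

theorem germ_smul_res (M : X.Modules) {U V W : X.Opens} (hV : W ≤ V) (hU : W ≤ U) (x : X) (hx : x ∈ W)
    (q : Γ(X, V)) (m : Γ(M, U)) :
    Groth.QCohMod.germ M x hx (resX X hV q • res M hU m) =
      X.presheaf.germ V x (hV hx) q • Groth.QCohMod.germ M x (hU hx) m := by
  rw [Groth.QCohMod.germ_smul, ← qres_eq, Groth.QCohMod.germ_res]
  congr 1
  exact TopCat.Presheaf.germ_res_apply X.presheaf (homOfLE hV) x hx q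

/-- The stalk of a morphism as a linear map. -/
noncomputable def stalkₗ (φ : M ⟶ N) (x : X) :
    M.presheaf.stalk x →ₗ[X.presheaf.stalk x] N.presheaf.stalk x where
  toFun := (Groth.QCohMod.stalk x).map φ
  map_add' := map_add _
  map_smul' r t := by
    obtain ⟨U, hxU, m, rfl⟩ := Groth.QCohMod.exists_germ M x t
    obtain ⟨V, hxV, q, rfl⟩ := TopCat.Presheaf.exists_germ_eq X.presheaf r
    obtain ⟨W, hV, hU, hxW⟩ : ∃ (W : X.Opens) (_ : W ≤ V) (_ : W ≤ U), x ∈ W :=
      ⟨V ⊓ U, inf_le_left, inf_le_right, ⟨hxV, hxU⟩⟩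
    rw [RingHom.id_apply, ← germ_smul_res M hV hU x hxW q m, Groth.QCohMod.stalk_map_germ,
      Scheme.Modules.Hom.app_smul, app_res, germ_smul_res, Groth.QCohMod.stalk_map_germ]

theorem free_stalk_of_basis {x : X} {U : X.Opens} {n : ℕ} {s : Fin n → Γ(M, U)} (hxU : x ∈ U)
    (hs : Basis' M U s) : Module.Free (X.presheaf.stalk x) (M.presheaf.stalk x) := by
  let L := Fintype.linearCombination (X.presheaf.stalk x) fun i => Groth.QCohMod.germ M x hxU (s i)
  refine Module.Free.of_equiv (LinearEquiv.ofBijective L ⟨?_, ?_⟩)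
  · rw [injective_iff_map_eq_zero]
    intro r hr
    have hq : ∀ i, ∃ (V : X.Opens) (hxV : x ∈ V) (q : Γ(X, V)), X.presheaf.germ V x hxV q = r i :=
      fun i => TopCat.Presheaf.exists_germ_eq X.presheaf (r i)
    choose V hxV q hq using hq
    have hx' : x ∈ U ⊓ (Finset.univ : Finset (Fin n)).inf V := by
      have : ∀ S : Finset (Fin n), x ∈ S.inf V := by
        intro S
        induction S using Finset.cons_induction with
        | empty => exact trivial
        | cons a S ha ih => rw [Finset.inf_cons]; exact ⟨hxV a, ih⟩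
      exact ⟨hxU, this _⟩
    have hle : ∀ i, U ⊓ (Finset.univ : Finset (Fin n)).inf V ≤ V i := fun i =>
      inf_le_right.trans (Finset.inf_le (Finset.mem_univ i))
    have h0 : Groth.QCohMod.germ M x hx' (∑ i, resX X (hle i) (q i) • res M inf_le_left (s i)) = 0 := by
      rw [map_sum, ← hr, Fintype.linearCombination_apply]
      refine Finset.sum_congr rfl fun i _ => ?_
      rw [Groth.QCohMod.germ_smul, ← qres_eq, Groth.QCohMod.germ_res, ← hq i]
      congr 1
      exact TopCat.Presheaf.germ_res_apply X.presheaf (homOfLE (hle i)) x _ (q i)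
    obtain ⟨W, hW, hW', hxW, e⟩ := exists_res_eq hx' hx' _ 0 (h0.trans (map_zero _).symm)
    simp only [res_sum, res_smul, res_res, res_zero, resX_resX] at e
    have hz := (hs W (hW.trans inf_le_left)).1 (a₂ := 0) (e.trans (by simp))
    funext i
    have e3 := congrArg (X.presheaf.germ W x hxW) (congrFun hz i)
    rw [← hq i]
    refine (TopCat.Presheaf.germ_res_apply X.presheaf (homOfLE (hW.trans (hle i))) x hxW (q i)).symm.trans
      (e3.trans (map_zero _))
  · intro t
    obtain ⟨V, hxV, m, rfl⟩ := Groth.QCohMod.exists_germ M x t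
    obtain ⟨r, hr⟩ := (hs (U ⊓ V) inf_le_left).2 (res M inf_le_right m)
    refine ⟨fun i => X.presheaf.germ _ x (⟨hxU, hxV⟩ : x ∈ U ⊓ V) (r i), ?_⟩
    have := congrArg (Groth.QCohMod.germ M x (⟨hxU, hxV⟩ : x ∈ U ⊓ V)) hr
    simp only at this
    rw [Fintype.linearCombination_apply]
    refine (Finset.sum_congr rfl fun i _ => ?_).trans
      (((map_sum _ _ _).symm.trans this).trans (Groth.QCohMod.germ_res M inf_le_right x ⟨hxU, hxV⟩ m))
    have := (germ_smul_res M (le_refl (U ⊓ V)) inf_le_left x ⟨hxU, hxV⟩ (r i) (s i)).symm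
    simp only [resX_self] at this
    exact this

theorem free_stalk (h : FlatMod.IsFinLocFree M) (x : X) :
    Module.Free (X.presheaf.stalk x) (M.presheaf.stalk x) := by
  obtain ⟨U, n, s, hxU, hs⟩ := exists_basis_of_isFinLocFree h x
  exact free_stalk_of_basis hxU hs

theorem stalk_exact {S : ShortComplex X.Modules} (hS : S.ShortExact) (x : X) :
    Function.Injective (stalkₗ S.f x) ∧ Function.Exact (stalkₗ S.f x) (stalkₗ S.g x) ∧
      Function.Surjective (stalkₗ S.g x) := by
  have hex := hS.exact.map (Groth.QCohMod.stalk x)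
  rw [ShortComplex.ab_exact_iff] at hex
  refine ⟨(Groth.QCohMod.mono_iff_stalk S.f).mp hS.mono_f x, fun t => ?_,
    (Groth.QCohMod.epi_iff_stalk S.g).mp hS.epi_g x⟩
  refine ⟨fun ht => hex t ht, ?_⟩
  rintro ⟨u, rfl⟩
  exact congr($((S.map (Groth.QCohMod.stalk x)).zero) u)

theorem free_stalk_left {S : ShortComplex X.Modules} (hS : S.ShortExact) (x : X)
    (h₁ : Coh.IsCoh S.X₁) [Module.Free (X.presheaf.stalk x) (S.X₂.presheaf.stalk x)]
    [Module.Free (X.presheaf.stalk x) (S.X₃.presheaf.stalk x)] :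
    Module.Free (X.presheaf.stalk x) (S.X₁.presheaf.stalk x) := by
  have := h₁.1
  have := Groth.QCohMod.finite_stalk S.X₁ h₁.2 x
  obtain ⟨hinj, hexact, hsurj⟩ := stalk_exact hS x
  obtain ⟨l, hl⟩ := Module.projective_lifting_property (stalkₗ S.g x) LinearMap.id hsurj
  have hp : Module.Projective (X.presheaf.stalk x) (S.X₁.presheaf.stalk x) := by
    obtain ⟨e, he, -⟩ := hexact.splitSurjectiveEquiv hinj ⟨l, hl⟩
    refine Module.Projective.of_split (stalkₗ S.f x) ((LinearMap.fst _ _ _).comp e.toLinearMap) ?_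
    rw [he]
    ext t
    simp
  exact Module.free_of_flat_of_isLocalRing

/-- On a locally Noetherian scheme, the kernel of an epimorphism of finite locally free modules is
finite locally free. -/
theorem isFinLocFree_of_shortExact_right [IsLocallyNoetherian X] {S : ShortComplex X.Modules}
    (hS : S.ShortExact) (h₂ : FlatMod.IsFinLocFree S.X₂) (h₃ : FlatMod.IsFinLocFree S.X₃) :
    FlatMod.IsFinLocFree S.X₁ := by
  have := isQCoh h₂
  have := isQCoh h₃
  have := hS.mono_f
  have := Groth.QCohMod.isQCoh_of_mono_exact hS.exact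
  have hc := Groth.QCohMod.isCoh_of_mono S.f (isCoh h₂)
  refine isFinLocFree_of_free_stalks hc fun x => ?_
  have := free_stalk h₂ x
  have := free_stalk h₃ x
  exact free_stalk_left hS x hc

end Groth.KTheory.LocFree
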