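import Groth.Agent.KTheory.ExtFiltSheaf
import Groth.Agent.OmegaSheaf.ExactLocal
import Groth.Agent.PicAux.TensorLift
import Groth.Prelude.Def_SGA6
import Groth.Prelude.Def_KoszTw
import Mathlib.RingTheory.PowerSeries.Inverse

/-!
# The λ-structure on `K₀` of finite locally free modules
-/

set_option autoImplicit false
universe u

open CategoryTheory CategoryTheory.Limits AlgebraicGeometry TopologicalSpace TensorProduct

namespace Groth.KTheory.LambdaVb

open Groth.PicAux Groth.LocFree
open Groth.QCohMod (appₗ)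

variable {X : Scheme.{u}}

/-- Finite locally free modules. -/
local notation "VB" => (fun M : X.Modules => FlatMod.IsFinLocFree M)

/-- The class of a module. -/
noncomputable abbrev kcl (M : X.Modules) : SGA6.Kvb X :=
  KZero.clSub (fun M : X.Modules => FlatMod.IsFinLocFree M) M

theorem kcl_iso {M N : X.Modules} (e : M ≅ N) (h : FlatMod.IsFinLocFree M) : kcl M = kcl N :=
  clSub_iso (P := VB) e h (LocFree.isFinLocFree_of_iso e h) (isZero_zero _)
    (LocFree.isFinLocFree_zero (isZero_zero _))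

section Exact

variable {F : X.Modules}

theorem tensorMap_id_app_tensorSecEquiv {M N : X.Modules} [F.IsQuasicoherent] [M.IsQuasicoherent]
    [N.IsQuasicoherent] (g : M ⟶ N) {U : X.Opens} (hU : IsAffineOpen U)
    (z : Γ(F, U) ⊗[Γ(X, U)] Γ(M, U)) :
    (KoszTw.tensorMap (𝟙 F) g).app U (tensorSecEquiv hU z) =
      tensorSecEquiv hU (LinearMap.lTensor Γ(F, U) (appₗ g U) z) := by
  induction z using TensorProduct.induction_on with
  | zero => simp only [map_zero]
  | add a b ha hb => rw [map_add, map_add, ha, hb, map_add, map_add]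
  | tmul a b =>
    rw [tensorSecEquiv_tmul, LinearMap.lTensor_tmul, tensorSecEquiv_tmul, tensorMap_app_tmulSec]
    rfl

theorem tensorMap_app_tensorSecEquiv {M N : X.Modules} [F.IsQuasicoherent] [M.IsQuasicoherent]
    [N.IsQuasicoherent] (g : M ⟶ N) {U : X.Opens} (hU : IsAffineOpen U)
    (z : Γ(F, U) ⊗[Γ(X, U)] Γ(M, U)) :
    ((DCoh.tensorBi (X := X)).obj F |>.map g).app U (tensorSecEquiv hU z) =
      tensorSecEquiv hU (LinearMap.lTensor Γ(F, U) (appₗ g U) z) := by
  refine Eq.trans ?_ (tensorMap_id_app_tensorSecEquiv g hU z)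
  rw [KoszTw.tensorBi_obj_map]
  rfl

/-- Tensoring with a finite locally free module keeps short exact sequences of quasi-coherent
modules short exact. -/
theorem shortExact_tensor (hF : FlatMod.IsFinLocFree F) {S : ShortComplex X.Modules}
    (hS : S.ShortExact) [S.X₁.IsQuasicoherent] [S.X₂.IsQuasicoherent] [S.X₃.IsQuasicoherent] :
    (S.map ((DCoh.tensorBi (X := X)).obj F)).ShortExact := by
  have := LocFree.isQCoh hF
  let T := S.map ((DCoh.tensorBi (X := X)).obj F)
  have q₁ : T.X₁.IsQuasicoherent := Groth.QCohMod.isQCoh_tensorMod (M := F) (N := S.X₁)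
  have q₂ : T.X₂.IsQuasicoherent := Groth.QCohMod.isQCoh_tensorMod (M := F) (N := S.X₂)
  have q₃ : T.X₃.IsQuasicoherent := Groth.QCohMod.isQCoh_tensorMod (M := F) (N := S.X₃)
  have hinj : ∀ U (hU : IsAffineOpen U), Function.Injective (T.f.app U) := fun U hU => by
    have := Groth.LocFree.projective_sections hF hU
    refine (injective_iff_map_eq_zero (T.f.app U).hom).2 fun x hx => ?_
    obtain ⟨z, rfl⟩ := (tensorSecEquiv (M := F) (N := S.X₁) hU).surjective x
    have h0 : tensorSecEquiv (M := F) (N := S.X₂) hU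
        (LinearMap.lTensor Γ(F, U) (appₗ S.f U) z) = 0 :=
      (tensorMap_app_tensorSecEquiv S.f hU z).symm.trans hx
    rw [LinearEquiv.map_eq_zero_iff] at h0
    rw [(injective_iff_map_eq_zero _).1 (Module.Flat.lTensor_preserves_injective_linearMap _
      (ExtFilt.sections_exact hS hU).1) z h0]
    exact map_zero _
  refine { exact := Groth.OmegaSheaf.exact_of_affine_cover T fun x => ?_, mono_f := ?_, epi_g := ?_ }
  · obtain ⟨U, hU, hx⟩ := Groth.QCohMod.exists_affine_mem x
    refine ⟨U, hU, hx, fun m hm => ?_⟩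
    obtain ⟨z, rfl⟩ := (tensorSecEquiv (M := F) (N := S.X₂) hU).surjective m
    have h0 : tensorSecEquiv (M := F) (N := S.X₃) hU
        (LinearMap.lTensor Γ(F, U) (appₗ S.g U) z) = 0 :=
      (tensorMap_app_tensorSecEquiv S.g hU z).symm.trans hm
    rw [LinearEquiv.map_eq_zero_iff] at h0
    obtain ⟨-, he, hs⟩ := ExtFilt.sections_exact hS hU
    obtain ⟨y, rfl⟩ := (lTensor_exact Γ(F, U) he hs z).1 h0
    exact ⟨_, tensorMap_app_tensorSecEquiv S.f hU y⟩
  · refine (Preadditive.mono_iff_cancel_zero _).2 fun P k hk => ExtFilt.hom_ext_affine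
      fun U hU x => hinj U hU ?_
    exact (congr($(congrArg (fun φ : P ⟶ T.X₂ => φ.app U) hk) x)).trans (map_zero (T.f.app U).hom).symm
  · refine Groth.QCohMod.epi_of_affine_surjective T.g fun U hU y => ?_
    obtain ⟨z, rfl⟩ := (tensorSecEquiv (M := F) (N := S.X₃) hU).surjective y
    obtain ⟨w, rfl⟩ := LinearMap.lTensor_surjective Γ(F, U) (ExtFilt.sections_exact hS hU).2.2 z
    exact ⟨_, tensorMap_app_tensorSecEquiv S.g hU w⟩

end Exact

theorem kcl_tensor_rel {F : X.Modules} (hF : FlatMod.IsFinLocFree F) {S : ShortComplex X.Modules}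
    (hS : S.ShortExact) (h₁ : FlatMod.IsFinLocFree S.X₁) (h₂ : FlatMod.IsFinLocFree S.X₂)
    (h₃ : FlatMod.IsFinLocFree S.X₃) :
    kcl (CohB1.tensorMod F S.X₂) = kcl (CohB1.tensorMod F S.X₁) + kcl (CohB1.tensorMod F S.X₃) :=
  haveI := LocFree.isQCoh h₁
  haveI := LocFree.isQCoh h₂
  haveI := LocFree.isQCoh h₃
  clSub_rel (P := VB) _ (shortExact_tensor hF hS) (isFinLocFree_tensorMod hF h₁)
    (isFinLocFree_tensorMod hF h₂) (isFinLocFree_tensorMod hF h₃)

theorem kcl_tensor_comm {E F : X.Modules} (hE : FlatMod.IsFinLocFree E)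
    (hF : FlatMod.IsFinLocFree F) :
    kcl (CohB1.tensorMod E F) = kcl (CohB1.tensorMod F E) :=
  kcl_iso (exists_braiding E F).choose (isFinLocFree_tensorMod hE hF)

/-- Tensoring with a fixed bundle on `K₀`. -/
noncomputable def mulLeft (E : X.Modules) (hE : FlatMod.IsFinLocFree E) :
    SGA6.Kvb X →+ SGA6.Kvb X :=
  liftSub VB (fun F => kcl (CohB1.tensorMod E F))
    (fun _ hS h₁ h₂ h₃ => kcl_tensor_rel hE hS h₁ h₂ h₃)

theorem mulLeft_kcl {E F : X.Modules} (hE : FlatMod.IsFinLocFree E) (hF : FlatMod.IsFinLocFree F) :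
    mulLeft E hE (kcl F) = kcl (CohB1.tensorMod E F) :=
  liftSub_clSub _ _ hF

open Classical in
/-- The product on `K₀` of bundles. -/
noncomputable def mulHom : SGA6.Kvb X →+ SGA6.Kvb X →+ SGA6.Kvb X :=
  liftSub VB (fun E => if h : FlatMod.IsFinLocFree E then mulLeft E h else 0)
    (fun S hS h₁ h₂ h₃ => by
      rw [dif_pos h₁, dif_pos h₂, dif_pos h₃]
      refine k0sub_hom_ext fun F hF => ?_
      change mulLeft S.X₂ h₂ (kcl F) = mulLeft S.X₁ h₁ (kcl F) + mulLeft S.X₃ h₃ (kcl F)
      rw [mulLeft_kcl h₂ hF, mulLeft_kcl h₁ hF, mulLeft_kcl h₃ hF, kcl_tensor_comm h₂ hF,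
        kcl_tensor_comm h₁ hF, kcl_tensor_comm h₃ hF, kcl_tensor_rel hF hS h₁ h₂ h₃])

theorem mulHom_kcl {E F : X.Modules} (hE : FlatMod.IsFinLocFree E) (hF : FlatMod.IsFinLocFree F) :
    mulHom (kcl E) (kcl F) = kcl (CohB1.tensorMod E F) := by
  rw [mulHom, kcl, liftSub_clSub (P := VB) _ _ hE, dif_pos hE]
  exact mulLeft_kcl hE hF

theorem mulHom_comm (x y : SGA6.Kvb X) : mulHom x y = mulHom y x := by
  suffices h : (mulHom (X := X)) = mulHom.flip from congr($h x y)
  refine k0sub_hom_ext fun E hE => k0sub_hom_ext fun F hF => ?_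
  change mulHom (kcl E) (kcl F) = mulHom (kcl F) (kcl E)
  rw [mulHom_kcl hE hF, mulHom_kcl hF hE, kcl_tensor_comm hE hF]

theorem mulHom_assoc (x y z : SGA6.Kvb X) : mulHom (mulHom x y) z = mulHom x (mulHom y z) := by
  induction x using k0sub_induction with
  | h0 => simp
  | hadd a b ha hb => simp [ha, hb]
  | hneg a ha => simp [ha]
  | hcl A hA =>
    induction y using k0sub_induction with
    | h0 => simp
    | hadd a b ha hb => simp [ha, hb]
    | hneg a ha => simp [ha]
    | hcl B hB =>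
      induction z using k0sub_induction with
      | h0 => simp
      | hadd a b ha hb => simp [ha, hb]
      | hneg a ha => simp [ha]
      | hcl C hC =>
        have hAB := isFinLocFree_tensorMod hA hB
        have hBC := isFinLocFree_tensorMod hB hC
        change mulHom (mulHom (kcl A) (kcl B)) (kcl C) = mulHom (kcl A) (mulHom (kcl B) (kcl C))
        rw [mulHom_kcl hA hB, mulHom_kcl hAB hC, mulHom_kcl hB hC, mulHom_kcl hA hBC]
        exact kcl_iso (exists_associator A B C).choose (isFinLocFree_tensorMod hAB hC)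

theorem mulHom_one (x : SGA6.Kvb X) : mulHom (kcl (Coh.structureModule X)) x = x := by
  suffices h : mulHom (kcl (Coh.structureModule X)) = AddMonoidHom.id (SGA6.Kvb X) from congr($h x)
  refine k0sub_hom_ext fun E hE => ?_
  change mulHom (kcl (Coh.structureModule X)) (kcl E) = kcl E
  rw [mulHom_kcl (isFinLocFree_unit X) hE]
  exact kcl_iso (exists_leftUnitor E).choose (isFinLocFree_tensorMod (isFinLocFree_unit X) hE)

/-- `K₀` of bundles as a commutative ring. -/
noncomputable abbrev kvbRing (X : Scheme.{u}) : CommRing (SGA6.Kvb X) :=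
  { (inferInstance : AddCommGroup (SGA6.Kvb X)) with
    mul := fun a b => mulHom a b
    one := kcl (Coh.structureModule X)
    mul_assoc := mulHom_assoc
    one_mul := mulHom_one
    mul_one := fun a => (mulHom_comm a _).trans (mulHom_one a)
    mul_comm := mulHom_comm
    left_distrib := fun a b c => map_add (mulHom a) b c
    right_distrib := fun a b c => congr($(map_add (mulHom (X := X)) a b) c)
    zero_mul := fun a => congr($(map_zero (mulHom (X := X))) a)
    mul_zero := fun a => map_zero (mulHom a) }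

/-- `⋀⁰ E ≅ O`. -/
theorem nonempty_extPow_zero (E : X.Modules) [E.IsQuasicoherent] :
    Nonempty (extPow 0 E ≅ Coh.structureModule X) := by
  let toFunₗ : ∀ U : X.Opens, Γ(Coh.structureModule X, U) ≃ₗ[Γ(X, U)] Γ(X, U) := fun U =>
    { toFun := toFun
      invFun := fun r => r • oneSec X U
      map_add' := fun _ _ => rfl
      map_smul' := toFun_smul
      left_inv := fun x => (eq_toFun_smul_oneSec x).symm
      right_inv := fun r => by rw [toFun_smul, toFun_oneSec, mul_one] }
  refine nonempty_iso_extPow (isExtPow_def.2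
    ⟨fun U => (toFunₗ U.1).trans (exteriorPower.zeroEquiv Γ(X, U.1) Γ(E, U.1)).symm,
      fun U V h e => ?_⟩)
  have hone : ∀ (U : X.Opens) (e : Fin 0 → Γ(E, U)),
      exteriorPower.zeroEquiv Γ(X, U) Γ(E, U) (ewedge 0 E e) = 1 := fun U e => by
    simp [exteriorPower.zeroEquiv]
  change res _ h ((toFunₗ U.1).symm (exteriorPower.zeroEquiv _ _ (ewedge 0 E e))) =
    (toFunₗ V.1).symm (exteriorPower.zeroEquiv _ _ (ewedge 0 E _))
  rw [hone, hone]
  change res _ h ((1 : Γ(X, U.1)) • oneSec X U.1) = (1 : Γ(X, V.1)) • oneSec X V.1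
  rw [one_smul, one_smul, res_oneSec]

/-- `⋀¹ E ≅ E`. -/
theorem nonempty_extPow_one (E : X.Modules) [E.IsQuasicoherent] : Nonempty (extPow 1 E ≅ E) := by
  refine nonempty_iso_extPow (isExtPow_def.2
    ⟨fun U => (exteriorPower.oneEquiv Γ(X, U.1) Γ(E, U.1)).symm, fun U V h e => ?_⟩)
  have hw : ∀ (U : X.Opens) (e : Fin 1 → Γ(E, U)),
      exteriorPower.oneEquiv Γ(X, U) Γ(E, U) (ewedge 1 E e) = e 0 := fun U e => by
    simp [exteriorPower.oneEquiv]
  change res _ h (exteriorPower.oneEquiv _ _ (ewedge 1 E e)) =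
    exteriorPower.oneEquiv _ _ (ewedge 1 E _)
  rw [hw, hw]

theorem exists_lambdaStructure :
    ∃ (mul : SGA6.Kvb X →+ SGA6.Kvb X →+ SGA6.Kvb X) (lam : ℕ → SGA6.Kvb X → SGA6.Kvb X),
      SGA6.IsLambdaStructureVb X mul lam := by
  classical
  letI := kvbRing X
  let series : X.Modules → PowerSeries (SGA6.Kvb X) := fun E =>
    PowerSeries.mk fun i => kcl (extPow i E)
  have h0 : ∀ E, FlatMod.IsFinLocFree E → kcl (extPow 0 E) = (1 : SGA6.Kvb X) := fun E hE =>
    haveI := LocFree.isQCoh hE
    kcl_iso (nonempty_extPow_zero E).some (isFinLocFree_extPow hE 0)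
  have hunit : ∀ E, FlatMod.IsFinLocFree E → IsUnit (series E) := fun E hE => by
    rw [PowerSeries.isUnit_iff_constantCoeff, ← PowerSeries.coeff_zero_eq_constantCoeff_apply,
      PowerSeries.coeff_mk, h0 E hE]
    exact isUnit_one
  let f : X.Modules → Additive (PowerSeries (SGA6.Kvb X))ˣ := fun E =>
    if h : IsUnit (series E) then Additive.ofMul h.unit else 0
  have hf : ∀ E, FlatMod.IsFinLocFree E →
      ((Additive.toMul (f E) : (PowerSeries (SGA6.Kvb X))ˣ) : PowerSeries (SGA6.Kvb X)) = series E :=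
    fun E hE => by simp [f, hunit E hE]
  have hmul : ∀ S : ShortComplex X.Modules, S.ShortExact → FlatMod.IsFinLocFree S.X₁ →
      FlatMod.IsFinLocFree S.X₂ → FlatMod.IsFinLocFree S.X₃ → f S.X₂ = f S.X₁ + f S.X₃ := by
    intro S hS h₁ h₂ h₃
    apply Additive.toMul.injective
    ext1
    rw [toMul_add, Units.val_mul, hf _ h₁, hf _ h₂, hf _ h₃]
    ext k
    rw [PowerSeries.coeff_mul, Finset.Nat.sum_antidiagonal_eq_sum_range_succ_mk]
    simp only [series, PowerSeries.coeff_mk]
    refine (ExtFilt.clSub_extPow_extension S hS h₁ h₂ h₃ k).trans (Finset.sum_congr rfl fun i _ => ?_)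
    exact (mulHom_kcl (isFinLocFree_extPow h₁ i) (isFinLocFree_extPow h₃ (k - i))).symm
  let L : SGA6.Kvb X →+ Additive (PowerSeries (SGA6.Kvb X))ˣ := liftSub VB f hmul
  let lam : ℕ → SGA6.Kvb X → SGA6.Kvb X := fun i x =>
    PowerSeries.coeff i ((Additive.toMul (L x) : (PowerSeries (SGA6.Kvb X))ˣ) : PowerSeries (SGA6.Kvb X))
  have hlam : ∀ i E, FlatMod.IsFinLocFree E → lam i (kcl E) = kcl (extPow i E) := fun i E hE => by
    simp only [lam, L, kcl, liftSub_clSub (P := VB) f hmul hE, hf E hE, series, PowerSeries.coeff_mk]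
  have hadd : ∀ k x y, lam k (x + y) =
      ∑ i ∈ Finset.range (k + 1), lam i x * lam (k - i) y := fun k x y => by
    simp only [lam, map_add, toMul_add, Units.val_mul, PowerSeries.coeff_mul,
      Finset.Nat.sum_antidiagonal_eq_sum_range_succ_mk]
  have hlam0 : ∀ x, lam 0 x = (1 : SGA6.Kvb X) := by
    intro x
    induction x using k0sub_induction with
    | h0 => simp [lam]
    | hcl E hE => exact (hlam 0 E hE).trans (h0 E hE)
    | hadd a b ha hb => simp [hadd, ha, hb]
    | hneg a ha =>
      have := hadd 0 (-a) a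
      rw [neg_add_cancel] at this
      simp only [zero_add, Finset.sum_range_one, Nat.sub_zero, ha, mul_one] at this
      rw [← this]
      simp [lam]
  have hlam1 : ∀ x, lam 1 x = x := by
    have key : ∀ a b, lam 1 (a + b) = lam 1 a + lam 1 b := fun a b => by
      rw [hadd]
      simp [Finset.sum_range_succ, hlam0, add_comm]
    intro x
    suffices h : AddMonoidHom.mk' (lam 1) key = AddMonoidHom.id _ from congr($h x)
    refine k0sub_hom_ext fun E hE => ?_
    have := LocFree.isQCoh hE
    exact (hlam 1 E hE).trans (kcl_iso (nonempty_extPow_one E).some (isFinLocFree_extPow hE 1))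
  refine ⟨mulHom, lam, mulHom_comm, mulHom_assoc, mulHom_one, fun E F hE hF => ?_,
    fun i E L hE hL => ?_, hlam0, hlam1, fun k x y => hadd k x y⟩
  · exact mulHom_kcl hE hF
  · have := LocFree.isQCoh hE
    exact (hlam i E hE).trans (kcl_iso (nonempty_iso_extPow hL).some (isFinLocFree_extPow hE i))

end Groth.KTheory.LambdaVb
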