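import Groth.Prelude.Def_DCoh2
import Groth.Agent.QCohMod.Coherent
import Mathlib.CategoryTheory.ObjectProperty.Kernels

/-!
# Coherent modules as an object property
-/

set_option autoImplicit false
universe u

open CategoryTheory Limits AlgebraicGeometry

namespace Groth.KTheory

/-- Coherent modules on a scheme. -/
abbrev cohProp (X : Scheme.{u}) : ObjectProperty X.Modules := fun M => Coh.IsCoh M

variable {X : Scheme.{u}}

instance : (cohProp X).IsClosedUnderIsomorphisms where
  of_iso e h := Groth.QCohMod.isCoh_of_iso e h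

theorem isCoh_of_isZero [IsLocallyNoetherian X] {M : X.Modules} (hM : IsZero M) : Coh.IsCoh M := by
  haveI := (Groth.QCohMod.isCoh_unit (X := X)).1
  exact Groth.QCohMod.isCoh_of_iso ((isZero_cokernel_of_epi (𝟙 (Coh.structureModule X))).iso hM)
    (Groth.QCohMod.isCoh_cokernel _ Groth.QCohMod.isCoh_unit)

instance [IsLocallyNoetherian X] : (cohProp X).ContainsZero where
  exists_zero := ⟨_, isZero_cokernel_of_epi (𝟙 (Coh.structureModule X)),
    haveI := (Groth.QCohMod.isCoh_unit (X := X)).1
    Groth.QCohMod.isCoh_cokernel _ Groth.QCohMod.isCoh_unit⟩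

instance [IsLocallyNoetherian X] : (cohProp X).IsClosedUnderKernels where
  kernels_le := by
    rintro K h
    obtain ⟨f, k, hf, hX, hY⟩ := h
    exact Groth.QCohMod.isCoh_of_iso ((kernelIsKernel f).conePointUniqueUpToIso hf)
      (@Groth.QCohMod.isCoh_kernel X _ _ _ _ hY.1 hX)

end Groth.KTheory
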