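import Groth.Agent.KTheory.Basic
import Groth.Agent.KTheory.CohProps
import Groth.Agent.KTheory.LocFree
import Groth.Agent.CohTwo.Graft
import Mathlib.RingTheory.LocalRing.Length
import Mathlib.RingTheory.HopkinsLevitzki
import Mathlib.Topology.Sober

/-!
# Dévissage in `K₀` of coherent modules with supports
-/

set_option autoImplicit false
universe u

open CategoryTheory CategoryTheory.Limits AlgebraicGeometry TopologicalSpace

namespace Groth.KTheory.Devissage

open Groth.CohTwo Groth.KTheory.LocFree

/-- A finite module over a Noetherian ring whose annihilator lies only in maximal primes has finite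
length. -/
theorem length_ne_top_of_forall_isMaximal {R M : Type u} [CommRing R] [IsNoetherianRing R]
    [AddCommGroup M] [Module R M] [Module.Finite R M]
    (h : ∀ q : Ideal R, q.IsPrime → Module.annihilator R M ≤ q → q.IsMaximal) :
    Module.length R M ≠ ⊤ := by
  let I := Module.annihilator R M
  let : Module (R ⧸ I) M := (Module.isTorsionBySet_annihilator R M).module
  have : IsScalarTower R (R ⧸ I) M := (Module.isTorsionBySet_annihilator R M).isScalarTower
  have : Ring.KrullDimLE 0 (R ⧸ I) := Ring.KrullDimLE.mk₀ fun q hq => by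
    have := h (q.comap (Ideal.Quotient.mk I)) (Ideal.comap_isPrime _ _)
      fun r hr => by simp [I, Ideal.mem_comap, Ideal.Quotient.eq_zero_iff_mem.mpr hr]
    rcases Ideal.map_eq_top_or_isMaximal_of_surjective (Ideal.Quotient.mk I)
        Ideal.Quotient.mk_surjective this with h' | h'
    · rw [Ideal.map_comap_of_surjective _ Ideal.Quotient.mk_surjective] at h'
      exact absurd h' hq.ne_top
    · rwa [Ideal.map_comap_of_surjective _ Ideal.Quotient.mk_surjective] at h'
  have : IsArtinianRing (R ⧸ I) := IsNoetherianRing.isArtinianRing_of_krullDimLE_zero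
  have : Module.Finite (R ⧸ I) M := Module.Finite.of_restrictScalars_finite R _ M
  rw [Module.length_eq_of_surjective (R := R ⧸ I) (S := R) (M := M) Ideal.Quotient.mk_surjective,
    Module.length_ne_top_iff, isFiniteLength_iff_isNoetherian_isArtinian]
  exact ⟨inferInstance, inferInstance⟩

/-- A nontrivial finite module over a local ring maps onto every module of length one. -/
theorem exists_surjective_of_length_eq_one {R M S : Type u} [CommRing R] [IsLocalRing R]
    [AddCommGroup M] [Module R M] [Module.Finite R M] [Nontrivial M] [AddCommGroup S] [Module R S]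
    (hS : Module.length R S = 1) : ∃ σ : M →ₗ[R] S, Function.Surjective σ := by
  have : IsSimpleModule R S := Module.length_eq_one_iff.mp hS
  obtain ⟨N, hN⟩ := IsCoatomic.exists_coatom (Submodule R M)
  have : IsSimpleModule R (M ⧸ N) := isSimpleModule_iff_isCoatom.mpr hN
  obtain ⟨m, hm, ⟨e⟩⟩ := (isSimpleModule_iff_quot_maximal (R := R) (M := S)).mp inferInstance
  obtain ⟨m', hm', ⟨e'⟩⟩ := (isSimpleModule_iff_quot_maximal (R := R) (M := M ⧸ N)).mp inferInstance
  have hmm : m = m' := (IsLocalRing.eq_maximalIdeal hm).trans (IsLocalRing.eq_maximalIdeal hm').symm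
  subst hmm
  exact ⟨(e'.trans e.symm).toLinearMap ∘ₗ N.mkQ, (e'.trans e.symm).surjective.comp N.mkQ_surjective⟩

variable {X : Scheme.{u}}

theorem support_subset_of_mono {M N : X.Modules} (f : M ⟶ N) [Mono f] :
    CohB1.support M ⊆ CohB1.support N := fun x hx h => hx <| by
  have := (Groth.QCohMod.mono_iff_stalk f).mp inferInstance x
  exact @Function.Injective.subsingleton _ _ _ this h

theorem support_subset_of_epi {M N : X.Modules} (f : M ⟶ N) [Epi f] :
    CohB1.support N ⊆ CohB1.support M := fun x hx h => hx <| by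
  have := (Groth.QCohMod.epi_iff_stalk f).mp inferInstance x
  exact @Function.Surjective.subsingleton _ _ _ h this

theorem subsingleton_cokernel_stalk {M N : X.Modules} (f : M ⟶ N) (x : X)
    (h : Function.Surjective ((Groth.QCohMod.stalk x).map f)) :
    x ∉ CohB1.support (cokernel f) := by
  intro hx
  apply hx
  have := (AddCommGrpCat.epi_iff_surjective _).2 h
  exact AddCommGrpCat.subsingleton_of_isZero
    ((isZero_cokernel_of_epi ((Groth.QCohMod.stalk x).map f)).of_iso
      (PreservesCokernel.iso (Groth.QCohMod.stalk x) f))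

/-- At a maximal point of its support a coherent module has a stalk of finite length. -/
theorem length_stalk_ne_top [IsLocallyNoetherian X] {G : X.Modules} (hG : Coh.IsCoh G) (y : X)
    (hy : ∀ z ∈ CohB1.support G, z ⤳ y → z = y) :
    Module.length (X.presheaf.stalk y) (G.presheaf.stalk y) ≠ ⊤ := by
  have := hG.1
  have := Groth.QCohMod.finite_stalk G hG.2 y
  obtain ⟨U, hU, hyU⟩ := Groth.QCohMod.exists_affine_mem y
  have := Groth.QCohMod.finite_sections G hG.2 hU
  let : Algebra Γ(X, U) (X.presheaf.stalk y) :=
    TopCat.Presheaf.algebra_section_stalk X.presheaf ⟨y, hyU⟩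
  have hloc : IsLocalization.AtPrime (X.presheaf.stalk y) (hU.primeIdealOf ⟨y, hyU⟩).asIdeal :=
    hU.isLocalization_stalk ⟨y, hyU⟩
  refine length_ne_top_of_forall_isMaximal fun q hq hann => ?_
  set p := hU.primeIdealOf ⟨y, hyU⟩
  let q' : PrimeSpectrum Γ(X, U) := ⟨q.comap (algebraMap _ _), Ideal.comap_isPrime _ _⟩
  have hq'p : q'.asIdeal ≤ p.asIdeal := by
    have := (IsLocalization.AtPrime.orderIsoOfPrime (X.presheaf.stalk y) p.asIdeal ⟨q, hq⟩).2
    exact this.2
  have hsupp : q' ∈ Module.support Γ(X, U) Γ(G, U) := by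
    rw [Module.support_eq_zeroLocus, PrimeSpectrum.mem_zeroLocus]
    intro r hr
    refine hann (Module.mem_annihilator.mpr fun t => ?_)
    obtain ⟨a, m, ha, hm⟩ := Groth.QCohMod.exists_smul_germ_eq G hU y hyU t
    have hu : IsUnit (X.presheaf.germ U y hyU a) := (Scheme.mem_basicOpen X a y hyU).mp ha
    refine (hu.smul_eq_zero).mp ?_
    rw [smul_comm, hm]
    change X.presheaf.germ U y hyU r • Groth.QCohMod.germ G y hyU m = 0
    rw [← Groth.QCohMod.germ_smul, Module.mem_annihilator.mp hr m, map_zero]
  set z := hU.fromSpec q' with hz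
  have hzU : z ∈ U := by
    have : z ∈ Set.range hU.fromSpec := ⟨q', rfl⟩
    rwa [hU.range_fromSpec] at this
  have hzq : hU.primeIdealOf ⟨z, hzU⟩ = q' :=
    hU.fromSpec.isOpenEmbedding.injective (hU.fromSpec_primeIdealOf ⟨z, hzU⟩)
  have hzG : z ∈ CohB1.support G := by
    rw [Groth.QCohMod.mem_support_iff G hU z hzU, hzq]
    exact hsupp
  have hspec : z ⤳ y := by
    have := ((PrimeSpectrum.le_iff_specializes q' p).mp hq'p).map hU.fromSpec.continuous
    rwa [hU.fromSpec_primeIdealOf ⟨y, hyU⟩] at this
  have e : q' = p := by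
    have h2 := hy z hzG hspec
    rw [← hzq]
    congr 1
    exact Subtype.ext h2
  have hqmax : q = IsLocalRing.maximalIdeal (X.presheaf.stalk y) := by
    rw [← IsLocalization.map_comap p.asIdeal.primeCompl _ q,
      show q.under Γ(X, U) = p.asIdeal from congrArg PrimeSpectrum.asIdeal e]
    exact IsLocalization.AtPrime.map_eq_maximalIdeal p.asIdeal (X.presheaf.stalk y)
  rw [hqmax]
  infer_instance

/-- A closed nonempty subset has a point without proper generalizations in it. -/
theorem exists_maximal_point {Z : Set X} (hZ : IsClosed Z) (hne : Z.Nonempty) :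
    ∃ y, IsIrreducible (closure ({y} : Set X)) ∧ closure ({y} : Set X) ⊆ Z ∧
      ∀ z ∈ Z, z ⤳ y → z = y := by
  have := hZ.isClosedEmbedding_subtypeVal.quasiSober
  obtain ⟨x, hx⟩ := hne
  set C := irreducibleComponent (⟨x, hx⟩ : Z)
  obtain ⟨y, hy⟩ := QuasiSober.sober (isIrreducible_irreducibleComponent (x := (⟨x, hx⟩ : Z))) isClosed_irreducibleComponent
  refine ⟨y.1, isIrreducible_singleton.closure,
    closure_minimal (Set.singleton_subset_iff.2 y.2) hZ, fun z hz hzy => ?_⟩
  have h : (⟨z, hz⟩ : Z) ⤳ y := (subtype_specializes_iff _ _).mpr hzy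
  have hC : C ⊆ closure {(⟨z, hz⟩ : Z)} := by
    rw [show C = closure {y} from hy.def.symm]
    exact closure_minimal (Set.singleton_subset_iff.2 h.mem_closure) isClosed_closure
  have hz' : IsGenericPoint (⟨z, hz⟩ : Z) C :=
    eq_irreducibleComponent isPreirreducible_singleton.closure hC
  exact congrArg Subtype.val (hz'.eq hy)

/-- Coherent modules with support in `Y'`. -/
abbrev cohSupp (Y' : Set X) : ObjectProperty X.Modules :=
  fun G => Coh.IsCoh G ∧ CohB1.support G ⊆ Y'

variable [IsNoetherian X]

theorem clSub_mem (Y' : Set X) (H : AddSubgroup (KZero.K0sub (cohSupp Y')))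
    (hgen : ∀ (y : X), closure ({y} : Set X) ⊆ Y' →
      ∃ F, Coh.IsCoh F ∧ CohB1.support F ⊆ closure ({y} : Set X) ∧
        Module.length (X.presheaf.stalk y) (F.presheaf.stalk y) = 1 ∧
        KZero.clSub (cohSupp Y') F ∈ H) :
    ∀ Z : Closeds X, (Z : Set X) ⊆ Y' → ∀ G, Coh.IsCoh G → CohB1.support G ⊆ Z →
      KZero.clSub (cohSupp Y') G ∈ H := by
  intro Z
  induction Z using WellFoundedLT.induction with
  | ind Z IH =>
  intro hZY
  rcases (Z : Set X).eq_empty_or_nonempty with he | hne
  · intro G hG hsupp
    have hzero : IsZero G := (Groth.QCohMod.isZero_iff_support_eq_empty G).mpr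
      (Set.subset_empty_iff.mp (he ▸ hsupp))
    rw [clSub_zero hzero ⟨hG, hsupp.trans hZY⟩]
    exact zero_mem _
  obtain ⟨y, -, hyZ, hymax⟩ := exists_maximal_point Z.2 hne
  have hyZ' : y ∈ (Z : Set X) := hyZ (subset_closure rfl)
  obtain ⟨F, hF, hFy, hlenF, hFH⟩ := hgen y (hyZ.trans hZY)
  have hstep : ∀ G, Coh.IsCoh G → CohB1.support G ⊆ Z → y ∉ CohB1.support G →
      KZero.clSub (cohSupp Y') G ∈ H := by
    intro G hG hsupp hy
    refine IH ⟨CohB1.support G, isClosed_support G hG⟩ ?_ (hsupp.trans hZY) G hG subset_rfl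
    exact lt_of_le_of_ne hsupp fun e => hy ((show CohB1.support G = (Z : Set X) from SetLike.ext'_iff.1 e).symm ▸ hyZ')
  have hind : ∀ (n : ℕ) (G : X.Modules), Coh.IsCoh G → CohB1.support G ⊆ Z →
      Module.length (X.presheaf.stalk y) (G.presheaf.stalk y) ≤ n →
      KZero.clSub (cohSupp Y') G ∈ H := by
    intro n
    induction n with
    | zero =>
      intro G hG hsupp hlen
      refine hstep G hG hsupp fun hy => hy ?_
      exact Module.length_eq_zero_iff.mp (nonpos_iff_eq_zero.mp (by simpa using hlen))
    | succ n ih =>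
      intro G hG hsupp hlen
      by_cases hy : y ∈ CohB1.support G
      · have := hG.1
        have := Groth.QCohMod.finite_stalk G hG.2 y
        have : Nontrivial (G.presheaf.stalk y) := not_subsingleton_iff_nontrivial.mp hy
        obtain ⟨σ, hσ⟩ := exists_surjective_of_length_eq_one (M := G.presheaf.stalk y) hlenF
        have := hF.1
        obtain ⟨U, hyU, φ, hφ⟩ := exists_hom_nhd G F hG y σ
        obtain ⟨m, ψ, hψ⟩ := Groth.Agent.S9515.result X F G hF.1 hG (complIdeal U) U
          (coe_compl_support_complIdeal U) φ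
        let N := (Dual3.idealMul (complIdeal U ^ m)).obj G
        let ι : N ⟶ G := Dual3.idealMulι (complIdeal U ^ m) G
        have hNc : Coh.IsCoh N := isCoh_idealMul _ G hG
        have := hNc.1
        have := hF.1
        have hbij : Function.Bijective ((Groth.QCohMod.stalk y).map ι) := bijective_stalk_idealMulι _ G
          (notMem_support_pow _ (notMem_support_complIdeal U hyU) m)
        have hψσ : ∀ b, (Groth.QCohMod.stalk y).map ψ b = σ ((Groth.QCohMod.stalk y).map ι b) :=
          stalk_map_of_restrict_eq _ ψ φ hψ hyU σ hφ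
        have hψs : Function.Surjective ((Groth.QCohMod.stalk y).map ψ) := by
          intro t
          obtain ⟨s, rfl⟩ := hσ t
          obtain ⟨b, rfl⟩ := hbij.2 s
          exact ⟨b, hψσ b⟩
        have hFZ : CohB1.support F ⊆ Z := hFy.trans hyZ
        have hNZ : CohB1.support N ⊆ Z := (support_subset_of_mono ι).trans hsupp
        have hP : ∀ {M : X.Modules}, Coh.IsCoh M → CohB1.support M ⊆ Z → cohSupp Y' M :=
          fun h1 h2 => ⟨h1, h2.trans hZY⟩
        have hK : Coh.IsCoh (kernel ψ) := Groth.QCohMod.isCoh_kernel ψ hNc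
        have := hK.1
        have hKZ : CohB1.support (kernel ψ) ⊆ Z := (support_subset_of_mono (kernel.ι ψ)).trans hNZ
        have hCoker : Coh.IsCoh (cokernel ψ) := Groth.QCohMod.isCoh_cokernel ψ hF
        have hCZ : CohB1.support (cokernel ψ) ⊆ Z := (support_subset_of_epi (cokernel.π ψ)).trans hFZ
        have hI : Coh.IsCoh (kernel (cokernel.π ψ)) :=
          haveI := hCoker.1
          Groth.QCohMod.isCoh_kernel (cokernel.π ψ) hF
        have hIZ : CohB1.support (kernel (cokernel.π ψ)) ⊆ Z :=
          (support_subset_of_mono (kernel.ι (cokernel.π ψ))).trans hFZ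
        have hQ : Coh.IsCoh (cokernel ι) := Groth.QCohMod.isCoh_cokernel ι hG
        have hQZ : CohB1.support (cokernel ι) ⊆ Z := (support_subset_of_epi (cokernel.π ι)).trans hsupp
        have hg : (ShortComplex.mk ι (cokernel.π ι) (cokernel.condition ι)).ShortExact :=
          { exact := ShortComplex.exact_of_g_is_cokernel _ (cokernelIsCokernel ι)
            mono_f := inferInstanceAs (Mono ι)
            epi_g := inferInstanceAs (Epi (cokernel.π ι)) }
        have hf : (ShortComplex.mk (kernel.ι (cokernel.π ψ)) (cokernel.π ψ) (kernel.condition _)).ShortExact :=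
          { exact := ShortComplex.exact_of_f_is_kernel _ (kernelIsKernel _)
            mono_f := inferInstance
            epi_g := inferInstanceAs (Epi (cokernel.π ψ)) }
        have hk : (ShortComplex.mk (kernel.ι ψ) (Abelian.factorThruImage ψ) (by
            rw [← cancel_mono (Abelian.image.ι ψ)]; simp)).ShortExact :=
          { exact := by
              apply ShortComplex.exact_of_f_is_kernel
              refine KernelFork.IsLimit.ofι' _ _ fun {W} k h => ⟨kernel.lift ψ k ?_, kernel.lift_ι _ _ _⟩
              have := h =≫ Abelian.image.ι ψ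
              simpa using this
            mono_f := inferInstance
            epi_g := inferInstance }
        have e1 := clSub_rel (P := cohSupp Y') _ hg (hP hNc hNZ) (hP hG hsupp) (hP hQ hQZ)
        have e2 := clSub_rel (P := cohSupp Y') _ hf (hP hI hIZ) (hP hF hFZ) (hP hCoker hCZ)
        have e3 := clSub_rel (P := cohSupp Y') _ hk (hP hK hKZ) (hP hNc hNZ) (hP hI hIZ)
        change KZero.clSub _ G = KZero.clSub _ N + _ at e1
        change KZero.clSub _ F = KZero.clSub _ (kernel (cokernel.π ψ)) + _ at e2
        change KZero.clSub _ N = _ + KZero.clSub _ (kernel (cokernel.π ψ)) at e3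
        rw [e1, e3, eq_sub_of_add_eq e2.symm]
        refine add_mem (add_mem (ih _ hK hKZ ?_) (sub_mem hFH (hstep _ hCoker hCZ
          (subsingleton_cokernel_stalk ψ y hψs))))
          (hstep _ hQ hQZ (subsingleton_cokernel_stalk ι y hbij.2))
        have hinj : Function.Injective (stalkₗ (kernel.ι ψ) y) :=
          (Groth.QCohMod.mono_iff_stalk (kernel.ι ψ)).mp inferInstance y
        have hexact : Function.Exact (stalkₗ (kernel.ι ψ) y) (stalkₗ ψ y) := by
          have hex := (ShortComplex.exact_of_f_is_kernel
            (ShortComplex.mk _ _ (kernel.condition ψ)) (kernelIsKernel ψ)).map (Groth.QCohMod.stalk y)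
          rw [ShortComplex.ab_exact_iff] at hex
          intro t
          refine ⟨fun ht => hex t ht, ?_⟩
          rintro ⟨u, rfl⟩
          exact congr($(((ShortComplex.mk _ _ (kernel.condition ψ)).map (Groth.QCohMod.stalk y)).zero) u)
        have hadd := Module.length_eq_add_of_exact (stalkₗ (kernel.ι ψ) y) (stalkₗ ψ y) hinj hψs hexact
        rw [(LinearEquiv.ofBijective (stalkₗ ι y) hbij).length_eq, hlenF] at hadd
        rw [hadd, Nat.cast_succ] at hlen
        exact (ENat.add_le_add_iff_right ENat.one_ne_top).mp hlen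
      · exact hstep G hG hsupp hy
  intro G hG hsupp
  obtain ⟨n, hn⟩ := ENat.ne_top_iff_exists.mp
    (length_stalk_ne_top hG y fun z hz hzy => hymax z (hsupp hz) hzy)
  exact hind n G hG hsupp hn.ge

theorem closure_eq_top (Y' : Set X) (hY' : IsClosed Y') (H : AddSubgroup (KZero.K0sub (cohSupp Y')))
    (hgen : ∀ (y : X), closure ({y} : Set X) ⊆ Y' →
      ∃ F, Coh.IsCoh F ∧ CohB1.support F ⊆ closure ({y} : Set X) ∧
        Module.length (X.presheaf.stalk y) (F.presheaf.stalk y) = 1 ∧
        KZero.clSub (cohSupp Y') F ∈ H) : H = ⊤ := by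
  rw [eq_top_iff]
  intro c hc
  clear hc
  induction c using k0sub_induction with
  | h0 => exact zero_mem _
  | hcl G hG => exact clSub_mem Y' H hgen ⟨Y', hY'⟩ subset_rfl G hG.1 hG.2
  | hadd a b ha hb => exact add_mem ha hb
  | hneg a ha => exact neg_mem ha

end Groth.KTheory.Devissage
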