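import Groth.Agent.KTheory.LambdaVb
import Groth.Agent.CohBase.RpushAb
import Groth.Agent.CohBase.AcyclicShift
import Groth.Agent.PnCoh.Cohomology
import Groth.Agent.Ega2Proj.TwistPow
import Groth.Agent.PicAux.PicLaw
import Groth.Agent.PicAux.Powers
import Groth.Agent.Variety2.ProjBasics
import Groth.Prelude.Def_KRR

/-!
# Regular sheaves on projective space: short exact sequences
-/

set_option autoImplicit false
universe u

open CategoryTheory CategoryTheory.Limits AlgebraicGeometry TopologicalSpace Opposite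

namespace Groth.KTheory.RegSheaf

open Groth.PicAux Groth.CohBase

variable {X : Scheme.{u}}

theorem nonempty_structure_of_idem {L : X.Modules} (hL : PicF.IsInvertible L)
    (h : Nonempty (CohB1.tensorMod L L ≅ L)) : Nonempty (L ≅ Coh.structureModule X) := by
  obtain ⟨M, -, hM⟩ := exists_isInverseOf hL
  exact ⟨(exists_leftUnitor L).choose.symm ≪≫
    PicGrp.tensorModIso (isInverseOf_symm hM).some.symm (Iso.refl L) ≪≫
    (exists_associator M L L).choose ≪≫
    PicGrp.tensorModIso (Iso.refl M) h.some ≪≫ (isInverseOf_symm hM).some⟩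

variable (n : ℕ) (T : Scheme.{u})

instance : QuasiCompact (KRR.pr n T) :=
  inferInstanceAs (QuasiCompact (CohB1.ProjSpaceOver.toBase n T))

instance : QuasiSeparated (KRR.pr n T) :=
  inferInstanceAs (QuasiSeparated (CohB1.ProjSpaceOver.toBase n T))

theorem twist_span :
    (HomogeneousIdeal.irrelevant (CohB1.polyGrading n (ULift.{u} ℤ))).toIdeal ≤
      Ideal.span (CohB1.polyGrading n (ULift.{u} ℤ) 1 : Set _) := by
  refine (PnCoh.irrelevant_le_span_X n (ULift.{u} ℤ)).trans (Ideal.span_mono ?_)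
  rintro _ ⟨i, rfl⟩
  exact (MvPolynomial.mem_homogeneousSubmodule _ _).mpr (MvPolynomial.isHomogeneous_X _ _)

theorem isInvertible_twistOver (d : ℤ) : PicF.IsInvertible (Twist.twistOver n T d) :=
  Groth.PicAux.isInvertible_pullback _ (Ega2Proj.isInvertible_twist (twist_span n) d)

theorem nonempty_twistOver_add (a b : ℤ) :
    Nonempty (CohB1.tensorMod (Twist.twistOver n T a) (Twist.twistOver n T b) ≅
      Twist.twistOver n T (a + b)) :=
  ⟨(pullback_tensorMod _ (Ega2Proj.isInvertible_twist (twist_span n) a)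
      (Ega2Proj.isInvertible_twist (twist_span n) b)).some.symm ≪≫
    (Scheme.Modules.pullback _).mapIso (Ega2Proj.nonempty_tensor_iso (twist_span n) a b).some⟩

theorem isFinLocFree_twistOver (d : ℤ) : FlatMod.IsFinLocFree (Twist.twistOver n T d) :=
  Groth.LocFree.isFinLocFree_of_rank
    (Groth.LocFree.isInvertible_iff_ofRank_one.1 (isInvertible_twistOver n T d))

theorem nonempty_twF_twF (a b c : ℤ) (h : a + b = c) (F : (KRR.PY n T).Modules) :
    Nonempty (KRR.twF n T a (KRR.twF n T b F) ≅ KRR.twF n T c F) := by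
  subst h
  exact ⟨((exists_associator _ _ F).choose).symm ≪≫
    PicGrp.tensorModIso (nonempty_twistOver_add n T a b).some (Iso.refl F)⟩

theorem nonempty_twF_zero (F : (KRR.PY n T).Modules) : Nonempty (KRR.twF n T 0 F ≅ F) := by
  obtain ⟨e⟩ := nonempty_structure_of_idem (isInvertible_twistOver n T 0)
    (by simpa using nonempty_twistOver_add n T 0 0)
  exact ⟨PicGrp.tensorModIso e (Iso.refl F) ≪≫ (exists_leftUnitor F).choose⟩

/-- Cohomology of `F(d)` on preimages of affine opens of the base vanishes in degree `i`. -/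
def Van (F : (KRR.PY n T).Modules) (i : ℕ) : Prop :=
  ∀ V : T.Opens, IsAffineOpen V →
    HVanish (X := (KRR.PY n T).toTopCat) (abSheaf F) i (KRR.pr n T ⁻¹ᵁ V)

variable {n T}

theorem Van.of_iso {F G : (KRR.PY n T).Modules} (e : F ≅ G) {i : ℕ} (h : Van n T F i) :
    Van n T G i := fun V hV => by
  have := h V hV
  let G' := (Sheaf.cohomologyPresheafFunctor.{u}
    (J := Opens.grothendieckTopology (KRR.PY n T).toTopCat) i)
  exact ((G'.mapIso ((toAbF (KRR.PY n T)).mapIso e)).app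
    (op (KRR.pr n T ⁻¹ᵁ V))).addCommGroupIsoToAddEquiv.symm.toEquiv.subsingleton

theorem isQCoh_twF (d : ℤ) {F : (KRR.PY n T).Modules} (hF : Coh.IsQCoh F) :
    Coh.IsQCoh (KRR.twF n T d F) :=
  haveI : F.IsQuasicoherent := hF
  haveI := KTheory.LocFree.isQCoh (isFinLocFree_twistOver n T d)
  Groth.QCohMod.isQCoh_tensorMod (M := Twist.twistOver n T d) (N := F)

theorem van_of_isRegSheaf {F : (KRR.PY n T).Modules} (hF : Coh.IsQCoh F)
    (h : KRR.IsRegSheaf n T F) (i : ℕ) (hi : 1 ≤ i) : Van n T (KRR.twF n T (-(i : ℤ)) F) i := by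
  intro V hV
  have : (KRR.twF n T (-(i : ℤ)) F).IsQuasicoherent := isQCoh_twF _ hF
  obtain ⟨e⟩ := nonempty_RpushAb_sections (KRR.pr n T) i (M := KRR.twF n T (-(i : ℤ)) F) hV
  have := AddCommGrpCat.subsingleton_of_isZero
    (((sheafToPresheaf _ _ ⋙ (evaluation _ _).obj (op V))).map_isZero (h i hi))
  exact @Equiv.subsingleton _ _ e.symm.toEquiv this

theorem isRegSheaf_of_van {F : (KRR.PY n T).Modules} (hF : Coh.IsQCoh F)
    (h : ∀ i : ℕ, 1 ≤ i → Van n T (KRR.twF n T (-(i : ℤ)) F) i) : KRR.IsRegSheaf n T F := by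
  intro i hi
  have : (KRR.twF n T (-(i : ℤ)) F).IsQuasicoherent := isQCoh_twF _ hF
  let J := injectiveResolution (KRR.twF n T (-(i : ℤ)) F)
  obtain ⟨a⟩ := nonempty_RpushAb_iso_homology (KRR.pr n T) J i
  have hz := isZero_homology_pushCx (KRR.pr n T) J i fun x => by
    obtain ⟨U, hU, hx⟩ := Groth.QCohMod.exists_affine_mem x
    exact ⟨U, hU, hx, h i hi U hU⟩
  have : (toAbF T).Additive :=
    inferInstanceAs (SheafOfModules.toSheaf.{u} T.ringCatSheaf).Additive
  exact ((toAbF T).map_isZero hz).of_iso a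

variable (S : ShortComplex (KRR.PY n T).Modules)

/-- The twisted sequence. -/
noncomputable abbrev tw (d : ℤ) : ShortComplex (KRR.PY n T).Modules :=
  S.map ((DCoh.tensorBi (X := KRR.PY n T)).obj (Twist.twistOver n T d))

theorem shortExact_tw (hS : S.ShortExact) (h₁ : Coh.IsQCoh S.X₁) (h₂ : Coh.IsQCoh S.X₂)
    (h₃ : Coh.IsQCoh S.X₃) (d : ℤ) : (tw S d).ShortExact :=
  haveI : S.X₁.IsQuasicoherent := h₁
  haveI : S.X₂.IsQuasicoherent := h₂
  haveI : S.X₃.IsQuasicoherent := h₃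
  LambdaVb.shortExact_tensor (isFinLocFree_twistOver n T d) hS

variable {S} (hS : S.ShortExact) (h₁ : Coh.IsQCoh S.X₁) (h₂ : Coh.IsQCoh S.X₂)
  (h₃ : Coh.IsQCoh S.X₃)

include hS h₁ h₂ h₃

theorem isRegSheaf_middle (r₁ : KRR.IsRegSheaf n T S.X₁) (r₃ : KRR.IsRegSheaf n T S.X₃) :
    KRR.IsRegSheaf n T S.X₂ := by
  refine isRegSheaf_of_van h₂ fun i hi V hV => ?_
  have ha := van_of_isRegSheaf h₁ r₁ i hi V hV
  have hc := van_of_isRegSheaf h₃ r₃ i hi V hV
  refine subsingleton_of_forall_eq 0 fun x => ?_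
  obtain ⟨y, hy⟩ := Abelian.Ext.covariant_sequence_exact₂ (freeOpen (KRR.pr n T ⁻¹ᵁ V))
    (shortExact_toAb (shortExact_tw S hS h₁ h₂ h₃ _)) x (hc.elim _ _)
  have hy0 : y = 0 := ha.elim _ _
  rw [← hy, hy0, Abelian.Ext.zero_comp]
  rfl

theorem isRegSheaf_right (r₂ : KRR.IsRegSheaf n T S.X₂)
    (r₁ : KRR.IsRegSheaf n T (KRR.twF n T 1 S.X₁)) : KRR.IsRegSheaf n T S.X₃ := by
  refine isRegSheaf_of_van h₃ fun i hi V hV => ?_
  have ha := (van_of_isRegSheaf (isQCoh_twF 1 h₁) r₁ (i + 1) (by omega)).of_iso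
    (nonempty_twF_twF n T _ 1 (-(i : ℤ)) (by push_cast; ring) S.X₁).some
  exact hVanish_third (shortExact_toAb (shortExact_tw S hS h₁ h₂ h₃ (-(i : ℤ)))) (ha V hV)
    (van_of_isRegSheaf h₂ r₂ i hi V hV)

theorem isRegSheaf_left (r₂ : KRR.IsRegSheaf n T (KRR.twF n T 1 S.X₂))
    (r₃ : KRR.IsRegSheaf n T S.X₃)
    (hepi : Epi ((Scheme.Modules.pushforward (KRR.pr n T)).map S.g)) :
    KRR.IsRegSheaf n T (KRR.twF n T 1 S.X₁) := by
  refine isRegSheaf_of_van (isQCoh_twF 1 h₁) fun i hi => ?_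
  obtain ⟨j, rfl⟩ : ∃ j, i = j + 1 := ⟨i - 1, by omega⟩
  refine Van.of_iso (nonempty_twF_twF n T _ 1 (-(j : ℤ)) (by push_cast; ring) S.X₁).some.symm ?_
  have hb := (van_of_isRegSheaf (isQCoh_twF 1 h₂) r₂ (j + 1) hi).of_iso
    (nonempty_twF_twF n T _ 1 (-(j : ℤ)) (by push_cast; ring) S.X₂).some
  rcases j with _ | j
  · refine Van.of_iso (nonempty_twF_zero n T S.X₁).some.symm fun V hV => ?_
    refine hVanish_one_of_hVanish (shortExact_toAb hS)
      ((hb.of_iso (nonempty_twF_zero n T S.X₂).some) V hV) ?_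
    have : S.X₂.IsQuasicoherent := h₂
    have : S.X₃.IsQuasicoherent := h₃
    have := Groth.QCohMod.isQCoh_pushforward S.X₂ (KRR.pr n T)
    have := Groth.QCohMod.isQCoh_pushforward S.X₃ (KRR.pr n T)
    exact Groth.QCohMod.app_surjective_of_epi ((Scheme.Modules.pushforward (KRR.pr n T)).map S.g) hV
  · intro V hV
    exact hVanish_first (shortExact_toAb (shortExact_tw S hS h₁ h₂ h₃ _)) (hb V hV)
      (van_of_isRegSheaf h₃ r₃ (j + 1) (by omega) V hV)

end Groth.KTheory.RegSheaf
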