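import Groth.Prelude.Def_KZero
import Groth.Prelude.Def_KZero2

/-!
# Basic API for the Grothendieck groups of `Groth.Prelude.Def_KZero`
-/

set_option autoImplicit false
universe w v u

open CategoryTheory CategoryTheory.Limits CategoryTheory.Pretriangulated

namespace Groth.KTheory

section Abelian

variable {A : Type u} [Category.{v} A] [Abelian A]

theorem cl_rel (S : ShortComplex A) (hS : S.ShortExact) :
    KZero.cl S.X₂ = KZero.cl S.X₁ + KZero.cl S.X₃ := by
  have : FreeAbelianGroup.of S.X₂ - FreeAbelianGroup.of S.X₁ - FreeAbelianGroup.of S.X₃ ∈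
      KZero.relAb A := AddSubgroup.subset_closure ⟨S, hS, rfl⟩
  rw [← QuotientAddGroup.eq_zero_iff] at this
  simp only [QuotientAddGroup.mk_sub, sub_eq_zero] at this
  exact sub_eq_iff_eq_add'.mp this

theorem k0_induction {motive : KZero.K0 A → Prop} (x : KZero.K0 A) (h0 : motive 0)
    (hcl : ∀ X : A, motive (KZero.cl X)) (hadd : ∀ a b, motive a → motive b → motive (a + b))
    (hneg : ∀ a, motive a → motive (-a)) : motive x := by
  induction x using QuotientAddGroup.induction_on with
  | H y =>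
    induction y using FreeAbelianGroup.induction_on with
    | zero => exact h0
    | of X => exact hcl X
    | neg X h => exact hneg _ (hcl X)
    | add a b ha hb => rw [QuotientAddGroup.mk_add]; exact hadd _ _ ha hb

theorem k0_hom_ext {G : Type w} [AddCommGroup G] {f g : KZero.K0 A →+ G}
    (h : ∀ X, f (KZero.cl X) = g (KZero.cl X)) : f = g := by
  ext X; exact h X

/-- Homomorphisms out of `K₀`: additive functions on objects. -/
noncomputable def lift {G : Type w} [AddCommGroup G] (f : A → G)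
    (hf : ∀ S : ShortComplex A, S.ShortExact → f S.X₂ = f S.X₁ + f S.X₃) : KZero.K0 A →+ G :=
  QuotientAddGroup.lift _ (FreeAbelianGroup.lift f) (by
    rw [KZero.relAb, AddSubgroup.closure_le]
    rintro x ⟨S, hS, rfl⟩
    simp [hf S hS])

theorem lift_cl {G : Type w} [AddCommGroup G] (f : A → G)
    (hf : ∀ S : ShortComplex A, S.ShortExact → f S.X₂ = f S.X₁ + f S.X₃) (X : A) :
    lift f hf (KZero.cl X) = f X := by
  simp [lift, KZero.cl]

theorem cl_zero {Z : A} (hZ : IsZero Z) : KZero.cl Z = 0 := by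
  have h : (ShortComplex.mk (0 : Z ⟶ Z) (0 : Z ⟶ Z) comp_zero).ShortExact :=
    { exact := ShortComplex.exact_of_isZero_X₂ _ hZ
      mono_f := ⟨fun _ _ _ => hZ.eq_of_tgt _ _⟩
      epi_g := ⟨fun _ _ _ => hZ.eq_of_src _ _⟩ }
  simpa using cl_rel _ h

variable {P : ObjectProperty A}

theorem clSub_of {X : A} (h : P X) :
    KZero.clSub P X = QuotientAddGroup.mk (FreeAbelianGroup.of (⟨X, h⟩ : Subtype P)) := dif_pos h

theorem clSub_rel (S : ShortComplex A) (hS : S.ShortExact) (h₁ : P S.X₁) (h₂ : P S.X₂) (h₃ : P S.X₃) :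
    KZero.clSub P S.X₂ = KZero.clSub P S.X₁ + KZero.clSub P S.X₃ := by
  have : FreeAbelianGroup.of (⟨S.X₂, h₂⟩ : Subtype P) - FreeAbelianGroup.of ⟨S.X₁, h₁⟩ -
      FreeAbelianGroup.of ⟨S.X₃, h₃⟩ ∈ KZero.relSub P :=
    AddSubgroup.subset_closure ⟨S, h₁, h₂, h₃, hS, rfl⟩
  rw [← QuotientAddGroup.eq_zero_iff] at this
  simp only [QuotientAddGroup.mk_sub, sub_eq_zero] at this
  rw [clSub_of h₁, clSub_of h₂, clSub_of h₃]
  exact sub_eq_iff_eq_add'.mp this

theorem k0sub_induction {motive : KZero.K0sub P → Prop} (x : KZero.K0sub P) (h0 : motive 0)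
    (hcl : ∀ X : A, P X → motive (KZero.clSub P X)) (hadd : ∀ a b, motive a → motive b → motive (a + b))
    (hneg : ∀ a, motive a → motive (-a)) : motive x := by
  induction x using QuotientAddGroup.induction_on with
  | H y =>
    induction y using FreeAbelianGroup.induction_on with
    | zero => exact h0
    | of X => rw [← clSub_of X.2]; exact hcl _ X.2
    | neg X h =>
      rw [QuotientAddGroup.mk_neg, ← clSub_of X.2]; exact hneg _ (hcl _ X.2)
    | add a b ha hb => rw [QuotientAddGroup.mk_add]; exact hadd _ _ ha hb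

theorem k0sub_closure_eq_top :
    AddSubgroup.closure {c : KZero.K0sub P | ∃ X, P X ∧ c = KZero.clSub P X} = ⊤ := by
  rw [eq_top_iff]
  intro x hx
  clear hx
  induction x using k0sub_induction with
  | h0 => exact zero_mem _
  | hcl X h => exact AddSubgroup.subset_closure ⟨X, h, rfl⟩
  | hadd a b ha hb => exact add_mem ha hb
  | hneg a ha => exact neg_mem ha

theorem k0sub_hom_ext {G : Type w} [AddCommGroup G] {f g : KZero.K0sub P →+ G}
    (h : ∀ X, P X → f (KZero.clSub P X) = g (KZero.clSub P X)) : f = g := by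
  ext ⟨X, hX⟩
  simpa [clSub_of hX] using h X hX

/-- Homomorphisms out of `K0sub P`: functions on objects of `P`, additive on short exact sequences. -/
noncomputable def liftSub {G : Type w} [AddCommGroup G] (P : ObjectProperty A) (f : A → G)
    (hf : ∀ S : ShortComplex A, S.ShortExact → P S.X₁ → P S.X₂ → P S.X₃ →
      f S.X₂ = f S.X₁ + f S.X₃) : KZero.K0sub P →+ G :=
  QuotientAddGroup.lift _ (FreeAbelianGroup.lift fun X : Subtype P => f X.1) (by
    rw [KZero.relSub, AddSubgroup.closure_le]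
    rintro x ⟨S, h₁, h₂, h₃, hS, rfl⟩
    simp [hf S hS h₁ h₂ h₃])

theorem liftSub_clSub {G : Type w} [AddCommGroup G] (f : A → G)
    (hf : ∀ S : ShortComplex A, S.ShortExact → P S.X₁ → P S.X₂ → P S.X₃ →
      f S.X₂ = f S.X₁ + f S.X₃) {X : A} (h : P X) :
    liftSub P f hf (KZero.clSub P X) = f X := by
  rw [clSub_of h]; simp [liftSub]

theorem shortExact_id_left {X Y Z : A} (e : X ≅ Y) (hZ : IsZero Z) :
    (ShortComplex.mk e.hom (0 : Y ⟶ Z) comp_zero).ShortExact :=
  { exact := (ShortComplex.exact_iff_epi _ rfl).mpr inferInstance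
    mono_f := inferInstance
    epi_g := ⟨fun _ _ _ => hZ.eq_of_src _ _⟩ }

theorem clSub_zero {Z : A} (hZ : IsZero Z) (hP : P Z) : KZero.clSub P Z = 0 := by
  simpa using clSub_rel _ (shortExact_id_left (Iso.refl Z) hZ) hP hP hP

theorem clSub_iso {X Y Z : A} (e : X ≅ Y) (hX : P X) (hY : P Y) (hZ : IsZero Z) (hPZ : P Z) :
    KZero.clSub P X = KZero.clSub P Y := by
  simpa [clSub_zero hZ hPZ] using (clSub_rel _ (shortExact_id_left e hZ) hX hY hPZ).symm

theorem cl_iso {X Y : A} (e : X ≅ Y) : KZero.cl X = KZero.cl Y := by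
  simpa [cl_zero (isZero_zero A)] using (cl_rel _ (shortExact_id_left e (isZero_zero A))).symm

end Abelian

section Triangulated

variable {D : Type u} [Category.{v} D] [Preadditive D] [HasZeroObject D] [HasShift D ℤ]
  [∀ n : ℤ, (shiftFunctor D n).Additive] [Pretriangulated D] {P : ObjectProperty D}

theorem clTr_of {X : D} (h : P X) :
    KZero.clTr P X = QuotientAddGroup.mk (FreeAbelianGroup.of (⟨X, h⟩ : Subtype P)) := dif_pos h

theorem clTr_rel (T : Triangle D) (hT : T ∈ distinguishedTriangles) (h₁ : P T.obj₁) (h₂ : P T.obj₂)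
    (h₃ : P T.obj₃) : KZero.clTr P T.obj₂ = KZero.clTr P T.obj₁ + KZero.clTr P T.obj₃ := by
  have : FreeAbelianGroup.of (⟨T.obj₂, h₂⟩ : Subtype P) - FreeAbelianGroup.of ⟨T.obj₁, h₁⟩ -
      FreeAbelianGroup.of ⟨T.obj₃, h₃⟩ ∈ KZero.relTr P :=
    AddSubgroup.subset_closure ⟨T, h₁, h₂, h₃, hT, rfl⟩
  rw [← QuotientAddGroup.eq_zero_iff] at this
  simp only [QuotientAddGroup.mk_sub, sub_eq_zero] at this
  rw [clTr_of h₁, clTr_of h₂, clTr_of h₃]
  exact sub_eq_iff_eq_add'.mp this

theorem k0tr_induction {motive : KZero.K0tr P → Prop} (x : KZero.K0tr P) (h0 : motive 0)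
    (hcl : ∀ X : D, P X → motive (KZero.clTr P X)) (hadd : ∀ a b, motive a → motive b → motive (a + b))
    (hneg : ∀ a, motive a → motive (-a)) : motive x := by
  induction x using QuotientAddGroup.induction_on with
  | H y =>
    induction y using FreeAbelianGroup.induction_on with
    | zero => exact h0
    | of X => rw [← clTr_of X.2]; exact hcl _ X.2
    | neg X h =>
      rw [QuotientAddGroup.mk_neg, ← clTr_of X.2]; exact hneg _ (hcl _ X.2)
    | add a b ha hb => rw [QuotientAddGroup.mk_add]; exact hadd _ _ ha hb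

theorem k0tr_hom_ext {G : Type w} [AddCommGroup G] {f g : KZero.K0tr P →+ G}
    (h : ∀ X, P X → f (KZero.clTr P X) = g (KZero.clTr P X)) : f = g := by
  ext ⟨X, hX⟩
  simpa [clTr_of hX] using h X hX

/-- Homomorphisms out of `K0tr P`. -/
noncomputable def liftTr {G : Type w} [AddCommGroup G] (P : ObjectProperty D) (f : D → G)
    (hf : ∀ T : Triangle D, T ∈ distinguishedTriangles → P T.obj₁ → P T.obj₂ → P T.obj₃ →
      f T.obj₂ = f T.obj₁ + f T.obj₃) : KZero.K0tr P →+ G :=
  QuotientAddGroup.lift _ (FreeAbelianGroup.lift fun X : Subtype P => f X.1) (by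
    rw [KZero.relTr, AddSubgroup.closure_le]
    rintro x ⟨T, h₁, h₂, h₃, hT, rfl⟩
    simp [hf T hT h₁ h₂ h₃])

theorem liftTr_clTr {G : Type w} [AddCommGroup G] (f : D → G)
    (hf : ∀ T : Triangle D, T ∈ distinguishedTriangles → P T.obj₁ → P T.obj₂ → P T.obj₃ →
      f T.obj₂ = f T.obj₁ + f T.obj₃) {X : D} (h : P X) :
    liftTr P f hf (KZero.clTr P X) = f X := by
  rw [clTr_of h]; simp [liftTr]

theorem clTr_iso {X Y Z : D} (e : X ≅ Y) (hX : P X) (hY : P Y) (hZ : IsZero Z) (hPZ : P Z) :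
    KZero.clTr P X = KZero.clTr P Y := by
  have dist : ∀ {X Y : D} (f : X ≅ Y), Triangle.mk f.hom (0 : Y ⟶ Z) 0 ∈ distinguishedTriangles :=
    fun {X Y} f => isomorphic_distinguished _ (contractible_distinguished X) _
      (Triangle.isoMk _ _ (Iso.refl _) f.symm hZ.isoZero
        (by simp [Triangle.mk, contractibleTriangle]) (by simp [Triangle.mk, contractibleTriangle]) (by simp [Triangle.mk, contractibleTriangle]))
  have h0 : KZero.clTr P Z = 0 := by
    simpa using clTr_rel _ (dist (Iso.refl Z)) hPZ hPZ hPZ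
  simpa [h0] using (clTr_rel _ (dist e) hX hY hPZ).symm

theorem clTr_zero {Z : D} (hZ : IsZero Z) (hPZ : P Z) : KZero.clTr P Z = 0 := by
  have : Triangle.mk (𝟙 Z) (0 : Z ⟶ Z) 0 ∈ distinguishedTriangles :=
    isomorphic_distinguished _ (contractible_distinguished Z) _
      (Triangle.isoMk _ _ (Iso.refl _) (Iso.refl _) hZ.isoZero
        (by simp [Triangle.mk, contractibleTriangle]) (by simp [Triangle.mk, contractibleTriangle]) (by simp [Triangle.mk, contractibleTriangle]))
  simpa using clTr_rel _ this hPZ hPZ hPZ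

theorem clTr_shift {X Z : D} (hX : P X) (hX1 : P (X⟦(1 : ℤ)⟧)) (hZ : IsZero Z) (hPZ : P Z) :
    KZero.clTr P (X⟦(1 : ℤ)⟧) = - KZero.clTr P X := by
  have : Triangle.mk (0 : X ⟶ Z) (0 : Z ⟶ X⟦(1 : ℤ)⟧) (-𝟙 _) ∈ distinguishedTriangles := by
    refine isomorphic_distinguished _ (rot_of_distTriang _ (contractible_distinguished X)) _
      (Triangle.isoMk _ _ (Iso.refl _) hZ.isoZero (Iso.refl _) ?_ ?_ ?_) <;> simp [Triangle.mk, Triangle.rotate, contractibleTriangle]
  have h := clTr_rel _ this hX hPZ hX1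
  rw [Triangle.mk_obj₁, Triangle.mk_obj₂, Triangle.mk_obj₃, clTr_zero hZ hPZ] at h
  exact eq_neg_of_add_eq_zero_right h.symm

end Triangulated

section Whole

variable {C : Type u} [Category.{v} C] [Preadditive C] [HasZeroObject C] [HasShift C ℤ]
  [∀ n : ℤ, (shiftFunctor C n).Additive] [Pretriangulated C]

theorem clTri_eq_clTr (X : C) : KZero.clTri X = KZero.clTr (⊤ : ObjectProperty C) X :=
  (clTr_of (P := (⊤ : ObjectProperty C)) trivial).symm

theorem clTri_rel (T : Triangle C) (hT : T ∈ distinguishedTriangles) :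
    KZero.clTri T.obj₂ = KZero.clTri T.obj₁ + KZero.clTri T.obj₃ := by
  simp only [clTri_eq_clTr]
  exact clTr_rel T hT trivial trivial trivial

theorem clTri_iso {X Y : C} (e : X ≅ Y) : KZero.clTri X = KZero.clTri Y := by
  simp only [clTri_eq_clTr]
  exact clTr_iso e trivial trivial (isZero_zero C) trivial

theorem clTri_shift (X : C) : KZero.clTri (X⟦(1 : ℤ)⟧) = - KZero.clTri X := by
  simp only [clTri_eq_clTr]
  exact clTr_shift trivial trivial (isZero_zero C) trivial

end Whole

end Groth.KTheory
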