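import Groth.Agent.KTheory.ExtFilt
import Groth.Agent.KTheory.Basic
import Groth.Agent.LocFree.ExtPow
import Groth.Agent.LocFree.Affine
import Groth.Agent.LocFree.Tensor

/-!
# The filtration of the exterior powers of an extension of locally free modules
-/

set_option autoImplicit false
universe u

open CategoryTheory CategoryTheory.Limits AlgebraicGeometry TopologicalSpace TensorProduct

namespace Groth.KTheory.ExtFilt

open Groth.PicAux Groth.LocFree
open Groth.QCohMod (appₗ)

variable {X : Scheme.{u}}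

/-- Morphisms agreeing on the sections over all affine opens are equal. -/
theorem hom_ext_affine {L M : X.Modules} {a b : L ⟶ M}
    (h : ∀ U : X.Opens, IsAffineOpen U → ∀ x, a.app U x = b.app U x) : a = b := by
  ext V x
  refine res_ext (fun W : {W : X.affineOpens // W.1 ≤ V} => W.1.1) (fun W => W.2)
    (fun z hz => ?_) fun W => ?_
  · obtain ⟨_, ⟨W, hW, rfl⟩, hzW, hWV⟩ := X.isBasis_affineOpens.exists_subset_of_mem_open hz V.2
    exact Opens.mem_iSup.2 ⟨⟨⟨W, hW⟩, hWV⟩, hzW⟩
  · rw [← app_res, ← app_res, h _ W.1.2]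

/-- Two monomorphisms with the same sections over all affine opens have isomorphic sources. -/
theorem nonempty_iso_of_range_eq {A B N : X.Modules} (a : A ⟶ N) (b : B ⟶ N) [Mono a] [Mono b]
    (h : ∀ U : X.Opens, IsAffineOpen U → Set.range (a.app U) = Set.range (b.app U)) :
    Nonempty (A ≅ B) := by
  have key : ∀ (U : X.Opens) (hU : IsAffineOpen U), ∀ x, appₗ a U x ∈ LinearMap.range (appₗ b U) :=
    fun U hU x => (h U hU).le ⟨x, rfl⟩
  have hinj : ∀ U, Function.Injective (appₗ b U) := fun U =>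
    Groth.QCohMod.app_injective_of_mono b U
  let f : ∀ U : X.Opens, IsAffineOpen U → (Γ(A, U) →ₗ[Γ(X, U)] Γ(B, U)) := fun U hU =>
    (LinearEquiv.ofInjective (appₗ b U) (hinj U)).symm.toLinearMap ∘ₗ
      LinearMap.codRestrict _ (appₗ a U) (key U hU)
  have hf : ∀ (U : X.Opens) (hU : IsAffineOpen U) x, b.app U (f U hU x) = a.app U x :=
    fun U hU x => congrArg Subtype.val
      ((LinearEquiv.ofInjective (appₗ b U) (hinj U)).apply_symm_apply ⟨_, key U hU x⟩)
  obtain ⟨φ, hφ⟩ := exists_hom_of_affine f fun U V hU hV hVU x => hinj V (by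
    change b.app V (res B hVU (f U hU x)) = b.app V (f V hV (res A hVU x))
    rw [app_res, hf U hU, hf V hV, app_res])
  have : IsIso φ := isIso_of_small_affine φ fun x W hx => by
    obtain ⟨_, ⟨V, hV, rfl⟩, hxV, hVW⟩ := X.isBasis_affineOpens.exists_subset_of_mem_open hx W.2
    refine ⟨V, hV, hxV, hVW, fun y y' e => ?_, fun z => ?_⟩
    · apply Groth.QCohMod.app_injective_of_mono a V
      rw [← hf V hV, ← hf V hV, ← hφ V hV, ← hφ V hV, e]
    · obtain ⟨y, hy⟩ := (h V hV).ge ⟨z, rfl⟩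
      exact ⟨y, hinj V ((congrArg (b.app V) (hφ V hV y)).trans ((hf V hV y).trans hy))⟩
  exact ⟨asIso φ⟩

/-- `⋀ⁱ Γ(E, U) ≃ Γ(⋀ⁱ E, U)` for affine `U`. -/
noncomputable def extEquiv (i : ℕ) (E : X.Modules) [E.IsQuasicoherent] {U : X.Opens}
    (hU : IsAffineOpen U) : ESec i E U ≃ₗ[Γ(X, U)] Γ(extPow i E, U) :=
  LinearEquiv.ofBijective (extUnit i E U) (extUnit_bijective i E hU)

variable {A B : X.Modules} [A.IsQuasicoherent] [B.IsQuasicoherent]

/-- Sections of `⋀ᵖ A ⊗ ⋀^q B` over an affine open. -/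
noncomputable def tau (p q : ℕ) (A B : X.Modules) [A.IsQuasicoherent] [B.IsQuasicoherent]
    {U : X.Opens} (hU : IsAffineOpen U) :
    ESec p A U ⊗[Γ(X, U)] ESec q B U ≃ₗ[Γ(X, U)]
      Γ(CohB1.tensorMod (extPow p A) (extPow q B), U) :=
  haveI := isQCoh_extPow p A
  haveI := isQCoh_extPow q B
  (TensorProduct.congr (extEquiv p A hU) (extEquiv q B hU)).trans (tensorSecEquiv hU)

theorem tau_wedge (p q : ℕ) {U : X.Opens} (hU : IsAffineOpen U) (u : Fin p → Γ(A, U))
    (v : Fin q → Γ(B, U)) :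
    tau p q A B hU (ewedge p A u ⊗ₜ ewedge q B v) = tmulSec (wedge p A u) (wedge q B v) := rfl

theorem res_tau_wedge (p q : ℕ) {U V : X.Opens} (hU : IsAffineOpen U) (hV : IsAffineOpen V)
    (h : V ≤ U) (u : Fin p → Γ(A, U)) (v : Fin q → Γ(B, U)) :
    res _ h (tau p q A B hU (ewedge p A u ⊗ₜ ewedge q B v)) =
      tau p q A B hV (ewedge p A (fun j => res A h (u j)) ⊗ₜ ewedge q B fun j => res B h (v j)) := by
  rw [tau_wedge, tau_wedge, res_tmulSec, res_wedge, res_wedge]

/-- Morphisms out of `⋀ᵖ A ⊗ ⋀^q B` from maps on wedges over affine opens. -/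
theorem exists_hom_tensor (p q : ℕ) {M : X.Modules}
    (f : ∀ U : X.Opens, IsAffineOpen U →
      (ESec p A U ⊗[Γ(X, U)] ESec q B U →ₗ[Γ(X, U)] Γ(M, U)))
    (hf : ∀ (U V : X.Opens) (hU : IsAffineOpen U) (hV : IsAffineOpen V) (h : V ≤ U)
      (u : Fin p → Γ(A, U)) (v : Fin q → Γ(B, U)),
      res M h (f U hU (ewedge p A u ⊗ₜ ewedge q B v)) =
        f V hV (ewedge p A (fun j => res A h (u j)) ⊗ₜ ewedge q B fun j => res B h (v j))) :
    ∃ φ : CohB1.tensorMod (extPow p A) (extPow q B) ⟶ M, ∀ U (hU : IsAffineOpen U) z,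
      φ.app U (tau p q A B hU z) = f U hU z := by
  obtain ⟨φ, hφ⟩ := exists_hom_of_affine (L := CohB1.tensorMod (extPow p A) (extPow q B))
    (fun U hU => (f U hU).comp (tau p q A B hU).symm.toLinearMap) (fun U V hU hV h x => by
      obtain ⟨z, rfl⟩ := (tau p q A B hU).surjective x
      change res M h (f U hU ((tau p q A B hU).symm (tau p q A B hU z))) =
        f V hV ((tau p q A B hV).symm (res _ h (tau p q A B hU z)))
      rw [LinearEquiv.symm_apply_apply]
      induction z using tensor_wedge_induction with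
      | zero => simp
      | add a b ha hb =>
        simp only [map_add, res_add] at *
        rw [ha, hb]
      | smul c a ha =>
        simp only [map_smul, res_smul] at *
        rw [ha]
      | wedge u v =>
        rw [hf U V hU hV h u v, res_tau_wedge p q hU hV, LinearEquiv.symm_apply_apply])
  refine ⟨φ, fun U hU z => ?_⟩
  rw [hφ U hU]
  change f U hU ((tau p q A B hU).symm (tau p q A B hU z)) = _
  rw [LinearEquiv.symm_apply_apply]

/-- The maps `⋀ᵖ E' ⊗ ⋀^q E → ⋀ⁿ E`. -/
theorem exists_phi (a : A ⟶ B) {p q n : ℕ} (h : p + q = n) :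
    ∃ φ : CohB1.tensorMod (extPow p A) (extPow q B) ⟶ extPow n B,
      ∀ U (hU : IsAffineOpen U) z,
        φ.app U (tau p q A B hU z) = extEquiv n B hU (mu (appₗ a U) h z) := by
  refine exists_hom_tensor p q (fun U hU => (extEquiv n B hU).toLinearMap.comp (mu (appₗ a U) h))
    fun U V hU hV hVU u v => ?_
  change res _ hVU (extUnit n B U (mu (appₗ a U) h (ewedge p A u ⊗ₜ ewedge q B v))) =
    extUnit n B V (mu (appₗ a V) h _)
  rw [mu_wedge, mu_wedge]
  change res _ hVU (wedge n B _) = wedge n B _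
  rw [res_wedge]
  congr 1
  funext i
  obtain ⟨j, rfl⟩ := (finCongr h).surjective i
  simp only [finCongr_apply, Function.comp_apply, Fin.cast_cast, Fin.cast_eq_self]
  refine Fin.addCases (fun k => ?_) (fun k => ?_) j <;>
    simp [app_res]

variable {C : X.Modules} [C.IsQuasicoherent]

/-- The maps `⋀ᵖ E' ⊗ ⋀^q E → ⋀ᵖ E' ⊗ ⋀^q E''`. -/
theorem exists_piHom (b : B ⟶ C) (p q : ℕ) :
    ∃ π : CohB1.tensorMod (extPow p A) (extPow q B) ⟶ CohB1.tensorMod (extPow p A) (extPow q C),
      ∀ U (hU : IsAffineOpen U) z,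
        π.app U (tau p q A B hU z) = tau p q A C hU (pi (appₗ b U) z) := by
  refine exists_hom_tensor p q
    (fun U hU => (tau p q A C hU).toLinearMap.comp (pi (appₗ b U))) fun U V hU hV hVU u v => ?_
  change res _ hVU (tau p q A C hU (pi (appₗ b U) (ewedge p A u ⊗ₜ ewedge q B v))) =
    tau p q A C hV (pi (appₗ b V) _)
  rw [pi_tmul, pi_tmul, exteriorPower.map_apply_ιMulti, exteriorPower.map_apply_ιMulti]
  change res _ hVU (tau p q A C hU (ewedge p A u ⊗ₜ ewedge q C (appₗ b U ∘ v))) = _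
  rw [res_tau_wedge p q hU hV]
  congr 3
  funext j
  simp [app_res]

section Main

variable (S : ShortComplex X.Modules)

/-- The finite locally free modules. -/
local notation "VB" => (fun M : X.Modules => FlatMod.IsFinLocFree M)

theorem sections_exact {S : ShortComplex X.Modules} (hS : S.ShortExact)
    [S.X₁.IsQuasicoherent] [S.X₂.IsQuasicoherent] [S.X₃.IsQuasicoherent] {U : X.Opens}
    (hU : IsAffineOpen U) :
    Function.Injective (appₗ S.f U) ∧ Function.Exact (appₗ S.f U) (appₗ S.g U) ∧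
      Function.Surjective (appₗ S.g U) := by
  have := hS.mono_f
  have := hS.epi_g
  refine ⟨Groth.QCohMod.app_injective_of_mono S.f U, fun x => ⟨fun hx => ?_, ?_⟩,
    Groth.QCohMod.app_surjective_of_epi S.g hU⟩
  · exact Groth.QCohMod.exists_app_eq_of_exact hS.exact hU x hx
  · rintro ⟨y, rfl⟩
    exact congr($(congrArg (fun φ : S.X₁ ⟶ S.X₃ => φ.app U) S.zero) y)

/-- The class of the step `F_p` of the filtration. -/
theorem exists_step (hS : S.ShortExact) (h₁ : FlatMod.IsFinLocFree S.X₁)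
    (h₂ : FlatMod.IsFinLocFree S.X₂) (h₃ : FlatMod.IsFinLocFree S.X₃) (n : ℕ) :
    ∀ (q p : ℕ) (_ : p + q = n), ∃ (F : X.Modules) (m : F ⟶ extPow n S.X₂), Mono m ∧
      FlatMod.IsFinLocFree F ∧
      (∀ [S.X₁.IsQuasicoherent] [S.X₂.IsQuasicoherent] (U : X.Opens) (hU : IsAffineOpen U) y,
        y ∈ Set.range (m.app U) ↔
          ∃ z, extEquiv n S.X₂ hU (mu (appₗ S.f U) ‹p + q = n› z) = y) ∧
      KZero.clSub VB F = ∑ j ∈ Finset.range (q + 1),
        KZero.clSub VB (CohB1.tensorMod (extPow (p + j) S.X₁) (extPow (q - j) S.X₃)) := by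
  have := LocFree.isQCoh h₁
  have := LocFree.isQCoh h₂
  have := LocFree.isQCoh h₃
  intro q
  induction q with
  | zero =>
    intro p h
    obtain ⟨φ, hφ⟩ := exists_phi S.f h
    obtain ⟨π, hπ⟩ := exists_piHom (A := S.X₁) S.g p 0
    have := isQCoh_extPow p S.X₁
    have := isQCoh_extPow 0 S.X₂
    have := isQCoh_extPow 0 S.X₃
    have hbij : ∀ U, IsAffineOpen U → Function.Bijective (π.app U) := fun U hU => by
      have := Groth.LocFree.projective_sections h₃ hU
      obtain ⟨hi, he, hs⟩ := sections_exact hS hU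
      refine ⟨(injective_iff_map_eq_zero (π.app U).hom).2 fun x hx => ?_, fun y => ?_⟩
      · obtain ⟨z, rfl⟩ := (tau p 0 S.X₁ S.X₂ hU).surjective x
        rw [hπ U hU] at hx
        rw [eq_zero_of_pi_eq_zero hi he hs ((tau p 0 S.X₁ S.X₃ hU).map_eq_zero_iff.1 hx), map_zero]
      · obtain ⟨z, rfl⟩ := (tau p 0 S.X₁ S.X₃ hU).surjective y
        obtain ⟨w, rfl⟩ := LinearMap.lTensor_surjective (ESec p S.X₁ U)
          (exteriorPower.map_surjective (n := 0) hs) z
        exact ⟨_, hπ U hU w⟩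
    have hφi : Mono φ := by
      refine (Preadditive.mono_iff_cancel_zero _).2 fun P k hk => hom_ext_affine fun U hU x => ?_
      have := Groth.LocFree.projective_sections h₃ hU
      obtain ⟨hi, he, hs⟩ := sections_exact hS hU
      obtain ⟨z, hz⟩ := (tau p 0 S.X₁ S.X₂ hU).surjective (k.app U x)
      have h0 : φ.app U (k.app U x) = 0 := congr($(congrArg (fun ψ : P ⟶ _ => ψ.app U) hk) x)
      rw [← hz, hφ U hU, LinearEquiv.map_eq_zero_iff] at h0
      have := eq_zero_of_pi_eq_zero hi he hs (pi_eq_zero_of_mu hi he hs h h0)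
      rw [← hz, this, map_zero]
      rfl
    have : IsIso π := isIso_of_small_affine π fun x W hx => by
      obtain ⟨_, ⟨V, hV, rfl⟩, hxV, hVW⟩ := X.isBasis_affineOpens.exists_subset_of_mem_open hx W.2
      exact ⟨V, hV, hxV, hVW, hbij V hV⟩
    have hT' := Groth.LocFree.isFinLocFree_tensorMod (isFinLocFree_extPow h₁ p)
      (isFinLocFree_extPow h₂ 0)
    refine ⟨_, φ, hφi, hT', fun U hU y => ⟨?_, ?_⟩, ?_⟩
    · rintro ⟨x, rfl⟩
      obtain ⟨z, rfl⟩ := (tau p 0 S.X₁ S.X₂ hU).surjective x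
      exact ⟨z, (hφ U hU z).symm⟩
    · rintro ⟨z, rfl⟩
      exact ⟨_, hφ U hU z⟩
    · rw [Finset.sum_range_one, Nat.sub_zero, add_zero]
      exact clSub_iso (P := VB) (asIso π) hT' (Groth.LocFree.isFinLocFree_tensorMod
        (isFinLocFree_extPow h₁ p) (isFinLocFree_extPow h₃ 0)) (isZero_zero _)
        (LocFree.isFinLocFree_zero (isZero_zero _))
  | succ q ih =>
    intro p h
    have h' : p + 1 + q = n := by omega
    obtain ⟨F', m', hm', hF', hrange', hcl'⟩ := ih (p + 1) h'
    obtain ⟨φ, hφ⟩ := exists_phi S.f h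
    obtain ⟨π, hπ⟩ := exists_piHom (A := S.X₁) S.g p (q + 1)
    have := isQCoh_extPow p S.X₁
    have := isQCoh_extPow (q + 1) S.X₂
    have := isQCoh_extPow (q + 1) S.X₃
    have := isQCoh_extPow n S.X₂
    have := Groth.QCohMod.isQCoh_tensorMod (M := extPow p S.X₁) (N := extPow (q + 1) S.X₂)
    have := Groth.QCohMod.isQCoh_tensorMod (M := extPow p S.X₁) (N := extPow (q + 1) S.X₃)
    let F := Abelian.image φ
    let e := Abelian.factorThruImage φ
    let m := Abelian.image.ι φ
    have hem : ∀ (U : X.Opens) w, m.app U (e.app U w) = φ.app U w := fun U w =>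
      congr($(congrArg (fun ψ : _ ⟶ extPow n S.X₂ => ψ.app U) (Abelian.image.fac φ)) w)
    have hke : kernel.ι e ≫ π = 0 := hom_ext_affine fun U hU x => by
      have := Groth.LocFree.projective_sections h₃ hU
      obtain ⟨hi, he, hs⟩ := sections_exact hS hU
      obtain ⟨z, hz⟩ := (tau p (q + 1) S.X₁ S.X₂ hU).surjective ((kernel.ι e).app U x)
      have h0 : φ.app U ((kernel.ι e).app U x) = 0 := by
        rw [← hem]
        have := congr($(congrArg (fun ψ : kernel e ⟶ F => ψ.app U) (kernel.condition e)) x)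
        exact (congrArg (m.app U) this).trans (map_zero _)
      rw [← hz, hφ U hU, LinearEquiv.map_eq_zero_iff] at h0
      change π.app U ((kernel.ι e).app U x) = 0
      rw [← hz, hπ U hU, pi_eq_zero_of_mu hi he hs h h0, map_zero]
    let γ : F ⟶ CohB1.tensorMod (extPow p S.X₁) (extPow (q + 1) S.X₃) :=
      Abelian.epiDesc e π hke
    have heγ : ∀ (U : X.Opens) w, γ.app U (e.app U w) = π.app U w := fun U w =>
      congr($(congrArg (fun ψ : CohB1.tensorMod (extPow p S.X₁) (extPow (q + 1) S.X₂) ⟶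
        CohB1.tensorMod (extPow p S.X₁) (extPow (q + 1) S.X₃) => ψ.app U)
        (Abelian.comp_epiDesc e π hke)) w)
    have hπsurj : ∀ U, IsAffineOpen U → Function.Surjective (π.app U) := fun U hU y => by
      obtain ⟨-, -, hs⟩ := sections_exact hS hU
      obtain ⟨z, rfl⟩ := (tau p (q + 1) S.X₁ S.X₃ hU).surjective y
      obtain ⟨w, rfl⟩ := LinearMap.lTensor_surjective (ESec p S.X₁ U)
        (exteriorPower.map_surjective (n := q + 1) hs) z
      exact ⟨_, hπ U hU w⟩
    have : Epi γ := Groth.QCohMod.epi_of_affine_surjective γ fun U hU y => by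
      obtain ⟨w, hw⟩ := hπsurj U hU y
      exact ⟨e.app U w, (heγ U w).trans hw⟩
    obtain ⟨ε⟩ := nonempty_iso_of_range_eq (kernel.ι γ ≫ m) m' fun U hU => by
      have := Groth.LocFree.projective_sections h₃ hU
      obtain ⟨hi, he, hs⟩ := sections_exact hS hU
      ext y
      constructor
      · rintro ⟨k, rfl⟩
        obtain ⟨w, hw⟩ := Groth.QCohMod.app_surjective_of_epi e hU ((kernel.ι γ).app U k)
        obtain ⟨z, rfl⟩ := (tau p (q + 1) S.X₁ S.X₂ hU).surjective w
        have h0 : γ.app U ((kernel.ι γ).app U k) = 0 :=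
          congr($(congrArg (fun ψ : kernel γ ⟶ _ => ψ.app U) (kernel.condition γ)) k)
        rw [← hw, heγ, hπ U hU, LinearEquiv.map_eq_zero_iff] at h0
        obtain ⟨z', hz'⟩ := mu_mem_range_succ hi he hs h h' h0
        refine (hrange' U hU _).2 ⟨z', ?_⟩
        change _ = m.app U ((kernel.ι γ).app U k)
        rw [← hw, hem, hφ U hU, hz']
      · intro hy
        obtain ⟨z', rfl⟩ := (hrange' U hU y).1 hy
        obtain ⟨z, hz, hz'⟩ := exists_pi_eq_zero_mu_eq he h h' z'
        have h0 : γ.app U (e.app U (tau p (q + 1) S.X₁ S.X₂ hU z)) = 0 := by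
          rw [heγ, hπ U hU, hz, map_zero]
        obtain ⟨k, hk⟩ := Groth.QCohMod.exists_app_eq_of_mono_exact
          (S := ShortComplex.mk _ _ (kernel.condition γ))
          (ShortComplex.exact_of_f_is_kernel _ (kernelIsKernel γ)) U _ h0
        refine ⟨k, ?_⟩
        change m.app U ((kernel.ι γ).app U k) = _
        rw [show (kernel.ι γ).app U k = _ from hk, hem, hφ U hU, hz']
    have hK : FlatMod.IsFinLocFree (kernel γ) := LocFree.isFinLocFree_of_iso ε.symm hF'
    have hT := Groth.LocFree.isFinLocFree_tensorMod (isFinLocFree_extPow h₁ p)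
      (isFinLocFree_extPow h₃ (q + 1))
    have hses : (ShortComplex.mk (kernel.ι γ) γ (kernel.condition γ)).ShortExact :=
      { exact := ShortComplex.exact_of_f_is_kernel _ (kernelIsKernel γ) }
    have hF : FlatMod.IsFinLocFree F := LocFree.isFinLocFree_of_shortExact hses hK hT
    refine ⟨F, m, inferInstance, hF, fun U hU y => ⟨?_, ?_⟩, ?_⟩
    · rintro ⟨x, rfl⟩
      obtain ⟨w, rfl⟩ := Groth.QCohMod.app_surjective_of_epi e hU x
      obtain ⟨z, rfl⟩ := (tau p (q + 1) S.X₁ S.X₂ hU).surjective w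
      exact ⟨z, by rw [hem, hφ U hU]⟩
    · rintro ⟨z, rfl⟩
      exact ⟨e.app U (tau p (q + 1) S.X₁ S.X₂ hU z), by rw [hem, hφ U hU]⟩
    · rw [clSub_rel (P := VB) _ hses hK hF hT,
        clSub_iso (P := VB) ε hK hF' (isZero_zero _) (LocFree.isFinLocFree_zero (isZero_zero _)),
        hcl', Finset.sum_range_succ' (fun j => KZero.clSub VB (CohB1.tensorMod
          (extPow (p + j) S.X₁) (extPow (q + 1 - j) S.X₃))) (q + 1), add_zero, Nat.sub_zero]
      congr 1
      refine Finset.sum_congr rfl fun j _ => ?_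
      rw [show p + 1 + j = p + (j + 1) by omega, show q + 1 - (j + 1) = q - j by omega]

/-- The class of an exterior power of an extension. -/
theorem clSub_extPow_extension (hS : S.ShortExact) (h₁ : FlatMod.IsFinLocFree S.X₁)
    (h₂ : FlatMod.IsFinLocFree S.X₂) (h₃ : FlatMod.IsFinLocFree S.X₃) (n : ℕ) :
    KZero.clSub VB (extPow n S.X₂) = ∑ j ∈ Finset.range (n + 1),
      KZero.clSub VB (CohB1.tensorMod (extPow j S.X₁) (extPow (n - j) S.X₃)) := by
  have := LocFree.isQCoh h₁
  have := LocFree.isQCoh h₂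
  obtain ⟨F, m, hm, hF, hr, hcl⟩ := exists_step S hS h₁ h₂ h₃ n n 0 (zero_add n)
  have : IsIso m := isIso_of_small_affine m fun x W hx => by
    obtain ⟨_, ⟨V, hV, rfl⟩, hxV, hVW⟩ := X.isBasis_affineOpens.exists_subset_of_mem_open hx W.2
    refine ⟨V, hV, hxV, hVW, Groth.QCohMod.app_injective_of_mono m V, fun y => ?_⟩
    obtain ⟨y', rfl⟩ := (extEquiv n S.X₂ hV).surjective y
    obtain ⟨z, rfl⟩ := mu_surjective (f := appₗ S.f V) (zero_add n) y'
    exact (hr V hV _).2 ⟨z, rfl⟩
  rw [← clSub_iso (P := VB) (asIso m) hF (isFinLocFree_extPow h₂ n) (isZero_zero _)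
    (LocFree.isFinLocFree_zero (isZero_zero _)), hcl]
  simp only [zero_add]

end Main

end Groth.KTheory.ExtFilt
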