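import Groth.Agent.CohTwo.PushClosed
import Groth.Agent.KTheory.Devissage
import Groth.Prelude.Def_ChowK

/-!
# The structure sheaf of the reduced closure of a point
-/

set_option autoImplicit false
universe u

open CategoryTheory CategoryTheory.Limits AlgebraicGeometry TopologicalSpace

namespace Groth.KTheory.Devissage

open Groth.CohTwo

variable {X : Scheme.{u}} [IsLocallyNoetherian X] (x : X)

theorem isCoh_closureStructureSheaf : Coh.IsCoh (Cyc.closureStructureSheaf x) := by
  have : IsLocallyNoetherian (IntMult.ptIdeal x).subscheme :=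
    LocallyOfFiniteType.isLocallyNoetherian (IntMult.ptIdeal x).subschemeι
  exact isCoh_push _ Groth.QCohMod.isCoh_unit

theorem support_closureStructureSheaf_subset :
    CohB1.support (Cyc.closureStructureSheaf x) ⊆ closure {x} :=
  (support_push_subset _ _).trans
    (Groth.PropsBasic2.range_vanishingIdeal_subschemeι ⟨closure {x}, isClosed_closure⟩).subset

theorem exists_germ_eq_of_affine (M : X.Modules) {V : X.Opens} (hV : IsAffineOpen V) (hx : x ∈ V)
    [M.IsQuasicoherent] (e : Γ(M, V)) (hgen : ∀ m : Γ(M, V), ∃ r : Γ(X, V), m = r • e)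
    (t : M.presheaf.stalk x) :
    ∃ a : X.presheaf.stalk x, t = a • Groth.QCohMod.germ M x hx e := by
  obtain ⟨s, m, hs, hm⟩ := Groth.QCohMod.exists_smul_germ_eq M hV x hx t
  obtain ⟨r, rfl⟩ := hgen m
  have hu : IsUnit (X.presheaf.germ V x hx s) := (Scheme.mem_basicOpen X s x hx).mp hs
  refine ⟨↑hu.unit⁻¹ * X.presheaf.germ V x hx r, ?_⟩
  rw [mul_smul, ← Groth.QCohMod.germ_smul, ← hm, smul_smul, IsUnit.val_inv_mul, one_smul]

theorem length_closureStructureSheaf :
    Module.length (X.presheaf.stalk x) ((Cyc.closureStructureSheaf x).presheaf.stalk x) = 1 := by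
  let I := IntMult.ptIdeal x
  let i := I.subschemeι
  have : IsIntegral I.subscheme := isIntegral_closure_subscheme (ξ := x) rfl
  have : ((Scheme.Modules.pushforward I.subschemeι).obj (Coh.structureModule _)).IsQuasicoherent :=
    (isCoh_closureStructureSheaf x).1
  have := (isCoh_closureStructureSheaf x).1
  obtain ⟨V, hV, hx⟩ := Groth.QCohMod.exists_affine_mem x
  let M := Cyc.closureStructureSheaf x
  let e : Γ(M, V) := show Γ(I.subscheme, i ⁻¹ᵁ V) from 1
  have hgen : ∀ m : Γ(M, V), ∃ r : Γ(X, V), m = r • e := fun m => by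
    obtain ⟨r, hr⟩ := i.app_surjective V hV (show Γ(I.subscheme, i ⁻¹ᵁ V) from m)
    refine ⟨r, ?_⟩
    change (show Γ(I.subscheme, i ⁻¹ᵁ V) from m) = i.app V r * 1
    rw [mul_one]; exact hr.symm
  let f := LinearMap.toSpanSingleton (X.presheaf.stalk x) (M.presheaf.stalk x)
    (Groth.QCohMod.germ M x hx e)
  have hsurj : Function.Surjective f := fun t => by
    obtain ⟨a, ha⟩ := exists_germ_eq_of_affine x M hV hx e hgen t
    exact ⟨a, ha.symm⟩
  have hkill : IsLocalRing.maximalIdeal (X.presheaf.stalk x) ≤ LinearMap.ker f := fun a ha =>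
    (killed_push_subschemeι I (Coh.structureModule _)).stalk_maximalIdeal (ξ := x)
      (Y := ⟨closure {x}, isClosed_closure⟩) rfl a ha _
  have hne : LinearMap.ker f ≠ ⊤ := by
    intro h
    obtain ⟨z, hz⟩ : x ∈ Set.range i :=
      (Groth.PropsBasic2.range_vanishingIdeal_subschemeι ⟨closure {x}, isClosed_closure⟩).ge (subset_closure rfl)
    have hzV : i z ∈ V := hz.symm ▸ hx
    have h0 : Groth.QCohMod.germ M x hx e = 0 := by
      have : (1 : X.presheaf.stalk x) ∈ LinearMap.ker f := h ▸ trivial
      simpa [f] using this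
    have h1 : Groth.QCohMod.germ M (i z) hzV e = 0 := by
      have key : ∀ (w : X) (hw : w ∈ V), w = x → Groth.QCohMod.germ M w hw e = 0 := by
        rintro w hw rfl; exact h0
      exact key _ hzV hz
    have h2 := (pushStalk_germ i (Coh.structureModule _) z hzV e).symm.trans
      ((congrArg (pushStalk i (Coh.structureModule _) z) h1).trans (map_zero _))
    refine one_ne_zero (α := I.subscheme.presheaf.stalk z) ((bijective_toSpanSingleton_one z).1 ?_)
    rw [LinearMap.toSpanSingleton_apply, one_smul, map_zero, ← h2]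
    refine (stalk_germ_res (Coh.structureModule I.subscheme) z (le_top : i ⁻¹ᵁ V ≤ ⊤) hzV _).symm.trans ?_
    congr 1
    exact map_one (resR I.subscheme (le_top : i ⁻¹ᵁ V ≤ ⊤))
  have hker : LinearMap.ker f = IsLocalRing.maximalIdeal _ :=
    ((IsLocalRing.maximalIdeal.isMaximal _).eq_of_le hne hkill).symm
  rw [← (f.quotKerEquivOfSurjective hsurj).length_eq, hker, Module.length_eq_one_iff]
  exact isSimpleModule_iff_quot_maximal.mpr ⟨_, inferInstance, ⟨LinearEquiv.refl _ _⟩⟩

end Groth.KTheory.Devissage
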