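import Groth.Agent.KTheory.Perf
import Groth.Agent.KTheory.CohProps

/-!
# Cohomology of perfect objects
-/

set_option autoImplicit false
universe u

open CategoryTheory CategoryTheory.Limits CategoryTheory.Pretriangulated AlgebraicGeometry
  TopologicalSpace

namespace Groth.KTheory.Perf

attribute [local instance] HasDerivedCategory.standard

variable {X U : Scheme.{u}}

/-- Cohomology sheaves commute with restriction. -/
theorem nonempty_hdRd (j : U ⟶ X) [IsOpenImmersion j] (K : DCoh.D X) (i : ℤ) :
    Nonempty (DCoh.HD ((Rd j).obj K) i ≅ (Scheme.Modules.restrictFunctor j).obj (DCoh.HD K i)) := by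
  obtain ⟨F, ⟨e⟩⟩ := exists_rep K
  let R := Scheme.Modules.restrictFunctor j
  let H := DerivedCategory.homologyFunctor U.Modules i
  let H' := DerivedCategory.homologyFunctor X.Modules i
  exact ⟨H.mapIso ((Rd j).mapIso e.symm ≪≫ rdQIso j F) ≪≫
    (DerivedCategory.homologyFunctorFactors U.Modules i).app _ ≪≫ (F.sc i).mapHomologyIso R ≪≫
    R.mapIso (((DerivedCategory.homologyFunctorFactors X.Modules i).app F).symm ≪≫ H'.mapIso e)⟩

/-- A module is zero if it is so near every point. -/
theorem isZero_of_local {M : X.Modules}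
    (h : ∀ x : X, ∃ V : X.Opens, x ∈ V ∧ IsZero (M.restrict V.ι)) : IsZero M := by
  rw [Groth.QCohMod.isZero_iff_stalk]
  intro x
  obtain ⟨V, hx, hV⟩ := h x
  exact ((Groth.QCohMod.stalk (X := (V : Scheme.{u})) ⟨x, hx⟩).map_isZero hV).of_iso
    ((Scheme.Modules.restrictStalkNatIso V.ι ⟨x, hx⟩).app M).symm

theorem finite_of_restrict (M : X.Modules) (j : U ⟶ X) [IsOpenImmersion j] (W : U.Opens)
    (h : Module.Finite Γ(U, W) Γ(M.restrict j, W)) :
    Module.Finite Γ(X, j ''ᵁ W) Γ(M, j ''ᵁ W) := by
  classical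
  obtain ⟨s, hs⟩ := h.fg_top
  let e := M.restrictAppIso j W
  refine ⟨⟨s.image fun y => e.hom y, eq_top_iff.mpr fun x _ => ?_⟩⟩
  rw [← Iso.inv_hom_id_apply e x]
  have hy : e.inv x ∈ Submodule.span Γ(U, W) (s : Set Γ(M.restrict j, W)) := hs.ge trivial
  generalize e.inv x = y at hy
  induction hy using Submodule.span_induction with
  | mem m hm => exact Submodule.subset_span (by simpa using ⟨m, hm, rfl⟩)
  | zero => rw [map_zero]; exact Submodule.zero_mem _
  | add y z _ _ h₁ h₂ => rw [map_add]; exact Submodule.add_mem _ h₁ h₂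
  | smul r y _ h =>
    have : r • y = e.inv ((j.appIso W).inv r • e.hom y) := by
      rw [Scheme.Modules.smul_restrictAppIso_inv_apply, Iso.inv_hom_id_apply,
        Iso.hom_inv_id_apply]
    rw [this, Iso.inv_hom_id_apply]
    exact Submodule.smul_mem _ _ h

/-- Coherence is local. -/
theorem isCoh_of_local {M : X.Modules}
    (h : ∀ x : X, ∃ V : X.Opens, x ∈ V ∧ Coh.IsCoh (M.restrict V.ι)) : Coh.IsCoh M := by
  have hq : M.IsQuasicoherent := Groth.QCohMod.isQCoh_of_forall_exists M fun x => by
    obtain ⟨V, hx, hV⟩ := h x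
    exact ⟨V, hx, hV.1⟩
  refine ⟨hq, Groth.QCohMod.isFT_of_affine_cover M fun x => ?_⟩
  obtain ⟨V, hx, hV⟩ := h x
  obtain ⟨W, hW, hxW, -⟩ := (V : Scheme.{u}).isBasis_affineOpens.exists_subset_of_mem_open
    (Set.mem_univ (⟨x, hx⟩ : V)) isOpen_univ
  obtain ⟨W, hWa, rfl⟩ := hW
  refine ⟨V.ι ''ᵁ W, hWa.image_of_isOpenImmersion _, ⟨⟨x, hx⟩, hxW, rfl⟩, ?_⟩
  exact finite_of_restrict M V.ι W (((Groth.QCohMod.isCoh_iff _).1 hV).2 W hWa)

theorem isCoh_homology [IsLocallyNoetherian X] {E : CochainComplex X.Modules ℤ}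
    (h : ∀ i, Coh.IsCoh (E.X i)) (i : ℤ) : Coh.IsCoh (E.homology i) := by
  let S := E.sc i
  have := (h i).1
  have : (S.X₃).IsQuasicoherent := (h _).1
  have : (S.X₁).IsQuasicoherent := (h _).1
  have hK : Coh.IsCoh (kernel S.g) := Groth.QCohMod.isCoh_kernel S.g (h i)
  exact Groth.QCohMod.isCoh_of_iso (S.homologyIsoCokernelLift).symm
    (Groth.QCohMod.isCoh_cokernel _ hK)

theorem isCoh_hd_of_isPerfect [IsLocallyNoetherian X] {K : DCoh.D X} (hK : DCoh.IsPerfect K)
    (i : ℤ) : Coh.IsCoh (DCoh.HD K i) := by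
  refine isCoh_of_local fun x => ?_
  obtain ⟨V, hx, E, hE, ⟨e⟩⟩ := (isPerfect_iff K).1 hK x
  obtain ⟨c⟩ := nonempty_hdRd V.ι K i
  exact ⟨V, hx, Groth.QCohMod.isCoh_of_iso
    (((DerivedCategory.homologyFunctorFactors _ i).app E).symm ≪≫
      (DerivedCategory.homologyFunctor _ i).mapIso e.symm ≪≫ c)
    (isCoh_homology (fun k => LocFree.isCoh (hE.2 k)) i)⟩

theorem exists_bounds_of_isPerfect [CompactSpace X] {K : DCoh.D X} (hK : DCoh.IsPerfect K) :
    ∃ a b : ℤ, K.IsGE a ∧ K.IsLE b := by
  choose V hxV E hE e using (isPerfect_iff K).1 hK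
  choose a b hab using fun x => (hE x).1
  obtain ⟨t, ht⟩ := isCompact_univ.elim_finite_subcover (fun x => (V x : Set X))
    (fun x => (V x).2) (fun x _ => Set.mem_iUnion.2 ⟨x, hxV x⟩)
  have key : ∀ i : ℤ, (∀ x ∈ t, i < a x ∨ b x < i) → IsZero (DCoh.HD K i) := by
    intro i hi
    refine isZero_of_local fun y => ?_
    obtain ⟨x, hxt, hy⟩ := Set.mem_iUnion₂.1 (ht (Set.mem_univ y))
    obtain ⟨c⟩ := nonempty_hdRd (V x).ι K i
    obtain ⟨e⟩ := e x
    exact ⟨V x, hy, ((HomologicalComplex.exactAt_iff_isZero_homology _ _).1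
      (HomologicalComplex.ExactAt.of_isZero (hab x i (hi x hxt)))).of_iso
      (c.symm ≪≫ (DerivedCategory.homologyFunctor _ i).mapIso e ≪≫
        (DerivedCategory.homologyFunctorFactors _ i).app _)⟩
  rcases t.eq_empty_or_nonempty with rfl | hne
  · refine ⟨0, 0, ?_, ?_⟩
    · rw [DerivedCategory.isGE_iff]; exact fun i _ => key i (by simp)
    · rw [DerivedCategory.isLE_iff]; exact fun i _ => key i (by simp)
  · refine ⟨t.inf' hne a, t.sup' hne b, ?_, ?_⟩
    · rw [DerivedCategory.isGE_iff]
      exact fun i hi => key i fun x hx => Or.inl (lt_of_lt_of_le hi (Finset.inf'_le _ hx))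
    · rw [DerivedCategory.isLE_iff]
      exact fun i hi => key i fun x hx => Or.inr (lt_of_le_of_lt (Finset.le_sup' _ hx) hi)

/-- A module which is perfect near every point is perfect. -/
theorem perfOn_inD_of_finLocFree {M : X.Modules} {V : X.Opens}
    (h : FlatMod.IsFinLocFree (M.restrict V.ι)) : PerfOn (DCoh.inD X M) V := by
  refine ⟨(CochainComplex.singleFunctor (V : Scheme.{u}).Modules 0).obj (M.restrict V.ι), ?_,
    ⟨((Scheme.Modules.restrictFunctor V.ι).mapDerivedCategorySingleFunctor 0).app M ≪≫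
      (DerivedCategory.singleFunctorIsoCompQ _ 0).app _⟩⟩
  refine ⟨⟨0, 0, fun i hi => HomologicalComplex.isZero_single_obj_X _ _ _ _ (by omega)⟩,
    fun i => ?_⟩
  rcases eq_or_ne i 0 with rfl | hi
  · exact LocFree.isFinLocFree_of_iso (HomologicalComplex.singleObjXSelf _ 0 _).symm h
  · exact LocFree.isFinLocFree_zero (HomologicalComplex.isZero_single_obj_X _ _ _ _ hi)

theorem isPerfect_inD_of_finLocFree {M : X.Modules} (h : FlatMod.IsFinLocFree M) :
    DCoh.IsPerfect (DCoh.inD X M) :=
  (isPerfect_iff _).2 fun x =>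
    ⟨⊤, trivial, perfOn_inD_of_finLocFree (Groth.LocFree.isFinLocFree_restrict _ h)⟩

theorem isPerfect_of_isZero {K : DCoh.D X} (hK : IsZero K) : DCoh.IsPerfect K :=
  isPerfect_of_iso ((((DerivedCategory.singleFunctor X.Modules 0).map_isZero
    (isZero_zero X.Modules))).iso hK) (isPerfect_inD_of_finLocFree
      (LocFree.isFinLocFree_zero (isZero_zero X.Modules)))

theorem isPerfect_single {M : X.Modules} (h : DCoh.IsPerfect (DCoh.inD X M)) (n : ℤ) :
    DCoh.IsPerfect ((DerivedCategory.singleFunctor X.Modules n).obj M) :=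
  isPerfect_of_iso (((SingleFunctors.shiftIso (DerivedCategory.singleFunctors X.Modules) (-n) n 0
    (by simp)).app M)) (isPerfect_shift h (-n))

/-- A bounded object with perfect cohomology sheaves is perfect. -/
theorem isPerfect_of_hd (K : DCoh.D X) (a b : ℤ) (ha : K.IsGE a) (hb : K.IsLE b)
    (h : ∀ i : ℤ, DCoh.IsPerfect (DCoh.inD X (DCoh.HD K i))) : DCoh.IsPerfect K := by
  obtain ⟨n, hn⟩ : ∃ n : ℕ, b - a < n := ⟨(b - a + 1).toNat, by omega⟩
  induction n generalizing K b with
  | zero =>
    refine isPerfect_of_isZero ?_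
    rw [IsZero.iff_id_eq_zero]
    exact DerivedCategory.TStructure.t.zero (𝟙 K) b a (by omega)
  | succ n ih =>
    obtain ⟨A, B, hA, hB, f, g, d, hT⟩ :=
      DerivedCategory.TStructure.t.exists_triangle K (b - 1) b (by omega)
    have : DerivedCategory.TStructure.t.IsLE A (b - 1) := ⟨hA⟩
    have : DerivedCategory.TStructure.t.IsGE B b := ⟨hB⟩
    let T := Triangle.mk f g d
    change T ∈ _ at hT
    have isoA : ∀ i : ℤ, i ≤ b - 1 →
        IsIso ((DerivedCategory.homologyFunctor X.Modules i).map f) := fun i hi => by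
      have : Mono ((DerivedCategory.homologyFunctor X.Modules i).map T.mor₁) := by
        rw [DerivedCategory.HomologySequence.mono_homologyMap_mor₁_iff T hT (i - 1) i (by omega)]
        exact (DerivedCategory.isZero_of_isGE B b (i - 1) (by omega)).eq_of_src _ _
      have : Epi ((DerivedCategory.homologyFunctor X.Modules i).map T.mor₁) := by
        rw [DerivedCategory.HomologySequence.epi_homologyMap_mor₁_iff T hT i]
        exact (DerivedCategory.isZero_of_isGE B b i (by omega)).eq_of_tgt _ _
      exact isIso_of_mono_of_epi ((DerivedCategory.homologyFunctor X.Modules i).map T.mor₁)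
    have isoB : ∀ i : ℤ, b ≤ i →
        IsIso ((DerivedCategory.homologyFunctor X.Modules i).map g) := fun i hi => by
      have : Mono ((DerivedCategory.homologyFunctor X.Modules i).map T.mor₂) := by
        rw [DerivedCategory.HomologySequence.mono_homologyMap_mor₂_iff T hT i]
        exact (DerivedCategory.isZero_of_isLE A (b - 1) i (by omega)).eq_of_src _ _
      have : Epi ((DerivedCategory.homologyFunctor X.Modules i).map T.mor₂) := by
        rw [DerivedCategory.HomologySequence.epi_homologyMap_mor₂_iff T hT i (i + 1) rfl]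
        exact (DerivedCategory.isZero_of_isLE A (b - 1) (i + 1) (by omega)).eq_of_tgt _ _
      exact isIso_of_mono_of_epi ((DerivedCategory.homologyFunctor X.Modules i).map T.mor₂)
    have hcA : ∀ i, DCoh.IsPerfect (DCoh.inD X (DCoh.HD A i)) := fun i => by
      by_cases h' : i ≤ b - 1
      · have := isoA i h'
        exact isPerfect_of_iso ((DerivedCategory.singleFunctor X.Modules 0).mapIso
          (asIso ((DerivedCategory.homologyFunctor X.Modules i).map f)).symm) (h i)
      · exact isPerfect_of_isZero ((DerivedCategory.singleFunctor X.Modules 0).map_isZero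
          (DerivedCategory.isZero_of_isLE A (b - 1) i (by omega)))
    have haA : A.IsGE a := by
      rw [DerivedCategory.isGE_iff]
      intro i hi
      by_cases h' : i ≤ b - 1
      · have := isoA i h'
        exact (DerivedCategory.isZero_of_isGE K a i hi).of_iso
          (asIso ((DerivedCategory.homologyFunctor X.Modules i).map f))
      · exact DerivedCategory.isZero_of_isLE A (b - 1) i (by omega)
    have hbB : B.IsLE b := by
      rw [DerivedCategory.isLE_iff]
      intro i hi
      have := isoB i (by omega)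
      exact (DerivedCategory.isZero_of_isLE K b i hi).of_iso
        (asIso ((DerivedCategory.homologyFunctor X.Modules i).map g)).symm
    obtain ⟨Z, ⟨e⟩⟩ := B.exists_iso_singleFunctor_obj_of_isGE_of_isLE b
    have := isoB b le_rfl
    have hZ : DCoh.IsPerfect (DCoh.inD X Z) :=
      isPerfect_of_iso ((DerivedCategory.singleFunctor X.Modules 0).mapIso
        (asIso ((DerivedCategory.homologyFunctor X.Modules b).map g) ≪≫
          (DerivedCategory.homologyFunctor X.Modules b).mapIso e ≪≫
            (DerivedCategory.singleFunctorCompHomologyFunctorIso X.Modules b).app Z)) (h b)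
    exact isPerfect_obj₂ T hT
      (ih A (b - 1) haA inferInstance hcA (by omega))
      (isPerfect_of_iso e.symm (isPerfect_single hZ b))

end Groth.KTheory.Perf
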