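import Groth.Agent.KTheory.LambdaVb
import Groth.Agent.LocFree.ExtPullback
import Groth.Agent.OmegaSheaf.ExactLocal
import Groth.Prelude.Def_KRR

/-!
# Pullback on `K₀` of finite locally free modules
-/

set_option autoImplicit false
universe u

open CategoryTheory CategoryTheory.Limits AlgebraicGeometry

namespace Groth.KTheory.KvbPull

open Groth.LocFree Groth.PicAux LambdaVb
open Groth.QCohMod (appₗ)

variable {X Y : Scheme.{u}} (f : Y ⟶ X)

/-- On affines, pullback keeps injectivity of linearly split maps. -/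
theorem pullback_app_injective {M N : X.Modules} [M.IsQuasicoherent] (φ : M ⟶ N)
    {U : X.Opens} {V : Y.Opens} (e : V ≤ f ⁻¹ᵁ U) (hU : IsAffineOpen U) (hV : IsAffineOpen V)
    [N.IsQuasicoherent] (r : Γ(N, U) →ₗ[Γ(X, U)] Γ(M, U)) (hr : r ∘ₗ appₗ φ U = LinearMap.id) :
    Function.Injective (((Scheme.Modules.pullback f).map φ).app V) := by
  let _ := Groth.QCohMod.sectionsAlg f e
  let _ : Module Γ(X, U) Γ((Scheme.Modules.pullback f).obj M, V) :=
    Module.compHom _ (f.appLE U V e).hom
  let _ : Module Γ(X, U) Γ((Scheme.Modules.pullback f).obj N, V) :=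
    Module.compHom _ (f.appLE U V e).hom
  have : IsScalarTower Γ(X, U) Γ(Y, V) Γ((Scheme.Modules.pullback f).obj M, V) :=
    IsScalarTower.of_algebraMap_smul fun _ _ => rfl
  have : IsScalarTower Γ(X, U) Γ(Y, V) Γ((Scheme.Modules.pullback f).obj N, V) :=
    IsScalarTower.of_algebraMap_smul fun _ _ => rfl
  have hM := isBaseChange_pullSecₗ f M e hU hV
  have hN := isBaseChange_pullSecₗ f N e hU hV
  let φ' := appₗ ((Scheme.Modules.pullback f).map φ) V
  let r' : Γ((Scheme.Modules.pullback f).obj N, V) →ₗ[Γ(Y, V)]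
      Γ((Scheme.Modules.pullback f).obj M, V) := hN.lift (pullSecₗ f M e ∘ₗ r)
  have h : r' ∘ₗ φ' = LinearMap.id := hM.algHom_ext _ _ fun m => by
    have hnat : φ' (pullSecₗ f M e m) = pullSecₗ f N e (φ.app U m) := by
      change ((Scheme.Modules.pullback f).map φ).app V (res _ e (pullSec f M m)) =
        res _ e (pullSec f N (φ.app U m))
      rw [← pullSec_map, app_res]
    simp only [LinearMap.coe_comp, Function.comp_apply, LinearMap.id_apply, hnat, r',
      IsBaseChange.lift_eq]
    exact congrArg (pullSecₗ f M e) (LinearMap.congr_fun hr m)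
  exact Function.HasLeftInverse.injective ⟨r', LinearMap.congr_fun h⟩

theorem shortExact_pullback {S : ShortComplex X.Modules} (hS : S.ShortExact)
    (h₁ : FlatMod.IsFinLocFree S.X₁) (h₂ : FlatMod.IsFinLocFree S.X₂)
    (h₃ : FlatMod.IsFinLocFree S.X₃) :
    (S.map (Scheme.Modules.pullback f)).ShortExact := by
  have := KTheory.LocFree.isQCoh h₁
  have := KTheory.LocFree.isQCoh h₂
  have := KTheory.LocFree.isQCoh h₃
  have := KTheory.LocFree.isQCoh (Groth.LocFree.isFinLocFree_pullback f h₁)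
  have := KTheory.LocFree.isQCoh (Groth.LocFree.isFinLocFree_pullback f h₂)
  have := hS.epi_g
  have : PreservesColimitsOfSize.{0, 0} (Scheme.Modules.pullback f) :=
    (Scheme.Modules.pullbackPushforwardAdjunction f).leftAdjoint_preservesColimits
  refine { exact := hS.exact.map_of_epi_of_preservesCokernel _ inferInstance inferInstance
           mono_f := ?_
           epi_g := (Scheme.Modules.pullback f).map_epi S.g }
  refine Groth.OmegaSheaf.mono_of_affine_cover ((Scheme.Modules.pullback f).map S.f) fun y => ?_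
  obtain ⟨U, hU, hyU⟩ := Groth.QCohMod.exists_affine_mem (f.base y)
  obtain ⟨_, ⟨V, hV, rfl⟩, hyV, hVU⟩ :=
    Y.isBasis_affineOpens.exists_subset_of_mem_open (show y ∈ f ⁻¹ᵁ U from hyU) (f ⁻¹ᵁ U).2
  refine ⟨V, hV, hyV, ?_⟩
  obtain ⟨hinj, hex, hsurj⟩ := ExtFilt.sections_exact hS hU
  have := Groth.LocFree.projective_sections h₃ hU
  obtain ⟨l, hl⟩ := Module.projective_lifting_property (appₗ S.g U) LinearMap.id hsurj
  obtain ⟨e, he, -⟩ := hex.splitSurjectiveEquiv hinj ⟨l, hl⟩
  refine pullback_app_injective f S.f hVU hU hV (LinearMap.fst _ _ _ ∘ₗ e.toLinearMap) ?_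
  ext m
  simp [he]

/-- `f^*` on `K₀` of bundles. -/
noncomputable def pullHom : SGA6.Kvb X →+ SGA6.Kvb Y :=
  liftSub (fun M : X.Modules => FlatMod.IsFinLocFree M)
    (fun M => kcl ((Scheme.Modules.pullback f).obj M))
    fun _ hS h₁ h₂ h₃ => clSub_rel (P := fun M : Y.Modules => FlatMod.IsFinLocFree M) _
      (shortExact_pullback f hS h₁ h₂ h₃) (Groth.LocFree.isFinLocFree_pullback f h₁)
      (Groth.LocFree.isFinLocFree_pullback f h₂) (Groth.LocFree.isFinLocFree_pullback f h₃)

theorem pullHom_kcl {E : X.Modules} (h : FlatMod.IsFinLocFree E) :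
    pullHom f (kcl E) = kcl ((Scheme.Modules.pullback f).obj E) :=
  liftSub_clSub _ _ h

theorem existsUnique_isPull {KX KY : Type*} [CommRing KX] [CommRing KY]
    (φY : SGA6.Kvb Y →+ KY) (φX : SGA6.Kvb X →+ KX) (hX : Function.Bijective φX) :
    ∃! g : KX →+ KY, KRR.IsPull f φX φY g := by
  let ψ := AddEquiv.ofBijective φX hX
  refine ⟨φY.comp ((pullHom f).comp ψ.symm.toAddMonoidHom), fun E hE => ?_, fun g hg => ?_⟩
  · change φY (pullHom f (ψ.symm (ψ (kcl E)))) = _
    rw [ψ.symm_apply_apply, pullHom_kcl f hE]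
  · ext k
    obtain ⟨x, rfl⟩ := hX.2 k
    change g (φX x) = φY (pullHom f (ψ.symm (ψ x)))
    rw [ψ.symm_apply_apply]
    suffices h : g.comp φX = φY.comp (pullHom f) from congr($h x)
    refine k0sub_hom_ext fun E hE => ?_
    change g (φX (kcl E)) = φY (pullHom f (kcl E))
    rw [pullHom_kcl f hE]
    exact hg E hE

end Groth.KTheory.KvbPull
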