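import Groth.Agent.KTheory.LambdaVb
import Groth.Agent.KTheory.PerfCoh
import Groth.Agent.LocFree.SES
import Groth.Agent.LocFree.Tensor
import Groth.Agent.PicAux.Powers
import Groth.Prelude.Def_KRR

/-!
# The λ-ring `K(X)` with its positive structure
-/

set_option autoImplicit false
universe u

open CategoryTheory CategoryTheory.Limits AlgebraicGeometry

namespace Groth.KTheory.KvbModel

open Groth.LocFree LambdaVb Groth.PicAux

variable {X : Scheme.{u}} {E F : X.Modules}

theorem isLocallyConstant_finrank (h : FlatMod.IsFinLocFree E) :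
    IsLocallyConstant fun x : X =>
      Module.finrank (X.presheaf.stalk x) (E.presheaf.stalk x) := by
  have := LocFree.isQCoh h
  rw [IsLocallyConstant.iff_exists_open]
  intro x
  obtain ⟨U, n, s, hx, hs⟩ := exists_basis_of_isFinLocFree h x
  exact ⟨U, U.2, hx, fun y hy => (finrank_stalk_of_basis hs hy).trans
    (finrank_stalk_of_basis hs hx).symm⟩

/-- On a connected scheme a finite locally free module has constant rank. -/
theorem exists_rank [ConnectedSpace X] (h : FlatMod.IsFinLocFree E) :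
    ∃ n, FlatMod.IsFinLocFreeOfRank n E := by
  obtain ⟨x₀⟩ := ‹ConnectedSpace X›.toNonempty
  exact ⟨_, isFinLocFreeOfRank_iff_finrank.2
    ⟨h, fun x => (isLocallyConstant_finrank h).apply_eq_of_preconnectedSpace x x₀⟩⟩

theorem isZero_of_rank_zero (h : FlatMod.IsFinLocFreeOfRank 0 E) : IsZero E :=
  Perf.isZero_of_local fun x => by
    obtain ⟨U, hx, ⟨e⟩⟩ := h x
    refine ⟨U, hx, IsZero.of_iso ((IsZero.iff_id_eq_zero _).2 ?_) e⟩
    exact Sigma.hom_ext _ _ fun i => i.elim0

theorem kcl_zero (h : IsZero E) : kcl E = 0 :=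
  clSub_zero (P := fun M : X.Modules => FlatMod.IsFinLocFree M) h (KTheory.LocFree.isFinLocFree_zero h)

theorem kcl_biprod (hE : FlatMod.IsFinLocFree E) (hF : FlatMod.IsFinLocFree F) :
    kcl (E ⊞ F) = kcl E + kcl F := by
  have hS : (ShortComplex.mk (biprod.inl : E ⟶ E ⊞ F) biprod.snd (by simp)).ShortExact :=
    ShortComplex.Splitting.shortExact { r := biprod.fst, s := biprod.inr }
  exact clSub_rel (P := fun M : X.Modules => FlatMod.IsFinLocFree M) _ hS hE
    (KTheory.LocFree.isFinLocFree_of_shortExact hS hE hF) hF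

theorem isFinLocFree_biprod (hE : FlatMod.IsFinLocFree E) (hF : FlatMod.IsFinLocFree F) :
    FlatMod.IsFinLocFree (E ⊞ F) :=
  KTheory.LocFree.isFinLocFree_of_shortExact
    (S := ShortComplex.mk (biprod.inl : E ⟶ E ⊞ F) biprod.snd (by simp))
    (ShortComplex.Splitting.shortExact { r := biprod.fst, s := biprod.inr }) hE hF

/-- The rank at a point, on `K₀`. -/
noncomputable def augHom (x : X) : SGA6.Kvb X →+ ℤ :=
  liftSub (fun M : X.Modules => FlatMod.IsFinLocFree M)
    (fun M => (Module.finrank (X.presheaf.stalk x) (M.presheaf.stalk x) : ℤ))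
    fun S hS h₁ _ h₃ => by
      rw [finrank_stalk_add hS h₁ h₃ x]
      push_cast
      rfl

theorem augHom_kcl (x : X) {n : ℕ} (h : FlatMod.IsFinLocFreeOfRank n E) :
    augHom x (kcl E) = n := by
  rw [augHom, kcl, liftSub_clSub _ _ (isFinLocFree_of_rank h), finrank_stalk h x]

theorem exists_isModel (X : Scheme.{u}) [ConnectedSpace X] :
    ∃ (K : Type (u + 1)) (_ : CommRing K) (_ : LambdaRing.LambdaOps K)
      (P : LambdaRing.PosStructure K) (φ : SGA6.Kvb X →+ K), KRR.IsModel X K P φ := by
  classical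
  obtain ⟨x₀⟩ := ‹ConnectedSpace X›.toNonempty
  obtain ⟨mul, lam, -, -, hone, hmul, hlam, h0, h1, hadd⟩ := exists_lambdaStructure (X := X)
  obtain rfl : mul = mulHom := k0sub_hom_ext fun E hE => k0sub_hom_ext fun F hF =>
    (hmul E F hE hF).trans (mulHom_kcl hE hF).symm
  letI := kvbRing X
  letI ops : LambdaRing.LambdaOps (SGA6.Kvb X) :=
    { lam := lam, lam_zero := h0, lam_one := h1, lam_add := hadd }
  have hmul' : ∀ {E F : X.Modules}, FlatMod.IsFinLocFree E → FlatMod.IsFinLocFree F →
      kcl E * kcl F = kcl (CohB1.tensorMod E F) := fun hE hF => mulHom_kcl hE hF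
  have hone' : (1 : SGA6.Kvb X) = kcl (Coh.structureModule X) := rfl
  let aug : SGA6.Kvb X →+* ℤ :=
    { augHom x₀ with
      map_one' := augHom_kcl x₀ (isFinLocFreeOfRank_unit X)
      map_mul' := fun a b => by
        change augHom x₀ (a * b) = augHom x₀ a * augHom x₀ b
        induction a using k0sub_induction with
        | h0 => simp
        | hadd a a' ha ha' => simp [add_mul, ha, ha']
        | hneg a ha => simp [ha]
        | hcl E hE =>
          induction b using k0sub_induction with
          | h0 => simp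
          | hadd a a' ha ha' => simp [mul_add, ha, ha']
          | hneg a ha => simp [ha]
          | hcl F hF =>
            obtain ⟨m, hm⟩ := exists_rank hE
            obtain ⟨n, hn⟩ := exists_rank hF
            change augHom x₀ (kcl E * kcl F) = augHom x₀ (kcl E) * augHom x₀ (kcl F)
            rw [hmul' hE hF, augHom_kcl x₀ (isFinLocFreeOfRank_tensorMod hm hn), augHom_kcl x₀ hm,
              augHom_kcl x₀ hn]
            push_cast
            rfl }
  have haug : ∀ {n : ℕ} {E : X.Modules}, FlatMod.IsFinLocFreeOfRank n E → aug (kcl E) = n :=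
    fun h => augHom_kcl x₀ h
  let pos : Set (SGA6.Kvb X) :=
    {x | ∃ (n : ℕ) (E : X.Modules), 1 ≤ n ∧ FlatMod.IsFinLocFreeOfRank n E ∧ kcl E = x}
  have add_mem : ∀ e f, e ∈ pos → f ∈ pos → e + f ∈ pos := by
    rintro _ _ ⟨m, E, hm, hE, rfl⟩ ⟨n, F, hn, hF, rfl⟩
    exact ⟨m + n, E ⊞ F, by omega, isFinLocFreeOfRank_biprod hE hF,
      kcl_biprod (isFinLocFree_of_rank hE) (isFinLocFree_of_rank hF)⟩
  have one_mem : (1 : SGA6.Kvb X) ∈ pos :=
    ⟨1, _, le_rfl, isFinLocFreeOfRank_unit X, rfl⟩
  have natCast_mem : ∀ n : ℕ, 0 < n → (n : SGA6.Kvb X) ∈ pos := by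
    intro n hn
    induction n, hn using Nat.le_induction with
    | base => simpa using one_mem
    | succ k hk ih =>
      rw [Nat.cast_succ]
      exact add_mem _ _ ih one_mem
  refine ⟨SGA6.Kvb X, inferInstance, ops,
    { aug := aug
      aug_surjective := fun z => ⟨(z : SGA6.Kvb X), map_intCast aug z⟩
      pos := pos
      add_mem := add_mem
      mul_mem := ?_
      natCast_mem := natCast_mem
      exists_sub := ?_
      aug_pos := ?_
      lam_eq_zero := ?_
      isUnit_lam := ?_ }, AddMonoidHom.id _, Function.bijective_id, rfl, fun E F hE hF => hmul' hE hF,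
    fun i E L hE _ hL => hlam i E L hE hL, fun n E h => haug h, fun x => Iff.rfl⟩
  · rintro _ _ ⟨m, E, hm, hE, rfl⟩ ⟨n, F, hn, hF, rfl⟩
    exact ⟨m * n, _, Nat.one_le_iff_ne_zero.2 (by positivity), isFinLocFreeOfRank_tensorMod hE hF,
      (hmul' (isFinLocFree_of_rank hE) (isFinLocFree_of_rank hF)).symm⟩
  · intro x
    induction x using k0sub_induction with
    | h0 => exact ⟨1, 1, one_mem, one_mem, (sub_self _).symm⟩
    | hcl E hE =>
      obtain ⟨m, hm⟩ := exists_rank hE
      refine ⟨kcl E + 1, 1, ?_, one_mem, by simp⟩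
      exact ⟨m + 1, _, by omega, isFinLocFreeOfRank_biprod hm (isFinLocFreeOfRank_unit X),
        kcl_biprod hE (isFinLocFree_unit X)⟩
    | hadd a b ha hb =>
      obtain ⟨e, f, he, hf, rfl⟩ := ha
      obtain ⟨e', f', he', hf', rfl⟩ := hb
      exact ⟨e + e', f + f', add_mem _ _ he he', add_mem _ _ hf hf', by abel⟩
    | hneg a ha =>
      obtain ⟨e, f, he, hf, rfl⟩ := ha
      exact ⟨f, e, hf, he, neg_sub e f⟩
  · rintro _ ⟨n, E, hn, hE, rfl⟩
    rw [haug hE]
    exact_mod_cast hn
  · rintro _ ⟨n, E, hn, hE, rfl⟩ i hi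
    rw [haug hE] at hi
    have := LocFree.isQCoh (isFinLocFree_of_rank hE)
    have hlt : n < i := by exact_mod_cast hi
    have h0' := isFinLocFreeOfRank_extPow hE i
    rw [Nat.choose_eq_zero_of_lt hlt] at h0'
    refine Eq.trans (hlam i E _ (isFinLocFree_of_rank hE) ?_) (kcl_zero (isZero_of_rank_zero h0'))
    exact isExtPow_extPow i E
  · rintro _ ⟨n, E, hn, hE, rfl⟩
    rw [haug hE, Int.toNat_natCast]
    have := LocFree.isQCoh (isFinLocFree_of_rank hE)
    have hd := isExtPow_extPow n E
    change IsUnit (lam n (kcl E))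
    rw [show lam n (kcl E) = kcl (extPow n E) from hlam n E _ (isFinLocFree_of_rank hE) hd]
    obtain ⟨M, hM, ⟨e⟩⟩ := exists_isInverseOf (isInvertible_det hE hd)
    refine IsUnit.of_mul_eq_one (kcl M) ?_
    have hM' := isFinLocFree_of_rank (isInvertible_iff_ofRank_one.1 hM)
    have hD := isFinLocFree_extPow (isFinLocFree_of_rank hE) n
    rw [hmul' hD hM']
    exact kcl_iso e (isFinLocFree_tensorMod hD hM')

end Groth.KTheory.KvbModel
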