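import Groth.Agent.KTheory.Perf
import Mathlib.Data.Int.Interval

/-!
# Perfect objects through complexes of finite free modules
-/

set_option autoImplicit false
universe u

open CategoryTheory CategoryTheory.Limits AlgebraicGeometry TopologicalSpace

namespace Groth.KTheory.Perf

attribute [local instance] HasDerivedCategory.standard

variable {X U : Scheme.{u}}

theorem nonempty_restrict_free (j : U ⟶ X) [IsOpenImmersion j] {M : X.Modules} {n : ℕ}
    (e : M ≅ FlatMod.freeMod X n) : Nonempty (M.restrict j ≅ FlatMod.freeMod U n) :=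
  ⟨(Scheme.Modules.restrictFunctor j).mapIso e ≪≫
    PreservesCoproduct.iso (Scheme.Modules.restrictFunctor j) _ ≪≫
    Sigma.mapIso fun _ => Scheme.Modules.restrictUnitIso j⟩

theorem nonempty_free_zero {M : X.Modules} (h : IsZero M) :
    Nonempty (M ≅ FlatMod.freeMod X 0) :=
  ⟨h.iso (by
    rw [IsZero.iff_id_eq_zero]
    exact Sigma.hom_ext _ _ fun i => i.elim0)⟩

/-- A finite family of locally free modules is simultaneously free near a point. -/
theorem exists_free_nhd (E : CochainComplex X.Modules ℤ) (s : Finset ℤ)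
    (h : ∀ i ∈ s, FlatMod.IsFinLocFree (E.X i)) (x : X) :
    ∃ W : X.Opens, x ∈ W ∧ ∀ i ∈ s, ∃ n : ℕ,
      Nonempty ((E.X i).restrict W.ι ≅ FlatMod.freeMod (↑W) n) := by
  induction s using Finset.induction_on with
  | empty => exact ⟨⊤, trivial, by simp⟩
  | insert i s hi ih =>
    obtain ⟨W, hxW, hW⟩ := ih fun k hk => h k (Finset.mem_insert_of_mem hk)
    obtain ⟨V, n, hxV, ⟨e⟩⟩ := h i (Finset.mem_insert_self i s) x
    have key : ∀ {A : X.Opens} (hA : W ⊓ V ≤ A) {M : X.Modules} {m : ℕ},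
        (M.restrict A.ι ≅ FlatMod.freeMod (↑A) m) →
          Nonempty (M.restrict (W ⊓ V).ι ≅ FlatMod.freeMod (↑(W ⊓ V)) m) := fun {A} hA {M m} f => by
      obtain ⟨g⟩ := nonempty_restrict_free (X.homOfLE hA) f
      exact ⟨(Scheme.Modules.restrictFunctorCongr (X.homOfLE_ι hA).symm).app M ≪≫
        (Scheme.Modules.restrictFunctorComp _ _).app M ≪≫ g⟩
    refine ⟨W ⊓ V, ⟨hxW, hxV⟩, fun k hk => ?_⟩
    rcases Finset.mem_insert.1 hk with rfl | hk
    · exact ⟨n, key inf_le_right e⟩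
    · obtain ⟨m, ⟨f⟩⟩ := hW k hk
      exact ⟨m, key inf_le_left f⟩

theorem isPerfect_iff_free (E : DCoh.D X) :
    DCoh.IsPerfect E ↔ ∀ x : X, ∃ V : X.Opens, x ∈ V ∧
      ∀ F : CochainComplex X.Modules ℤ, Nonempty (DCoh.toD X F ≅ E) →
        ∃ (P : CochainComplex (V : Scheme.{u}).Modules ℤ) (a b : ℤ), DCoh.VanishesOutside P a b ∧
          (∀ i : ℤ, ∃ n : ℕ, Nonempty (P.X i ≅ FlatMod.freeMod (V : Scheme.{u}) n)) ∧
          Nonempty (DerivedCategory.Q.obj ((DCoh.restrictCx V).obj F) ≅ DerivedCategory.Q.obj P) := by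
  constructor
  · intro h x
    obtain ⟨V, hx, P, ⟨⟨a, b, hab⟩, hfl⟩, ⟨e⟩⟩ := (isPerfect_iff E).1 h x
    obtain ⟨W, hxW, hW⟩ := exists_free_nhd P (Finset.Icc a b) (fun i _ => hfl i) ⟨x, hx⟩
    let j := W.ι ≫ V.ι
    obtain ⟨c⟩ := nonempty_rdComp (k := j.isoOpensRange.inv) (j := j) (l := j.opensRange.ι)
      j.isoOpensRange_inv_comp.symm E
    obtain ⟨c'⟩ := nonempty_rdComp (k := W.ι) (j := V.ι) (l := j) rfl E
    let k := j.isoOpensRange.inv
    refine ⟨j.opensRange, ⟨⟨⟨x, hx⟩, hxW⟩, rfl⟩, fun F ⟨i⟩ =>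
      ⟨(Rc k).obj ((Rc W.ι).obj P), a, b,
        fun n hn => rc_isZero k (rc_isZero W.ι (hab n hn)), fun n => ?_,
        ⟨(rdQIso _ F).symm ≪≫ (Rd _).mapIso i ≪≫ c ≪≫
          (Rd k).mapIso (c' ≪≫ (Rd W.ι).mapIso e ≪≫ rdQIso _ P) ≪≫ rdQIso k _⟩⟩⟩
    by_cases hn : n ∈ Finset.Icc a b
    · obtain ⟨m, ⟨f⟩⟩ := hW n hn
      exact ⟨m, nonempty_restrict_free k f⟩
    · simp only [Finset.mem_Icc, not_and_or, not_le] at hn
      exact ⟨0, nonempty_free_zero (rc_isZero k (rc_isZero W.ι (hab n hn)))⟩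
  · intro h x
    obtain ⟨V, hx, hV⟩ := h x
    refine ⟨V, hx, fun F hF => ?_⟩
    obtain ⟨P, a, b, hab, hfree, e⟩ := hV F hF
    refine ⟨P, ⟨⟨a, b, hab⟩, fun i => ?_⟩, e⟩
    obtain ⟨n, ⟨f⟩⟩ := hfree i
    exact LocFree.isFinLocFree_of_iso f.symm (Groth.LocFree.isFinLocFree_freeMod _ n)

end Groth.KTheory.Perf
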