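import Groth.Agent.DerivedCoh.KFlat.PullbackKFlat
import Groth.Agent.DerivedAdj.Basic
import Mathlib.Algebra.Category.ModuleCat.Descent
import Mathlib.AlgebraicGeometry.Morphisms.Flat

/-!
# Direct image along a flat morphism preserves K-injective complexes
-/

set_option autoImplicit false
universe u v

open CategoryTheory CategoryTheory.Limits AlgebraicGeometry HomologicalComplex

namespace Groth.FlatPushKInj

open Groth.DerivedCoh.KFlat

theorem isKInjective_map_of_adj {A : Type*} [Category A] [Abelian A] {B : Type*} [Category B]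
    [Abelian B] {w : B ⥤ A} {u : A ⥤ B} (adj : w ⊣ u) [w.Additive] [u.Additive]
    (hw : ∀ K : CochainComplex B ℤ, K.Acyclic →
      ((w.mapHomologicalComplex (ComplexShape.up ℤ)).obj K).Acyclic)
    (I : CochainComplex A ℤ) (hI : I.IsKInjective) :
    CochainComplex.IsKInjective ((u.mapHomologicalComplex (ComplexShape.up ℤ)).obj I) := by
  refine ⟨fun {K} φ hK => ⟨HomotopyCategory.homotopyOfEq _ _ ?_⟩⟩
  let a := Groth.DerivedAdj.mapHomotopyCategoryAdj adj (ComplexShape.up ℤ)
  let φ' : (HomotopyCategory.quotient B (ComplexShape.up ℤ)).obj K ⟶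
      (u.mapHomotopyCategory (ComplexShape.up ℤ)).obj
        ((HomotopyCategory.quotient A (ComplexShape.up ℤ)).obj I) :=
    (HomotopyCategory.quotient B (ComplexShape.up ℤ)).map φ
  have hz : (a.homEquiv _ _).symm φ' = 0 := by
    obtain ⟨ψ, hψ⟩ := (HomotopyCategory.quotient A (ComplexShape.up ℤ)).map_surjective
      (X := (w.mapHomologicalComplex (ComplexShape.up ℤ)).obj K) (Y := I) ((a.homEquiv _ _).symm φ')
    exact hψ.symm.trans ((HomotopyCategory.eq_of_homotopy ψ 0
      (CochainComplex.IsKInjective.homotopyZero ψ (hw K hK))).trans (Functor.map_zero _ _ _))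
  have : φ' = 0 := by
    rw [← (a.homEquiv _ _).apply_symm_apply φ', hz, a.homEquiv_unit]
    simp
  exact this.trans (Functor.map_zero _ _ _).symm

theorem acyclic_pullback_of_flat {X Y : Scheme.{u}} (f : X ⟶ Y) [Flat f]
    (C : CochainComplex Y.Modules ℤ) (hac : C.Acyclic) : ((pullCx f).obj C).Acyclic := by
  intro i
  rw [exactAt_iff, (stk_jointly (X := X)).exact_iff]
  intro x
  have := ModuleCat.preservesFiniteLimits_extendScalars_of_flat.{u} (Flat.stalkMap f x)
  have h := (exactAt_iff _ _).1 (hac i)
  exact ShortComplex.exact_of_iso ((C.sc i).mapNatIso (pullStkIso f x)).symm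
    ((h.map (stk (f x))).map (ModuleCat.extendScalars.{u, u, u} (f.stalkMap x).hom))

end Groth.FlatPushKInj
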