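import Mathlib.LinearAlgebra.ExteriorPower.Basic
import Mathlib.LinearAlgebra.Alternating.DomCoprod
import Mathlib.LinearAlgebra.TensorProduct.RightExactness
import Mathlib.Algebra.Module.Projective
import Mathlib.GroupTheory.Perm.Finite

/-!
# The filtration of the exterior powers of an extension of modules

For a split short exact sequence `0 → M' → M → M'' → 0` the images of
`⋀ᵖ M' ⊗ ⋀^q M → ⋀ⁿ M` (`p + q = n`) filter `⋀ⁿ M` with quotients `⋀ᵖ M' ⊗ ⋀^q M''`.
-/

set_option autoImplicit false
universe u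

open TensorProduct exteriorPower

namespace Groth.KTheory.ExtFilt

variable {R : Type u} [CommRing R] {M' M M'' : Type u} [AddCommGroup M'] [Module R M']
  [AddCommGroup M] [Module R M] [AddCommGroup M''] [Module R M''] {p q n : ℕ}

/-- Multiplication of exterior powers. -/
noncomputable def mulExt (h : p + q = n) : (⋀[R]^p M) →ₗ[R] (⋀[R]^q M) →ₗ[R] (⋀[R]^n M) :=
  LinearMap.mk₂ R
    (fun a b => (⟨a.1 * b.1, by
      subst h
      rw [ExteriorAlgebra.exteriorPower, pow_add]
      exact Submodule.mul_mem_mul a.2 b.2⟩ : ⋀[R]^n M))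
    (fun a a' b => Subtype.ext (add_mul _ _ _)) (fun c a b => Subtype.ext (smul_mul_assoc _ _ _))
    (fun a b b' => Subtype.ext (mul_add _ _ _)) (fun c a b => Subtype.ext (mul_smul_comm _ _ _))

theorem coe_mulExt (h : p + q = n) (a : ⋀[R]^p M) (b : ⋀[R]^q M) :
    (mulExt h a b : ExteriorAlgebra R M) = a.1 * b.1 := rfl

theorem mulExt_wedge (h : p + q = n) (u : Fin p → M) (v : Fin q → M) :
    mulExt h (ιMulti R p u) (ιMulti R q v) =
      ιMulti R n (Fin.append u v ∘ Fin.cast h.symm) := by
  subst h
  refine Subtype.ext ?_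
  simp only [coe_mulExt, ιMulti_apply_coe, ExteriorAlgebra.ιMulti_apply, ← List.prod_append,
    Fin.cast_refl, Function.comp_id]
  rw [← List.ofFn_fin_append]
  congr 2
  funext i
  refine Fin.addCases (fun j => ?_) (fun j => ?_) i <;> simp

/-- Induction on elements of a tensor product of exterior powers. -/
theorem tensor_wedge_induction {motive : (⋀[R]^p M') ⊗[R] (⋀[R]^q M) → Prop}
    (z : (⋀[R]^p M') ⊗[R] (⋀[R]^q M)) (zero : motive 0)
    (add : ∀ a b, motive a → motive b → motive (a + b))
    (smul : ∀ (c : R) a, motive a → motive (c • a))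
    (wedge : ∀ u v, motive (ιMulti R p u ⊗ₜ ιMulti R q v)) : motive z := by
  induction z using TensorProduct.induction_on with
  | zero => exact zero
  | add a b ha hb => exact add a b ha hb
  | tmul a b =>
    have ha : a ∈ Submodule.span R (Set.range (ιMulti R p (M := M'))) := by
      rw [ιMulti_span]; trivial
    induction ha using Submodule.span_induction with
    | zero => rw [TensorProduct.zero_tmul]; exact zero
    | add x y _ _ hx hy => rw [TensorProduct.add_tmul]; exact add _ _ hx hy
    | smul c x _ hx => rw [← TensorProduct.smul_tmul']; exact smul _ _ hx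
    | mem a ha =>
      obtain ⟨u, rfl⟩ := ha
      have hb : b ∈ Submodule.span R (Set.range (ιMulti R q (M := M))) := by
        rw [ιMulti_span]; trivial
      induction hb using Submodule.span_induction with
      | zero => rw [TensorProduct.tmul_zero]; exact zero
      | add x y _ _ hx hy => rw [TensorProduct.tmul_add]; exact add _ _ hx hy
      | smul c x _ hx => rw [TensorProduct.tmul_smul]; exact smul _ _ hx
      | mem b hb =>
        obtain ⟨v, rfl⟩ := hb
        exact wedge u v

variable (f : M' →ₗ[R] M) (g : M →ₗ[R] M'')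

/-- `x ⊗ y ↦ f(x) ∧ y`. -/
noncomputable def mu (h : p + q = n) : (⋀[R]^p M') ⊗[R] (⋀[R]^q M) →ₗ[R] (⋀[R]^n M) :=
  TensorProduct.lift ((mulExt h).comp (exteriorPower.map p f))

theorem mu_wedge (h : p + q = n) (u : Fin p → M') (v : Fin q → M) :
    mu f h (ιMulti R p u ⊗ₜ ιMulti R q v) =
      ιMulti R n (Fin.append (f ∘ u) v ∘ Fin.cast h.symm) := by
  rw [mu, TensorProduct.lift.tmul, LinearMap.comp_apply, map_apply_ιMulti, mulExt_wedge]

/-- `x ⊗ y ↦ x ⊗ g(y)`. -/
noncomputable def pi : (⋀[R]^p M') ⊗[R] (⋀[R]^q M) →ₗ[R] (⋀[R]^p M') ⊗[R] (⋀[R]^q M'') :=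
  LinearMap.lTensor _ (exteriorPower.map q g)

theorem pi_tmul (x : ⋀[R]^p M') (y : ⋀[R]^q M) :
    pi (p := p) g (x ⊗ₜ y) = x ⊗ₜ exteriorPower.map q g y := rfl

/-- The component of bidegree `(p, q)` of the comultiplication. -/
noncomputable def psi (r : M →ₗ[R] M') (h : p + q = n) :
    (⋀[R]^n M) →ₗ[R] (⋀[R]^p M') ⊗[R] (⋀[R]^q M'') :=
  alternatingMapLinearEquiv (N := (⋀[R]^p M') ⊗[R] (⋀[R]^q M''))
    ((((ιMulti R p).compLinearMap r).domCoprod ((ιMulti R q).compLinearMap g)).domDomCongr
      (finSumFinEquiv.trans (finCongr h)))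

open Equiv in
theorem domCoprod_eq_tmul {N₁ N₂ : Type u} [AddCommGroup N₁] [Module R N₁] [AddCommGroup N₂]
    [Module R N₂] (a : M [⋀^Fin p]→ₗ[R] N₁) (b : M [⋀^Fin q]→ₗ[R] N₂) (w : Fin p ⊕ Fin q → M)
    (hb : ∀ (v : Fin q → M) (j : Fin q) (i : Fin p), v j = w (Sum.inl i) → b v = 0) :
    a.domCoprod b w = a (w ∘ Sum.inl) ⊗ₜ b (w ∘ Sum.inr) := by
  rw [AlternatingMap.domCoprod_apply, sum_apply]
  refine (Finset.sum_eq_single (Quotient.mk'' (1 : Perm (Fin p ⊕ Fin q))) ?_ ?_).trans ?_
  · intro σ _ hσ
    induction σ using Quotient.inductionOn' with | _ σ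
    rw [AlternatingMap.domCoprod.summand_mk'']
    have hj : ∃ j i, σ (Sum.inr j) = Sum.inl i := by
      by_contra hne
      simp only [not_exists] at hne
      apply hσ
      refine Quotient.sound' (QuotientGroup.leftRel_apply.mpr ?_)
      rw [mul_one, inv_mem_iff]
      refine Perm.mem_sumCongrHom_range_of_perm_mapsTo_inl
        ((Perm.perm_mapsTo_inl_iff_mapsTo_inr σ).mpr ?_)
      rintro _ ⟨j, rfl⟩
      rcases hσj : σ (Sum.inr j) with i | j'
      · exact absurd hσj (hne j i)
      · exact ⟨j', rfl⟩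
    obtain ⟨j, i, hji⟩ := hj
    have hz : b (fun k => w (σ (Sum.inr k))) = 0 := hb _ j i (by rw [hji])
    simp [hz]
  · simp
  · rw [AlternatingMap.domCoprod.summand_mk'']
    simp [Function.comp_def]

variable {f g}

theorem psi_mu (r : M →ₗ[R] M') (hr : r ∘ₗ f = LinearMap.id) (hgf : g ∘ₗ f = 0) (h : p + q = n)
    (z : (⋀[R]^p M') ⊗[R] (⋀[R]^q M)) : psi g r h (mu f h z) = pi g z := by
  suffices key : psi g r h ∘ₗ mu f h = pi (p := p) (q := q) g from LinearMap.congr_fun key z
  refine LinearMap.ext fun z => ?_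
  induction z using tensor_wedge_induction with
  | zero => simp
  | add a b ha hb => rw [map_add, map_add, ha, hb]
  | smul c a ha => rw [map_smul, map_smul, ha]
  | wedge u v => ?_
  change psi g r h (mu f h (ιMulti R p u ⊗ₜ ιMulti R q v)) = pi g (ιMulti R p u ⊗ₜ ιMulti R q v)
  rw [mu_wedge, psi, alternatingMapLinearEquiv_apply_ιMulti, AlternatingMap.domDomCongr_apply,
    pi_tmul, map_apply_ιMulti]
  have hw : (Fin.append (f ∘ u) v ∘ Fin.cast h.symm) ∘ (finSumFinEquiv.trans (finCongr h)) =
      Sum.elim (f ∘ u) v := by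
    funext i
    rcases i with i | i <;> simp
  rw [hw, domCoprod_eq_tmul]
  · have : (r : M → M') ∘ (f ∘ u) = u := by
      funext i; exact LinearMap.congr_fun hr (u i)
    simp only [AlternatingMap.compLinearMap_apply, Sum.elim_comp_inl, Sum.elim_comp_inr]
    congr 2
  · intro v' j i hv'
    rw [AlternatingMap.compLinearMap_apply]
    refine AlternatingMap.map_coord_zero _ j ?_
    rw [hv']
    exact LinearMap.congr_fun hgf (u i)

theorem exists_splitting (hf : Function.Injective f) (hfg : Function.Exact f g)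
    (hg : Function.Surjective g) [Module.Projective R M''] :
    ∃ (r : M →ₗ[R] M') (s : M'' →ₗ[R] M), r ∘ₗ f = LinearMap.id ∧ g ∘ₗ s = LinearMap.id ∧
      ∀ a, f (r a) = a - s (g a) := by
  obtain ⟨s, hs⟩ := Module.projective_lifting_property g LinearMap.id hg
  have hmem : ∀ a, a - s (g a) ∈ LinearMap.range f := fun a =>
    (hfg (a - s (g a))).1 (by rw [map_sub, show g (s (g a)) = g a from LinearMap.congr_fun hs _, sub_self])
  let r : M →ₗ[R] M' := (LinearEquiv.ofInjective f hf).symm.toLinearMap ∘ₗ
    LinearMap.codRestrict (LinearMap.range f) (LinearMap.id - s ∘ₗ g) hmem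
  have hr : ∀ a, f (r a) = a - s (g a) := fun a =>
    congrArg Subtype.val ((LinearEquiv.ofInjective f hf).apply_symm_apply
      ⟨a - s (g a), hmem a⟩)
  refine ⟨r, s, LinearMap.ext fun x => hf ?_, hs, hr⟩
  rw [LinearMap.comp_apply, hr, hfg.apply_apply_eq_zero, map_zero, sub_zero, LinearMap.id_apply]

theorem comp_eq_zero (hfg : Function.Exact f g) : g ∘ₗ f = 0 :=
  LinearMap.ext hfg.apply_apply_eq_zero

/-- `pi` factors through the image of `mu`. -/
theorem pi_eq_zero_of_mu (hf : Function.Injective f) (hfg : Function.Exact f g)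
    (hg : Function.Surjective g) [Module.Projective R M''] (h : p + q = n)
    {z : (⋀[R]^p M') ⊗[R] (⋀[R]^q M)} (hz : mu f h z = 0) : pi g z = 0 := by
  obtain ⟨r, -, hr, -, -⟩ := exists_splitting hf hfg hg
  rw [← psi_mu r hr (comp_eq_zero hfg) h, hz, map_zero]

/-- The span of wedges with a factor in the image of `f`. -/
noncomputable def Z (f : M' →ₗ[R] M) (q : ℕ) : Submodule R (⋀[R]^q M) :=
  Submodule.span R {x | ∃ v : Fin q → M, (∃ j, v j ∈ LinearMap.range f) ∧ x = ιMulti R q v}

theorem wedge_sub_mem_Z (v v' : Fin q → M) (h : ∀ j, v j - v' j ∈ LinearMap.range f) :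
    ιMulti R q v - ιMulti R q v' ∈ Z f q := by
  classical
  suffices H : ∀ S : Finset (Fin q), ιMulti R q v - ιMulti R q (S.piecewise v' v) ∈ Z f q by
    simpa using H Finset.univ
  intro S
  induction S using Finset.induction_on with
  | empty => simp
  | insert j S hj ih =>
    let w := S.piecewise v' v
    have hw : w = Function.update w j (v j) := by
      rw [eq_comm, Function.update_eq_self_iff]
      simp [w, hj]
    have h1 : ιMulti R q w - ιMulti R q ((insert j S).piecewise v' v) ∈ Z f q := by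
      have e := AlternatingMap.map_update_sub (ιMulti R q) w j (v j) (v' j)
      rw [← hw] at e
      rw [Finset.piecewise_insert, ← e]
      exact Submodule.subset_span
        ⟨_, ⟨j, by rw [Function.update_self]; exact h j⟩, rfl⟩
    have := add_mem ih h1
    rwa [sub_add_sub_cancel] at this

theorem ker_map_le_Z (hf : Function.Injective f) (hfg : Function.Exact f g)
    (hg : Function.Surjective g) [Module.Projective R M''] :
    LinearMap.ker (exteriorPower.map q g) ≤ Z f q := by
  obtain ⟨r, s, -, hs, hfr⟩ := exists_splitting hf hfg hg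
  intro w hw
  have key : ∀ y : ⋀[R]^q M,
      y - exteriorPower.map q s (exteriorPower.map q g y) ∈ Z f q := by
    intro y
    have hy : y ∈ Submodule.span R (Set.range (ιMulti R q (M := M))) := by
      rw [ιMulti_span]; trivial
    induction hy using Submodule.span_induction with
    | mem y hy =>
      obtain ⟨v, rfl⟩ := hy
      rw [map_apply_ιMulti, map_apply_ιMulti]
      exact wedge_sub_mem_Z _ _ fun j => ⟨r (v j), hfr (v j)⟩
    | zero => simp
    | add a b _ _ ha hb =>
      have := add_mem ha hb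
      simpa [map_add, add_sub_add_comm] using this
    | smul c a _ ha =>
      have := Submodule.smul_mem _ c ha
      simpa [map_smul, smul_sub] using this
  have := key w
  rwa [LinearMap.mem_ker.1 hw, map_zero, sub_zero] at this

theorem mem_range_lTensor_Z (hf : Function.Injective f) (hfg : Function.Exact f g)
    (hg : Function.Surjective g) [Module.Projective R M'']
    {z : (⋀[R]^p M') ⊗[R] (⋀[R]^q M)} (hz : pi g z = 0) :
    z ∈ LinearMap.range (LinearMap.lTensor (⋀[R]^p M') (Z f q).subtype) := by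
  let K : Submodule R (⋀[R]^q M) := LinearMap.ker (exteriorPower.map q g)
  have hK : Function.Exact K.subtype (exteriorPower.map q g) :=
    LinearMap.exact_subtype_ker_map _
  obtain ⟨y, rfl⟩ := (@lTensor_exact R K (⋀[R]^q M) (⋀[R]^q M'') _ _ _ _ _ _ _
    K.subtype (exteriorPower.map q g) (⋀[R]^p M') _ _ hK (exteriorPower.map_surjective hg) z).1 hz
  refine ⟨LinearMap.lTensor _ (Submodule.inclusion (ker_map_le_Z hf hfg hg)) y, ?_⟩
  rw [← LinearMap.comp_apply, ← LinearMap.lTensor_comp]
  rfl

/-- In degree `q = 0` the map `pi` is injective. -/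
theorem eq_zero_of_pi_eq_zero (hf : Function.Injective f) (hfg : Function.Exact f g)
    (hg : Function.Surjective g) [Module.Projective R M'']
    {z : (⋀[R]^p M') ⊗[R] (⋀[R]^0 M)} (hz : pi g z = 0) : z = 0 := by
  obtain ⟨y, rfl⟩ := mem_range_lTensor_Z hf hfg hg hz
  have : Z f 0 = ⊥ := by
    rw [Z, Submodule.span_eq_bot]
    rintro x ⟨v, ⟨j, -⟩, -⟩
    exact j.elim0
  induction y using TensorProduct.induction_on with
  | zero => simp
  | tmul a b =>
    have hb : (b : ⋀[R]^0 M) = 0 := (Submodule.eq_bot_iff _).1 this _ b.2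
    simp [hb]
  | add a b ha hb =>
    have key : ∀ c : (⋀[R]^p M') ⊗[R] (Z f 0),
        LinearMap.lTensor (⋀[R]^p M') (Z f 0).subtype c = 0 := fun c => by
      induction c using TensorProduct.induction_on with
      | zero => simp
      | tmul a b => simp [(Submodule.eq_bot_iff _).1 this _ b.2]
      | add c d hc hd => rw [map_add, hc, hd, add_zero]
    exact key _

/-- Moving a factor across. -/
theorem mu_snoc (h : p + (q + 1) = n) (h' : p + 1 + q = n) (u : Fin p → M') (a : M')
    (t : Fin q → M) :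
    mu f h (ιMulti R p u ⊗ₜ ιMulti R (q + 1) (Fin.cons (f a) t)) =
      mu f h' (ιMulti R (p + 1) (Fin.snoc u a) ⊗ₜ ιMulti R q t) := by
  refine Subtype.ext ?_
  simp only [mu, TensorProduct.lift.tmul, LinearMap.comp_apply, map_apply_ιMulti, coe_mulExt,
    ιMulti_apply_coe]
  rw [ExteriorAlgebra.ιMulti_succ_apply, ← mul_assoc]
  congr 1
  · simp only [ExteriorAlgebra.ιMulti_apply, Fin.cons_zero]
    rw [List.ofFn_succ' (fun i => ExteriorAlgebra.ι R ((f ∘ Fin.snoc u a) i)), List.concat_eq_append,
      List.prod_append]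
    simp

theorem mu_mem_range_succ (hf : Function.Injective f) (hfg : Function.Exact f g)
    (hg : Function.Surjective g) [Module.Projective R M''] (h : p + (q + 1) = n)
    (h' : p + 1 + q = n) {z : (⋀[R]^p M') ⊗[R] (⋀[R]^(q + 1) M)} (hz : pi g z = 0) :
    mu f h z ∈ LinearMap.range (mu f h') := by
  obtain ⟨y, rfl⟩ := mem_range_lTensor_Z hf hfg hg hz
  clear hz
  induction y using TensorProduct.induction_on with
  | zero => simp
  | add a b ha hb => rw [map_add, map_add]; exact add_mem ha hb
  | tmul a b =>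
    obtain ⟨b, hb⟩ := b
    rw [LinearMap.lTensor_tmul, Submodule.coe_subtype]
    dsimp only
    induction hb using Submodule.span_induction with
    | zero => simp
    | add x y _ _ hx hy => rw [TensorProduct.tmul_add, map_add]; exact add_mem hx hy
    | smul c x _ hx => rw [TensorProduct.tmul_smul, map_smul]; exact Submodule.smul_mem _ c hx
    | mem x hx =>
      obtain ⟨v, ⟨j, c, hc⟩, rfl⟩ := hx
      have ha : a ∈ Submodule.span R (Set.range (ιMulti R p (M := M'))) := by
        rw [ιMulti_span]; trivial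
      induction ha using Submodule.span_induction with
      | zero => simp
      | add x y _ _ hx hy => rw [TensorProduct.add_tmul, map_add]; exact add_mem hx hy
      | smul c x _ hx =>
        rw [← TensorProduct.smul_tmul', map_smul]; exact Submodule.smul_mem _ c hx
      | mem a ha =>
        obtain ⟨u, rfl⟩ := ha
        have key : ∀ v' : Fin (q + 1) → M, v' 0 = f c →
            mu f h (ιMulti R p u ⊗ₜ ιMulti R (q + 1) v') ∈ LinearMap.range (mu f h') := by
          intro v' hv'
          rw [← Fin.cons_self_tail v', hv', mu_snoc h h']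
          exact ⟨_, rfl⟩
        by_cases hj : j = 0
        · exact key v (by rw [← hj, hc])
        · have hs := AlternatingMap.map_swap (ιMulti R (q + 1) (M := M)) v (i := 0) (j := j)
            (Ne.symm hj)
          rw [eq_neg_iff_add_eq_zero, add_eq_zero_iff_neg_eq] at hs
          have hs' : ιMulti R (q + 1) v = (-1 : R) • ιMulti R (q + 1) (v ∘ Equiv.swap 0 j) := by
            exact ((neg_one_smul R (ιMulti R (q + 1) (v ∘ Equiv.swap 0 j))).trans hs).symm
          rw [hs', TensorProduct.tmul_smul, map_smul]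
          exact Submodule.smul_mem _ _ (key _ (by simp [hc]))

theorem exists_pi_eq_zero_mu_eq (hfg : Function.Exact f g) (h : p + (q + 1) = n)
    (h' : p + 1 + q = n) (z' : (⋀[R]^(p + 1) M') ⊗[R] (⋀[R]^q M)) :
    ∃ z : (⋀[R]^p M') ⊗[R] (⋀[R]^(q + 1) M), pi g z = 0 ∧ mu f h z = mu f h' z' := by
  induction z' using TensorProduct.induction_on with
  | zero => exact ⟨0, map_zero _, by simp⟩
  | add a b ha hb =>
    obtain ⟨z₁, h₁, e₁⟩ := ha
    obtain ⟨z₂, h₂, e₂⟩ := hb
    exact ⟨z₁ + z₂, by rw [map_add, h₁, h₂, add_zero], by rw [map_add, e₁, e₂, map_add]⟩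
  | tmul a b =>
    have ha : a ∈ Submodule.span R (Set.range (ιMulti R (p + 1) (M := M'))) := by
      rw [ιMulti_span]; trivial
    induction ha using Submodule.span_induction with
    | zero => exact ⟨0, map_zero _, by simp⟩
    | add x y _ _ hx hy =>
      obtain ⟨z₁, h₁, e₁⟩ := hx
      obtain ⟨z₂, h₂, e₂⟩ := hy
      exact ⟨z₁ + z₂, by rw [map_add, h₁, h₂, add_zero],
        by rw [map_add, e₁, e₂, TensorProduct.add_tmul, map_add]⟩
    | smul c x _ hx =>
      obtain ⟨z₁, h₁, e₁⟩ := hx
      exact ⟨c • z₁, by rw [map_smul, h₁, smul_zero],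
        by rw [map_smul, e₁, ← map_smul, TensorProduct.smul_tmul']⟩
    | mem a ha =>
      obtain ⟨u, rfl⟩ := ha
      have hb : b ∈ Submodule.span R (Set.range (ιMulti R q (M := M))) := by
        rw [ιMulti_span]; trivial
      induction hb using Submodule.span_induction with
      | zero => exact ⟨0, map_zero _, by simp⟩
      | add x y _ _ hx hy =>
        obtain ⟨z₁, h₁, e₁⟩ := hx
        obtain ⟨z₂, h₂, e₂⟩ := hy
        exact ⟨z₁ + z₂, by rw [map_add, h₁, h₂, add_zero],
          by rw [map_add, e₁, e₂, TensorProduct.tmul_add, map_add]⟩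
      | smul c x _ hx =>
        obtain ⟨z₁, h₁, e₁⟩ := hx
        exact ⟨c • z₁, by rw [map_smul, h₁, smul_zero],
          by rw [map_smul, e₁, ← map_smul, TensorProduct.tmul_smul]⟩
      | mem b hb =>
        obtain ⟨t, rfl⟩ := hb
        refine ⟨ιMulti R p (Fin.init u) ⊗ₜ ιMulti R (q + 1) (Fin.cons (f (u (Fin.last p))) t),
          ?_, ?_⟩
        · rw [pi_tmul, map_apply_ιMulti,
            (ιMulti R (q + 1) (M := M'')).map_coord_zero (0 : Fin (q + 1))
              (by simp [hfg.apply_apply_eq_zero]),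
            TensorProduct.tmul_zero]
        · rw [mu_snoc h h', Fin.snoc_init_self]

theorem mu_surjective (h : 0 + q = n) : Function.Surjective (mu f h) := by
  subst h
  rw [← LinearMap.range_eq_top, eq_top_iff, ← ιMulti_span, Submodule.span_le]
  rintro _ ⟨v, rfl⟩
  refine ⟨ιMulti R 0 (fun i => i.elim0) ⊗ₜ ιMulti R q (v ∘ Fin.cast (zero_add q).symm), ?_⟩
  rw [mu_wedge]
  congr 1
  funext i
  simp [Fin.append_left_nil]

end Groth.KTheory.ExtFilt
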