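import Groth.Agent.KTheory.DbEuler
import Groth.Agent.DAlg.PCoh
import Groth.Agent.SchemeMorphisms.MaxSupp
import Groth.Agent.KoszulReg.Weakly
import Mathlib.RingTheory.FiniteLength
import Mathlib.RingTheory.Regular.RegularSequence
import Mathlib.Algebra.Category.ModuleCat.Abelian

/-!
# K₀ of perfect complexes supported at the closed point of a regular local ring
-/

set_option autoImplicit false
universe u

open CategoryTheory CategoryTheory.Limits CategoryTheory.Pretriangulated

attribute [local instance] HasDerivedCategory.standard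

namespace Groth.KTheory.PerfPoint

variable (R : Type u) [CommRing R] [IsLocalRing R]

/-- Finite modules supported at the closed point. -/
abbrev flP : ObjectProperty (ModuleCat.{u} R) := fun M =>
  Module.Finite R M ∧ Module.support R M ⊆ {IsLocalRing.closedPoint R}

/-- Perfect complexes supported at the closed point. -/
abbrev perfQ : ObjectProperty (Dual.D R) := fun K => DRing.IsPerfect R K ∧
  ∀ i : ℤ, Module.support R (Dual.HD R K i) ⊆ {IsLocalRing.closedPoint R}

variable {R}

instance : (flP R).IsClosedUnderIsomorphisms where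
  of_iso {M N} e h := ⟨haveI := h.1; Module.Finite.equiv e.toLinearEquiv,
    (e.toLinearEquiv.support_eq).symm.subset.trans h.2⟩

instance : (flP R).ContainsZero where
  exists_zero :=
    ⟨ModuleCat.of R PUnit.{u + 1}, ModuleCat.isZero_of_subsingleton _, inferInstance, by
      rw [Module.support_eq_empty]; exact Set.empty_subset _⟩

instance [IsNoetherianRing R] : (flP R).IsClosedUnderKernels where
  kernels_le := by
    rintro K h
    obtain ⟨f, k, hf, hX, hY⟩ := h
    have : Module.Finite R _ := hX.1
    have hk : Function.Injective (kernel.ι f).hom :=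
      (ModuleCat.mono_iff_injective _).1 inferInstance
    exact (flP R).prop_of_iso ((kernelIsKernel f).conePointUniqueUpToIso hf)
      ⟨Module.Finite.of_injective _ hk, (Module.support_subset_of_injective _ hk).trans hX.2⟩

theorem finite_homology [IsNoetherianRing R] {E : DRing.Cx R} (h : ∀ i, Module.Finite R (E.X i))
    (i : ℤ) : Module.Finite R (E.homology i) := by
  let S := E.sc i
  have : Module.Finite R S.X₂ := h i
  have : Module.Finite R S.moduleCatLeftHomologyData.H :=
    inferInstanceAs (Module.Finite R (LinearMap.ker S.g.hom ⧸ LinearMap.range S.moduleCatToCycles))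
  exact Module.Finite.equiv (S.moduleCatHomologyIso.symm.toLinearEquiv)

theorem dbProp_of_perfQ [IsNoetherianRing R] {K : Dual.D R} (hK : perfQ R K) :
    dbProp (flP R) K := by
  obtain ⟨⟨E, a, b, hab, hE, ⟨e⟩⟩, hs⟩ := hK
  let H := fun i => (DerivedCategory.homologyFunctor (ModuleCat.{u} R) i)
  have eH : ∀ i : ℤ, (H i).obj K ≅ E.homology i := fun i =>
    (H i).mapIso e.symm ≪≫ (DerivedCategory.homologyFunctorFactors _ i).app E
  have hz : ∀ i : ℤ, (i < a ∨ b < i) → IsZero ((H i).obj K) := fun i hi =>
    ((HomologicalComplex.exactAt_iff_isZero_homology _ _).1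
      (HomologicalComplex.ExactAt.of_isZero (hab i hi))).of_iso (eH i)
  refine ⟨fun i => ⟨?_, hs i⟩, a, b, ?_, ?_⟩
  · have := finite_homology (fun i => (hE i).1) i
    exact Module.Finite.equiv (eH i).symm.toLinearEquiv
  · rw [DerivedCategory.isGE_iff]; exact fun i hi => hz i (Or.inl hi)
  · rw [DerivedCategory.isLE_iff]; exact fun i hi => hz i (Or.inr hi)

theorem koszul_props (l : List R) :
    ∃ a b : ℤ, DRing.VanishesOutside (Koszul.koszul R l) a b ∧
      DRing.TermwiseFiniteProjective (Koszul.koszul R l) := by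
  induction l with
  | nil =>
    refine ⟨0, 0, fun i hi => HomologicalComplex.isZero_single_obj_X _ _ _ _ (by omega), fun i => ?_⟩
    by_cases hi : i = 0
    · subst hi
      let e := (HomologicalComplex.singleObjXSelf (ComplexShape.up ℤ) (0 : ℤ)
        (ModuleCat.of R R)).toLinearEquiv.symm
      exact ⟨Module.Finite.equiv e, Module.Projective.of_equiv e⟩
    · have hz : IsZero ((Koszul.koszul R []).X i) :=
        HomologicalComplex.isZero_single_obj_X _ _ _ _ hi
      have := ModuleCat.subsingleton_of_isZero hz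
      exact ⟨inferInstance, inferInstance⟩
  | cons f l ih =>
    obtain ⟨a, b, hab, hP⟩ := ih
    let φ := f • 𝟙 (Koszul.koszul R l)
    have e : ∀ i : ℤ, (CochainComplex.mappingCone φ).X i ≅
        ModuleCat.of R ((Koszul.koszul R l).X (i + 1) × (Koszul.koszul R l).X i) :=
      fun i => HomologicalComplex.homotopyCofiber.XIsoBiprod φ i (i + 1) (by simp) ≪≫
        ModuleCat.biprodIsoProd _ _
    refine ⟨a - 1, b, fun i hi => IsZero.of_iso ?_ (e i), fun i => ?_⟩
    · have := ModuleCat.subsingleton_of_isZero (hab i (by omega))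
      have := ModuleCat.subsingleton_of_isZero (hab (i + 1) (by omega))
      exact ModuleCat.isZero_of_subsingleton _
    · have := hP i
      have := hP (i + 1)
      obtain ⟨h₁, h₂⟩ := hP i
      obtain ⟨h₃, h₄⟩ := hP (i + 1)
      exact ⟨Module.Finite.equiv (e i).toLinearEquiv.symm,
        Module.Projective.of_equiv (e i).toLinearEquiv.symm⟩

theorem isFiniteLength_of_flP [IsNoetherianRing R] {M : ModuleCat.{u} R} (h : flP R M) :
    IsFiniteLength R M := by
  obtain ⟨h₁, h₂⟩ := h
  have hle : IsLocalRing.maximalIdeal R ≤ (Module.annihilator R M).radical := by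
    rw [Ideal.radical_eq_sInf]
    refine le_sInf fun p hp => ?_
    obtain ⟨hp, hp'⟩ := hp
    have : (⟨p, hp'⟩ : PrimeSpectrum R) ∈ Module.support R M := by
      rw [Module.mem_support_iff_of_finite]; exact hp
    have := congrArg PrimeSpectrum.asIdeal (h₂ this)
    exact le_of_eq this.symm
  refine Groth.SchemeMorphisms.isFiniteLength_of_torsion fun a ha z => ?_
  obtain ⟨n, hn⟩ := hle ((IsLocalRing.mem_maximalIdeal a).2 ha)
  exact ⟨n, Module.mem_annihilator.1 hn z⟩

theorem shortExact_mkQ {M : Type u} [AddCommGroup M] [Module R M] (N : Submodule R M) :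
    (ShortComplex.mk (ModuleCat.ofHom N.subtype) (ModuleCat.ofHom N.mkQ)
      (ModuleCat.hom_ext (LinearMap.ext fun x => (Submodule.Quotient.mk_eq_zero N).2 x.2))).ShortExact :=
  { exact := by
      rw [ShortComplex.moduleCat_exact_iff]
      intro x hx
      exact ⟨⟨x, (Submodule.Quotient.mk_eq_zero N).1 hx⟩, rfl⟩
    mono_f := (ModuleCat.mono_iff_injective _).2 N.subtype_injective
    epi_g := (ModuleCat.epi_iff_surjective _).2 N.mkQ_surjective }

variable [IsNoetherianRing R] (fs : List R) (hreg : RingTheory.Sequence.IsRegular R fs)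
  (hgen : Ideal.ofList fs = IsLocalRing.maximalIdeal R)

include hreg hgen in
theorem nonempty_koszul_iso {Y : ModuleCat.{u} R}
    (e : Y ≅ ModuleCat.of R (R ⧸ IsLocalRing.maximalIdeal R)) :
    Nonempty ((DerivedCategory.singleFunctor (ModuleCat.{u} R) 0).obj Y ≅
      DRing.toD (Koszul.koszul R fs)) := by
  have := KoszulReg.quasiIso_aug fs
    (KoszulReg.isKoszulRegularSeq_of_isWeaklyRegular hreg.toIsWeaklyRegular)
  have hQ : IsIso (DerivedCategory.Q.map (KoszulReg.aug fs)) :=
    (DerivedCategory.isIso_Q_map_iff_quasiIso (C := ModuleCat.{u} R) _).2 this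
  let e' : Y ≅ ModuleCat.of R (R ⧸ Ideal.ofList fs) :=
    e ≪≫ (Submodule.quotEquivOfEq _ _ hgen.symm).toModuleIso
  exact ⟨(DerivedCategory.singleFunctor _ 0).mapIso e' ≪≫
    (DerivedCategory.singleFunctorIsoCompQ _ 0).app _ ≪≫ (asIso (DerivedCategory.Q.map (KoszulReg.aug fs))).symm⟩

include hreg hgen in
/-- Properties closed under extensions holding for the Koszul complex hold for finite length
modules. -/
theorem induction_flP {motive : ∀ (Y : ModuleCat.{u} R), Prop}
    (zero : ∀ Y, IsZero Y → motive Y)
    (koszul : ∀ Y, Nonempty ((DerivedCategory.singleFunctor (ModuleCat.{u} R) 0).obj Y ≅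
      DRing.toD (Koszul.koszul R fs)) → flP R Y → motive Y)
    (ext : ∀ S : ShortComplex (ModuleCat.{u} R), S.ShortExact → flP R S.X₁ → flP R S.X₂ →
      flP R S.X₃ → motive S.X₁ → motive S.X₃ → motive S.X₂)
    (Y : ModuleCat.{u} R) (hY : flP R Y) : motive Y := by
  suffices H : ∀ (M : Type u) [AddCommGroup M] [Module R M], IsFiniteLength R M →
      flP R (ModuleCat.of R M) → motive (ModuleCat.of R M) from
    H Y (isFiniteLength_of_flP hY) hY
  intro M _ _ hfl
  induction hfl with
  | of_subsingleton => exact fun _ => zero _ (ModuleCat.isZero_of_subsingleton _)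
  | @of_simple_quotient M' _ _ N hs hN ih =>
    intro hM
    have : Module.Finite R M' := hM.1
    have h₁ : flP R (ModuleCat.of R N) :=
      ⟨Module.Finite.of_injective N.subtype N.subtype_injective,
        (Module.support_subset_of_injective N.subtype N.subtype_injective).trans hM.2⟩
    have h₃ : flP R (ModuleCat.of R (M' ⧸ N)) :=
      ⟨Module.Finite.of_surjective N.mkQ N.mkQ_surjective,
        (Module.support_subset_of_surjective N.mkQ N.mkQ_surjective).trans hM.2⟩
    refine ext _ (shortExact_mkQ N) h₁ hM h₃ (ih h₁) (koszul _ ?_ h₃)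
    obtain ⟨m, hm, ⟨e⟩⟩ := isSimpleModule_iff_quot_maximal.1 hs
    rw [IsLocalRing.eq_maximalIdeal hm] at e
    exact nonempty_koszul_iso fs hreg hgen e.toModuleIso

include hreg hgen in
theorem closure_koszul_eq_top :
    AddSubgroup.closure {KZero.clTr (perfQ R) (DRing.toD (Koszul.koszul R fs))} = ⊤ := by
  obtain ⟨a, b, hv, hp⟩ := koszul_props fs
  have hK : DRing.IsPerfect R (DRing.toD (Koszul.koszul R fs)) :=
    ⟨_, a, b, hv, hp, ⟨Iso.refl _⟩⟩
  have hperf : ∀ Y, flP R Y → DRing.IsPerfect R (Dual.inD R Y) := fun Y hY =>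
    induction_flP fs hreg hgen (motive := fun Y => DRing.IsPerfect R (Dual.inD R Y))
      (fun Z hZ => DAlg.IsPerfect.of_isZero ((DerivedCategory.singleFunctor _ 0).map_isZero hZ))
      (fun Z ⟨e⟩ _ => DAlg.IsPerfect.of_iso hK e.symm)
      (fun S hS _ _ _ h₁ h₃ => DAlg.IsPerfect.ext hS.singleTriangle_distinguished h₁ h₃) Y hY
  have heq : dbProp (flP R) = perfQ R := by
    funext K
    refine propext ⟨?_, dbProp_of_perfQ⟩
    rintro ⟨h, a, b, ha, hb⟩
    refine ⟨DAlg.bounded_homology_induction (DRing.IsPerfect R)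
      (fun _ _ e h => DAlg.IsPerfect.of_iso h e) (fun _ hT => DAlg.IsPerfect.ext hT)
      (fun _ => DAlg.IsPerfect.of_isZero) K a b ?_ fun i => ?_, fun i => (h i).2⟩
    · rintro i (hi | hi)
      · exact DerivedCategory.isZero_of_isGE K a i hi
      · exact DerivedCategory.isZero_of_isLE K b i hi
    · exact DAlg.IsPerfect.of_iso (DAlg.IsPerfect.shift (hperf _ (h i)) (-i)) (DAlg.singleShift _ i)
  rw [← heq, eq_top_iff]
  rintro x -
  induction x using k0tr_induction with
  | h0 => exact zero_mem _
  | hadd a b ha hb => exact add_mem ha hb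
  | hneg a ha => exact neg_mem ha
  | hcl K hK' =>
    refine clTr_mem_of_single_mem _ (fun Y hY => ?_) K hK'
    refine induction_flP fs hreg hgen (motive := fun Y => KZero.clTr (dbProp (flP R))
      ((DerivedCategory.singleFunctor (ModuleCat.{u} R) 0).obj Y) ∈ _) (fun Z hZ => ?_)
      (fun Z hZ hP => ?_) (fun S hS h₁ h₂ h₃ i₁ i₃ => ?_) Y hY
    · rw [clTr_zero ((DerivedCategory.singleFunctor _ 0).map_isZero hZ)
        (dbProp_single 0 ((flP R).prop_of_isZero hZ))]
      exact zero_mem _
    · obtain ⟨e⟩ := hZ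
      have hd : dbProp (flP R) (DRing.toD (Koszul.koszul R fs)) := by
        rw [heq]
        obtain ⟨hp, a, b, -⟩ := dbProp_single (P := flP R) 0 hP
        exact ⟨hK, fun i => (((flP R).prop_of_iso
          ((DerivedCategory.homologyFunctor _ i).mapIso e) (hp i))).2⟩
      rw [clTr_iso e (dbProp_single 0 hP) hd (isZero_zero _) dbProp_zero]
      exact AddSubgroup.subset_closure rfl
    · have r := clTr_rel (P := dbProp (flP R)) hS.singleTriangle hS.singleTriangle_distinguished
        (dbProp_single 0 h₁) (dbProp_single 0 h₂) (dbProp_single 0 h₃)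
      change KZero.clTr (dbProp (flP R))
        ((DerivedCategory.singleFunctor (ModuleCat.{u} R) 0).obj S.X₂) = _ + _ at r
      rw [r]
      exact add_mem i₁ i₃

end Groth.KTheory.PerfPoint
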