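import Groth.Agent.KTheory.PerfHomotopy
import Mathlib.Algebra.Homology.DerivedCategory.Fractions
import Mathlib.Algebra.Homology.DerivedCategory.ExactFunctor
import Mathlib.Algebra.Homology.DerivedCategory.TStructure

/-!
# Perfect objects of the derived category of modules on a scheme
-/

set_option autoImplicit false
universe u

open CategoryTheory CategoryTheory.Limits CategoryTheory.Pretriangulated AlgebraicGeometry
  TopologicalSpace

namespace Groth.KTheory.Perf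

attribute [local instance] HasDerivedCategory.standard

variable {X U : Scheme.{u}}

/-- Restriction of derived categories along an open immersion. -/
noncomputable abbrev Rd (j : U ⟶ X) [IsOpenImmersion j] : DCoh.D X ⥤ DCoh.D U :=
  (Scheme.Modules.restrictFunctor j).mapDerivedCategory

/-- `Rd` computed on a complex. -/
noncomputable def rdQIso (j : U ⟶ X) [IsOpenImmersion j] (F : CochainComplex X.Modules ℤ) :
    (Rd j).obj (DCoh.toD X F) ≅ DCoh.toD U ((Rc j).obj F) :=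
  (Scheme.Modules.restrictFunctor j).mapDerivedCategoryFactors.app F

theorem rd_map_Q (j : U ⟶ X) [IsOpenImmersion j] {F G : CochainComplex X.Modules ℤ} (f : F ⟶ G) :
    (Rd j).map (DerivedCategory.Q.map f) =
      (rdQIso j F).hom ≫ DerivedCategory.Q.map ((Rc j).map f) ≫ (rdQIso j G).inv :=
  (NatIso.naturality_2 (Scheme.Modules.restrictFunctor j).mapDerivedCategoryFactors f).symm

theorem exists_rep (K : DCoh.D X) :
    ∃ F : CochainComplex X.Modules ℤ, Nonempty (DCoh.toD X F ≅ K) :=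
  ⟨_, ⟨DerivedCategory.Q.objObjPreimageIso K⟩⟩

/-- Restricting twice, on objects. -/
theorem nonempty_rdComp {W : Scheme.{u}} {k : W ⟶ U} {j : U ⟶ X} {l : W ⟶ X}
    [IsOpenImmersion k] [IsOpenImmersion j] [IsOpenImmersion l] (e : l = k ≫ j) (K : DCoh.D X) :
    Nonempty ((Rd l).obj K ≅ (Rd k).obj ((Rd j).obj K)) := by
  obtain ⟨F, ⟨i⟩⟩ := exists_rep K
  exact ⟨(Rd l).mapIso i.symm ≪≫ rdQIso l F ≪≫ DerivedCategory.Q.mapIso ((rcCompIso e).app F) ≪≫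
    (rdQIso k _).symm ≪≫ (Rd k).mapIso ((rdQIso j F).symm ≪≫ (Rd j).mapIso i)⟩

/-- `K` restricted to `U` is isomorphic to a strictly perfect complex. -/
def PerfOn (K : DCoh.D X) (V : X.Opens) : Prop :=
  ∃ E : CochainComplex (V : Scheme.{u}).Modules ℤ, DCoh.IsStrictlyPerfect E ∧
    Nonempty ((Rd V.ι).obj K ≅ DCoh.toD _ E)

theorem perfOn_of_iso {K L : DCoh.D X} {V : X.Opens} (e : K ≅ L) (h : PerfOn K V) : PerfOn L V := by
  obtain ⟨E, hE, ⟨i⟩⟩ := h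
  exact ⟨E, hE, ⟨(Rd V.ι).mapIso e.symm ≪≫ i⟩⟩

theorem perfOn_mono {K : DCoh.D X} {V W : X.Opens} (hWV : W ≤ V) (h : PerfOn K V) : PerfOn K W := by
  obtain ⟨E, hE, ⟨i⟩⟩ := h
  obtain ⟨c⟩ := nonempty_rdComp (k := X.homOfLE hWV) (j := V.ι) (l := W.ι)
    (X.homOfLE_ι hWV).symm K
  exact ⟨_, rc_isStrictlyPerfect (X.homOfLE hWV) hE,
    ⟨c ≪≫ (Rd (X.homOfLE hWV)).mapIso i ≪≫ rdQIso _ E⟩⟩

theorem perfOn_of_range {K : DCoh.D X} (j : U ⟶ X) [IsOpenImmersion j]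
    {E : CochainComplex U.Modules ℤ} (hE : DCoh.IsStrictlyPerfect E)
    (i : (Rd j).obj K ≅ DCoh.toD U E) : PerfOn K j.opensRange := by
  obtain ⟨c⟩ := nonempty_rdComp (k := j.isoOpensRange.inv) (j := j) (l := j.opensRange.ι)
    j.isoOpensRange_inv_comp.symm K
  exact ⟨_, rc_isStrictlyPerfect j.isoOpensRange.inv hE,
    ⟨c ≪≫ (Rd j.isoOpensRange.inv).mapIso i ≪≫ rdQIso _ E⟩⟩

theorem isPerfect_iff (K : DCoh.D X) :
    DCoh.IsPerfect K ↔ ∀ x : X, ∃ V : X.Opens, x ∈ V ∧ PerfOn K V := by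
  refine ⟨fun h x => ?_, fun h x => ?_⟩
  · obtain ⟨V, hx, hV⟩ := h x
    obtain ⟨F, ⟨i⟩⟩ := exists_rep K
    obtain ⟨E, hE, ⟨e⟩⟩ := hV F ⟨i⟩
    exact ⟨V, hx, E, hE, ⟨(Rd V.ι).mapIso i.symm ≪≫ rdQIso _ F ≪≫ e⟩⟩
  · obtain ⟨V, hx, E, hE, ⟨e⟩⟩ := h x
    exact ⟨V, hx, fun F ⟨i⟩ => ⟨E, hE, ⟨(rdQIso _ F).symm ≪≫ (Rd V.ι).mapIso i ≪≫ e⟩⟩⟩

theorem isPerfect_of_iso {K L : DCoh.D X} (e : K ≅ L) (h : DCoh.IsPerfect K) : DCoh.IsPerfect L := by
  rw [isPerfect_iff] at h ⊢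
  intro x
  obtain ⟨V, hx, hV⟩ := h x
  exact ⟨V, hx, perfOn_of_iso e hV⟩

theorem isStrictlyPerfect_shift {E : CochainComplex X.Modules ℤ} (h : DCoh.IsStrictlyPerfect E)
    (n : ℤ) : DCoh.IsStrictlyPerfect (E⟦n⟧) := by
  obtain ⟨⟨a, b, hab⟩, hfl⟩ := h
  exact ⟨⟨a - n, b - n, fun i hi => hab (i + n) (by omega)⟩, fun i => hfl (i + n)⟩

theorem perfOn_shift {K : DCoh.D X} {V : X.Opens} (h : PerfOn K V) (n : ℤ) : PerfOn (K⟦n⟧) V := by
  obtain ⟨E, hE, ⟨i⟩⟩ := h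
  exact ⟨E⟦n⟧, isStrictlyPerfect_shift hE n,
    ⟨((Rd V.ι).commShiftIso n).app K ≪≫ (shiftFunctor _ n).mapIso i ≪≫
      ((DerivedCategory.Q.commShiftIso n).app E).symm⟩⟩

theorem isPerfect_shift {K : DCoh.D X} (h : DCoh.IsPerfect K) (n : ℤ) : DCoh.IsPerfect (K⟦n⟧) := by
  rw [isPerfect_iff] at h ⊢
  intro x
  obtain ⟨V, hx, hV⟩ := h x
  exact ⟨V, hx, perfOn_shift hV n⟩

theorem isPerfect_of_shift {K : DCoh.D X} (n : ℤ) (h : DCoh.IsPerfect (K⟦n⟧)) : DCoh.IsPerfect K :=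
  isPerfect_of_iso ((shiftEquiv (DCoh.D X) n).unitIso.app K).symm (isPerfect_shift h (-n))

theorem isStrictlyPerfect_mappingCone {E F : CochainComplex X.Modules ℤ} (φ : E ⟶ F)
    (hE : DCoh.IsStrictlyPerfect E) (hF : DCoh.IsStrictlyPerfect F) :
    DCoh.IsStrictlyPerfect (CochainComplex.mappingCone φ) := by
  obtain ⟨⟨a, b, hab⟩, hfE⟩ := hE
  obtain ⟨⟨c, d, hcd⟩, hfF⟩ := hF
  have e : ∀ i : ℤ, (CochainComplex.mappingCone φ).X i ≅ E.X (i + 1) ⊞ F.X i :=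
    fun i => HomologicalComplex.homotopyCofiber.XIsoBiprod φ i (i + 1) (by simp)
  refine ⟨⟨min (a - 1) c, max (b - 1) d, fun i hi => ?_⟩, fun i => ?_⟩
  · refine IsZero.of_iso ((biprod_isZero_iff _ _).2 ⟨hab _ ?_, hcd _ ?_⟩) (e i) <;> omega
  · exact LocFree.isFinLocFree_of_iso (e i).symm
      (LocFree.isFinLocFree_biprod (hfE _) (hfF _))

/-- The third vertex of a triangle is perfect near a point if the first two are. -/
theorem exists_perfOn_obj₃ (T : Triangle (DCoh.D X)) (hT : T ∈ distinguishedTriangles) {V : X.Opens}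
    (h₁ : PerfOn T.obj₁ V) (h₂ : PerfOn T.obj₂ V) (x : X) (hx : x ∈ V) :
    ∃ W : X.Opens, x ∈ W ∧ PerfOn T.obj₃ W := by
  obtain ⟨E₁, hE₁, ⟨e₁⟩⟩ := h₁
  obtain ⟨E₂, hE₂, ⟨e₂⟩⟩ := h₂
  obtain ⟨Y, g, s, hs, hfac⟩ :=
    DerivedCategory.left_fac (e₁.inv ≫ (Rd V.ι).map T.mor₁ ≫ e₂.hom)
  obtain ⟨⟨a, b, hab⟩, -⟩ := id hE₁
  rw [DerivedCategory.isIso_Q_map_iff_quasiIso] at hs
  obtain ⟨W, β, hxW, ⟨H⟩⟩ := exists_lift_qis g s hE₁ a (fun j hj => hab j (Or.inl hj))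
    (fun j _ => inferInstance) inferInstance ⟨x, hx⟩
  have : IsIso (DerivedCategory.Q.map s) := (DerivedCategory.isIso_Q_map_iff_quasiIso (C := (V : Scheme.{u}).Modules) s).2 hs
  let k := W.ι
  have hβ : DerivedCategory.Q.map β ≫ DerivedCategory.Q.map ((Rc k).map s) =
      DerivedCategory.Q.map ((Rc k).map g) := by
    rw [← Functor.map_comp]
    exact DerivedCategory.Q_map_eq_of_homotopy _ H
  have key : (Rd k).map (e₁.inv ≫ (Rd V.ι).map T.mor₁ ≫ e₂.hom) =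
      (rdQIso k E₁).hom ≫ DerivedCategory.Q.map β ≫ (rdQIso k E₂).inv := by
    rw [hfac, Functor.map_comp, Functor.map_inv, IsIso.comp_inv_eq, rd_map_Q, rd_map_Q, ← hβ]
    simp
  let T₁ := (Rd k).mapTriangle.obj ((Rd V.ι).mapTriangle.obj T)
  have hT₁ : T₁ ∈ distinguishedTriangles :=
    (Rd k).map_distinguished _ ((Rd V.ι).map_distinguished _ hT)
  let T₂ := DerivedCategory.Q.mapTriangle.obj (CochainComplex.mappingCone.triangle β)
  have hT₂ : T₂ ∈ distinguishedTriangles := DerivedCategory.mappingCone_triangle_distinguished β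
  let e := isoTriangleOfIso₁₂ T₁ T₂ hT₁ hT₂ ((Rd k).mapIso e₁ ≪≫ rdQIso k E₁)
    ((Rd k).mapIso e₂ ≪≫ rdQIso k E₂) (by
      have := congrArg (fun f => (Rd k).map e₁.hom ≫ f ≫ (rdQIso k E₂).hom) key
      simp only [Category.assoc, Iso.inv_hom_id, Category.comp_id, ← Functor.map_comp_assoc,
        Iso.hom_inv_id_assoc] at this
      rw [Functor.map_comp, Category.assoc] at this
      simp only [Iso.trans_hom, Functor.mapIso_hom, Category.assoc]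
      exact this)
  obtain ⟨c⟩ := nonempty_rdComp (k := k) (j := V.ι) (l := k ≫ V.ι) rfl T.obj₃
  refine ⟨(k ≫ V.ι).opensRange, ⟨⟨⟨x, hx⟩, hxW⟩, rfl⟩, perfOn_of_range (k ≫ V.ι)
    (isStrictlyPerfect_mappingCone β (rc_isStrictlyPerfect k hE₁) (rc_isStrictlyPerfect k hE₂))
    (c ≪≫ Triangle.π₃.mapIso e)⟩

theorem isPerfect_obj₃ (T : Triangle (DCoh.D X)) (hT : T ∈ distinguishedTriangles)
    (h₁ : DCoh.IsPerfect T.obj₁) (h₂ : DCoh.IsPerfect T.obj₂) : DCoh.IsPerfect T.obj₃ := by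
  rw [isPerfect_iff] at h₁ h₂ ⊢
  intro x
  obtain ⟨V₁, hx₁, hV₁⟩ := h₁ x
  obtain ⟨V₂, hx₂, hV₂⟩ := h₂ x
  exact exists_perfOn_obj₃ T hT (perfOn_mono inf_le_left hV₁) (perfOn_mono inf_le_right hV₂)
    x ⟨hx₁, hx₂⟩

theorem isPerfect_obj₂ (T : Triangle (DCoh.D X)) (hT : T ∈ distinguishedTriangles)
    (h₁ : DCoh.IsPerfect T.obj₁) (h₃ : DCoh.IsPerfect T.obj₃) : DCoh.IsPerfect T.obj₂ :=
  isPerfect_obj₃ T.invRotate (inv_rot_of_distTriang _ hT) (isPerfect_shift h₃ (-1)) h₁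

theorem isPerfect_obj₁ (T : Triangle (DCoh.D X)) (hT : T ∈ distinguishedTriangles)
    (h₂ : DCoh.IsPerfect T.obj₂) (h₃ : DCoh.IsPerfect T.obj₃) : DCoh.IsPerfect T.obj₁ :=
  isPerfect_of_shift 1 (isPerfect_obj₃ T.rotate (rot_of_distTriang _ hT) h₂ h₃)

end Groth.KTheory.Perf
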