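import Groth.Agent.KTheory.DevissageAdj
import Groth.Agent.KTheory.CohProps
import Groth.Agent.QCohMod.Killed
import Groth.Agent.QCohMod.PullbackQCoh
import Mathlib.AlgebraicGeometry.Morphisms.FiniteType

/-!
# `K₀` of coherent modules does not see nilpotent thickenings
-/

set_option autoImplicit false
universe u

open CategoryTheory CategoryTheory.Limits AlgebraicGeometry TopologicalSpace

namespace Groth.KTheory.DevissageNil

open Groth.QCohMod Groth.KTheory.DevissageAdj

variable {X Z : Scheme.{u}} [IsNoetherian X] (i : Z ⟶ X) [IsClosedImmersion i]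

/-- The ideal of a closed immersion surjective on points is nilpotent on every affine. -/
theorem isNilpotent_ker_ideal [Surjective i] (U : X.affineOpens) :
    IsNilpotent (i.ker.ideal U) := by
  have : IsNoetherianRing Γ(X, U.1) := IsLocallyNoetherian.component_noetherian U
  refine (Ideal.FG.isNilpotent_iff_le_nilradical (IsNoetherian.noetherian _)).2 fun a ha => ?_
  rw [Scheme.Hom.ker_apply, RingHom.mem_ker] at ha
  refine (Scheme.isNilpotent_iff_basicOpen_eq_bot_of_isCompact U.2.isCompact a).2 ?_
  refine eq_bot_iff.2 fun x hx => ?_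
  obtain ⟨z, rfl⟩ := i.surjective x
  have : z ∈ i ⁻¹ᵁ X.basicOpen a := hx
  rw [Scheme.preimage_basicOpen] at this
  replace ha : i.app U.1 a = 0 := ha
  rw [ha, Scheme.basicOpen_zero] at this
  exact this

theorem nil_of_pow_smul : ∀ (n : ℕ) (M : X.Modules), Coh.IsCoh M →
    (∀ U : X.affineOpens, ∀ a ∈ (i.ker.ideal U) ^ n, ∀ s : Γ(M, U.1), a • s = 0) →
    Nil (Scheme.Modules.pullbackPushforwardAdjunction i) n M
  | 0, M, hM, h => by
    have := hM.1
    refine (isZero_iff_support_eq_empty M).mpr (Set.eq_empty_of_forall_notMem fun x hx => ?_)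
    obtain ⟨U, hU, hxU⟩ := exists_affine_mem x
    have hs : Subsingleton Γ(M, U) := ⟨fun s t => by
      rw [← one_smul Γ(X, U) s, ← one_smul Γ(X, U) t,
        h ⟨U, hU⟩ 1 (by simp) s, h ⟨U, hU⟩ 1 (by simp) t]⟩
    rw [mem_support_iff M hU x hxU, Module.support_eq_empty_iff.mpr hs] at hx
    exact hx
  | n + 1, M, hM, h => by
    have := hM.1
    let T' := T (Scheme.Modules.pullbackPushforwardAdjunction i) M
    have hq : (Scheme.Modules.pushforward i |>.obj
      ((Scheme.Modules.pullback i).obj M)).IsQuasicoherent :=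
      have := isQCoh_pullback_obj i M
      inferInstance
    have hT : Coh.IsCoh T' := @Groth.QCohMod.isCoh_kernel X _ _ _ _ hq hM
    have := hT.1
    refine nil_of_pow_smul n T' hT fun U a ha s => ?_
    let ι : T' ⟶ M := kernel.ι _
    apply app_injective_of_mono ι U.1
    change ι.app U.1 (a • s) = ι.app U.1 0
    rw [ι.app_smul, map_zero]
    have hmem := ((unit_closedImmersion_app i M U.2).2 (ι.app U.1 s)).1
      (congr(($(kernel.condition (eta (Scheme.Modules.pullbackPushforwardAdjunction i) M))).app U.1 s))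
    refine Submodule.smul_induction_on (p := fun x => a • x = 0) hmem (fun b hb t _ => ?_)
      fun p q hp hq => by rw [smul_add, hp, hq, add_zero]
    rw [← mul_smul]
    exact h U _ (by rw [pow_succ]; exact Ideal.mul_mem_mul ha hb) t

theorem exists_nil [Surjective i] (M : X.Modules) (hM : Coh.IsCoh M) :
    ∃ n, Nil (Scheme.Modules.pullbackPushforwardAdjunction i) n M := by
  classical
  choose U hU hxU using fun x : X => exists_affine_mem x
  obtain ⟨t, ht⟩ := isCompact_univ.elim_finite_subcover (fun x : X => (U x : Set X))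
    (fun x => (U x).isOpen) (fun x _ => Set.mem_iUnion.2 ⟨x, hxU x⟩)
  choose e he using fun x : X => isNilpotent_ker_ideal i ⟨U x, hU x⟩
  refine ⟨t.sup e, nil_of_pow_smul i _ M hM fun V a ha s => ?_⟩
  refine TopCat.Presheaf.section_ext ⟨M.presheaf, M.isSheaf⟩ V.1 _ _ fun x hx => ?_
  obtain ⟨y, hy, hxy⟩ := Set.mem_iUnion₂.1 (ht (Set.mem_univ x))
  obtain ⟨f, g, hfg, hxf⟩ := exists_basicOpen_le_affine_inter V.2 (hU y) x ⟨hx, hxy⟩
  have hle : X.basicOpen f ≤ V.1 := X.basicOpen_le f
  have hle' : X.basicOpen f ≤ U y := hfg.le.trans (X.basicOpen_le g)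
  let W : X.affineOpens := ⟨X.basicOpen f, V.2.basicOpen f⟩
  have hW : i.ker.ideal W ^ t.sup e = ⊥ := by
    rw [← i.ker.map_ideal (V := ⟨U y, hU y⟩) (U := W) hle', ← Ideal.map_pow,
      pow_eq_zero_of_le (Finset.le_sup hy) (he y), Ideal.zero_eq_bot]
    exact Ideal.map_bot
  have h0 : resFun X hle a ∈ i.ker.ideal W ^ t.sup e := by
    rw [← i.ker.map_ideal (V := V) (U := W) hle, ← Ideal.map_pow]
    exact Ideal.mem_map_of_mem _ ha
  rw [hW, Ideal.mem_bot] at h0
  change germ M x hx (a • s) = germ M x hx 0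
  rw [← germ_res M hle x hxf, res_smul, h0, zero_smul, map_zero, map_zero]

theorem bijective_mapSub_pushforward [Surjective i]
    [(Scheme.Modules.pushforward i).Additive] [PreservesFiniteLimits (Scheme.Modules.pushforward i)]
    [PreservesFiniteColimits (Scheme.Modules.pushforward i)]
    (hi : ∀ M : Z.Modules, Coh.IsCoh M → Coh.IsCoh ((Scheme.Modules.pushforward i).obj M)) :
    Function.Bijective (SGA6.mapSub (Scheme.Modules.pushforward i)
      (fun M : Z.Modules => Coh.IsCoh M) (fun M : X.Modules => Coh.IsCoh M) hi) := by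
  have : IsLocallyNoetherian Z := LocallyOfFiniteType.isLocallyNoetherian i
  refine bijective_mapSub (Scheme.Modules.pullbackPushforwardAdjunction i) _ _
    (fun f hM hN => @Groth.QCohMod.isCoh_kernel X _ _ _ f hN.1 hM)
    (fun f hM hN => @Groth.QCohMod.isCoh_kernel Z _ _ _ f hN.1 hM)
    (fun M hM => ⟨@isQCoh_pullback_obj _ _ i M hM.1, isFT_pullback i M hM.2⟩) hi
    (fun M hM => ?_) (fun M hM => @isIso_counit_closedImmersion _ _ i _ M hM.1) (exists_nil i)
  have := hM.1
  have : ((Scheme.Modules.pullback i).obj M).IsQuasicoherent := isQCoh_pullback_obj i M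
  exact epi_of_affine_surjective _ fun U hU => (unit_closedImmersion_app i M hU).1

end Groth.KTheory.DevissageNil
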