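import Groth.Prelude.Def_DTen4
import Groth.Agent.DAlg.LeftDerived
import Groth.Agent.DAlg.KFlatOps

/-!
# Derived base change is computed termwise on K-flat complexes
-/

set_option autoImplicit false
universe u

open CategoryTheory CategoryTheory.Limits HomologicalComplex
attribute [local instance] HasDerivedCategory.standard

namespace Groth.BaseCmpKFlat

local notation "up" => ComplexShape.up ℤ

theorem quasiIso_extCx_of_kFlat {R A : Type u} [CommRing R] [CommRing A] (φ : R →+* A)
    {P E : DRing.Cx R} (hP : DRing.IsKFlat R P) (hE : DRing.IsKFlat R E) (g : P ⟶ E) [QuasiIso g] :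
    QuasiIso ((DTen.extCx φ).map g) := by
  algebraize [φ]
  rw [Groth.FlatCxBase.quasiIso_iff_cone_acyclic]
  let C := CochainComplex.mappingCone g
  have hC := (Groth.DAlg.KFlatMod.isKFlatCx_iff.1 hP).mappingCone (Groth.DAlg.KFlatMod.T R) g
    (Groth.DAlg.KFlatMod.isKFlatCx_iff.1 hE)
  have h := Groth.DAlg.KFlatMod.isZero_tensorCx_of_acyclic_kFlat C hC
    ((Groth.FlatCxBase.quasiIso_iff_cone_acyclic g).1 inferInstance) (ModuleCat.of R A)
  intro i
  refine HomologicalComplex.ExactAt.of_iso ?_
    (CochainComplex.mappingCone.mapHomologicalComplexIso g (ModuleCat.extendScalars (algebraMap R A)))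
  rw [exactAt_iff_isZero_homology]
  exact (Groth.DAlg.isZero_extCx_iff C i).2 (h i)

variable {R A : Type u} [CommRing R] [CommRing A] (φ : R →+* A)

/-- The adjunct on complexes of a map out of a base change. -/
noncomputable def adjunct {P : DRing.Cx R} {M : DRing.Cx A} (f : (DTen.extCx φ).obj P ⟶ M) :
    P ⟶ (DTen.resCx φ).obj M :=
  (DTen.unitCx φ).app P ≫ (DTen.resCx φ).map f

theorem bijective_adjunct (P : DRing.Cx R) (M : DRing.Cx A) :
    Function.Bijective (adjunct φ (P := P) (M := M)) := by
  let adj := ModuleCat.extendRestrictScalarsAdj.{u, u, u} φ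
  refine ⟨fun f f' h => ?_, fun g => ?_⟩
  · ext i : 1
    exact (adj.homEquiv (P.X i) (M.X i)).injective (by
      rw [adj.homEquiv_unit, adj.homEquiv_unit]
      exact congr($(h).f i))
  · refine ⟨{ f := fun i => (adj.homEquiv _ _).symm (g.f i), comm' := fun i j _ => ?_ }, ?_⟩
    · exact (adj.homEquiv_naturality_right_symm _ _).symm.trans
        ((congrArg _ (g.comm i j)).trans (adj.homEquiv_naturality_left_symm _ _))
    · ext i : 1
      exact (adj.homEquiv_unit _ _ _).symm.trans ((adj.homEquiv _ _).apply_symm_apply _)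

theorem isKProjective_extCx (P : DRing.Cx R) [P.IsKProjective] :
    ((DTen.extCx φ).obj P).IsKProjective := by
  refine ⟨fun {M} f hM => ⟨HomotopyCategory.homotopyOfEq _ _ ?_⟩⟩
  let a := Groth.DerivedAdj.mapHomotopyCategoryAdj (ModuleCat.extendRestrictScalarsAdj.{u, u, u} φ) up
  let f' : ((ModuleCat.extendScalars.{u, u, u} φ).mapHomotopyCategory up).obj
      ((HomotopyCategory.quotient _ up).obj P) ⟶ (HomotopyCategory.quotient _ up).obj M :=
    (HomotopyCategory.quotient _ up).map f
  have hac : ((DTen.resCx φ).obj M).Acyclic := fun i =>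
    ShortComplex.Exact.map ((exactAt_iff _ _).1 (hM i)) (ModuleCat.restrictScalars φ)
  have hz : a.homEquiv _ _ f' = 0 := by
    obtain ⟨ψ, hψ⟩ := (HomotopyCategory.quotient _ up).map_surjective
      (X := P) (Y := (DTen.resCx φ).obj M) (a.homEquiv _ _ f')
    exact hψ.symm.trans ((HomotopyCategory.eq_of_homotopy ψ 0
      (CochainComplex.IsKProjective.homotopyZero ψ hac)).trans (Functor.map_zero _ _ _))
  have : f' = 0 := by
    rw [← (a.homEquiv _ _).symm_apply_apply f', hz, a.homEquiv_counit]
    simp
  exact this.trans (Functor.map_zero (HomotopyCategory.quotient _ up) _ _).symm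

theorem exists_map_eq {P M : DRing.Cx R} [P.IsKProjective]
    (g : DerivedCategory.Q.obj P ⟶ DerivedCategory.Q.obj M) :
    ∃ f : P ⟶ M, DerivedCategory.Q.map f = g := by
  let e := DerivedCategory.quotientCompQhIso (ModuleCat.{u} R)
  obtain ⟨x, hx⟩ := (CochainComplex.IsKProjective.Qh_map_bijective P
    ((HomotopyCategory.quotient _ up).obj M)).surjective (e.hom.app P ≫ g ≫ e.inv.app M)
  obtain ⟨f, rfl⟩ := (HomotopyCategory.quotient _ up).map_surjective x
  refine ⟨f, ?_⟩
  have h := e.hom.naturality f
  dsimp at h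
  rw [hx] at h
  simpa [cancel_epi] using h.symm

theorem homotopic_of_map_eq {P M : DRing.Cx R} [P.IsKProjective] {f f' : P ⟶ M}
    (h : DerivedCategory.Q.map f = DerivedCategory.Q.map f') :
    (HomotopyCategory.quotient _ up).map f = (HomotopyCategory.quotient _ up).map f' := by
  refine (CochainComplex.IsKProjective.Qh_map_bijective P
    ((HomotopyCategory.quotient _ up).obj M)).injective ?_
  rw [← cancel_mono ((DerivedCategory.quotientCompQhIso _).hom.app M)]
  exact ((DerivedCategory.quotientCompQhIso _).hom.naturality f).trans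
    ((congrArg (_ ≫ ·) h).trans ((DerivedCategory.quotientCompQhIso _).hom.naturality f').symm)

variable [DTen.HasLBase φ]

theorem baseγ_comp {P : DRing.Cx R} {M : DRing.Cx A} (f : (DTen.extCx φ).obj P ⟶ M) :
    (DTen.baseγ φ).app P ≫ (DRing.restrictD φ).map (DerivedCategory.Q.map f) =
      DerivedCategory.Q.map (adjunct φ f) ≫ (DTen.resFactors φ).inv.app M := by
  have h := (DTen.resFactors φ).inv.naturality f
  dsimp at h
  simp only [DTen.baseγ, adjunct, Functor.map_comp, Category.assoc, h]

theorem isIso_baseCmp_of_kProjective (P : DRing.Cx R) [P.IsKProjective] :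
    IsIso ((DTen.baseCmp φ).app P) := by
  have := isKProjective_extCx φ P
  refine isIso_of_coyoneda_map_bijective _ fun Z => ?_
  obtain ⟨M, ⟨e⟩⟩ : ∃ M, Nonempty (DerivedCategory.Q.obj M ≅ Z) :=
    ⟨DerivedCategory.Q.objPreimage Z, ⟨DerivedCategory.Q.objObjPreimageIso Z⟩⟩
  have key : Function.Bijective
      (fun g : DerivedCategory.Q.obj ((DTen.extCx φ).obj P) ⟶ DerivedCategory.Q.obj M =>
        (DTen.baseγ φ).app P ≫ (DRing.restrictD φ).map g) := by
    constructor
    · intro g g' h
      obtain ⟨f, rfl⟩ := exists_map_eq g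
      obtain ⟨f', rfl⟩ := exists_map_eq g'
      dsimp at h
      rw [baseγ_comp, baseγ_comp, cancel_mono] at h
      have h' := homotopic_of_map_eq h
      let a := Groth.DerivedAdj.mapHomotopyCategoryAdj
        (ModuleCat.extendRestrictScalarsAdj.{u, u, u} φ) up
      have ha : ∀ v : (DTen.extCx φ).obj P ⟶ M,
          a.homEquiv ((HomotopyCategory.quotient _ up).obj P) ((HomotopyCategory.quotient _ up).obj M)
            ((HomotopyCategory.quotient _ up).map v) =
          (HomotopyCategory.quotient _ up).map (adjunct φ v) := fun v => by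
        rw [a.homEquiv_unit]
        exact ((HomotopyCategory.quotient _ up).map_comp _ _).symm
      have hq : (HomotopyCategory.quotient _ up).map f = (HomotopyCategory.quotient _ up).map f' :=
        (a.homEquiv ((HomotopyCategory.quotient _ up).obj P)
          ((HomotopyCategory.quotient _ up).obj M)).injective ((ha f).trans (h'.trans (ha f').symm))
      have e := DerivedCategory.quotientCompQhIso (ModuleCat.{u} A)
      rw [← cancel_epi (e.hom.app _), ← e.hom.naturality f, ← e.hom.naturality f', Functor.comp_map,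
        Functor.comp_map, hq]
    · intro k
      obtain ⟨v, hv⟩ := exists_map_eq (k ≫ (DTen.resFactors φ).hom.app M)
      obtain ⟨f, rfl⟩ := (bijective_adjunct φ P M).2 v
      refine ⟨DerivedCategory.Q.map f, ?_⟩
      dsimp
      rw [baseγ_comp, hv, Category.assoc, Iso.hom_inv_id_app]
      exact Category.comp_id _
  have key2 : Function.Bijective
      (fun g : DerivedCategory.Q.obj ((DTen.extCx φ).obj P) ⟶ Z =>
        (DTen.baseγ φ).app P ≫ (DRing.restrictD φ).map g) := by
    have := ((Iso.refl ((DerivedCategory.Q).obj P)).homCongr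
      ((DRing.restrictD φ).mapIso e)).bijective.comp
        (key.comp ((Iso.refl (DerivedCategory.Q.obj ((DTen.extCx φ).obj P))).homCongr e.symm).bijective)
    convert this using 1
    funext g
    simp [← Functor.map_comp]
  rw [← Function.Bijective.of_comp_iff' ((DTen.baseAdj φ).homEquiv _ _).bijective]
  convert key2 using 1
  funext g
  simp only [Function.comp_apply, Adjunction.homEquiv_unit, Functor.map_comp]
  exact (Category.assoc _ _ _).symm.trans (congrArg (· ≫ _) (DTen.baseCmp_fac φ P))

theorem isIso_baseCmp_of_isKFlat (K : DRing.Cx R) (hK : DRing.IsKFlat R K) :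
    IsIso ((DTen.baseCmp φ).app K) := by
  obtain ⟨P, f, hP, hf, -, -⟩ := Groth.DAlg.exists_kProjective_resolution K
  let F := (Groth.DAlg.KFlatMod.resFunctor R).obj P
  let r : F ⟶ P := (Groth.DAlg.KFlatMod.resAug R).app P
  have hF : DRing.IsKFlat R F := Groth.DAlg.KFlatMod.res_isKFlat P
  have : QuasiIso r := Groth.DAlg.KFlatMod.resAug_quasiIso P
  have hg := quasiIso_extCx_of_kFlat φ hF hK (r ≫ f)
  obtain ⟨s, hs⟩ := exists_map_eq (inv (DerivedCategory.Q.map r))
  have hh : (HomotopyCategory.quotient _ up).map (s ≫ r) =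
      (HomotopyCategory.quotient _ up).map (𝟙 P) :=
    homotopic_of_map_eq (by simp [hs])
  have hsr : DerivedCategory.Q.map ((DTen.extCx φ).map s) ≫
      DerivedCategory.Q.map ((DTen.extCx φ).map r) = 𝟙 _ := by
    have := HomotopyCategory.eq_of_homotopy _ _
      ((ModuleCat.extendScalars.{u, u, u} φ).mapHomotopy (HomotopyCategory.homotopyOfEq _ _ hh))
    have := congrArg (fun z => DerivedCategory.Qh.map z ≫
      (DerivedCategory.quotientCompQhIso (ModuleCat.{u} A)).hom.app _) this
    simp only [DerivedCategory.quotientCompQhIso_hom_naturality, cancel_epi] at this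
    simpa using this
  have : IsIso (DerivedCategory.Q.map ((DTen.extCx φ).map r)) := by
    have : IsSplitEpi (DerivedCategory.Q.map ((DTen.extCx φ).map r)) :=
      IsSplitEpi.mk' ⟨_, hsr⟩
    have h2 : IsIso (DerivedCategory.Q.map ((DTen.extCx φ).map r) ≫
        DerivedCategory.Q.map ((DTen.extCx φ).map f)) := by
      rw [← Functor.map_comp, ← Functor.map_comp]
      infer_instance
    have : Mono (DerivedCategory.Q.map ((DTen.extCx φ).map r)) :=
      mono_of_mono _ (DerivedCategory.Q.map ((DTen.extCx φ).map f))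
    exact isIso_of_mono_of_isSplitEpi _
  have : IsIso (DerivedCategory.Q.map ((DTen.extCx φ).map f)) := by
    have h2 : IsIso (DerivedCategory.Q.map ((DTen.extCx φ).map r) ≫
        DerivedCategory.Q.map ((DTen.extCx φ).map f)) := by
      rw [← Functor.map_comp, ← Functor.map_comp]
      infer_instance
    exact IsIso.of_isIso_comp_left (DerivedCategory.Q.map ((DTen.extCx φ).map r)) _
  have := isIso_baseCmp_of_kProjective φ P
  have : IsIso ((DTen.LBase φ).map (DerivedCategory.Q.map f) ≫ (DTen.baseCmp φ).app K) := by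
    have e := (DTen.baseCmp φ).naturality f
    dsimp at e
    rw [e]
    infer_instance
  exact IsIso.of_isIso_comp_left ((DTen.LBase φ).map (DerivedCategory.Q.map f)) _

end Groth.BaseCmpKFlat
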