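import Mathlib.Algebra.Homology.Factorizations.CM5a
import Mathlib.Algebra.Homology.HomologySequenceLemmas
import Mathlib.CategoryTheory.Abelian.CommSq

/-!
# Injective resolutions of short exact sequences of bounded below complexes
-/

set_option autoImplicit false
universe v u
open CategoryTheory CategoryTheory.Limits HomologicalComplex

namespace Groth.Agent.InjResSES

variable {A : Type u} [Category.{v} A] [Abelian A]

lemma mono_f_of_quasiIso {K L : CochainComplex A ℤ} (f : K ⟶ L) (n : ℤ)
    [K.IsStrictlyGE n] [QuasiIsoAt f n] [Mono (f.f (n + 1))] : Mono (f.f n) := by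
  apply Preadditive.mono_of_cancel_zero
  intro Z k hk
  have hd : k ≫ K.d n (n + 1) = 0 := by
    rw [← cancel_mono (f.f (n + 1)), Category.assoc, ← f.comm n (n + 1), reassoc_of% hk,
      zero_comp, zero_comp]
  obtain ⟨c, hc⟩ : ∃ c, c ≫ K.iCycles n = k :=
    ⟨K.liftCycles k (n + 1) (by simp) hd, by simp⟩
  have h1 : c ≫ cyclesMap f n = 0 := by
    rw [← cancel_mono (L.iCycles n), Category.assoc, cyclesMap_i, reassoc_of% hc, zero_comp, hk]
  have h2 : (c ≫ K.homologyπ n) ≫ homologyMap f n = 0 := by
    rw [Category.assoc, homologyπ_naturality, reassoc_of% h1, zero_comp]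
  have h3 : c ≫ K.homologyπ n = 0 := by
    rw [← cancel_mono (homologyMap f n), h2, zero_comp]
  have : IsIso (K.homologyπ n) :=
    K.isIso_homologyπ (n - 1) n (by simp)
      ((K.isZero_of_isStrictlyGE n (n - 1)).eq_of_src _ _)
  have h4 : c = 0 := by rw [← cancel_mono (K.homologyπ n), h3, zero_comp]
  rw [← hc, h4, zero_comp]

open CochainComplex.Plus.modelCategoryQuillen in
lemma exists_mono_quasiIso [EnoughInjectives A] (K : CochainComplex A ℤ) (n : ℤ)
    [K.IsStrictlyGE n] :
    ∃ (L : CochainComplex A ℤ) (i : K ⟶ L), Mono i ∧ QuasiIso i ∧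
      (∀ k, Injective (L.X k)) ∧ L.IsStrictlyGE n := by
  have : HasDerivedCategory A := MorphismProperty.HasLocalization.standard _
  obtain ⟨L, i, _, _, hL, _⟩ := exists_mono_quasiIso_injective K (n - 1) n (by simp)
  have : L.IsGE n := by
    rw [CochainComplex.isGE_iff]
    intro j hj
    exact (exactAt_iff_of_quasiIsoAt i j).1 (K.exactAt_of_isGE n j hj)
  have : QuasiIso (L.πTruncGE n) := (L.quasiIso_πTruncGE_iff n).mpr inferInstance
  have : Injective (L.opcycles n) :=
    L.injective_opcycles (n - 1) n (L.exactAt_of_isGE n (n - 1))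
  have hiso : ∀ q, n < q → IsIso ((L.πTruncGE n).f q) := by
    intro q hq
    have he : (ComplexShape.embeddingUpIntGE n).f (q - n).natAbs = q := by
      change n + ((q - n).natAbs : ℤ) = q
      lia
    refine ((ComplexShape.embeddingUpIntGE n).isIso_liftExtend_f_iff
      (L.restrictionToTruncGE' _) (L.restrictionToTruncGE'_hasLift _) he).2 ?_
    apply HomologicalComplex.isIso_restrictionToTruncGE'
    intro h
    rw [ComplexShape.boundaryGE_embeddingUpIntGE_iff, Int.natAbs_eq_zero] at h
    lia
  have hm : ∀ q, Mono ((i ≫ L.πTruncGE n).f q) := by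
    intro q
    obtain h | h | h := lt_trichotomy q n
    · exact ⟨fun _ _ _ => (K.isZero_of_isStrictlyGE n q h).eq_of_tgt _ _⟩
    · subst h
      have := hiso (q + 1) (by lia)
      have : Mono ((i ≫ L.πTruncGE q).f (q + 1)) := by
        rw [HomologicalComplex.comp_f]; infer_instance
      exact mono_f_of_quasiIso _ q
    · have := hiso q h
      rw [HomologicalComplex.comp_f]; infer_instance
  refine ⟨L.truncGE n, i ≫ L.πTruncGE n, HomologicalComplex.mono_of_mono_f _ hm, inferInstance,
    fun q ↦ ?_, inferInstance⟩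
  obtain h | rfl | h := lt_trichotomy q n
  · exact ((L.truncGE n).isZero_of_isStrictlyGE n q h).injective
  · exact Injective.of_iso (L.truncGEXIsoOpcycles q).symm inferInstance
  · exact Injective.of_iso (L.truncGEXIso n q h).symm (hL q)

lemma quasiIso_f_of_acyclic (T : ShortComplex (CochainComplex A ℤ)) (hT : T.ShortExact)
    (h : T.X₃.Acyclic) : QuasiIso T.f := by
  rw [quasiIso_iff]
  intro i
  rw [quasiIsoAt_iff_isIso_homologyMap]
  have : Mono (homologyMap T.f i) :=
    (hT.homology_exact₁ (i - 1) i (by simp)).mono_g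
      (((exactAt_iff_isZero_homology _ _).1 (h (i - 1))).eq_of_src _ _)
  have : Epi (homologyMap T.f i) :=
    (hT.homology_exact₂ i).epi_f
      (((exactAt_iff_isZero_homology _ _).1 (h i)).eq_of_tgt _ _)
  exact isIso_of_mono_of_epi _

variable {C : Type*} [Category C] [Abelian C]

lemma shortExact_pushout (S : ShortComplex C) (hS : S.ShortExact) {I : C} (a : S.X₁ ⟶ I) :
    ∃ (g : pushout a S.f ⟶ S.X₃) (w : pushout.inl a S.f ≫ g = 0),
      (ShortComplex.mk _ g w).ShortExact ∧ pushout.inr a S.f ≫ g = S.g := by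
  have := hS.mono_f
  have := hS.epi_g
  let g : pushout a S.f ⟶ S.X₃ := pushout.desc 0 S.g (by simp)
  have w : pushout.inl a S.f ≫ g = 0 := pushout.inl_desc _ _ _
  have hr : pushout.inr a S.f ≫ g = S.g := pushout.inr_desc _ _ _
  have hepi : Epi g := by
    have : Epi (pushout.inr a S.f ≫ g) := by rw [hr]; infer_instance
    exact epi_of_epi (pushout.inr a S.f) g
  refine ⟨g, w, ?_, hr⟩
  exact
    { exact := by
        apply ShortComplex.exact_of_g_is_cokernel
        refine CokernelCofork.IsColimit.ofπ g w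
          (fun {W} k hk => hS.gIsCokernel.desc (CokernelCofork.ofπ (pushout.inr a S.f ≫ k)
            (by rw [← pushout.condition_assoc, hk, comp_zero]))) ?_ ?_
        · intro W k hk
          apply pushout.hom_ext
          · rw [reassoc_of% w, zero_comp]
            exact hk.symm
          · rw [reassoc_of% hr]
            exact hS.gIsCokernel.fac _ WalkingParallelPair.one
        · intro W k hk m hm
          rw [← cancel_epi S.g]
          erw [hS.gIsCokernel.fac _ WalkingParallelPair.one]
          rw [← hr, Category.assoc, hm]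
          rfl
      mono_f := (inferInstance : Mono (pushout.inl a S.f))
      epi_g := hepi }

theorem exists_resolution [EnoughInjectives A]
    (S : ShortComplex (CochainComplex A ℤ)) (hS : S.ShortExact) (n : ℤ)
    [S.X₁.IsStrictlyGE n] [S.X₂.IsStrictlyGE n] [S.X₃.IsStrictlyGE n] :
    ∃ (T : ShortComplex (CochainComplex A ℤ)) (φ : S ⟶ T), T.ShortExact ∧
      T.X₁.IsStrictlyGE n ∧ T.X₂.IsStrictlyGE n ∧ T.X₃.IsStrictlyGE n ∧
      (∀ k : ℤ, Injective (T.X₁.X k) ∧ Injective (T.X₂.X k) ∧ Injective (T.X₃.X k)) ∧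
      QuasiIso φ.τ₁ ∧ QuasiIso φ.τ₂ ∧ QuasiIso φ.τ₃ := by
  obtain ⟨I, a, hma, hqa, hI, hIge⟩ := exists_mono_quasiIso S.X₁ n
  obtain ⟨g, w, hP, hg⟩ := shortExact_pushout S hS a
  have hf := hS.mono_f
  -- the second short exact sequence through the pushout, with acyclic cokernel
  have : Mono (pushout.inr a S.f) := inferInstance
  let S₀ : ShortComplex (CochainComplex A ℤ) := ShortComplex.mk a (cokernel.π a) (by simp)
  have hS₀ : S₀.ShortExact :=
    { exact := ShortComplex.exact_of_g_is_cokernel _ (cokernelIsCokernel a)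
      mono_f := hma
      epi_g := inferInstanceAs (Epi (cokernel.π a)) }
  let e := pushoutSymmetry a S.f
  obtain ⟨g', w', hP', -⟩ := shortExact_pushout S₀ hS₀ S.f
  have hq₁ : QuasiIso (pushout.inl S.f a) := quasiIso_f_of_acyclic _ hP' (hS₀.acyclic_X₃ hqa)
  have hq₂ : QuasiIso (pushout.inr a S.f) := by
    rw [show pushout.inr a S.f = pushout.inl S.f a ≫ e.inv by simp [e]]
    infer_instance
  have hPge : (pushout a S.f).IsStrictlyGE n := by
    rw [CochainComplex.isStrictlyGE_iff]
    intro i hi
    have hX := hP.map_of_exact (HomologicalComplex.eval A (ComplexShape.up ℤ) i)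
    exact hX.exact.isZero_of_both_zeros ((I.isZero_of_isStrictlyGE n i hi).eq_of_src _ _)
      ((S.X₃.isZero_of_isStrictlyGE n i hi).eq_of_tgt _ _)
  obtain ⟨J, j, hmj, hqj, hJ, hJge⟩ := exists_mono_quasiIso (pushout a S.f) n
  let T : ShortComplex (CochainComplex A ℤ) :=
    ShortComplex.mk (pushout.inl a S.f ≫ j) (cokernel.π (pushout.inl a S.f ≫ j)) (cokernel.condition _)
  have : Mono (pushout.inl a S.f) := inferInstance
  have hT : T.ShortExact :=
    { exact := ShortComplex.exact_of_g_is_cokernel _ (cokernelIsCokernel _)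
      mono_f := mono_comp _ _
      epi_g := inferInstanceAs (Epi (cokernel.π _)) }
  let S₁ : ShortComplex (CochainComplex A ℤ) := ShortComplex.mk _ g w
  let c : S.X₃ ⟶ T.X₃ :=
    hS.gIsCokernel.desc (CokernelCofork.ofπ (pushout.inr a S.f ≫ j ≫ T.g)
      (by rw [← pushout.condition_assoc, ← Category.assoc (pushout.inl a S.f)]
          change a ≫ T.f ≫ T.g = 0
          rw [T.zero, comp_zero]))
  let φ : S ⟶ T :=
    { τ₁ := a
      τ₂ := pushout.inr a S.f ≫ j
      τ₃ := c
      comm₁₂ := by
        change a ≫ pushout.inl a S.f ≫ j = S.f ≫ pushout.inr a S.f ≫ j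
        rw [pushout.condition_assoc]
      comm₂₃ := by
        exact ((hS.gIsCokernel.fac (CokernelCofork.ofπ (pushout.inr a S.f ≫ j ≫ T.g) _)
          WalkingParallelPair.one).trans (Category.assoc _ _ _).symm).symm }
  have h₁ : QuasiIso φ.τ₁ := hqa
  have h₂ : QuasiIso φ.τ₂ := by
    change QuasiIso (pushout.inr a S.f ≫ j)
    infer_instance
  have hsplit : ∀ k, (T.map (HomologicalComplex.eval A (ComplexShape.up ℤ) k)).ShortExact :=
    fun k => hT.map_of_exact _
  refine ⟨T, φ, hT, hIge, hJge, ?_, fun k => ⟨hI k, hJ k, ?_⟩, h₁, h₂,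
    HomologicalComplex.HomologySequence.quasiIso_τ₃ φ hS hT h₁ h₂⟩
  · rw [CochainComplex.isStrictlyGE_iff]
    intro i hi
    exact @IsZero.of_epi _ _ _ _ _ (T.map (HomologicalComplex.eval A (ComplexShape.up ℤ) i)).g
      (hsplit i).epi_g (J.isZero_of_isStrictlyGE n i hi)
  · have : Injective (T.map (HomologicalComplex.eval A (ComplexShape.up ℤ) k)).X₁ := hI k
    let s := (hsplit k).splittingOfInjective
    have hJk : Injective (T.map (HomologicalComplex.eval A (ComplexShape.up ℤ) k)).X₂ := hJ k
    constructor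
    intro X Y p f hf
    refine ⟨Injective.factorThru (p ≫ s.s) f ≫
      (T.map (HomologicalComplex.eval A (ComplexShape.up ℤ) k)).g, ?_⟩
    rw [Injective.comp_factorThru_assoc, Category.assoc]
    erw [s.s_g]
    exact Category.comp_id p

end Groth.Agent.InjResSES
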