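import Groth.Agent.KTheory.PerfCoh
import Groth.Agent.QCohMod.Killed
import Groth.Prelude.Def_DerSch2
import Mathlib.CategoryTheory.Limits.Preserves.Shapes.Kernels

/-!
# Relatively pseudo-coherent objects on quasi-compact schemes are bounded above
-/

set_option autoImplicit false
universe u

open CategoryTheory CategoryTheory.Limits AlgebraicGeometry TopologicalSpace

attribute [local instance] HasDerivedCategory.standard

namespace Groth.KTheory.RelPC

variable {X : Scheme.{u}}

/-- A left exact faithful functor reflects exactness. -/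
theorem exact_of_map {A B : Type*} [Category A] [Abelian A] [Category B] [Abelian B] (F : A ⥤ B)
    [F.PreservesZeroMorphisms] [PreservesFiniteLimits F] [F.Faithful] (S : ShortComplex A)
    (h : (S.map F).Exact) : S.Exact := by
  rw [ShortComplex.exact_iff_epi_kernel_lift] at h ⊢
  refine F.epi_of_epi_map ?_
  have e : F.map (kernel.lift S.g S.f S.zero) ≫ (PreservesKernel.iso F S.g).hom =
      kernel.lift (S.map F).g (S.map F).f (S.map F).zero := by
    rw [PreservesKernel.iso_hom, map_lift_kernelComparison]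
    rfl
  rw [(Iso.eq_comp_inv _).2 e]
  exact @epi_comp _ _ _ _ _ _ h _ inferInstance

theorem isZero_restrict_homology (V : X.Opens) (F : CochainComplex X.Modules ℤ) (i : ℤ)
    (h : IsZero ((DerivedCategory.homologyFunctor _ i).obj
      (DerivedCategory.Q.obj ((DCoh.restrictCx V).obj F)))) :
    IsZero ((F.homology i).restrict V.ι) :=
  h.of_iso (((F.sc i).mapHomologyIso (Scheme.Modules.restrictFunctor V.ι)).symm ≪≫
    ((DerivedCategory.homologyFunctorFactors _ i).app ((DCoh.restrictCx V).obj F)).symm)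

/-- A pseudo-coherent complex on a quasi-compact scheme has homology bounded above. -/
theorem exists_isZero_homology [CompactSpace X] {C : CochainComplex X.Modules ℤ} {m : ℤ}
    (h : DCoh.IsPseudoCoherentD m (DCoh.toD X C)) :
    ∃ b : ℤ, ∀ i : ℤ, b < i → IsZero (C.homology i) := by
  choose V hxV hV using h
  choose E α hE hiso _ using fun x => hV x C ⟨Iso.refl _⟩
  choose a b hab using fun x => (hE x).1
  obtain ⟨t, ht⟩ := isCompact_univ.elim_finite_subcover (fun x => (V x : Set X))
    (fun x => (V x).2) (fun x _ => Set.mem_iUnion.2 ⟨x, hxV x⟩)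
  obtain ⟨B, hB⟩ := (t.image b).bddAbove
  refine ⟨max m B, fun i hi => Perf.isZero_of_local fun y => ?_⟩
  obtain ⟨x, hxt, hy⟩ := Set.mem_iUnion₂.1 (ht (Set.mem_univ y))
  have hbi : b x < i :=
    lt_of_le_of_lt ((hB (Finset.mem_image_of_mem b hxt)).trans (le_max_right m B)) hi
  have := hiso x i (lt_of_le_of_lt (le_max_left m B) hi)
  refine ⟨V x, hy, isZero_restrict_homology _ _ i ?_⟩
  exact (((HomologicalComplex.exactAt_iff_isZero_homology _ _).1
    (HomologicalComplex.ExactAt.of_isZero (hab x i (Or.inr hbi)))).of_iso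
      ((DerivedCategory.homologyFunctorFactors _ i).app _)).of_iso
        (asIso ((DerivedCategory.homologyFunctor _ i).map (α x))).symm

theorem exists_isLE_of_isPseudoCoherentRel {Y : Scheme.{u}} [CompactSpace X] (f : X ⟶ Y) (n : ℤ)
    (K : DCoh.D X) (hK : DerSch.IsPseudoCoherentRel f n K) : ∃ b : ℤ, K.IsLE b := by
  obtain ⟨-, 𝒱, h𝒱, hV⟩ := hK
  obtain ⟨G, ⟨e⟩⟩ := Perf.exists_rep K
  have key : ∀ x : X, ∃ (U : X.Opens) (b : ℤ), x ∈ U ∧
      ∀ i, b < i → IsZero ((G.homology i).restrict U.ι) := by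
    intro x
    obtain ⟨V, hV', hxV⟩ : ∃ V ∈ 𝒱, f x ∈ (V : Y.Opens) := by
      have : f x ∈ (⊤ : Y.Opens) := trivial
      simpa [← h𝒱, Opens.mem_iSup] using this
    obtain ⟨𝒰, h𝒰, hU⟩ := hV V hV'
    obtain ⟨U, hU', hxU⟩ : ∃ U ∈ 𝒰, x ∈ (U : X.Opens) := by
      have : x ∈ f ⁻¹ᵁ (V : Y.Opens) := hxV
      simpa [← h𝒰, Opens.mem_iSup] using this
    obtain ⟨k, φ, ⟨hφ, -⟩, hpc⟩ := hU U hU'
      (h𝒰 ▸ le_iSup₂ (f := fun (W : X.affineOpens) (_ : W ∈ 𝒰) => (W : X.Opens)) U hU')
    let g := DerSch.chartImm (U : X.Opens) φ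
    have : IsClosedImmersion g := by
      have : IsIso (U : X.Opens).toSpecΓ := U.2.isoSpec.isIso_hom
      have := IsClosedImmersion.spec_of_surjective (CommRingCat.ofHom φ) hφ
      exact MorphismProperty.comp_mem @IsClosedImmersion _ _ inferInstance this
    obtain ⟨b, hb⟩ := exists_isZero_homology (hpc G ⟨e⟩)
    refine ⟨U, b, hxU, fun i hi => ?_⟩
    have : PreservesFiniteLimits (Scheme.Modules.pushforward g) :=
      have : PreservesLimitsOfSize.{0, 0} (Scheme.Modules.pushforward g) :=
        (Scheme.Modules.pullbackPushforwardAdjunction g).rightAdjoint_preservesLimits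
      inferInstance
    refine IsZero.of_iso ((HomologicalComplex.exactAt_iff_isZero_homology
      ((DCoh.restrictCx (U : X.Opens)).obj G) i).1 ?_)
      ((G.sc i).mapHomologyIso (Scheme.Modules.restrictFunctor (U : X.Opens).ι)).symm
    exact exact_of_map (Scheme.Modules.pushforward g)
      (((DCoh.restrictCx (U : X.Opens)).obj G).sc i)
      ((HomologicalComplex.exactAt_iff_isZero_homology _ i).2 (hb i hi))
  choose U b hxU hb using key
  obtain ⟨t, ht⟩ := isCompact_univ.elim_finite_subcover (fun x => (U x : Set X))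
    (fun x => (U x).2) (fun x _ => Set.mem_iUnion.2 ⟨x, hxU x⟩)
  obtain ⟨B, hB⟩ := (t.image b).bddAbove
  refine ⟨B, (DerivedCategory.isLE_iff _ _).2 fun i hi => ?_⟩
  refine IsZero.of_iso (Perf.isZero_of_local (M := G.homology i) fun y => ?_)
    ((DerivedCategory.homologyFunctor _ i).mapIso e.symm ≪≫
      (DerivedCategory.homologyFunctorFactors _ i).app G)
  obtain ⟨x, hxt, hy⟩ := Set.mem_iUnion₂.1 (ht (Set.mem_univ y))
  exact ⟨U x, hy, hb x i (lt_of_le_of_lt (hB (Finset.mem_image_of_mem b hxt)) hi)⟩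

end Groth.KTheory.RelPC
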