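import Groth.Agent.KTheory.LocFree
import Groth.Agent.LocFree.Basic
import Groth.Agent.CohBase.AffineHomCriterion
import Groth.Prelude.Def_DCoh2
import Mathlib.Algebra.Homology.ShortComplex.ExactFunctor
import Mathlib.Algebra.Homology.DerivedCategory.HomologySequence

/-!
# Local lifting and null homotopies for strictly perfect complexes
-/

set_option autoImplicit false
universe u

open CategoryTheory CategoryTheory.Limits AlgebraicGeometry Opposite TopologicalSpace

namespace Groth.KTheory.Perf

open Groth.PicAux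

attribute [local instance] HasDerivedCategory.standard

instance (priority := 900) instPreservesFiniteLimitsRestrict {Z X : Scheme.{u}} (g : Z ⟶ X)
    [IsOpenImmersion g] : PreservesFiniteLimits (Scheme.Modules.restrictFunctor g) :=
  Groth.CohBase.preservesFiniteLimits_restrictFunctor g

instance (priority := 900) instPreservesFiniteColimitsRestrict {Z X : Scheme.{u}} (g : Z ⟶ X)
    [IsOpenImmersion g] : PreservesFiniteColimits (Scheme.Modules.restrictFunctor g) :=
  ⟨fun _ _ _ => inferInstance⟩

variable {X U : Scheme.{u}}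

/-- Restriction of complexes along an open immersion. -/
noncomputable abbrev Rc (j : U ⟶ X) [IsOpenImmersion j] :
    CochainComplex X.Modules ℤ ⥤ CochainComplex U.Modules ℤ :=
  (Scheme.Modules.restrictFunctor j).mapHomologicalComplex (ComplexShape.up ℤ)

/-- A map out of a finite locally free module lifts locally through an epimorphism. -/
theorem exists_local_lift {P M N : X.Modules} (g : M ⟶ N) [Epi g] (φ : P ⟶ N)
    (hP : FlatMod.IsFinLocFree P) (x : X) :
    ∃ (V : X.Opens), x ∈ V ∧ ∃ ψ : P.restrict V.ι ⟶ M.restrict V.ι,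
      ψ ≫ (Scheme.Modules.restrictFunctor V.ι).map g =
        (Scheme.Modules.restrictFunctor V.ι).map φ := by
  obtain ⟨U, n, s, hx, hs⟩ := exists_basis_of_isFinLocFree hP x
  obtain ⟨V, hV, m, hxV, hm⟩ := LocFree.exists_lift (g := g) hx fun i => φ.app U (s i)
  have hs' := hs.res' hV
  rw [basis'_iff_restrict] at hs'
  obtain ⟨d, hd⟩ := hs'.exists_split
  have hle : V.ι ''ᵁ ⊤ ≤ V := (Scheme.Opens.ι_image_top V).le
  let m' : Fin n → Γ(M.restrict V.ι, ⊤) := fun i => res M hle (m i)
  refine ⟨V, hxV, ∑ i, d.p i ≫ homOfSection (m' i), ?_⟩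
  have key : ∀ i, homOfSection (m' i) ≫ (Scheme.Modules.restrictFunctor V.ι).map g =
      d.s i ≫ (Scheme.Modules.restrictFunctor V.ι).map φ := by
    intro i
    refine hom_structure_ext ?_
    change g.app (V.ι ''ᵁ ⊤) ((homOfSection (m' i)).app ⊤ (oneSec _ ⊤)) =
      φ.app (V.ι ''ᵁ ⊤) ((d.s i).app ⊤ (oneSec _ ⊤))
    rw [homOfSection_one, hd]
    change g.app (V.ι ''ᵁ ⊤) (res M hle (m i)) = φ.app (V.ι ''ᵁ ⊤) (res P hle (res P hV (s i)))
    rw [app_res, hm, app_res, app_res, res_res]
  calc (∑ i, d.p i ≫ homOfSection (m' i)) ≫ (Scheme.Modules.restrictFunctor V.ι).map g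
      = ∑ i, d.p i ≫ d.s i ≫ (Scheme.Modules.restrictFunctor V.ι).map φ := by
        rw [Preadditive.sum_comp]
        exact Finset.sum_congr rfl fun i _ => by rw [Category.assoc, key]
    _ = (∑ i, d.p i ≫ d.s i) ≫ (Scheme.Modules.restrictFunctor V.ι).map φ := by
        simp [Preadditive.sum_comp]
    _ = _ := by rw [d.total, Category.id_comp]

theorem rc_exact (j : U ⟶ X) [IsOpenImmersion j] {F : CochainComplex X.Modules ℤ} {i : ℤ}
    (h : IsZero (F.homology i)) : IsZero (((Rc j).obj F).homology i) := by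
  rw [← HomologicalComplex.exactAt_iff_isZero_homology,
    HomologicalComplex.exactAt_iff' _ (i - 1) i (i + 1) (by simp) (by simp)] at h ⊢
  exact h.map (Scheme.Modules.restrictFunctor j)

theorem rc_isZero (j : U ⟶ X) [IsOpenImmersion j] {F : CochainComplex X.Modules ℤ} {i : ℤ}
    (h : IsZero (F.X i)) : IsZero (((Rc j).obj F).X i) :=
  (Scheme.Modules.restrictFunctor j).map_isZero h

theorem rc_isStrictlyPerfect (j : U ⟶ X) [IsOpenImmersion j] {E : CochainComplex X.Modules ℤ}
    (h : DCoh.IsStrictlyPerfect E) : DCoh.IsStrictlyPerfect ((Rc j).obj E) := by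
  obtain ⟨⟨a, b, hab⟩, hfl⟩ := h
  exact ⟨⟨a, b, fun i hi => rc_isZero j (hab i hi)⟩,
    fun i => Groth.LocFree.isFinLocFree_restrict j (hfl i)⟩

/-- Restricting twice. -/
noncomputable def rcCompIso {W : Scheme.{u}} {k : W ⟶ U} {j : U ⟶ X} {l : W ⟶ X}
    [IsOpenImmersion k] [IsOpenImmersion j] [IsOpenImmersion l] (e : l = k ≫ j) :
    Rc l ≅ Rc j ⋙ Rc k :=
  NatIso.mapHomologicalComplex
    (Scheme.Modules.restrictFunctorCongr e ≪≫ Scheme.Modules.restrictFunctorComp k j) _ ≪≫
  NatIso.ofComponents (fun _ => HomologicalComplex.Hom.isoOfComponents (fun _ => Iso.refl _))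
    fun _ => HomologicalComplex.Hom.ext <| funext fun _ =>
      (Category.comp_id _).trans (Category.id_comp _).symm

theorem homotopic_comp {W : Scheme.{u}} {k : W ⟶ U} {j : U ⟶ X} {l : W ⟶ X}
    [IsOpenImmersion k] [IsOpenImmersion j] [IsOpenImmersion l] (e : l = k ≫ j)
    {E F : CochainComplex X.Modules ℤ} {α β : E ⟶ F}
    (h : Nonempty (Homotopy ((Rc k).map ((Rc j).map α)) ((Rc k).map ((Rc j).map β)))) :
    Nonempty (Homotopy ((Rc l).map α) ((Rc l).map β)) := by
  obtain ⟨h⟩ := h
  refine ⟨((Homotopy.ofEq ?_).trans ((h.compLeft ((rcCompIso e).hom.app E)).compRight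
    ((rcCompIso e).inv.app F))).trans (Homotopy.ofEq ?_)⟩
  · rw [← Functor.comp_map, ← (rcCompIso e).hom.naturality, Category.assoc, Iso.hom_inv_id_app,
      Category.comp_id]
  · rw [← Functor.comp_map, ← (rcCompIso e).hom.naturality, Category.assoc, Iso.hom_inv_id_app,
      Category.comp_id]

theorem exists_nullHomotopy_aux (n : ℕ) : ∀ {X : Scheme.{u}} {E F : CochainComplex X.Modules ℤ}
    (α : E ⟶ F) (a : ℤ), (∀ i, FlatMod.IsFinLocFree (E.X i)) → (∀ i, i < a → IsZero (E.X i)) →
    (∀ i, a ≤ i → IsZero (F.homology i)) → (∀ i, a + n ≤ i → α.f i = 0) → ∀ x : X,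
    ∃ (U : Scheme.{u}) (j : U ⟶ X) (_ : IsOpenImmersion j), x ∈ Set.range j.base ∧
      Nonempty (Homotopy ((Rc j).map α) 0) := by
  induction n with
  | zero =>
    intro X E F α a _ hEa _ hα x
    refine ⟨X, 𝟙 X, inferInstance, ⟨x, rfl⟩, ⟨Homotopy.ofEq ?_⟩⟩
    have : α = 0 := by
      ext i : 1
      by_cases hi : i < a
      · exact (hEa i hi).eq_of_src _ _
      · exact hα i (by omega)
    rw [this, Functor.map_zero]
  | succ n ih =>
    intro X E F α a hE hEa hF hα x
    generalize hc : a + (n : ℤ) = c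
    have hS := hF c (by omega)
    rw [← HomologicalComplex.exactAt_iff_isZero_homology,
      HomologicalComplex.exactAt_iff' _ (c - 1) c (c + 1) (by simp) (by simp)] at hS
    have := hS.epi_toCycles
    have hz : α.f c ≫ (F.sc' (c - 1) c (c + 1)).g = 0 := by
      change α.f c ≫ F.d c (c + 1) = 0
      rw [α.comm, hα (c + 1) (by omega), comp_zero]
    obtain ⟨V, hxV, ψ, hψ⟩ := exists_local_lift (F.sc' (c - 1) c (c + 1)).toCycles
      ((F.sc' (c - 1) c (c + 1)).liftCycles _ hz) (hE c) x
    let R := Scheme.Modules.restrictFunctor V.ι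
    have hψ' : ψ ≫ R.map (F.d (c - 1) c) = R.map (α.f c) := by
      have := congrArg (· ≫ R.map (F.sc' (c - 1) c (c + 1)).iCycles) hψ
      simp only [Category.assoc, ← Functor.map_comp, ShortComplex.toCycles_i,
        ShortComplex.liftCycles_i, R] at this
      exact this
    let E' := (Rc V.ι).obj E
    let F' := (Rc V.ι).obj F
    let h : ∀ i j, (ComplexShape.up ℤ).Rel j i → (E'.X i ⟶ F'.X j) := fun i j r =>
      if hi : i = c then
        eqToHom (by subst hi; rfl) ≫ ψ ≫ eqToHom (by
          have : j + 1 = i := r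
          have : j = c - 1 := by omega
          subst this; rfl)
      else 0
    have hh : ∀ i j (r : (ComplexShape.up ℤ).Rel j i), i ≠ c → h i j r = 0 := fun i j r hi => dif_neg hi
    let α' : E' ⟶ F' := (Rc V.ι).map α - Homotopy.nullHomotopicMap' h
    have hα' : ∀ i, a + n ≤ i → α'.f i = 0 := by
      intro i hi
      have r₂₁ : (ComplexShape.up ℤ).Rel (i - 1) i := by simp
      have r₁₀ : (ComplexShape.up ℤ).Rel i (i + 1) := by simp
      simp only [α', HomologicalComplex.sub_f_apply,
        Homotopy.nullHomotopicMap'_f r₂₁ r₁₀]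
      rw [hh (i + 1) i r₁₀ (by omega)]
      rw [hc] at hi
      rcases hi.eq_or_lt with rfl | hlt
      · have : h c (c - 1) r₂₁ = ψ := by
          simp only [h, dite_true]
          exact (Category.id_comp _).trans (Category.comp_id _)
        rw [this]
        simp only [comp_zero, zero_add]
        exact sub_eq_zero.2 hψ'.symm
      · rw [hh i (i - 1) r₂₁ (by omega)]
        simp only [Functor.mapHomologicalComplex_map_f, hα i (by omega), Functor.map_zero,
          comp_zero, zero_comp, add_zero, sub_zero]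
        rfl
    obtain ⟨W, k, hk, ⟨w, hw⟩, ⟨hom⟩⟩ := ih α' a (fun i => Groth.LocFree.isFinLocFree_restrict V.ι (hE i))
      (fun i hi => rc_isZero V.ι (hEa i hi)) (fun i hi => rc_exact V.ι (hF i hi)) hα' ⟨x, hxV⟩
    refine ⟨W, k ≫ V.ι, inferInstance, ⟨w, ?_⟩, ?_⟩
    · simp [hw]
    · obtain ⟨H⟩ := homotopic_comp (j := V.ι) (k := k) (l := k ≫ V.ι) rfl (α := α) (β := 0) (by
        refine ⟨(Homotopy.ofEq ?_).trans ((hom.add
          ((Scheme.Modules.restrictFunctor k).mapHomotopy (Homotopy.nullHomotopy' h))).trans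
            (Homotopy.ofEq ?_))⟩
        · rw [← Functor.map_add, sub_add_cancel]
        · simp)
      exact ⟨H.trans (Homotopy.ofEq (by simp))⟩

/-- Locally, maps from a strictly perfect complex to a complex without cohomology in its range
are null homotopic. -/
theorem exists_nullHomotopy {E F : CochainComplex X.Modules ℤ} (α : E ⟶ F)
    (hE : DCoh.IsStrictlyPerfect E) (a : ℤ) (hEa : ∀ i : ℤ, i < a → IsZero (E.X i))
    (hF : ∀ i : ℤ, a ≤ i → IsZero (F.homology i)) (x : X) :
    ∃ V : X.Opens, x ∈ V ∧ Nonempty (Homotopy ((Rc V.ι).map α) 0) := by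
  obtain ⟨⟨a', b, hb⟩, hfl⟩ := hE
  obtain ⟨U, j, hj, hx, ⟨H⟩⟩ := exists_nullHomotopy_aux (b + 1 - a).toNat α a hfl hEa hF
    (fun i hi => (hb i (Or.inr (by omega))).eq_of_src _ _) x
  refine ⟨j.opensRange, hx, ?_⟩
  obtain ⟨H'⟩ := homotopic_comp (j := j) (k := j.isoOpensRange.inv) (l := j.opensRange.ι)
    (j.isoOpensRange_inv_comp).symm (α := α) (β := 0)
    ⟨((Scheme.Modules.restrictFunctor j.isoOpensRange.inv).mapHomotopy H).trans
      (Homotopy.ofEq (by simp))⟩
  exact ⟨H'.trans (Homotopy.ofEq (by simp))⟩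

theorem isZero_homology_mappingCone {F G : CochainComplex X.Modules ℤ} (f : G ⟶ F) (a : ℤ)
    (hf : ∀ j : ℤ, a < j → IsIso (HomologicalComplex.homologyMap f j))
    (hfa : Epi (HomologicalComplex.homologyMap f a)) (i : ℤ) (hi : a ≤ i) :
    IsZero ((CochainComplex.mappingCone f).homology i) := by
  let T := DerivedCategory.Q.mapTriangle.obj (CochainComplex.mappingCone.triangle f)
  have hT : T ∈ Pretriangulated.distinguishedTriangles :=
    DerivedCategory.mappingCone_triangle_distinguished f
  have key : ∀ n : ℤ, (DerivedCategory.homologyFunctor X.Modules n).map T.mor₁ =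
      (DerivedCategory.homologyFunctorFactors X.Modules n).hom.app G ≫
        HomologicalComplex.homologyMap f n ≫
        (DerivedCategory.homologyFunctorFactors X.Modules n).inv.app F := fun n =>
    (NatIso.naturality_2 (DerivedCategory.homologyFunctorFactors X.Modules n) f).symm
  have hepi : Epi ((DerivedCategory.homologyFunctor X.Modules i).map T.mor₁) := by
    rw [key]
    have : Epi (HomologicalComplex.homologyMap f i) := by
      rcases hi.eq_or_lt with rfl | h'
      · exact hfa
      · have := hf i h'; infer_instance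
    exact epi_comp' (@IsIso.epi_of_iso _ _ _ _ _
      (((DerivedCategory.homologyFunctorFactors X.Modules i).app G).isIso_hom))
      (epi_comp' this (@IsIso.epi_of_iso _ _ _ _ _
        (((DerivedCategory.homologyFunctorFactors X.Modules i).app F).isIso_inv)))
  have hmono : Mono ((DerivedCategory.homologyFunctor X.Modules (i + 1)).map T.mor₁) := by
    rw [key]
    have := hf (i + 1) (by omega)
    exact mono_comp' (@IsIso.mono_of_iso _ _ _ _ _
      (((DerivedCategory.homologyFunctorFactors X.Modules (i + 1)).app G).isIso_hom))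
      (mono_comp' (@IsIso.mono_of_iso _ _ _ _ _ this) (@IsIso.mono_of_iso _ _ _ _ _
        (((DerivedCategory.homologyFunctorFactors X.Modules (i + 1)).app F).isIso_inv)))
  rw [DerivedCategory.HomologySequence.epi_homologyMap_mor₁_iff T hT i] at hepi
  rw [DerivedCategory.HomologySequence.mono_homologyMap_mor₁_iff T hT i (i + 1) rfl] at hmono
  exact ((DerivedCategory.HomologySequence.exact₃ T hT i (i + 1) rfl).isZero_of_both_zeros
    hepi hmono).of_iso
      ((DerivedCategory.homologyFunctorFactors X.Modules i).app _).symm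

/-- Locally, maps from a strictly perfect complex lift up to homotopy through a morphism which is
a quasi-isomorphism in the range of that complex. -/
theorem exists_lift_qis {E F G : CochainComplex X.Modules ℤ}
    (α : E ⟶ F) (f : G ⟶ F) (hE : DCoh.IsStrictlyPerfect E) (a : ℤ)
    (hEa : ∀ j : ℤ, j < a → IsZero (E.X j))
    (hf : ∀ j : ℤ, a < j → IsIso (HomologicalComplex.homologyMap f j))
    (hfa : Epi (HomologicalComplex.homologyMap f a)) (x : X) :
    ∃ (V : X.Opens) (β : (Rc V.ι).obj E ⟶ (Rc V.ι).obj G), x ∈ V ∧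
      Nonempty (Homotopy (β ≫ (Rc V.ι).map f) ((Rc V.ι).map α)) := by
  have hcone : ∀ i : ℤ, a ≤ i → IsZero ((CochainComplex.mappingCone f).homology i) :=
    fun i hi => isZero_homology_mappingCone f a hf hfa i hi
  have hT := HomotopyCategory.mappingCone_triangleh_distinguished f
  obtain ⟨V, hxV, ⟨H0⟩⟩ :=
    exists_nullHomotopy (α ≫ CochainComplex.mappingCone.inr f) hE a hEa hcone x
  let R := (Scheme.Modules.restrictFunctor V.ι).mapHomotopyCategory (ComplexShape.up ℤ)
  let QV := HomotopyCategory.quotient (V : Scheme.{u}).Modules (ComplexShape.up ℤ)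
  obtain ⟨g, hg⟩ := Pretriangulated.Triangle.coyoneda_exact₂ _ (R.map_distinguished _ hT)
    (X := QV.obj ((Rc V.ι).obj E)) (QV.map ((Rc V.ι).map α)) (by
      have := HomotopyCategory.eq_of_homotopy _ _ H0
      rw [Functor.map_zero, Functor.map_comp, Functor.map_comp] at this
      exact this)
  obtain ⟨β, rfl⟩ := QV.map_surjective g
  refine ⟨V, β, hxV, ⟨HomotopyCategory.homotopyOfEq _ _ ?_⟩⟩
  rw [Functor.map_comp]
  exact hg.symm

end Groth.KTheory.Perf
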