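import Groth.Agent.Misc7.GSS.Acyclic
import Groth.Agent.Misc7.GSS.RplusHomology
import Mathlib.Algebra.Homology.DerivedCategory.RightDerivedFunctorPlus
import Mathlib.CategoryTheory.Abelian.Injective.Extend
import Mathlib.CategoryTheory.Abelian.RightDerived
import Mathlib.Algebra.Homology.Embedding.ExtendHomology

/-!
# The unit of the right derived functor on `D⁺`
-/

set_option autoImplicit false
universe w w' v v' u u'
open CategoryTheory CategoryTheory.Limits HomologicalComplex

namespace Groth.Agent.RPlusBase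

section

variable {A : Type u} [Category.{v} A] [Abelian A] [HasDerivedCategory.{w} A]

lemma isIso_Qh_map_iff {K L : CochainComplex.Plus A} (f : K ⟶ L) :
    IsIso (DerivedCategory.Plus.Qh.map ((HomotopyCategory.Plus.quotient A).map f)) ↔
      QuasiIso f.hom := by
  rw [← isIso_iff_of_reflects_iso _ DerivedCategory.Plus.ι,
    ← DerivedCategory.isIso_Q_map_iff_quasiIso]
  exact NatIso.isIso_map_iff (DerivedCategory.quotientCompQhIso A) f.hom

end

variable {A : Type u} [Category.{v} A] [Abelian A] [HasDerivedCategory.{w} A] [EnoughInjectives A]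
  {B : Type u'} [Category.{v'} B] [Abelian B] [HasDerivedCategory.{w'} B]
  (F : A ⥤ B) [F.Additive]

lemma isIso_unit_of_injective (I : CochainComplex.Plus A) (hI : ∀ n, Injective (I.obj.X n)) :
    IsIso (F.rightDerivedFunctorPlusUnit.app ((HomotopyCategory.Plus.quotient A).obj I)) := by
  have : ∀ n, Injective (((HomotopyCategory.Plus.quotient A).obj I).obj.as.X n) := hI
  infer_instance

/-- The unit at `K` is an isomorphism iff `F` preserves the quasi-isomorphism from `K` to an
injective resolution of `K`. -/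
theorem isIso_unit_iff {K I : CochainComplex.Plus A} (i : K ⟶ I) [QuasiIso i.hom]
    (hI : ∀ n, Injective (I.obj.X n)) :
    IsIso (F.rightDerivedFunctorPlusUnit.app ((HomotopyCategory.Plus.quotient A).obj K)) ↔
      QuasiIso ((F.mapHomologicalComplex (ComplexShape.up ℤ)).map i.hom) := by
  let q := (HomotopyCategory.Plus.quotient A).map i
  have hu := isIso_unit_of_injective F I hI
  have h1 : IsIso (DerivedCategory.Plus.Qh.map q) := (isIso_Qh_map_iff i).2 inferInstance
  have hnat := F.rightDerivedFunctorPlusUnit.naturality q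
  have h2 : IsIso ((DerivedCategory.Plus.Qh ⋙ F.rightDerivedFunctorPlus).map q) := by
    rw [Functor.comp_map]; infer_instance
  have h3 : IsIso ((F.mapHomotopyCategoryPlus ⋙ DerivedCategory.Plus.Qh).map q) ↔
      QuasiIso ((F.mapHomologicalComplex (ComplexShape.up ℤ)).map i.hom) :=
    isIso_Qh_map_iff (F.mapCochainComplexPlus.map i)
  rw [← h3, ← isIso_comp_right_iff (F.rightDerivedFunctorPlusUnit.app _)
    ((DerivedCategory.Plus.Qh ⋙ F.rightDerivedFunctorPlus).map q), ← hnat]
  exact isIso_comp_right_iff _ _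

omit [HasDerivedCategory A] in
/-- Injective resolution inside `CochainComplex.Plus`. -/
lemma exists_resolution (K : CochainComplex.Plus A) (a : ℤ) [K.obj.IsStrictlyGE a] :
    ∃ (I : CochainComplex.Plus A) (i : K ⟶ I), QuasiIso i.hom ∧ I.obj.IsStrictlyGE a ∧
      ∀ n, Injective (I.obj.X n) := by
  obtain ⟨L, i, hi, hL, hge⟩ :=
    CochainComplex.Plus.modelCategoryQuillen.exists_quasiIso_injective K.obj a
  exact ⟨⟨L, a, hge⟩, ObjectProperty.homMk i, hi, hge, hL⟩

/-- Leray's acyclicity lemma. -/
theorem isIso_unit_of_rightAcyclic [PreservesFiniteLimits F] (K : CochainComplex.Plus A)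
    (hK : ∀ (m : ℤ), Groth.CohFin.RightAcyclic F (K.obj.X m)) :
    IsIso (F.rightDerivedFunctorPlusUnit.app ((HomotopyCategory.Plus.quotient A).obj K)) := by
  obtain ⟨a, ha⟩ := K.property
  obtain ⟨I, i, hi, hge, hI⟩ := exists_resolution K a
  refine (isIso_unit_iff F i hI).2 ?_
  exact Groth.Misc7.GSS.quasiIso_mapHomologicalComplex F a hK
    (fun n => have := hI n; Groth.CohFin.rightAcyclic_of_injective F _) i.hom

theorem isGE_obj (K : DerivedCategory.Plus A) (a : ℤ) [K.IsGE a] :
    (F.rightDerivedFunctorPlus.obj K).IsGE a := by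
  obtain ⟨L, hL, ⟨e⟩⟩ := DerivedCategory.Plus.exists_injective_nonempty_iso K a
  let I := (InjectiveObject.ι A).mapCochainComplexPlus.obj L
  have hge : I.obj.IsStrictlyGE a :=
    (CochainComplex.isStrictlyGE_mapHomologicalComplex_obj_iff _ _ _).2 hL
  have hI : ∀ n, Injective (I.obj.X n) := fun n => (L.obj.X n).property
  have := isIso_unit_of_injective F I hI
  let ε : F.rightDerivedFunctorPlus.obj K ≅
      DerivedCategory.Plus.Qh.obj ((HomotopyCategory.Plus.quotient B).obj (F.mapCochainComplexPlus.obj I)) :=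
    F.rightDerivedFunctorPlus.mapIso e.symm ≪≫
      (asIso (F.rightDerivedFunctorPlusUnit.app ((HomotopyCategory.Plus.quotient A).obj I))).symm
  rw [← DerivedCategory.Plus.isGE_ι_obj_iff]
  have : CochainComplex.IsStrictlyGE ((F.mapHomologicalComplex (ComplexShape.up ℤ)).obj I.obj) a := by
    rw [CochainComplex.isStrictlyGE_iff]
    exact fun k hk => F.map_isZero (I.obj.isZero_of_isStrictlyGE a k hk)
  have : (DerivedCategory.Q.obj ((F.mapHomologicalComplex (ComplexShape.up ℤ)).obj I.obj)).IsGE a :=
    inferInstance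
  let ε' : DerivedCategory.Plus.ι.obj (F.rightDerivedFunctorPlus.obj K) ≅
      DerivedCategory.Q.obj ((F.mapHomologicalComplex (ComplexShape.up ℤ)).obj I.obj) :=
    DerivedCategory.Plus.ι.mapIso ε ≪≫ (DerivedCategory.quotientCompQhIso B).app _
  exact DerivedCategory.TStructure.t.isGE_of_iso ε'.symm a

section single

omit [HasDerivedCategory A] [HasDerivedCategory B] [EnoughInjectives A] in
lemma quasiIsoAt_zero_iff {X : A} (R : InjectiveResolution X) :
    QuasiIsoAt ((F.mapHomologicalComplex (ComplexShape.up ℕ)).map R.ι) 0 ↔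
      IsIso (R.toRightDerivedZero' F) := by
  let g := (F.mapHomologicalComplex (ComplexShape.up ℕ)).map R.ι
  let K := (F.mapHomologicalComplex (ComplexShape.up ℕ)).obj ((CochainComplex.single₀ A).obj X)
  have hd : K.d 0 1 = 0 := by
    change F.map (((CochainComplex.single₀ A).obj X).d 0 1) = 0
    rw [HomologicalComplex.single_obj_d, F.map_zero]
  have h1 : IsIso (K.iCycles 0) := K.isIso_iCycles 0 1 (by simp) hd
  have h2 : inv (K.iCycles 0) ≫ cyclesMap g 0 = R.toRightDerivedZero' F := by
    rw [← cancel_mono (HomologicalComplex.iCycles _ 0), Category.assoc, cyclesMap_i]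
    erw [R.toRightDerivedZero'_comp_iCycles, IsIso.inv_hom_id_assoc]
    rfl
  rw [quasiIsoAt_iff_isIso_homologyMap,
    ← isIso_comp_left_iff (K.homologyπ 0) (homologyMap g 0), homologyπ_naturality,
    isIso_comp_right_iff, ← h2]
  exact (isIso_comp_left_iff (inv (K.iCycles 0)) (cyclesMap g 0)).symm

omit [HasDerivedCategory A] [HasDerivedCategory B] [EnoughInjectives A] in
lemma quasiIsoAt_succ_iff {X : A} (R : InjectiveResolution X) (j : ℕ) :
    QuasiIsoAt ((F.mapHomologicalComplex (ComplexShape.up ℕ)).map R.ι) (j + 1) ↔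
      IsZero (((F.mapHomologicalComplex (ComplexShape.up ℕ)).obj R.cocomplex).homology (j + 1)) := by
  rw [quasiIsoAt_iff_exactAt _ _ ?_, exactAt_iff_isZero_homology]
  rw [exactAt_iff_isZero_homology]
  refine (ShortComplex.exact_iff_isZero_homology _).1 (ShortComplex.exact_of_isZero_X₂ _ ?_)
  exact F.map_isZero (HomologicalComplex.isZero_single_obj_X _ _ _ _ (Nat.succ_ne_zero j))

omit [HasDerivedCategory A] [HasDerivedCategory B] [EnoughInjectives A] in
lemma quasiIso_map_ι'_iff {X : A} (R : InjectiveResolution X) :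
    QuasiIso ((F.mapHomologicalComplex (ComplexShape.up ℤ)).map R.ι') ↔
      QuasiIso ((F.mapHomologicalComplex (ComplexShape.up ℕ)).map R.ι) := by
  let e := ComplexShape.embeddingUpNat
  let a := Groth.Misc7.GSS.mapExtendIso F ((CochainComplex.single₀ A).obj X)
  let b := Groth.Misc7.GSS.mapExtendIso F R.cocomplex
  have hsq : (F.mapHomologicalComplex (ComplexShape.up ℤ)).map (extendMap R.ι e) =
      a.hom ≫ extendMap ((F.mapHomologicalComplex (ComplexShape.up ℕ)).map R.ι) e ≫ b.inv := by
    rw [← Category.assoc, Iso.eq_comp_inv]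
    ext n
    by_cases hn : ∃ k : ℕ, (k : ℤ) = n
    · obtain ⟨k, hk⟩ := hn
      simp only [HomologicalComplex.comp_f, a, b, Groth.Misc7.GSS.mapExtendIso,
        HomologicalComplex.Hom.isoOfComponents_hom_f,
        Groth.Misc7.GSS.mapExtendXIso_eq F _ n k hk, Iso.trans_hom, Functor.mapIso_hom,
        Iso.symm_hom, Functor.mapHomologicalComplex_map_f, extendMap_f _ e hk, Functor.map_comp]
      erw [Category.assoc, Category.assoc, Iso.map_inv_hom_id_assoc, Category.assoc,
        Iso.inv_hom_id_assoc]
      rfl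
    · exact (((F.mapHomologicalComplex _).obj R.cocomplex).isZero_extend_X e n
        (fun k hk => hn ⟨k, hk⟩)).eq_of_tgt _ _
  have hι : R.ι' = (HomologicalComplex.extendSingleIso ComplexShape.embeddingUpNat X _ _ rfl).inv ≫
      extendMap R.ι e := rfl
  erw [hι, Functor.map_comp]
  rw [quasiIso_iff_comp_left]
  erw [hsq]
  exact (quasiIso_iff_comp_left a.hom _).trans
    ((quasiIso_iff_comp_right _ b.inv).trans (quasiIso_extendMap_iff _ _))

/-- An object is right acyclic iff `F X ≅ R⁰F X` and the higher derived functors vanish. -/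
theorem isIso_unit_single_iff (X : A) :
    IsIso (F.rightDerivedFunctorPlusUnit.app ((HomotopyCategory.Plus.singleFunctor A 0).obj X)) ↔
      (IsIso (F.toRightDerivedZero.app X) ∧ ∀ i : ℕ, 0 < i → IsZero ((F.rightDerived i).obj X)) := by
  let R := injectiveResolution X
  let K : CochainComplex.Plus A :=
    ⟨(CochainComplex.singleFunctor A 0).obj X, 0, inferInstance⟩
  have hge : R.cochainComplex.IsStrictlyGE 0 := inferInstance
  let I : CochainComplex.Plus A := ⟨R.cochainComplex, 0, hge⟩
  let i : K ⟶ I := ObjectProperty.homMk R.ι'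
  have : QuasiIso i.hom := inferInstanceAs (QuasiIso R.ι')
  have hI : ∀ n, Injective (I.obj.X n) := fun n => inferInstanceAs (Injective (R.cochainComplex.X n))
  have e : (HomotopyCategory.Plus.singleFunctor A 0).obj X ≅
      (HomotopyCategory.Plus.quotient A).obj K :=
    (HomotopyCategory.Plus.ι A).preimageIso
      ((HomotopyCategory.singleFunctorPostcompQuotientIso A 0).app X).symm
  rw [NatTrans.isIso_app_iff_of_iso F.rightDerivedFunctorPlusUnit e, isIso_unit_iff F i hI]
  change QuasiIso ((F.mapHomologicalComplex (ComplexShape.up ℤ)).map R.ι') ↔ _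
  rw [quasiIso_map_ι'_iff]
  have h0 : IsIso (R.toRightDerivedZero' F) ↔ IsIso (F.toRightDerivedZero.app X) := by
    rw [R.toRightDerivedZero_eq F, isIso_comp_right_iff]
  constructor
  · intro h
    refine ⟨h0.1 ((quasiIsoAt_zero_iff F R).1 inferInstance), fun k hk => ?_⟩
    obtain ⟨j, rfl⟩ := Nat.exists_eq_succ_of_ne_zero hk.ne'
    exact ((quasiIsoAt_succ_iff F R j).1 inferInstance).of_iso (R.isoRightDerivedObj F (j + 1))
  · rintro ⟨h, h'⟩
    rw [quasiIso_iff]
    intro k
    cases k with
    | zero => exact (quasiIsoAt_zero_iff F R).2 (h0.2 h)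
    | succ j =>
      exact (quasiIsoAt_succ_iff F R j).2
        ((h' (j + 1) (Nat.succ_pos j)).of_iso (R.isoRightDerivedObj F (j + 1)).symm)

end single

end Groth.Agent.RPlusBase
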