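import Groth.Agent.KTheory.LFRes
import Groth.Agent.Ega4Algebra1.GlobalDim
import Mathlib.Algebra.Category.ModuleCat.Projective
import Mathlib.Algebra.Category.ModuleCat.ProjectiveDimension
import Mathlib.CategoryTheory.Abelian.Projective.Dimension

/-!
# On a regular Noetherian scheme coherent modules have finite locally free resolutions
-/

set_option autoImplicit false
universe u

open CategoryTheory CategoryTheory.Limits AlgebraicGeometry

namespace Groth.KTheory.LFRes

open Groth.KTheory.Resolution

variable {X : Scheme.{u}}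

/-- One step down in projective dimension at a stalk. -/
theorem pdLT_stalk_X₁ {S : ShortComplex X.Modules} (hS : S.ShortExact) (x : X) (m : ℕ) (hm : 1 ≤ m)
    [Module.Free (X.presheaf.stalk x) (S.X₂.presheaf.stalk x)]
    (h₃ : HasProjectiveDimensionLT (ModuleCat.of (X.presheaf.stalk x) (S.X₃.presheaf.stalk x)) (m + 1)) :
    HasProjectiveDimensionLT (ModuleCat.of (X.presheaf.stalk x) (S.X₁.presheaf.stalk x)) m := by
  obtain ⟨hinj, hexact, hsurj⟩ := LocFree.stalk_exact hS x
  let T : ShortComplex (ModuleCat.{u} (X.presheaf.stalk x)) :=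
    ShortComplex.mk (ModuleCat.ofHom (LocFree.stalkₗ S.f x)) (ModuleCat.ofHom (LocFree.stalkₗ S.g x))
      (ModuleCat.hom_ext hexact.linearMap_comp_eq_zero)
  have hT : T.ShortExact :=
    { exact := (CategoryTheory.ShortComplex.moduleCat_exact_iff T).2 fun t ht => (hexact t).1 ht
      mono_f := (ModuleCat.mono_iff_injective _).2 hinj
      epi_g := (ModuleCat.epi_iff_surjective _).2 hsurj }
  have : Projective (ModuleCat.of (X.presheaf.stalk x) (S.X₂.presheaf.stalk x)) :=
    (IsProjective.iff_projective _).mp inferInstance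
  have h2 : HasProjectiveDimensionLT T.X₂ 1 := projective_iff_hasProjectiveDimensionLT_one.mp this
  exact hT.hasProjectiveDimensionLT_X₁ m (@hasProjectiveDimensionLT_of_ge _ _ _ _ 1 m hm h2) h₃

theorem finRes_of_regular [IsNoetherian X] (hX : KRR.HasEnoughLocFree X)
    (hreg : ∀ x : X, IsRegularLocalRing (X.presheaf.stalk x)) (A : X.Modules) (hA : Coh.IsCoh A) :
    FinRes (KRR.vbP X) (cohProp X) A := by
  have S := setup hX
  have hcov : ∀ B : Subtype (cohProp X), ∃ (L : X.Modules) (p : L ⟶ B.1), FlatMod.IsFinLocFree L ∧ Epi p :=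
    fun B => hX B.1 B.2
  choose cov π hcov₀ hπ using hcov
  let next : Subtype (cohProp X) → Subtype (cohProp X) := fun B =>
    ⟨kernel (π B), S.ker₁ _ (haveI := hπ B; Resolution.shortExact_kernel (π B)) (S.le _ (hcov₀ B)) B.2⟩
  let K : ℕ → Subtype (cohProp X) := fun n => Nat.rec ⟨A, hA⟩ (fun _ B => next B) n
  have hses : ∀ n, (ShortComplex.mk (kernel.ι (π (K n))) (π (K n)) (kernel.condition _)).ShortExact :=
    fun n => haveI := hπ (K n); Resolution.shortExact_kernel (π (K n))
  let F : ℕ → Set X := fun n => {x | Module.Free (X.presheaf.stalk x) ((K n).1.presheaf.stalk x)}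
  have hopen : ∀ n, IsOpen (F n) := by
    intro n
    refine isOpen_iff_forall_mem_open.mpr fun x hx => ?_
    obtain ⟨U, m, s, hxU, hs⟩ := @LocFree.exists_basis_of_free_stalk _ _ _ (K n).2 x hx
    exact ⟨U, fun y hy => LocFree.free_stalk_of_basis hy hs, U.2, hxU⟩
  have hmono : Monotone F := by
    refine monotone_nat_of_le_succ fun n x hx => ?_
    have := LocFree.free_stalk (hcov₀ (K n)) x
    have : Module.Free (X.presheaf.stalk x) ((K n).1.presheaf.stalk x) := hx
    exact LocFree.free_stalk_left (hses n) x (K (n + 1)).2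
  have hcover : Set.univ ⊆ ⋃ n, F n := by
    intro x _
    have := hreg x
    set d := (IsLocalRing.maximalIdeal (X.presheaf.stalk x)).spanFinrank with hd
    have hdim : ringKrullDim (X.presheaf.stalk x) = d :=
      (IsRegularLocalRing.spanFinrank_maximalIdeal (R := X.presheaf.stalk x)).symm
    have key : ∀ j, j ≤ d → HasProjectiveDimensionLT
        (ModuleCat.of (X.presheaf.stalk x) ((K j).1.presheaf.stalk x)) (d - j + 1) := by
      intro j
      induction j with
      | zero => exact fun _ => Groth.Ega4Algebra1.pdLT_all_of_isRegularLocalRing _ d hdim _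
      | succ j ih =>
        intro hj
        have := LocFree.free_stalk (hcov₀ (K j)) x
        refine pdLT_stalk_X₁ (hses j) x _ (by omega) ?_
        rw [show d - (j + 1) + 1 + 1 = d - j + 1 by omega]
        exact ih (by omega)
    refine Set.mem_iUnion.2 ⟨d, ?_⟩
    have h1 := key d le_rfl
    rw [Nat.sub_self, zero_add] at h1
    have : Module.Projective (X.presheaf.stalk x) ((K d).1.presheaf.stalk x) :=
      (IsProjective.iff_projective _).mpr (projective_iff_hasProjectiveDimensionLT_one.mpr h1)
    have := (K d).2.1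
    have := Groth.QCohMod.finite_stalk (K d).1 (K d).2.2 x
    exact Module.free_of_flat_of_isLocalRing
  obtain ⟨N, hN⟩ := (isCompact_univ (X := X)).elim_directed_cover F hopen hcover hmono.directed_le
  refine ⟨N, ?_⟩
  have key : ∀ j n, n + j = N → Res (KRR.vbP X) (cohProp X) j (K n).1 := by
    intro j
    induction j with
    | zero =>
      intro n hn
      obtain rfl : n = N := by omega
      exact LocFree.isFinLocFree_of_free_stalks (K n).2 fun x => hN (Set.mem_univ x)
    | succ j ih =>
      intro n hn
      exact ⟨(K n).2, _, _, _, _, _, hses n, hcov₀ _, ih (n + 1) (by omega)⟩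
  exact key N 0 (by omega)

theorem mapSub_bijective_of_eq [IsLocallyNoetherian X] (hX : KRR.HasEnoughLocFree X)
    {Q : ObjectProperty X.Modules} (e : FinRes (KRR.vbP X) (cohProp X) = Q)
    (h : ∀ M, KRR.vbP X M → Q M) :
    Function.Bijective (SGA6.mapSub (𝟭 X.Modules) (KRR.vbP X) Q h) := by
  subst e
  exact (setup hX).mapSub_finRes_bijective

end Groth.KTheory.LFRes
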