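import Groth.Agent.EtaleBase.PullStalk
import Groth.Prelude.Def_SixF1
import Groth.Prelude.Def_EtMod2
import Mathlib.Algebra.Category.ModuleCat.AB
import Mathlib.Algebra.Category.ModuleCat.FilteredColimits

/-!
# Inverse image of sheaves of modules on small étale sites is exact
-/

set_option autoImplicit false
universe u

open CategoryTheory CategoryTheory.Limits AlgebraicGeometry Opposite

namespace Groth.PullModExact

variable (Λ : Type (u + 1)) [CommRing Λ] {X Y : Scheme.{u}} (f : X ⟶ Y)

local instance : HasLimitsOfSize.{u, u} (ModuleCat.{u + 1} Λ) :=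
  ModuleCat.hasLimitsOfSize.{u, u, u + 1, u + 1}

local instance : PreservesFilteredColimitsOfSize.{u, u} (forget₂ (ModuleCat.{u + 1} Λ) AddCommGrpCat.{u + 1}) :=
  ⟨fun _ _ _ => inferInstance⟩

local instance : AB5OfSize.{u, u} (ModuleCat.{u + 1} Λ) :=
  AB5OfSize_shrink.{u, u, u + 1, u + 1} _

/-- The underlying abelian sheaf. -/
noncomputable abbrev toAb : EtModW.Mod Λ X ⥤ EtCoh.Ab X :=
  sheafCompose X.smallEtaleTopology (forget₂ (ModuleCat.{u + 1} Λ) AddCommGrpCat.{u + 1})

/-- The stalk of an inverse image. -/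
noncomputable def stalkPullModIso {Ω : Type u} [Field Ω] [IsSepClosed Ω]
    (ξ : Spec (CommRingCat.of Ω) ⟶ X) :
    EtModW.stalk Λ (ξ ≫ f) ≅ EtModW.pull Λ f ⋙ EtModW.stalk Λ ξ :=
  ({ hom := (Groth.EtaleBase.comapPointIso f ξ).hom.sheafFiber
     inv := (Groth.EtaleBase.comapPointIso f ξ).inv.sheafFiber
     hom_inv_id := by rw [← GrothendieckTopology.Point.Hom.sheafFiber_comp, Iso.inv_hom_id,
       GrothendieckTopology.Point.Hom.sheafFiber_id]
     inv_hom_id := by rw [← GrothendieckTopology.Point.Hom.sheafFiber_comp, Iso.hom_inv_id,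
       GrothendieckTopology.Point.Hom.sheafFiber_id] } :
    (Scheme.pointSmallEtale (ξ ≫ f)).sheafFiber (A := ModuleCat.{u + 1} Λ) ≅
      ((Scheme.pointSmallEtale ξ).comap (EtCoh.bc f) (EtCoh.coverPreserving_bc f)).sheafFiber) ≪≫
    GrothendieckTopology.Point.sheafFiberComapIso _ (EtCoh.bc f) (EtCoh.coverPreserving_bc f) _

/-- The stalks jointly reflect isomorphisms. -/
theorem stalk_jointly : JointlyReflectIsomorphisms
    (fun s : X => EtModW.stalk Λ (Groth.EtaleBase.geomPoint s)) where
  isIso {F G} φ hφ := by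
    rw [← isIso_iff_of_reflects_iso _ (toAb Λ)]
    refine Groth.EtaleBase.stalkAt_jointlyReflectIsomorphisms.isIso_iff _ |>.2 fun s => ?_
    exact ((MorphismProperty.isomorphisms _).arrow_mk_iso_iff
      (((Functor.mapArrowFunctor _ _).mapIso
        ((Scheme.pointSmallEtale (Groth.EtaleBase.geomPoint s)).sheafFiberCompIso
          (forget₂ (ModuleCat.{u + 1} Λ) AddCommGrpCat.{u + 1}))).app (Arrow.mk φ))).2
      (inferInstanceAs (IsIso ((forget₂ (ModuleCat.{u + 1} Λ) AddCommGrpCat.{u + 1}).map
        ((EtModW.stalk Λ (Groth.EtaleBase.geomPoint s)).map φ))))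

theorem preservesFiniteLimits_pull : PreservesFiniteLimits (EtModW.pull Λ f) where
  preservesFiniteLimits J _ _ :=
    { preservesLimit := fun {K} =>
        { preserves := fun {c} hc => ⟨by
            refine (stalk_jointly Λ).jointlyReflectsLimit fun s => ?_
            have : PreservesLimitsOfShape J (EtModW.pull Λ f ⋙ EtModW.stalk Λ
                (Groth.EtaleBase.geomPoint s)) :=
              preservesLimitsOfShape_of_natIso (stalkPullModIso Λ f _)
            exact isLimitOfPreserves (EtModW.pull Λ f ⋙ EtModW.stalk Λ _) hc⟩ } }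

end Groth.PullModExact
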