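import Groth.Agent.KTheory.KvbModel
import Groth.Agent.Ega2Proj.SpansFinite
import Groth.Agent.Ega2Proj.TwistExtend

/-!
# Ample line bundles give ample line elements of `K(X)`
-/

set_option autoImplicit false
universe v u

open CategoryTheory CategoryTheory.Limits AlgebraicGeometry

namespace Groth.KTheory.AmpleElt

open Groth.LocFree LambdaVb KvbModel Groth.PicAux

variable {X : Scheme.{u}}

theorem kcl_freeMod (m : ℕ) :
    kcl (FlatMod.freeMod X m) = m • kcl (Coh.structureModule X) := by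
  induction m with
  | zero => rw [zero_smul, kcl_zero (isZero_of_rank_zero (isFinLocFreeOfRank_freeMod X 0))]
  | succ m ih =>
    let O := Coh.structureModule X
    let S : ShortComplex X.Modules := ShortComplex.mk
      (Sigma.ι (fun _ : Fin (m + 1) => O) (Fin.last m) : O ⟶ FlatMod.freeMod X (m + 1))
      (Sigma.desc (Fin.lastCases (motive := fun _ => O ⟶ FlatMod.freeMod X m) 0
        fun i => Sigma.ι (fun _ : Fin m => O) i)) (by simp [O])
    have hS : S.ShortExact := ShortComplex.Splitting.shortExact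
      { r := Sigma.desc (Fin.lastCases (motive := fun _ => O ⟶ O) (𝟙 O) fun _ => 0)
        s := Sigma.desc fun i => Sigma.ι (fun _ : Fin (m + 1) => O) i.castSucc
        f_r := by simp [S, O]
        s_g := Sigma.hom_ext _ _ fun i => by simp [S, O]
        id := Sigma.hom_ext _ _ fun i => by
          induction i using Fin.lastCases with
          | last => simp [S, O]
          | cast k => simp [S, O] }
    rw [succ_nsmul, ← ih, add_comm (kcl _)]
    exact clSub_rel (P := fun M : X.Modules => FlatMod.IsFinLocFree M) S hS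
      (isFinLocFree_unit X) (isFinLocFree_freeMod X _) (isFinLocFree_freeMod X _)

theorem isAmpleElt [IsNoetherian X] [ConnectedSpace X] (K : Type v) [CommRing K]
    [LambdaRing.LambdaOps K] (P : LambdaRing.PosStructure K) (φ : SGA6.Kvb X →+ K)
    (hK : KRR.IsModel X K P φ) (L : X.Modules) (hL : CohB1.IsAmple L) :
    KRR.IsAmpleElt P (φ (kcl L)) := by
  have hL1 := isInvertible_iff_ofRank_one.1 hL.1
  have hvL := isFinLocFree_of_rank hL1
  refine ⟨⟨(hK.mem_pos_iff _).2 ⟨1, L, le_rfl, hL1, rfl⟩, hK.aug_cl 1 L hL1⟩, fun x => ?_⟩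
  obtain ⟨e, f, he, hf, rfl⟩ := P.exists_sub x
  obtain ⟨a, E, ha, hE, rfl⟩ := (hK.mem_pos_iff _).1 he
  obtain ⟨b, F, hb, hF, rfl⟩ := (hK.mem_pos_iff _).1 hf
  have hvE := isFinLocFree_of_rank hE
  have hvF := isFinLocFree_of_rank hF
  have hqF := KTheory.LocFree.isQCoh hvF
  have hpow : ∀ n, FlatMod.IsFinLocFreeOfRank 1 (CohB1.tensorPow L n) ∧
      φ (kcl (CohB1.tensorPow L n)) = φ (kcl L) ^ n := by
    intro n
    induction n with
    | zero => exact ⟨isFinLocFreeOfRank_unit X, by rw [pow_zero]; exact hK.map_one⟩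
    | succ n ih =>
      refine ⟨one_mul 1 ▸ isFinLocFreeOfRank_tensorMod ih.1 hL1, ?_⟩
      rw [pow_succ, ← ih.2]
      exact (hK.map_mul _ _ (isFinLocFree_of_rank ih.1) hvL).symm
  obtain ⟨n₀, hn₀⟩ := Groth.Ega2Proj.exists_spans_twist hL F (KTheory.LocFree.isCoh hvF).2
  refine ⟨n₀, fun n hn => ?_⟩
  obtain ⟨hPn, hφn⟩ := hpow n
  have hvP := isFinLocFree_of_rank hPn
  have hG := isFinLocFree_tensorMod hvF hvP
  have hGc := KTheory.LocFree.isCoh hG
  have := hL.2.1
  have := hGc.1
  obtain ⟨m, p, hp⟩ := Groth.Ega2Proj.exists_epi_freeMod_of_spans _ hGc.2 (hn₀ n hn)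
  let S := ShortComplex.mk (kernel.ι p) p (kernel.condition p)
  have hS : S.ShortExact :=
    { exact := ShortComplex.exact_of_f_is_kernel _ (kernelIsKernel p)
      mono_f := inferInstance
      epi_g := hp }
  have hKer : FlatMod.IsFinLocFree (kernel p) :=
    Groth.LocFree.isFinLocFree_left (S := S) hS (isFinLocFree_freeMod X m) hG
  have h1 : φ (kcl (FlatMod.freeMod X m)) = m := by
    rw [kcl_freeMod, map_nsmul, nsmul_eq_mul,
      show φ (kcl (Coh.structureModule X)) = 1 from hK.map_one, mul_one]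
  have h2 : φ (kcl L) ^ n * φ (kcl F) = m - φ (kcl (kernel p)) := by
    rw [← h1, ← hφn, mul_comm, hK.map_mul F _ hvF hvP, eq_sub_iff_add_eq', ← map_add]
    exact (congrArg φ (clSub_rel (P := fun M : X.Modules => FlatMod.IsFinLocFree M) S hS hKer
      (isFinLocFree_freeMod X m) hG)).symm
  have hEP := isFinLocFreeOfRank_tensorMod hPn hE
  obtain ⟨c, hc⟩ := exists_rank hKer
  refine ⟨φ (kcl (CohB1.tensorMod (CohB1.tensorPow L n) E ⊞ kernel p)), m, ?_, ?_⟩
  · exact (hK.mem_pos_iff _).2 ⟨1 * a + c, _, by omega, isFinLocFreeOfRank_biprod hEP hc, rfl⟩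
  · have e : φ (kcl (CohB1.tensorPow L n)) * φ (kcl E) =
        φ (kcl (CohB1.tensorMod (CohB1.tensorPow L n) E)) := hK.map_mul _ E hvP hvE
    rw [mul_sub, h2, kcl_biprod (isFinLocFree_of_rank hEP) hKer, map_add, ← e, hφn]
    change φ (kcl L) ^ n * φ (kcl E) - _ = _
    abel

end Groth.KTheory.AmpleElt
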