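import Groth.Agent.KTheory.PushGamma
import Groth.Agent.KTheory.AmpleElt
import Groth.Agent.LambdaCore.Bott
import Groth.Agent.LambdaCore.RRSeries

/-!
# Adams–Riemann–Roch for `Pⁿ_Y ⟶ Y`
-/

set_option autoImplicit false
universe v v' u

open CategoryTheory CategoryTheory.Limits AlgebraicGeometry
open scoped TensorProduct

namespace Groth.KTheory.AdamsPr

open LambdaRing Groth.LambdaCore Groth.KTheory Groth.KTheory.RegKoszul Groth.KTheory.LambdaVb
  Groth.KTheory.PushGamma

theorem map_adams' {K L : Type v} [CommRing K] [LambdaOps K] [CommRing L] [LambdaOps L] {P : PosStructure K}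
    {P' : PosStructure L} {f : K →+* L} (hf : IsLambdaHom f) (ha : ∀ x, P'.aug (f x) = P.aug x) (j : ℕ) (x : K) :
    f (adams P j x) = adams P' j (f x) := by
  have h : PowerSeries.map f (adamsSeries P x) = adamsSeries P' (f x) := by
    have hinv : PowerSeries.map f ((negSeries x).invOfUnit 1) = (negSeries (f x)).invOfUnit 1 := by
      have hu : IsUnit (negSeries (f x)) := by rw [PowerSeries.isUnit_iff_constantCoeff]; simp
      apply hu.mul_left_cancel
      rw [negSeries_mul_invOfUnit, ← map_negSeries hf, ← map_mul, negSeries_mul_invOfUnit, map_one]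
    have hder : PowerSeries.map f (PowerSeries.derivative K (negSeries x)) =
        PowerSeries.derivative L (negSeries (f x)) := by
      rw [← map_negSeries hf]
      ext i; simp [PowerSeries.coeff_derivative]
    rw [adamsSeries, adamsSeries, ← negSeries, ← negSeries, map_sub, map_mul, map_mul, hinv, hder, ha]
    simp
  rw [adams, adams, ← PowerSeries.coeff_map, h]

theorem away_torsion_free {j : ℕ} (hj : 1 ≤ j) (m : ℕ) (hm : m ≠ 0) (x : Localization.Away (j : ℤ))
    (hx : (m : Localization.Away (j : ℤ)) * x = 0) : x = 0 := by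
  have hinj : Function.Injective (algebraMap ℤ (Localization.Away (j : ℤ))) :=
    IsLocalization.injective _ (M := Submonoid.powers (j : ℤ)) (powers_le_nonZeroDivisors_of_noZeroDivisors (by omega))
  obtain ⟨⟨a, s⟩, h⟩ := IsLocalization.surj (Submonoid.powers (j : ℤ)) x
  have hma : (m : ℤ) * a = 0 := hinj (by rw [map_mul, map_zero, map_natCast, ← h, ← mul_assoc, hx, zero_mul])
  have ha : a = 0 := (mul_eq_zero.1 hma).resolve_left (by exact_mod_cast hm)
  rw [ha, map_zero] at h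
  exact (IsLocalization.map_units _ s).mul_left_eq_zero.1 h

theorem isUnit_natCast_away (j : ℕ) : IsUnit (j : Localization.Away (j : ℤ)) := by
  simpa using IsLocalization.Away.algebraMap_isUnit (S := Localization.Away (j : ℤ)) (j : ℤ)

variable {n : ℕ} {Y : Scheme.{u}}
  {KP : Type v} [CommRing KP] [LambdaOps KP] {PP : PosStructure KP} {φP : SGA6.Kvb (KRR.PY n Y) →+ KP}
  {KY : Type v} [CommRing KY] [LambdaOps KY] {PY : PosStructure KY} {φY : SGA6.Kvb Y →+ KY}
  (hKP : KRR.IsModel (KRR.PY n Y) KP PP φP) (hKY : KRR.IsModel Y KY PY φY)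

include hKP

theorem tw_neg_one_mul : tw φP (-1) * tw φP 1 = 1 := by
  rw [tw_mul hKP, neg_add_cancel, tw_zero hKP]

theorem tw_neg_pow (k : ℕ) : tw φP (-1) ^ k = tw φP (-(k : ℤ)) := by
  induction k with
  | zero => rw [pow_zero, Nat.cast_zero, neg_zero, tw_zero hKP]
  | succ k ih => rw [pow_succ, ih, tw_mul hKP, Nat.cast_succ, neg_add]

theorem tw_sub_one_pow [IsNoetherian Y] : (tw φP 1 - 1) ^ (n + 1) = 0 := by
  let O := Coh.structureModule (KRR.PY n Y)
  have hO : FlatMod.IsFinLocFree O := Groth.LocFree.isFinLocFree_unit _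
  let f : (KRR.PY n Y).Modules → KP := fun M => φP (KRR.cl _ M)
  have hE : ∀ a : ℤ, 0 ≤ a → AcyP n Y (G O a) := fun a ha =>
    acyP_twist n Y (a := a) (by omega)
  have h := f_koszul_relation' (hP := koszClosed_acyP n Y) (f := f)
    (hf := fun S hS h1 h2 h3 => (congrArg φP (clSub_rel (P := KRR.vbP (KRR.PY n Y)) S hS h1.1 h2.1 h3.1)).trans
      (map_add φP _ _)) hE
  have hf : ∀ a : ℕ, f (G O (a : ℤ)) = tw φP 1 ^ a := fun a => by
    rw [← tw_natCast hKP a, ← mul_one (tw φP (a : ℤ)), ← hKP.map_one, ← tw_twF hKP _ hO]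
    exact congrArg φP (kcl_iso (nonempty_G_iso_twF _ _).some (hE _ (Int.natCast_nonneg a)).1)
  rw [show f O = 1 from hKP.map_one] at h
  simp only [zsmul_eq_mul, nsmul_eq_mul, Int.cast_pow, Int.cast_neg, Int.cast_one] at h
  rw [sub_eq_neg_add, add_pow, Finset.sum_range_succ]
  have hS : ∑ j ∈ Finset.range (n + 1), (-1 : KP) ^ j * tw φP 1 ^ (n + 1 - j) * ((n + 1).choose j : KP) =
      (-1) ^ n := by
    have h2 := congrArg (fun t => (-1 : KP) ^ n * t) h
    simp only [mul_one, ← mul_assoc, ← pow_add, Even.neg_one_pow (show Even (n + n) from ⟨n, rfl⟩), one_mul] at h2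
    rw [h2]
    refine Finset.sum_congr rfl fun j hj => ?_
    have hj' : j < n + 1 := Finset.mem_range.1 hj
    rw [show (((n + 1 : ℕ) : ℤ) - j) = ((n + 1 - j : ℕ) : ℤ) by omega, hf]
    ring
  rw [hS, Nat.sub_self, pow_zero, Nat.choose_self, pow_succ]
  simp

include hKY

theorem bott_twisted [IsNoetherian Y] {Q : KY →+* KP}
    (hQ : ∀ E : Y.Modules, FlatMod.IsFinLocFree E →
      Q (φY (KRR.cl Y E)) = φP (KRR.cl _ ((Scheme.Modules.pullback (KRR.pr n Y)).obj E))) (j : ℕ) :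
    KRR.bott PP j (φP (KRR.cl (KRR.PY n Y)
      (KRR.twF n Y (-1) ((Scheme.Modules.pullback (KRR.pr n Y)).obj (FlatMod.freeMod Y (n + 1)))))) =
      (∑ k ∈ Finset.range j, tw φP (-1) ^ k) ^ (n + 1) := by
  have hF : FlatMod.IsFinLocFree (FlatMod.freeMod Y (n + 1)) :=
    Groth.LocFree.isFinLocFree_of_rank (Groth.LocFree.isFinLocFreeOfRank_freeMod Y (n + 1))
  have hcl : φY (KRR.cl Y (FlatMod.freeMod Y (n + 1))) = ((n + 1 : ℕ) : KY) := by
    rw [← nsmul_one (n + 1), ← hKY.map_one, ← map_nsmul]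
    exact congrArg φY (AmpleElt.kcl_freeMod (n + 1))
  rw [tw_twF hKP _ (Groth.LocFree.isFinLocFree_pullback _ hF), ← hQ _ hF, hcl, map_natCast]
  have h := bott_sum_lines (P := PP) (w := fun _ : Fin (n + 1) => tw φP (-1)) (fun _ => isLine_tw hKP (-1)) j
  simp only [Finset.sum_const, Finset.prod_const, Finset.card_univ, Fintype.card_fin, nsmul_eq_mul] at h
  rwa [mul_comm]

theorem adams_gen {Q : KY →+* KP} (hQl : IsLambdaHom Q) (hQa : ∀ y, PP.aug (Q y) = PY.aug y)
    (hQpos : ∀ e ∈ PY.pos, Q e ∈ PP.pos) (j a : ℕ) (b : KY) :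
    adams PP j (Q b * tw φP 1 ^ a) = Q (adams PY j b) * tw φP 1 ^ (j * a) := by
  have key : ∀ e ∈ PY.pos, adams PP j (Q e * tw φP 1 ^ a) = Q (adams PY j e) * tw φP 1 ^ (j * a) := by
    intro e he
    rw [RRSeries.adams_twist PP (x := Q e) (l := tw φP 1 ^ a) ?_ ?_ j, map_adams' hQl hQa, ← pow_mul, mul_comm a j,
      mul_comm]
    · ext i
      rw [PowerSeries.coeff_rescale, lamSeries, lamSeries, PowerSeries.coeff_mk, PowerSeries.coeff_mk,
        ← tw_natCast hKP, lam_mul_tw hKP (hQpos e he) (a : ℤ) i, mul_comm]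
    · rw [map_mul, map_pow, (isLine_tw hKP 1).2, one_pow, mul_one]
  obtain ⟨e, e', he, he', rfl⟩ := PY.exists_sub b
  rw [map_sub, sub_mul, ← adamsAdd_apply, map_sub, adamsAdd_apply, adamsAdd_apply, key e he, key e' he',
    ← adamsAdd_apply (P := PY), ← adamsAdd_apply (P := PY), ← adamsAdd_apply (P := PY), map_sub, map_sub, sub_mul]

theorem g_one_sub_pow [IsNoetherian Y] {g : KP →+ KY} (hg : KRR.IsPushPr n Y φP φY g) {k : ℕ} (hk : k ≤ n) :
    g ((1 - tw φP (-1)) ^ k) = 1 := by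
  have hg' : ∀ i : ℕ, i ≤ n → g (tw φP (-(i : ℤ))) = ((n - i).choose n : KY) := fun i hi => by
    rw [← mul_one (tw φP (-(i : ℤ))), ← hKP.map_one, ← tw_twF hKP _ (Groth.LocFree.isFinLocFree_unit _)]
    exact g_twist φP φY hKY.bijective hKY.map_one g hg (n - i) _ (by omega)
  rw [sub_eq_neg_add, add_pow, Finset.sum_range_succ', map_add, map_sum, Finset.sum_eq_zero, zero_add]
  · simpa [tw_zero hKP] using hg' 0 (Nat.zero_le n)
  · intro i hi
    have hi' : i < k := Finset.mem_range.1 hi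
    rw [show (-tw φP (-1)) ^ (i + 1) * 1 ^ (k - (i + 1)) * (k.choose (i + 1) : KP) =
      ((-1 : ℤ) ^ (i + 1) * (k.choose (i + 1) : ℤ)) • tw φP (-((i + 1 : ℕ) : ℤ)) by
        rw [neg_pow, tw_neg_pow hKP, one_pow, mul_one, zsmul_eq_mul]; push_cast; ring,
      map_zsmul, hg' (i + 1) (by omega), Nat.choose_eq_zero_of_lt (show n - (i + 1) < n by omega), Nat.cast_zero, smul_zero]

/-- Adams–Riemann–Roch for the projection. -/
theorem adams_rr [IsNoetherian Y] [ConnectedSpace ↥Y] {g : KP →+ KY} (hg : KRR.IsPushPr n Y φP φY g)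
    {R : Type v'} [CommRing R] (htf : ∀ m : ℕ, m ≠ 0 → ∀ x : R, (m : R) * x = 0 → x = 0) {j : ℕ}
    (hj' : IsUnit (j : R)) (z : KP) :
    (∃ w : TensorProduct ℤ R KP, w * ((1 : R) ⊗ₜ[ℤ] KRR.bott PP j (φP (KRR.cl (KRR.PY n Y)
      (KRR.twF n Y (-1) ((Scheme.Modules.pullback (KRR.pr n Y)).obj (FlatMod.freeMod Y (n + 1))))))) = 1) ∧
    ∀ w : TensorProduct ℤ R KP, w * ((1 : R) ⊗ₜ[ℤ] KRR.bott PP j (φP (KRR.cl (KRR.PY n Y)
      (KRR.twF n Y (-1) ((Scheme.Modules.pullback (KRR.pr n Y)).obj (FlatMod.freeMod Y (n + 1))))))) = 1 →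
    (1 : R) ⊗ₜ[ℤ] LambdaRing.adams PY j (g z) =
      LinearMap.lTensor R g.toIntLinearMap
        ((j : TensorProduct ℤ R KP) * ((1 : R) ⊗ₜ[ℤ] LambdaRing.adams PP j z) * w) := by
  obtain ⟨q, hq, -⟩ := KvbPull.existsUnique_isPull (KRR.pr n Y) φP φY hKY.bijective
  obtain ⟨Q, hQl, hQa, hQq⟩ := PullLambda.exists_lambdaHom (KRR.pr n Y) hKP hKY hq
  have hQE : ∀ E : Y.Modules, FlatMod.IsFinLocFree E →
      Q (φY (KRR.cl Y E)) = φP (KRR.cl _ ((Scheme.Modules.pullback (KRR.pr n Y)).obj E)) := fun E hE => by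
    rw [hQq]; exact hq E hE
  have hQpos : ∀ e ∈ PY.pos, Q e ∈ PP.pos := fun e he => by
    obtain ⟨m, E, hm, hE, rfl⟩ := (hKY.mem_pos_iff e).1 he
    exact (hKP.mem_pos_iff _).2 ⟨m, _, hm, Groth.LocFree.isFinLocFreeOfRank_pullback _ hE,
      (hQE E (Groth.LocFree.isFinLocFree_of_rank hE)).symm⟩
  have hproj : ∀ (z : KP) (y : KY), g (Q y * z) = y * g z := fun z y => by
    rw [hQq, mul_comm, mul_comm y]
    exact Groth.Agent.S3762.result n Y KP PP φP hKP KY PY φY hKY g hg q hq z y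
  rw [bott_twisted hKP hKY hQE j]
  let inc : KP →+* TensorProduct ℤ R KP :=
    (Algebra.TensorProduct.includeRight (R := ℤ) (A := R) (B := KP)).toRingHom
  let ι : R →+* TensorProduct ℤ R KP :=
    Algebra.TensorProduct.includeLeftRingHom (R := ℤ) (A := R) (B := KP)
  have hinc : ∀ x : KP, (1 : R) ⊗ₜ[ℤ] x = inc x := fun _ => rfl
  let ζ := inc (1 - tw φP (-1))
  have hζ : ζ ^ (n + 1) = 0 := by
    have h1 : (1 - tw φP (-1)) = tw φP (-1) * (tw φP 1 - 1) := by
      rw [mul_sub, tw_neg_one_mul hKP, mul_one]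
    rw [← map_pow, h1, mul_pow, tw_sub_one_pow hKP, mul_zero, map_zero]
  obtain ⟨ev, hevC, hevX, hev⟩ := RRSeries.exists_evalHom ι ζ n hζ
  have hu : IsUnit (RRSeries.theta R j) := by
    rw [PowerSeries.isUnit_iff_constantCoeff, RRSeries.constantCoeff_theta]; exact hj'
  obtain ⟨V, hV⟩ := hu.exists_right_inv
  have hm : ev (1 - PowerSeries.X) = inc (tw φP (-1)) := by
    rw [map_sub, map_one, hevX]; simp only [ζ, map_sub, map_one, sub_sub_cancel]
  have hθ : ev (RRSeries.theta _ j) = inc (∑ k ∈ Finset.range j, tw φP (-1) ^ k) := by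
    rw [RRSeries.theta, map_sum, map_sum]
    exact Finset.sum_congr rfl fun k _ => by rw [map_pow, map_pow, hm]
  have hgeo : ev (RRSeries.geo _) = inc (tw φP 1) := by
    have h1 := congrArg ev (RRSeries.geo_mul (R := R))
    rw [map_mul, hm, map_one] at h1
    have h2 : inc (tw φP (-1)) * inc (tw φP 1) = 1 := by rw [← map_mul, tw_neg_one_mul hKP, map_one]
    calc ev (RRSeries.geo _) = ev (RRSeries.geo _) * (inc (tw φP (-1)) * inc (tw φP 1)) := by rw [h2, mul_one]
      _ = inc (tw φP 1) := by rw [← mul_assoc, h1, one_mul]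
  have hW : ev (V ^ (n + 1)) * inc ((∑ k ∈ Finset.range j, tw φP (-1) ^ k) ^ (n + 1)) = 1 := by
    rw [map_pow inc, ← hθ, ← map_pow, ← map_mul, ← mul_pow, mul_comm, hV, one_pow, map_one]
  refine ⟨⟨_, hW⟩, fun w hw => ?_⟩
  rw [hinc] at hw
  obtain rfl : w = ev (V ^ (n + 1)) := by
    linear_combination ev (V ^ (n + 1)) * hw - w * hW
  clear hw
  set Gm := LinearMap.lTensor R g.toIntLinearMap with hGm
  have hGp : ∀ (y : KY) (t : TensorProduct ℤ R KP),
      Gm (inc (Q y) * t) = ((1 : R) ⊗ₜ[ℤ] y) * Gm t := by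
    intro y t
    induction t using TensorProduct.induction_on with
    | zero => rw [mul_zero, map_zero, mul_zero]
    | tmul r x =>
      rw [← hinc, Algebra.TensorProduct.tmul_mul_tmul, one_mul, hGm, LinearMap.lTensor_tmul,
        LinearMap.lTensor_tmul, Algebra.TensorProduct.tmul_mul_tmul, one_mul]
      exact congrArg _ (hproj x y)
    | add a b ha hb => rw [mul_add, map_add, ha, hb, map_add, mul_add]
  have hGev : ∀ f, Gm (ev f) = (PowerSeries.coeff n (RRSeries.geo _ * f)) ⊗ₜ[ℤ] (1 : KY) := fun f => by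
    rw [hev, map_sum, RRSeries.coeff_geo_mul, TensorProduct.sum_tmul]
    refine Finset.sum_congr rfl fun k hk => ?_
    rw [← map_pow]
    show Gm ((_ ⊗ₜ[ℤ] (1 : KP)) * ((1 : R) ⊗ₜ[ℤ] _)) = _
    rw [Algebra.TensorProduct.tmul_mul_tmul, mul_one, one_mul, hGm, LinearMap.lTensor_tmul]
    exact congrArg _ (g_one_sub_pow hKP hKY hg (by simpa using hk))
  have hgen := mem_genSpan hKP hQE z
  induction hgen using AddSubgroup.closure_induction with
  | zero =>
    rw [map_zero, ← adamsAdd_apply, map_zero, ← adamsAdd_apply, map_zero, TensorProduct.tmul_zero,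
      TensorProduct.tmul_zero, mul_zero, zero_mul, map_zero]
  | add p q _ _ hp hq' =>
    rw [map_add, adams_add, adams_add, TensorProduct.tmul_add, TensorProduct.tmul_add, mul_add, add_mul, map_add,
      hp, hq']
  | neg p _ hp =>
    rw [map_neg, ← adamsAdd_apply, map_neg, adamsAdd_apply, ← adamsAdd_apply (P := PP), map_neg, adamsAdd_apply,
      hinc]
    let F : KP →+ R ⊗[ℤ] KY := Gm.toAddMonoidHom.comp ((AddMonoidHom.mulRight (ev (V ^ (n + 1)))).comp
      ((AddMonoidHom.mulLeft (j : R ⊗[ℤ] KP)).comp inc.toAddMonoidHom))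
    show _ = F (-adams PP j p)
    rw [map_neg F, TensorProduct.tmul_neg, hp]
    rfl
  | mem p hp =>
    obtain ⟨b, a, rfl⟩ := hp
    have hga : g (tw φP 1 ^ a) = ((a + n).choose n : KY) := by
      rw [← tw_natCast hKP, ← mul_one (tw φP (a : ℤ)), ← hKP.map_one, ← tw_twF hKP _ (Groth.LocFree.isFinLocFree_unit _)]
      exact g_twist φP φY hKY.bijective hKY.map_one g hg (a + n) _ (by push_cast; ring)
    rw [hproj, hga, adams_gen hKP hKY hQl hQa hQpos, hinc, map_mul inc, ← mul_assoc, mul_comm _ (inc (Q _)),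
      mul_assoc (inc (Q _)), mul_assoc (inc (Q _)), hGp,
      map_pow inc, ← hgeo, ← map_natCast ev, ← map_pow, ← map_mul, ← map_mul, hGev,
      show RRSeries.geo _ * ((j : PowerSeries R) * RRSeries.geo _ ^ (j * a) * V ^ (n + 1)) =
        (j : PowerSeries R) * RRSeries.geo _ ^ (j * a + 1) * V ^ (n + 1) by ring,
      RRSeries.coeff_eq_choose hV htf n a, Algebra.TensorProduct.tmul_mul_tmul, one_mul, mul_one,
      ← nsmul_eq_mul', ← adamsAdd_apply, map_nsmul, adamsAdd_apply, ← nsmul_one, TensorProduct.smul_tmul,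
      TensorProduct.tmul_smul, TensorProduct.smul_tmul']

end Groth.KTheory.AdamsPr
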