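import Groth.Agent.KTheory.DbEuler
import Groth.Agent.DAlg.PCoh
import Mathlib.Algebra.Homology.DerivedCategory.KProjective
import Mathlib.CategoryTheory.ObjectProperty.FullSubcategory

/-!
# Euler characteristics of bounded complexes of projective objects
-/

set_option autoImplicit false
set_option linter.unusedSectionVars false
universe w v u

open CategoryTheory CategoryTheory.Limits CategoryTheory.Pretriangulated
open scoped ZeroObject

namespace Groth.KTheory.PerfK0

variable {C : Type u} [Category.{v} C] [Abelian C] (P : ObjectProperty C)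

/-- `Σ (-1)ⁱ [Eⁱ]`. -/
noncomputable def chi (E : CochainComplex C ℤ) : KZero.K0sub P :=
  ∑ᶠ i : ℤ, (i.negOnePow : ℤ) • KZero.clSub P (E.X i)

/-- A bounded complex of objects of `P`. -/
def Good (E : CochainComplex C ℤ) : Prop :=
  (∀ i, P (E.X i)) ∧ ∃ a b : ℤ, ∀ i, i < a ∨ b < i → IsZero (E.X i)

/-- An object isomorphic to a bounded complex of objects of `P`. -/
def Perf [HasDerivedCategory.{w} C] : ObjectProperty (DerivedCategory C) :=
  fun K => ∃ E, Good P E ∧ Nonempty (DerivedCategory.Q.obj E ≅ K)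

variable {P}

theorem finite_support (g : ℤ → KZero.K0sub P) {a b : ℤ} (h : ∀ i, i < a ∨ b < i → g i = 0) :
    (Function.support fun i : ℤ => (i.negOnePow : ℤ) • g i).Finite := by
  refine (Set.finite_Icc a b).subset fun i hi => ?_
  by_contra hne
  refine hi ?_
  simp only [h i (by simp only [Set.mem_Icc, not_and_or, not_le] at hne; exact hne), smul_zero]

theorem chi_eq_sum {E : CochainComplex C ℤ} (hP : ∀ i, P (E.X i)) (a b : ℤ)
    (h : ∀ i, i < a ∨ b < i → IsZero (E.X i)) :
    chi P E = ∑ i ∈ Finset.Icc a b, (i.negOnePow : ℤ) • KZero.clSub P (E.X i) := by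
  refine finsum_eq_sum_of_support_subset _ fun i hi => ?_
  by_contra hne
  refine hi ?_
  have hz := h i (by simpa only [Finset.coe_Icc, Set.mem_Icc, not_and_or, not_le] using hne)
  simp only [clSub_zero hz (hP i), smul_zero]

variable [P.IsClosedUnderIsomorphisms]

omit [P.IsClosedUnderIsomorphisms] in
theorem Good.isKProjective (hproj : ∀ X, P X → Projective X) {E : CochainComplex C ℤ}
    (h : Good P E) : E.IsKProjective := by
  obtain ⟨hP, a, b, hb⟩ := h
  have : E.IsStrictlyLE b := (CochainComplex.isStrictlyLE_iff E b).2 fun i hi => hb i (Or.inr hi)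
  have := fun i => hproj _ (hP i)
  exact CochainComplex.isKProjective_of_projective E b

/-- An exact bounded complex has Euler characteristic zero. -/
theorem chi_of_exact'
    (hker : ∀ {X Y : C} (f : X ⟶ Y), Epi f → P X → P Y → P (kernel f))
    (hzero : ∀ X, IsZero X → P X) {E : CochainComplex C ℤ} (h : Good P E)
    (hex : ∀ i, E.ExactAt i) : chi P E = 0 := by
  obtain ⟨hP, a, b, hb⟩ := h
  let Z : ℤ → C := fun i => kernel (E.d i (i + 1))
  let p : ∀ i, E.X i ⟶ Z (i + 1) := fun i =>
    kernel.lift _ (E.d i (i + 1)) (E.d_comp_d _ _ _)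
  have hp : ∀ i, Epi (p i) := fun i => by
    have := (E.exactAt_iff' i (i + 1) (i + 1 + 1) (by simp) (by simp)).1 (hex (i + 1))
    exact (ShortComplex.exact_iff_epi_kernel_lift _).1 this
  have hz : ∀ i, i < a ∨ b < i → IsZero (Z i) := fun i hi => (hb i hi).of_mono (kernel.ι _)
  have hker' : ∀ i, Nonempty (kernel (p i) ≅ Z i) := fun i =>
    ⟨(kernelCompMono (p i) (kernel.ι _)).symm ≪≫ kernelIsoOfEq (kernel.lift_ι _ _ _)⟩
  have hZ : ∀ (k : ℕ) (i : ℤ), b + 1 ≤ i + k → P (Z i) := by
    intro k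
    induction k with
    | zero => exact fun i hi => hzero _ (hz i (Or.inr (by omega)))
    | succ k ih =>
      intro i hi
      exact P.prop_of_iso (hker' i).some (hker (p i) (hp i) (hP i) (ih (i + 1) (by omega)))
  have hZ' : ∀ i, P (Z i) := fun i => hZ (b + 1 - i).toNat i (by omega)
  have hrel : ∀ i, KZero.clSub P (E.X i) = KZero.clSub P (Z i) + KZero.clSub P (Z (i + 1)) :=
    fun i => clSub_rel (P := P) (ShortComplex.mk (kernel.ι (E.d i (i + 1))) (p i)
        (by rw [← cancel_mono (kernel.ι _)]; simp [p]))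
      { exact := ShortComplex.exact_of_f_is_kernel _ (KernelFork.IsLimit.ofι' _ _ fun {W} k hk =>
          ⟨kernel.lift _ k (by simpa [p] using hk =≫ kernel.ι (E.d (i + 1) (i + 1 + 1))),
            kernel.lift_ι _ _ _⟩)
        mono_f := inferInstance
        epi_g := hp i } (hZ' i) (hP i) (hZ' (i + 1))
  have hf0 : ∀ i, i < a ∨ b < i → KZero.clSub P (Z i) = 0 :=
    fun i hi => clSub_zero (hz i hi) (hZ' i)
  have hfin : (Function.support fun i : ℤ => (i.negOnePow : ℤ) • KZero.clSub P (Z i)).Finite :=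
    finite_support _ hf0
  have hfin' : (Function.support fun i : ℤ =>
      (i.negOnePow : ℤ) • KZero.clSub P (Z (i + 1))).Finite :=
    finite_support (a := a - 1) (b := b) _ fun i hi => hf0 _ (by omega)
  have hshift : (∑ᶠ i : ℤ, (i.negOnePow : ℤ) • KZero.clSub P (Z (i + 1))) =
      - ∑ᶠ i : ℤ, (i.negOnePow : ℤ) • KZero.clSub P (Z i) := by
    rw [← finsum_neg_distrib,
      ← finsum_comp_equiv (Equiv.addRight (1 : ℤ))
        (f := fun i => -((i.negOnePow : ℤ) • KZero.clSub P (Z i)))]
    refine finsum_congr fun i => ?_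
    simp only [Equiv.coe_addRight, Int.negOnePow_succ, Units.val_neg, neg_smul, neg_neg]
  simp only [chi, hrel, smul_add]
  rw [finsum_add_distrib hfin hfin', hshift, add_neg_cancel]

theorem chi_of_exact (_hproj : ∀ X, P X → Projective X)
    (hker : ∀ {X Y : C} (f : X ⟶ Y), Epi f → P X → P Y → P (kernel f))
    (hzero : ∀ X, IsZero X → P X) {E : CochainComplex C ℤ} (h : Good P E)
    (hex : ∀ i, E.ExactAt i) : chi P E = 0 :=
  chi_of_exact' hker hzero h hex

/-- The Euler characteristic of a mapping cone. -/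
theorem chi_mappingCone [HasBinaryBiproducts C] (hbi : ∀ X Y, P X → P Y → P (X ⊞ Y))
    {E F : CochainComplex C ℤ} (hE : Good P E) (hF : Good P F) (f : E ⟶ F) :
    Good P (CochainComplex.mappingCone f) ∧
      chi P (CochainComplex.mappingCone f) = chi P F - chi P E := by
  let e : ∀ i, (CochainComplex.mappingCone f).X i ≅ E.X (i + 1) ⊞ F.X i := fun i =>
    haveI := HomologicalComplex.HasHomotopyCofiber.hasBinaryBiproduct f i (i + 1) rfl
    HomologicalComplex.homotopyCofiber.XIsoBiprod f i (i + 1) rfl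
  have hcP : ∀ i, P ((CochainComplex.mappingCone f).X i) := fun i =>
    P.prop_of_iso (e i).symm (hbi _ _ (hE.1 _) (hF.1 _))
  obtain ⟨hEP, a, b, hEb⟩ := hE
  obtain ⟨hFP, c, d, hFd⟩ := hF
  refine ⟨⟨hcP, min (a - 1) c, max (b - 1) d, fun i hi => IsZero.of_iso
    ((biprod_isZero_iff _ _).2 ⟨hEb _ (by omega), hFd _ (by omega)⟩) (e i)⟩, ?_⟩
  have hrel : ∀ i, KZero.clSub P ((CochainComplex.mappingCone f).X i) =
      KZero.clSub P (F.X i) + KZero.clSub P (E.X (i + 1)) := fun i => by
    have hs : (ShortComplex.mk (biprod.inr : F.X i ⟶ E.X (i + 1) ⊞ F.X i) biprod.fst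
        (by simp)).ShortExact :=
      ShortComplex.Splitting.shortExact { r := biprod.snd, s := biprod.inl }
    have hm := hbi _ _ (hEP (i + 1)) (hFP i)
    rw [clSub_iso (e i) (hcP i) hm (hEb (max b a + 1) (by omega)) (hEP _)]
    exact clSub_rel (P := P) _ hs (hFP i) hm (hEP (i + 1))
  have hE0 : ∀ i, i < a ∨ b < i → KZero.clSub P (E.X i) = 0 :=
    fun i hi => clSub_zero (hEb i hi) (hEP i)
  have hfin1 : (Function.support fun i : ℤ => (i.negOnePow : ℤ) • KZero.clSub P (F.X i)).Finite :=
    finite_support _ fun i hi => clSub_zero (hFd i hi) (hFP i)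
  have hfin2 : (Function.support fun i : ℤ =>
      (i.negOnePow : ℤ) • KZero.clSub P (E.X (i + 1))).Finite :=
    finite_support (a := a - 1) (b := b) _ fun i hi => hE0 _ (by omega)
  have hshift : (∑ᶠ i : ℤ, (i.negOnePow : ℤ) • KZero.clSub P (E.X (i + 1))) =
      - ∑ᶠ i : ℤ, (i.negOnePow : ℤ) • KZero.clSub P (E.X i) := by
    rw [← finsum_neg_distrib,
      ← finsum_comp_equiv (Equiv.addRight (1 : ℤ))
        (f := fun i => -((i.negOnePow : ℤ) • KZero.clSub P (E.X i)))]
    refine finsum_congr fun i => ?_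
    simp only [Equiv.coe_addRight, Int.negOnePow_succ, Units.val_neg, neg_smul, neg_neg]
  simp only [chi, hrel, smul_add]
  rw [finsum_add_distrib hfin1 hfin2, hshift, sub_eq_add_neg]

section Derived

variable [HasDerivedCategory.{w} C]

theorem exists_map (hproj : ∀ X, P X → Projective X) {E F : CochainComplex C ℤ} (hE : Good P E)
    (α : DerivedCategory.Q.obj E ⟶ DerivedCategory.Q.obj F) :
    ∃ f : E ⟶ F, DerivedCategory.Q.map f = α := by
  have := hE.isKProjective hproj
  obtain ⟨g, hg⟩ := (CochainComplex.IsKProjective.Qh_map_bijective E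
    ((HomotopyCategory.quotient C (.up ℤ)).obj F)).2
    ((DerivedCategory.quotientCompQhIso C).hom.app E ≫ α ≫
      (DerivedCategory.quotientCompQhIso C).inv.app F)
  obtain ⟨f, rfl⟩ := (HomotopyCategory.quotient C (.up ℤ)).map_surjective g
  refine ⟨f, ?_⟩
  have h := DerivedCategory.quotientCompQhIso_hom_naturality (C := C) f
  rw [hg] at h
  rw [Category.assoc, Category.assoc, Iso.inv_hom_id_app, Category.comp_id] at h
  exact (cancel_epi ((DerivedCategory.quotientCompQhIso C).hom.app E)).1 h.symm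

variable (hproj : ∀ X, P X → Projective X)
  (hker : ∀ {X Y : C} (f : X ⟶ Y), Epi f → P X → P Y → P (kernel f))
  (hzero : ∀ X, IsZero X → P X) (hbi : ∀ X Y, P X → P Y → P (X ⊞ Y))

include hproj hker hzero in
theorem chi_of_isZero {E : CochainComplex C ℤ} (hE : Good P E)
    (h : IsZero (DerivedCategory.Q.obj E)) : chi P E = 0 :=
  chi_of_exact hproj hker hzero hE fun i => (E.exactAt_iff_isZero_homology i).2
    (((DerivedCategory.homologyFunctor C i).map_isZero h).of_iso
      ((DerivedCategory.homologyFunctorFactors C i).app E).symm)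

include hproj hker hzero hbi in
theorem chi_eq_of_iso {E F : CochainComplex C ℤ} (hE : Good P E) (hF : Good P F)
    (e : DerivedCategory.Q.obj E ≅ DerivedCategory.Q.obj F) : chi P E = chi P F := by
  obtain ⟨f, hf⟩ := exists_map hproj hE e.hom
  obtain ⟨hc, hχ⟩ := chi_mappingCone hbi hE hF f
  have hT := DerivedCategory.mappingCone_triangle_distinguished (φ := f)
  have : IsIso (DerivedCategory.Q.mapTriangle.obj (CochainComplex.mappingCone.triangle f)).mor₁ := by
    change IsIso (DerivedCategory.Q.map f)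
    rw [hf]
    infer_instance
  have hz := chi_of_isZero hproj hker hzero hc
    (Pretriangulated.Triangle.isZero₃_of_isIso₁ _ hT this)
  rw [hχ, sub_eq_zero] at hz
  exact hz.symm

variable (P) in
open Classical in
/-- The Euler characteristic on perfect objects. -/
noncomputable def chiD (K : DerivedCategory C) : KZero.K0sub P :=
  if h : Perf P K then chi P h.choose else 0

include hproj hker hzero hbi in
theorem chiD_eq {E : CochainComplex C ℤ} (hE : Good P E) {K : DerivedCategory C}
    (e : DerivedCategory.Q.obj E ≅ K) : chiD P K = chi P E := by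
  have h : Perf P K := ⟨E, hE, ⟨e⟩⟩
  rw [chiD, dif_pos h]
  exact chi_eq_of_iso hproj hker hzero hbi h.choose_spec.1 hE (h.choose_spec.2.some ≪≫ e.symm)

include hproj hker hzero hbi in
theorem chiD_triangle (T : Triangle (DerivedCategory C)) (hT : T ∈ distinguishedTriangles)
    (h₁ : Perf P T.obj₁) (h₂ : Perf P T.obj₂) :
    chiD P T.obj₂ = chiD P T.obj₁ + chiD P T.obj₃ := by
  obtain ⟨E, hE, ⟨e₁⟩⟩ := h₁
  obtain ⟨F, hF, ⟨e₂⟩⟩ := h₂
  obtain ⟨f, hf⟩ := exists_map hproj hE (e₁.hom ≫ T.mor₁ ≫ e₂.inv)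
  obtain ⟨hc, hχ⟩ := chi_mappingCone hbi hE hF f
  let i := Pretriangulated.isoTriangleOfIso₁₂ _ _
    (DerivedCategory.mappingCone_triangle_distinguished (φ := f)) hT e₁ e₂
    (by change DerivedCategory.Q.map f ≫ e₂.hom = e₁.hom ≫ T.mor₁; simp [hf])
  rw [chiD_eq hproj hker hzero hbi hF e₂, chiD_eq hproj hker hzero hbi hE e₁,
    chiD_eq hproj hker hzero hbi hc (K := T.obj₃) (Triangle.π₃.mapIso i), hχ, add_sub_cancel]

include hzero in
theorem perf_single {X : C} (hX : P X) (n : ℤ) :
    Good P ((HomologicalComplex.single C (ComplexShape.up ℤ) n).obj X) ∧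
      Perf P ((DerivedCategory.singleFunctor C n).obj X) := by
  have h : Good P ((HomologicalComplex.single C (ComplexShape.up ℤ) n).obj X) := by
    refine ⟨fun i => ?_, n, n, fun i hi =>
      HomologicalComplex.isZero_single_obj_X _ _ _ _ (by omega)⟩
    rcases eq_or_ne i n with rfl | hi
    · exact P.prop_of_iso (HomologicalComplex.singleObjXSelf _ _ _).symm hX
    · exact hzero _ (HomologicalComplex.isZero_single_obj_X _ _ _ _ hi)
  exact ⟨h, _, h, ⟨((DerivedCategory.singleFunctorIsoCompQ C n).app X).symm⟩⟩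

include hproj hker hzero hbi in
theorem chiD_single {X : C} (hX : P X) :
    chiD P ((DerivedCategory.singleFunctor C 0).obj X) = KZero.clSub P X := by
  obtain ⟨hS, -⟩ := perf_single hzero hX 0
  rw [chiD_eq hproj hker hzero hbi hS
    ((DerivedCategory.singleFunctorIsoCompQ C 0).app X).symm,
    chi_eq_sum hS.1 0 0 fun i hi => HomologicalComplex.isZero_single_obj_X _ _ _ _ (by omega)]
  simp only [Finset.Icc_self, Finset.sum_singleton, Int.negOnePow_zero, Units.val_one, one_smul]
  exact clSub_iso (HomologicalComplex.singleObjXSelf _ _ _) (hS.1 0) hX (isZero_zero C)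
    (hzero _ (isZero_zero C))

section Equiv

variable (Q : ObjectProperty (DerivedCategory C)) (hQ : ∀ K, Q K ↔ Perf P K)
  (hext : ∀ T : Triangle (DerivedCategory C), T ∈ distinguishedTriangles →
    Q T.obj₁ → Q T.obj₃ → Q T.obj₂)
  (hshift : ∀ K (n : ℤ), Q K → Q (K⟦n⟧))

include hproj hker hzero hbi hQ hext hshift in
/-- `K₀(P) ≅ K₀(perfect objects)`. -/
theorem exists_equiv :
    ∃ φ : KZero.K0sub P ≃+ KZero.K0tr Q,
      (∀ X, P X → φ (KZero.clSub P X) =
        KZero.clTr Q ((DerivedCategory.singleFunctor C 0).obj X)) ∧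
      ∀ (E : CochainComplex C ℤ) (a b : ℤ), (∀ i, P (E.X i)) →
        (∀ i, i < a ∨ b < i → IsZero (E.X i)) →
        φ.symm (KZero.clTr Q (DerivedCategory.Q.obj E)) =
          ∑ i ∈ Finset.Icc a b, (i.negOnePow : ℤ) • KZero.clSub P (E.X i) := by
  have hs : ∀ X, P X → ∀ n, Q ((DerivedCategory.singleFunctor C n).obj X) :=
    fun X hX n => (hQ _).2 (perf_single hzero hX n).2
  let F : KZero.K0sub P →+ KZero.K0tr Q :=
    liftSub P (fun X => KZero.clTr Q ((DerivedCategory.singleFunctor C 0).obj X))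
      fun S hS h₁ h₂ h₃ => clTr_rel hS.singleTriangle hS.singleTriangle_distinguished
        (hs _ h₁ 0) (hs _ h₂ 0) (hs _ h₃ 0)
  let G : KZero.K0tr Q →+ KZero.K0sub P :=
    liftTr Q (chiD P) fun T hT h₁ h₂ _ =>
      chiD_triangle hproj hker hzero hbi T hT ((hQ _).1 h₁) ((hQ _).1 h₂)
  have hF : ∀ X, P X → F (KZero.clSub P X) =
      KZero.clTr Q ((DerivedCategory.singleFunctor C 0).obj X) := fun X hX => liftSub_clSub _ _ hX
  have hGF : G.comp F = AddMonoidHom.id _ := k0sub_hom_ext fun X hX => by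
    rw [AddMonoidHom.comp_apply, hF X hX, liftTr_clTr _ _ (hs X hX 0),
      chiD_single hproj hker hzero hbi hX]
    rfl
  let Z : DerivedCategory C := (DerivedCategory.singleFunctor C 0).obj (0 : C)
  have hZ : IsZero Z := Functor.map_isZero _ (isZero_zero C)
  have hQZ : Q Z := hs _ (hzero _ (isZero_zero C)) 0
  have htr : ∀ K L, (K ≅ L) → Q K → Q L := fun K L e h => by
    obtain ⟨E, hE, ⟨e'⟩⟩ := (hQ K).1 h
    exact (hQ L).2 ⟨E, hE, ⟨e' ≪≫ e⟩⟩
  have hmem : ∀ K, Q K → KZero.clTr Q K ∈ F.range := by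
    intro K hK
    obtain ⟨E, ⟨hE, a, b, hb⟩, ⟨e⟩⟩ := (hQ K).1 hK
    have key := Groth.DAlg.bounded_induction
      (fun L => Q L ∧ KZero.clTr Q L ∈ F.range)
      (fun L M e h => ⟨htr L M e h.1, by rw [← clTr_iso e h.1 (htr L M e h.1) hZ hQZ]; exact h.2⟩)
      (fun T hT h₁ h₃ => ⟨hext T hT h₁.1 h₃.1, by
        rw [clTr_rel T hT h₁.1 (hext T hT h₁.1 h₃.1) h₃.1]
        exact add_mem h₁.2 h₃.2⟩)
      (fun L hL => ⟨htr _ _ (hZ.iso hL) hQZ, by
        rw [clTr_zero hL (htr _ _ (hZ.iso hL) hQZ)]; exact zero_mem _⟩) E a b hb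
      fun i => ⟨hs _ (hE i) i, by
        let M := (DerivedCategory.singleFunctor C 0).obj (E.X i)
        have hM : ∀ n : ℤ, KZero.clTr Q (M⟦n⟧) ∈ F.range := by
          have step : ∀ n : ℤ, KZero.clTr Q (M⟦n + 1⟧) = - KZero.clTr Q (M⟦n⟧) := fun n => by
            have h1 := hshift M n (hs _ (hE i) 0)
            have h2 := hshift _ 1 h1
            rw [← clTr_shift h1 h2 hZ hQZ]
            exact clTr_iso ((shiftFunctorAdd' (DerivedCategory C) n 1 (n + 1) rfl).app M)
              (hshift M _ (hs _ (hE i) 0)) h2 hZ hQZ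
          have h0 : KZero.clTr Q (M⟦(0 : ℤ)⟧) ∈ F.range := by
            rw [clTr_iso ((shiftFunctorZero (DerivedCategory C) ℤ).app M)
              (hshift M 0 (hs _ (hE i) 0)) (hs _ (hE i) 0) hZ hQZ]
            exact ⟨_, hF _ (hE i)⟩
          intro n
          induction n using Int.induction_on with
          | zero => exact h0
          | succ k ih => rw [step]; exact neg_mem ih
          | pred k ih =>
            have h := step (-(k : ℤ) - 1)
            rw [sub_add_cancel] at h
            rw [show KZero.clTr Q (M⟦(-(k : ℤ) - 1)⟧) = - KZero.clTr Q (M⟦(-(k : ℤ))⟧) by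
              rw [h, neg_neg]]
            exact neg_mem ih
        rw [← clTr_iso (((DerivedCategory.singleFunctors C).shiftIso (-i) i 0 (by omega)).app
          (E.X i)) (hshift M (-i) (hs _ (hE i) 0)) (hs _ (hE i) i) hZ hQZ]
        exact hM _⟩
    rw [← clTr_iso e key.1 hK hZ hQZ]
    exact key.2
  have hsurj : Function.Surjective F := fun x => by
    induction x using k0tr_induction with
    | h0 => exact ⟨0, map_zero F⟩
    | hcl K hK => exact hmem K hK
    | hadd a b ha hb =>
      obtain ⟨y, rfl⟩ := ha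
      obtain ⟨z, rfl⟩ := hb
      exact ⟨y + z, map_add F y z⟩
    | hneg a ha =>
      obtain ⟨y, rfl⟩ := ha
      exact ⟨-y, map_neg F y⟩
  refine ⟨AddEquiv.ofBijective F ⟨Function.LeftInverse.injective (g := G)
    fun x => congr($hGF x), hsurj⟩, hF, fun E a b hE hb => ?_⟩
  have hG : G (KZero.clTr Q (DerivedCategory.Q.obj E)) = chi P E := by
    have hgood : Good P E := ⟨hE, a, b, hb⟩
    rw [liftTr_clTr _ _ ((hQ _).2 ⟨E, hgood, ⟨Iso.refl _⟩⟩)]
    exact chiD_eq hproj hker hzero hbi hgood (Iso.refl _)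
  rw [← chi_eq_sum hE a b hb, ← hG, AddEquiv.symm_apply_eq]
  obtain ⟨y, hy⟩ := hsurj (KZero.clTr Q (DerivedCategory.Q.obj E))
  rw [← hy]
  exact congrArg F congr($hGF y).symm

end Equiv

end Derived

end Groth.KTheory.PerfK0
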