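import Groth.Agent.KTheory.GenIso
import Groth.Agent.KTheory.PerfK0
import Groth.Agent.KTheory.AmpleElt
import Mathlib.Algebra.Homology.DerivedCategory.Basic
import Mathlib.Algebra.Category.Grp.Abelian

/-!
# Nilpotency of the augmentation ideal of `K₀` in presence of an ample line bundle
-/

set_option autoImplicit false
universe v u

open CategoryTheory CategoryTheory.Limits AlgebraicGeometry TopologicalSpace TensorProduct

namespace Groth.KTheory.AmpleNil

open Groth.PicAux Groth.LocFree LambdaVb KvbModel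
open Groth.QCohMod (appₗ)

variable {X : Scheme.{u}}

/-- Finite locally free modules. -/
local notation "VB" => (fun M : X.Modules => FlatMod.IsFinLocFree M)

instance : ObjectProperty.IsClosedUnderIsomorphisms (C := X.Modules) VB :=
  ⟨fun e h => LocFree.isFinLocFree_of_iso e h⟩

attribute [local instance] HasDerivedCategory.standard in
theorem acyclic_cone {E F : CochainComplex AddCommGrpCat.{u} ℤ} (f : E ⟶ F) [QuasiIso f] :
    (CochainComplex.mappingCone f).Acyclic := by
  intro i
  have hT := DerivedCategory.mappingCone_triangle_distinguished (φ := f)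
  have : IsIso (DerivedCategory.Q.mapTriangle.obj (CochainComplex.mappingCone.triangle f)).mor₁ := by
    change IsIso (DerivedCategory.Q.map f)
    infer_instance
  have hz := Pretriangulated.Triangle.isZero₃_of_isIso₁ _ hT this
  exact ((CochainComplex.mappingCone f).exactAt_iff_isZero_homology i).2
    (((DerivedCategory.homologyFunctor _ i).map_isZero hz).of_iso
      ((DerivedCategory.homologyFunctorFactors _ i).app (CochainComplex.mappingCone f)).symm)

/-- Sections over an open, as abelian groups. -/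
noncomputable abbrev sec (U : X.Opens) : X.Modules ⥤ AddCommGrpCat.{u} :=
  Scheme.Modules.toPresheaf X ⋙ (evaluation _ _).obj (Opposite.op U)

instance (U : X.Opens) : (sec U).Additive where
  map_add := rfl

/-- The complex is exact on sections over `U`. -/
def ExOn (C : CochainComplex X.Modules ℤ) (U : X.Opens) : Prop :=
  (((sec U).mapHomologicalComplex _).obj C).Acyclic

theorem exOn_iff (C : CochainComplex X.Modules ℤ) (U : X.Opens) :
    ExOn C U ↔ ∀ i : ℤ, Function.Exact (appₗ (C.d (i - 1) i) U) (appₗ (C.d i (i + 1)) U) := by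
  refine forall_congr' fun i => ?_
  rw [HomologicalComplex.exactAt_iff' _ (i - 1) i (i + 1) (by simp) (by simp),
    ShortComplex.ab_exact_iff_function_exact]
  rfl

theorem exOn_tensor {A : X.Modules} (hA : FlatMod.IsFinLocFree A) {C : CochainComplex X.Modules ℤ}
    (hC : ∀ i, FlatMod.IsFinLocFree (C.X i)) {U : X.Opens} (hU : IsAffineOpen U) (h : ExOn C U) :
    ExOn ((((DCoh.tensorBi (X := X)).obj A).mapHomologicalComplex _).obj C) U := by
  have := LocFree.isQCoh hA
  have := fun i => LocFree.isQCoh (hC i)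
  have := Groth.LocFree.projective_sections hA hU
  rw [exOn_iff] at h ⊢
  intro i
  have hT := Module.Flat.lTensor_exact Γ(A, U) (h i)
  refine fun (x : Γ(CohB1.tensorMod A (C.X i), U)) => ⟨fun hx => ?_, ?_⟩
  · obtain ⟨z, rfl⟩ := (tensorSecEquiv (M := A) (N := C.X i) hU).surjective x
    have h0 : tensorSecEquiv (M := A) (N := C.X (i + 1)) hU
        (LinearMap.lTensor Γ(A, U) (appₗ (C.d i (i + 1)) U) z) = 0 :=
      (tensorMap_app_tensorSecEquiv (C.d i (i + 1)) hU z).symm.trans hx
    rw [LinearEquiv.map_eq_zero_iff] at h0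
    obtain ⟨y, rfl⟩ := (hT z).1 h0
    exact ⟨_, tensorMap_app_tensorSecEquiv (C.d (i - 1) i) hU y⟩
  · rintro ⟨w, rfl⟩
    obtain ⟨y, rfl⟩ := (tensorSecEquiv (M := A) (N := C.X (i - 1)) hU).surjective w
    refine (congrArg _ (tensorMap_app_tensorSecEquiv (C.d (i - 1) i) hU y)).trans
      ((tensorMap_app_tensorSecEquiv (C.d i (i + 1)) hU _).trans ?_)
    rw [hT.apply_apply_eq_zero, map_zero]
    rfl

theorem tensorMap_app_tensorSecEquiv_id {A B N : X.Modules} [A.IsQuasicoherent] [B.IsQuasicoherent]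
    [N.IsQuasicoherent] (σ : A ⟶ B) {U : X.Opens} (hU : IsAffineOpen U)
    (z : Γ(A, U) ⊗[Γ(X, U)] Γ(N, U)) :
    (KoszTw.tensorMap σ (𝟙 N)).app U (tensorSecEquiv hU z) =
      tensorSecEquiv hU (LinearMap.rTensor Γ(N, U) (appₗ σ U) z) := by
  induction z using TensorProduct.induction_on with
  | zero => simp only [map_zero]
  | add a b ha hb => rw [map_add, map_add, ha, hb, map_add, map_add]
  | tmul a b =>
    rw [tensorSecEquiv_tmul, LinearMap.rTensor_tmul, tensorSecEquiv_tmul, tensorMap_app_tmulSec]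
    rfl

theorem tensorBiMap_app_tensorSecEquiv {A B N : X.Modules} [A.IsQuasicoherent] [B.IsQuasicoherent]
    [N.IsQuasicoherent] (σ : A ⟶ B) {U : X.Opens} (hU : IsAffineOpen U)
    (z : Γ(A, U) ⊗[Γ(X, U)] Γ(N, U)) :
    (((DCoh.tensorBi (X := X)).map σ).app N).app U (tensorSecEquiv hU z) =
      tensorSecEquiv hU (LinearMap.rTensor Γ(N, U) (appₗ σ U) z) := by
  refine Eq.trans ?_ (tensorMap_app_tensorSecEquiv_id σ hU z)
  rw [KoszTw.tensorBi_map_app]
  rfl

/-- The natural map of complexes induced by tensoring with `σ`. -/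
noncomputable abbrev tensorMapC {A B : X.Modules} (σ : A ⟶ B) (C : CochainComplex X.Modules ℤ) :
    (((DCoh.tensorBi (X := X)).obj A).mapHomologicalComplex _).obj C ⟶
      (((DCoh.tensorBi (X := X)).obj B).mapHomologicalComplex _).obj C :=
  (NatTrans.mapHomologicalComplex ((DCoh.tensorBi (X := X)).map σ) _).app C

theorem exOn_cone {A B : X.Modules} (hA : FlatMod.IsFinLocFree A) (hB : FlatMod.IsFinLocFree B)
    (σ : A ⟶ B) {C : CochainComplex X.Modules ℤ} (hC : ∀ i, FlatMod.IsFinLocFree (C.X i))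
    {U : X.Opens} (hU : IsAffineOpen U)
    (h : ExOn C U ∨ Function.Bijective (σ.app U)) :
    ExOn (CochainComplex.mappingCone (tensorMapC σ C)) U := by
  have : QuasiIso (((sec U).mapHomologicalComplex _).map (tensorMapC σ C)) := by
    rcases h with h | h
    · refine ⟨fun i => (quasiIsoAt_iff_exactAt _ i (exOn_tensor hA hC hU h i)).2
        (exOn_tensor hB hC hU h i)⟩
    · have := LocFree.isQCoh hA
      have := LocFree.isQCoh hB
      have : ∀ i, IsIso ((((sec U).mapHomologicalComplex _).map (tensorMapC σ C)).f i) := fun i => by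
        have := LocFree.isQCoh (hC i)
        rw [ConcreteCategory.isIso_iff_bijective]
        let e := LinearEquiv.rTensor Γ(C.X i, U) (LinearEquiv.ofBijective (appₗ σ U) h)
        have he : (fun x => (((DCoh.tensorBi (X := X)).map σ).app (C.X i)).app U x) ∘
            tensorSecEquiv (M := A) (N := C.X i) hU = tensorSecEquiv hU ∘ e :=
          funext fun z => tensorBiMap_app_tensorSecEquiv σ hU z
        exact (Function.Bijective.of_comp_iff _ (tensorSecEquiv (M := A) (N := C.X i) hU).bijective).1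
          (by
            have hb := (tensorSecEquiv (M := B) (N := C.X i) hU).bijective.comp e.bijective
            exact he ▸ hb)
      have := HomologicalComplex.Hom.isIso_of_components
        (((sec U).mapHomologicalComplex _).map (tensorMapC σ C))
      infer_instance
  intro i
  exact HomologicalComplex.ExactAt.of_iso (acyclic_cone _ i)
    (CochainComplex.mappingCone.mapHomologicalComplexIso (tensorMapC σ C) (sec U)).symm

theorem chi_tensor {A : X.Modules} (hA : FlatMod.IsFinLocFree A) {C : CochainComplex X.Modules ℤ}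
    (hC : PerfK0.Good VB C) :
    PerfK0.Good VB ((((DCoh.tensorBi (X := X)).obj A).mapHomologicalComplex _).obj C) ∧
      PerfK0.chi VB ((((DCoh.tensorBi (X := X)).obj A).mapHomologicalComplex _).obj C) =
        mulHom (kcl A) (PerfK0.chi VB C) := by
  obtain ⟨hP, a, b, hb⟩ := hC
  have hP' : ∀ i, VB (((((DCoh.tensorBi (X := X)).obj A).mapHomologicalComplex _).obj C).X i) :=
    fun i => isFinLocFree_tensorMod hA (hP i)
  have hb' : ∀ i, i < a ∨ b < i →
      IsZero (((((DCoh.tensorBi (X := X)).obj A).mapHomologicalComplex _).obj C).X i) :=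
    fun i hi => ((DCoh.tensorBi (X := X)).obj A).map_isZero (hb i hi)
  refine ⟨⟨hP', a, b, hb'⟩, ?_⟩
  rw [PerfK0.chi_eq_sum hP' a b hb', PerfK0.chi_eq_sum hP a b hb, map_sum]
  exact Finset.sum_congr rfl fun i _ => by
    rw [map_zsmul]
    exact congrArg _ (mulHom_kcl hA (hP i)).symm

/-- Bundles related by morphisms which are isomorphisms on the members of an open cover. -/
theorem prod_eq_zero {ι : Type*} [Fintype ι] (A B : ι → X.Modules)
    (hA : ∀ j, FlatMod.IsFinLocFree (A j)) (hB : ∀ j, FlatMod.IsFinLocFree (B j))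
    (σ : ∀ j, A j ⟶ B j) (W : ι → X.Opens)
    (hW : ∀ j, IsIso ((Scheme.Modules.restrictFunctor (W j).ι).map (σ j)))
    (hcov : ∀ x, ∃ j, x ∈ W j) :
    letI := kvbRing X
    ∏ j, (kcl (B j) - kcl (A j)) = 0 := by
  letI := kvbRing X
  classical
  have key : ∀ s : Finset ι, ∃ C : CochainComplex X.Modules ℤ, PerfK0.Good VB C ∧
      PerfK0.chi VB C = ∏ j ∈ s, (kcl (B j) - kcl (A j)) ∧
      ∀ U : X.Opens, IsAffineOpen U → (∃ j ∈ s, U ≤ W j) → ExOn C U := by
    intro s
    induction s using Finset.induction_on with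
    | empty =>
      let O := Coh.structureModule X
      let C := (HomologicalComplex.single X.Modules (ComplexShape.up ℤ) 0).obj O
      have hP : ∀ i, VB (C.X i) := fun i => by
        rcases eq_or_ne i 0 with rfl | hi
        · exact LocFree.isFinLocFree_of_iso
            (HomologicalComplex.singleObjXSelf _ _ _).symm (isFinLocFree_unit X)
        · exact LocFree.isFinLocFree_zero (HomologicalComplex.isZero_single_obj_X _ _ _ _ hi)
      have hb : ∀ i, i < 0 ∨ 0 < i → IsZero (C.X i) := fun i hi =>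
        HomologicalComplex.isZero_single_obj_X _ _ _ _ (by omega)
      refine ⟨C, ⟨hP, 0, 0, hb⟩, ?_, fun U _ ⟨j, hj, _⟩ => absurd hj (Finset.notMem_empty _)⟩
      rw [PerfK0.chi_eq_sum hP 0 0 hb, Finset.prod_empty, Finset.Icc_self, Finset.sum_singleton]
      simp only [Int.negOnePow_zero, Units.val_one, one_smul]
      exact kcl_iso (HomologicalComplex.singleObjXSelf _ _ _) (hP 0)
    | insert j s hj ih =>
      obtain ⟨C, hC, hχ, hex⟩ := ih
      obtain ⟨gA, cA⟩ := chi_tensor (hA j) hC
      obtain ⟨gB, cB⟩ := chi_tensor (hB j) hC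
      obtain ⟨g, c⟩ := PerfK0.chi_mappingCone (P := VB)
        (fun _ _ h h' => isFinLocFree_biprod h h') gA gB (tensorMapC (σ j) C)
      refine ⟨_, g, ?_, fun U hU ⟨k, hk, hkU⟩ => exOn_cone (hA j) (hB j) _ hC.1 hU ?_⟩
      · rw [c, cA, cB, hχ, Finset.prod_insert hj]
        exact (sub_mul (kcl (B j)) (kcl (A j)) _).symm
      · rcases Finset.mem_insert.1 hk with rfl | hk
        · refine Or.inr ?_
          have h1 := Scheme.Modules.Hom.isIso_iff_isIso_app.1 (hW k) ((W k).ι ⁻¹ᵁ U)
          rw [ConcreteCategory.isIso_iff_bijective] at h1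
          change Function.Bijective ((σ k).app ((W k).ι ''ᵁ (W k).ι ⁻¹ᵁ U)) at h1
          rwa [(W k).ι.image_preimage_eq_opensRange_inf, Scheme.Opens.opensRange_ι,
            inf_eq_right.2 hkU] at h1
        · exact Or.inl (hex U hU ⟨k, hk, hkU⟩)
  obtain ⟨C, hC, hχ, hex⟩ := key Finset.univ
  rw [← hχ]
  have hq := fun i => LocFree.isQCoh (hC.1 i)
  refine PerfK0.chi_of_exact' (fun f hf hX hY => ?_)
    (fun _ h => LocFree.isFinLocFree_zero h) hC fun i => ?_
  · let S := ShortComplex.mk (kernel.ι f) f (kernel.condition f)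
    exact Groth.LocFree.isFinLocFree_left (S := S)
      { exact := ShortComplex.exact_of_f_is_kernel _ (kernelIsKernel f)
        mono_f := inferInstance
        epi_g := hf } hX hY
  · rw [HomologicalComplex.exactAt_iff' _ (i - 1) i (i + 1) (by simp) (by simp)]
    have : (C.sc' (i - 1) i (i + 1)).X₂.IsQuasicoherent := hq i
    have : (C.sc' (i - 1) i (i + 1)).X₃.IsQuasicoherent := hq (i + 1)
    refine Groth.OmegaSheaf.exact_of_affine_cover _ fun x => ?_
    obtain ⟨j, hj⟩ := hcov x
    obtain ⟨U, hU, hx, hUj⟩ := exists_isAffineOpen_mem_and_subset hj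
    exact ⟨U, hU, hx, fun m hm =>
      ((exOn_iff C U).1 (hex U hU ⟨j, Finset.mem_univ _, hUj⟩) i m).1 hm⟩

/-- The `K`-model as a ring isomorphic image of `K₀`. -/
noncomputable def modelHom {K : Type v} [CommRing K] [LambdaRing.LambdaOps K]
    {P : LambdaRing.PosStructure K} {φ : SGA6.Kvb X →+ K} (hK : KRR.IsModel X K P φ) :
    letI := kvbRing X
    SGA6.Kvb X →+* K :=
  letI := kvbRing X
  { φ with
    map_one' := hK.map_one
    map_mul' := fun x y => by
      change φ (mulHom x y) = φ x * φ y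
      induction x using k0sub_induction with
      | h0 => simp
      | hadd a b ha hb => simp [ha, hb, add_mul]
      | hneg a ha => simp [ha]
      | hcl E hE =>
        induction y using k0sub_induction with
        | h0 => simp
        | hadd a b ha hb => simp [ha, hb, mul_add]
        | hneg a ha => simp [ha]
        | hcl F hF => exact (congrArg φ (mulHom_kcl hE hF)).trans (hK.map_mul E F hE hF).symm }

section Ample

variable {L : X.Modules} (hL : CohB1.IsAmple L)
  {K : Type v} [CommRing K] [LambdaRing.LambdaOps K] {P : LambdaRing.PosStructure K}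
  {φ : SGA6.Kvb X →+ K} (hK : KRR.IsModel X K P φ)

include hL hK

theorem exists_twist_nilpotent {F : X.Modules} {r : ℕ} (hF : FlatMod.IsFinLocFreeOfRank r F) :
    ∃ n₀, ∀ n, n₀ ≤ n → IsNilpotent (φ (kcl L) ^ n * φ (kcl F) - r) := by
  have hL1 := isInvertible_iff_ofRank_one.1 hL.1
  have hvL := isFinLocFree_of_rank hL1
  have hvF := isFinLocFree_of_rank hF
  have := KTheory.LocFree.isQCoh hvF
  have := hL.2.1
  have hpow : ∀ n, FlatMod.IsFinLocFreeOfRank 1 (CohB1.tensorPow L n) ∧
      φ (kcl (CohB1.tensorPow L n)) = φ (kcl L) ^ n := by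
    intro n
    induction n with
    | zero => exact ⟨isFinLocFreeOfRank_unit X, by rw [pow_zero]; exact hK.map_one⟩
    | succ n ih =>
      refine ⟨one_mul 1 ▸ isFinLocFreeOfRank_tensorMod ih.1 hL1, ?_⟩
      rw [pow_succ, ← ih.2]
      exact (hK.map_mul _ _ (isFinLocFree_of_rank ih.1) hvL).symm
  obtain ⟨n₀, hn₀⟩ := Groth.Ega2Proj.exists_spans_twist hL F (KTheory.LocFree.isCoh hvF).2
  refine ⟨n₀, fun n hn => ?_⟩
  have hG := isFinLocFreeOfRank_tensorMod hF (hpow n).1
  rw [mul_one] at hG
  choose σ W hW hiso using GenIso.exists_hom_free_isIso_nhd hG (hn₀ n hn)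
  obtain ⟨t, ht⟩ := isCompact_univ.elim_finite_subcover (fun x => (W x : Set X))
    (fun x => (W x).isOpen) (fun x _ => Set.mem_iUnion.2 ⟨x, hW x⟩)
  letI := kvbRing X
  have h := prod_eq_zero (ι := t) (fun _ => FlatMod.freeMod X r)
    (fun _ => CohB1.tensorMod F (CohB1.tensorPow L n)) (fun _ => isFinLocFree_freeMod X r)
    (fun _ => isFinLocFree_of_rank hG) (fun y => σ y) (fun y => W y) (fun y => hiso y)
    (fun x => by
      obtain ⟨y, hy⟩ := Set.mem_iUnion₂.1 (ht (Set.mem_univ x))
      exact ⟨⟨y, hy.1⟩, hy.2⟩)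
  rw [Finset.prod_const] at h
  refine ⟨(Finset.univ : Finset t).card, ?_⟩
  have h' := congrArg (modelHom hK) h
  rw [map_pow, map_zero, map_sub] at h'
  change (φ (kcl _) - φ (kcl _)) ^ _ = 0 at h'
  have h1 : φ (kcl (FlatMod.freeMod X r)) = r := by
    rw [AmpleElt.kcl_freeMod, map_nsmul, nsmul_eq_mul,
      show φ (kcl (Coh.structureModule X)) = 1 from hK.map_one, mul_one]
  have h2 : φ (kcl (CohB1.tensorMod F (CohB1.tensorPow L n))) = φ (kcl L) ^ n * φ (kcl F) := by
    rw [mul_comm, ← (hpow n).2]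
    exact (hK.map_mul F _ hvF (isFinLocFree_of_rank (hpow n).1)).symm
  rwa [h1, h2] at h'

/-- The class of a bundle of rank `r` is `r` up to a nilpotent. -/
theorem isNilpotent_kcl_sub {F : X.Modules} {r : ℕ} (hF : FlatMod.IsFinLocFreeOfRank r F) :
    IsNilpotent (φ (kcl F) - r) := by
  obtain ⟨n₁, h₁⟩ := exists_twist_nilpotent hL hK hF
  obtain ⟨n₂, h₂⟩ := exists_twist_nilpotent hL hK (isFinLocFreeOfRank_unit X)
  have h1 := h₁ (max n₁ n₂) (le_max_left _ _)
  have h2 := h₂ (max n₁ n₂) (le_max_right _ _)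
  rw [show φ (kcl (Coh.structureModule X)) = 1 from hK.map_one, mul_one, Nat.cast_one] at h2
  have h3 := (Commute.all _ _).isNilpotent_sub h1
    ((Commute.all _ (φ (kcl F))).isNilpotent_mul_right h2)
  refine Eq.mp (congrArg IsNilpotent ?_) h3
  ring

/-- Augmentation zero implies nilpotent. -/
theorem isNilpotent_of_aug_eq_zero {x : K} (hx : P.aug x = 0) : IsNilpotent x := by
  obtain ⟨e, f, he, hf, rfl⟩ := P.exists_sub x
  obtain ⟨a, E, -, hE, rfl⟩ := (hK.mem_pos_iff _).1 he
  obtain ⟨b, F, -, hF, rfl⟩ := (hK.mem_pos_iff _).1 hf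
  rw [map_sub, hK.aug_cl a E hE, hK.aug_cl b F hF, sub_eq_zero, Nat.cast_inj] at hx
  subst hx
  have h := (Commute.all _ _).isNilpotent_sub (isNilpotent_kcl_sub hL hK hE)
    (isNilpotent_kcl_sub hL hK hF)
  rw [sub_sub_sub_cancel_right] at h
  exact h

end Ample

end Groth.KTheory.AmpleNil
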