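import Mathlib.Algebra.Homology.DerivedCategory.KInjective
import Mathlib.Algebra.Homology.DerivedCategory.TStructure
import Mathlib.Algebra.Homology.Factorizations.CM5a
import Mathlib.CategoryTheory.Abelian.GrothendieckCategory.EnoughInjectives

/-!
# Bounded complexes of injective objects in the derived category
-/

set_option autoImplicit false
universe w v u
open CategoryTheory CategoryTheory.Limits CategoryTheory.Pretriangulated HomologicalComplex

namespace Groth.Agent.BoundedInjective

variable {A : Type u} [Category.{v} A] [Abelian A] [HasDerivedCategory.{w} A]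

/-- No maps from objects placed in degree `i`. -/
def Van (X : DerivedCategory A) (i : ℤ) : Prop :=
  ∀ (F : A) (φ : (DerivedCategory.singleFunctor A i).obj F ⟶ X), φ = 0

lemma van_iff (X : DerivedCategory A) (i : ℤ) :
    (∀ (F : A) (φ : (DerivedCategory.singleFunctor A 0).obj F ⟶ X⟦i⟧), φ = 0) ↔ Van X i := by
  have e : ∀ F : A, ((DerivedCategory.singleFunctor A i).obj F)⟦i⟧ ≅
      (DerivedCategory.singleFunctor A 0).obj F := fun F =>
    ((DerivedCategory.singleFunctors A).shiftIso i 0 i (by omega)).app F
  constructor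
  · intro h F φ
    apply (shiftFunctor _ i).map_injective
    rw [Functor.map_zero, ← cancel_epi (e F).inv, comp_zero]
    exact h F _
  · intro h F φ
    obtain ⟨ψ, hψ⟩ := (shiftFunctor (DerivedCategory A) i).map_surjective ((e F).hom ≫ φ)
    rw [← cancel_epi (e F).hom, comp_zero, ← hψ, h F ψ, Functor.map_zero]

lemma Q_map_surjective (K I : CochainComplex A ℤ) [I.IsKInjective]
    (φ : DerivedCategory.Q.obj K ⟶ DerivedCategory.Q.obj I) :
    ∃ f : K ⟶ I, DerivedCategory.Q.map f = φ := by
  let e := DerivedCategory.quotientCompQhIso A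
  obtain ⟨g, hg⟩ := (CochainComplex.IsKInjective.Qh_map_bijective
    ((HomotopyCategory.quotient _ _).obj K) I).2 (e.hom.app K ≫ φ ≫ e.inv.app I)
  obtain ⟨f, rfl⟩ := (HomotopyCategory.quotient _ _).map_surjective g
  refine ⟨f, ?_⟩
  rw [← cancel_epi (e.hom.app K), ← cancel_mono (e.inv.app I), Category.assoc, Category.assoc, ← hg,
    ← e.hom.naturality_assoc]
  simp

lemma homotopic_zero {K I : CochainComplex A ℤ} [I.IsKInjective] (f : K ⟶ I)
    (h : DerivedCategory.Q.map f = 0) : Nonempty (Homotopy f 0) := by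
  let e := DerivedCategory.quotientCompQhIso A
  refine ⟨HomotopyCategory.homotopyOfEq _ _ ((CochainComplex.IsKInjective.Qh_map_bijective
    ((HomotopyCategory.quotient _ _).obj K) I).1 ?_)⟩
  have hn := e.hom.naturality f
  rw [h, comp_zero, Functor.comp_map] at hn
  rw [Functor.map_zero, Functor.map_zero, ← cancel_mono (e.hom.app I), hn, zero_comp]

/-- A complex of injectives vanishing in degree `i` receives no maps from degree `i`. -/
lemma van_of_isZero (I : CochainComplex A ℤ) [I.IsKInjective] (i : ℤ) (hi : IsZero (I.X i))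
    {X : DerivedCategory A} (e : DerivedCategory.Q.obj I ≅ X) : Van X i := fun F φ => by
  obtain ⟨f, hf⟩ := Q_map_surjective ((CochainComplex.singleFunctor A i).obj F) I (φ ≫ e.inv)
  have : f = 0 := HomologicalComplex.from_single_hom_ext (hi.eq_of_tgt _ _)
  rw [this, Functor.map_zero] at hf
  rw [← cancel_mono e.inv, zero_comp]
  exact hf.symm

lemma exists_fac (I : CochainComplex A ℤ) [I.IsKInjective] (i : ℤ)
    (h : Van (DerivedCategory.Q.obj I) i) :
    ∃ s : I.cycles i ⟶ I.X (i - 1), s ≫ I.toCycles (i - 1) i = 𝟙 _ := by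
  let f : (CochainComplex.singleFunctor A i).obj (I.cycles i) ⟶ I :=
    HomologicalComplex.mkHomFromSingle (I.iCycles i) (fun k _ => I.iCycles_d i k)
  obtain ⟨H⟩ := homotopic_zero f (h _ (DerivedCategory.Q.map f))
  refine ⟨(HomologicalComplex.singleObjXSelf (ComplexShape.up ℤ) i (I.cycles i)).inv ≫ H.hom i (i - 1), ?_⟩
  have hc := H.comm i
  rw [dNext_eq _ (show (ComplexShape.up ℤ).Rel i (i + 1) from rfl),
    prevD_eq _ (show (ComplexShape.up ℤ).Rel (i - 1) i by simp)] at hc
  have hd : ((CochainComplex.singleFunctor A i).obj (I.cycles i)).d i (i + 1) = 0 :=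
    CochainComplex.singleFunctor_obj_d _ _ _ _
  rw [hd, zero_comp, zero_add, HomologicalComplex.zero_f, add_zero] at hc
  rw [← cancel_mono (I.iCycles i), Category.assoc, Category.assoc, I.toCycles_i, Category.id_comp]
  refine (congrArg (_ ≫ ·) hc.symm).trans ?_
  simp only [f, HomologicalComplex.mkHomFromSingle_f]
  exact (Iso.inv_hom_id_assoc _ _)

/-- The truncation criterion. -/
theorem exists_trunc (I : CochainComplex A ℤ) (a b : ℤ) (hab : a ≤ b + 1) [I.IsStrictlyGE a]
    (hI : ∀ n, Injective (I.X n)) (h : ∀ i, b < i → Van (DerivedCategory.Q.obj I) i) :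
    ∃ (J : CochainComplex A ℤ) (f : I ⟶ J), QuasiIso f ∧ (∀ n, Injective (J.X n)) ∧
      J.IsStrictlyGE a ∧ J.IsStrictlyLE b := by
  have : I.IsKInjective := CochainComplex.isKInjective_of_injective I a
  have hle : I.IsLE b := by
    rw [CochainComplex.isLE_iff]
    intro i hi
    obtain ⟨s, hs⟩ := exists_fac I i (h i hi)
    have hz : I.homologyπ i = 0 := by
      rw [← Category.id_comp (I.homologyπ i), ← hs, Category.assoc, toCycles_comp_homologyπ, comp_zero]
    rw [exactAt_iff_isZero_homology, IsZero.iff_id_eq_zero, ← cancel_epi (I.homologyπ i), hz,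
      zero_comp, zero_comp]
  have : QuasiIso (I.ιTruncLE b) := inferInstance
  have hc : Injective (I.cycles b) := by
    obtain ⟨s, hs⟩ := exists_fac I (b + 1) (h (b + 1) (by omega))
    have e : b + 1 - 1 = b := by omega
    rw [e] at s
    obtain ⟨t, ht⟩ : ∃ t : I.cycles (b + 1) ⟶ I.X b, t ≫ I.toCycles b (b + 1) = 𝟙 _ := by
      obtain ⟨s', hs'⟩ := exists_fac I (b + 1) (h (b + 1) (by omega))
      exact ⟨s' ≫ (I.XIsoOfEq e).hom, by
        rw [Category.assoc, ← hs']; congr 1
        rw [← cancel_mono (I.iCycles (b + 1)), Category.assoc, I.toCycles_i, I.toCycles_i,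
          HomologicalComplex.XIsoOfEq_hom_comp_d]⟩
    have hp : (𝟙 (I.X b) - I.toCycles b (b + 1) ≫ t) ≫ I.d b (b + 1) = 0 := by
      rw [Preadditive.sub_comp, Category.id_comp, Category.assoc]
      have : t ≫ I.d b (b + 1) = I.iCycles (b + 1) := by
        rw [← I.toCycles_i b (b + 1), reassoc_of% ht]
      rw [this, I.toCycles_i, sub_self]
    let r := I.liftCycles _ (b + 1) (by simp) hp
    have hr : I.iCycles b ≫ r = 𝟙 _ := by
      rw [← cancel_mono (I.iCycles b), Category.assoc, liftCycles_i, Category.id_comp,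
        Preadditive.comp_sub, Category.comp_id, sub_eq_self]
      have h0 : I.iCycles b ≫ I.toCycles b (b + 1) = 0 := by
        rw [← cancel_mono (I.iCycles (b + 1)), Category.assoc, I.toCycles_i, iCycles_d, zero_comp]
      rw [reassoc_of% h0, zero_comp]
    constructor
    intro X Y g f hf
    have := hI b
    exact ⟨Injective.factorThru (g ≫ I.iCycles b) f ≫ r, by
      rw [Injective.comp_factorThru_assoc, Category.assoc, hr, Category.comp_id]⟩
  have hJ : ∀ n, Injective ((I.truncLE b).X n) := fun n => by
    obtain hn | rfl | hn := lt_trichotomy n b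
    · exact Injective.of_iso (I.truncLEXIso b n hn).symm (hI n)
    · exact Injective.of_iso (I.truncLEXIsoCycles n).symm hc
    · exact ((I.truncLE b).isZero_of_isStrictlyLE b n hn).injective
  have hge : (I.truncLE b).IsStrictlyGE a := by
    rw [CochainComplex.isStrictlyGE_iff]
    intro n hn
    obtain hn' | rfl | hn' := lt_trichotomy n b
    · exact (I.isZero_of_isStrictlyGE a n hn).of_iso (I.truncLEXIso b n hn')
    · exact (IsZero.of_mono (I.iCycles n) (I.isZero_of_isStrictlyGE a n hn)).of_iso (I.truncLEXIsoCycles n)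
    · exact (I.truncLE b).isZero_of_isStrictlyLE b n hn'
  have : (I.truncLE b).IsKInjective := CochainComplex.isKInjective_of_injective _ a
  obtain ⟨r, hr⟩ := Q_map_surjective I (I.truncLE b) (inv (DerivedCategory.Q.map (I.ιTruncLE b)))
  refine ⟨I.truncLE b, r, ?_, hJ, hge, inferInstance⟩
  rw [← DerivedCategory.isIso_Q_map_iff_quasiIso, hr]
  infer_instance

variable [EnoughInjectives A]

/-- Objects bounded below without maps from high degrees are bounded complexes of injectives. -/
theorem exists_complex (X : DerivedCategory A) (a b : ℤ) (hab : a ≤ b + 1) [X.IsGE a]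
    (h : ∀ i, b < i → Van X i) :
    ∃ J : CochainComplex A ℤ, (∀ n, Injective (J.X n)) ∧ J.IsStrictlyGE a ∧ J.IsStrictlyLE b ∧
      Nonempty (DerivedCategory.Q.obj J ≅ X) := by
  obtain ⟨L, _, ⟨e⟩⟩ := DerivedCategory.exists_iso_Q_obj_of_isGE X a
  obtain ⟨I, i, _, hI, _⟩ := CochainComplex.Plus.modelCategoryQuillen.exists_quasiIso_injective L a
  let e' : DerivedCategory.Q.obj I ≅ X := (asIso (DerivedCategory.Q.map i)).symm ≪≫ e.symm
  obtain ⟨J, f, hf, hJ, hJa, hJb⟩ := exists_trunc I a b hab hI (fun k hk F φ => by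
    exact (cancel_mono e'.hom).1 ((h k hk F _).trans zero_comp.symm))
  exact ⟨J, hJ, hJa, hJb, ⟨(asIso (DerivedCategory.Q.map f)).symm ≪≫ e'⟩⟩

omit [EnoughInjectives A] in
/-- No maps from degree `< a` means cohomologically `≥ a`. -/
lemma isGE_of_van (X : DerivedCategory A) (a : ℤ) (h : ∀ i, i < a → Van X i) : X.IsGE a := by
  rw [DerivedCategory.isGE_iff]
  intro i hi
  let K := DerivedCategory.Q.objPreimage X
  let e := DerivedCategory.Q.objObjPreimageIso X
  let f : (CochainComplex.singleFunctor A i).obj (K.cycles i) ⟶ K :=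
    HomologicalComplex.mkHomFromSingle (K.iCycles i) (fun k _ => K.iCycles_d i k)
  have h0 : DerivedCategory.Q.map f = 0 := by
    rw [← cancel_mono e.hom, zero_comp]; exact h i hi _ _
  have h1 : homologyMap f i = 0 := by
    have hn := (DerivedCategory.homologyFunctorFactors A i).hom.naturality f
    change (DerivedCategory.homologyFunctor A i).map (DerivedCategory.Q.map f) ≫ _ = _ at hn
    rw [h0, Functor.map_zero, zero_comp] at hn
    refine (cancel_epi ((DerivedCategory.homologyFunctorFactors A i).hom.app _)).1 ?_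
    exact hn.symm.trans comp_zero.symm
  let T := (CochainComplex.singleFunctor A i).obj (K.cycles i)
  have h2 : cyclesMap f i = T.iCycles i ≫
      (HomologicalComplex.singleObjXSelf (ComplexShape.up ℤ) i (K.cycles i)).hom := by
    rw [← cancel_mono (K.iCycles i), cyclesMap_i]
    simp only [f, HomologicalComplex.mkHomFromSingle_f, Category.assoc]
    rfl
  have : IsIso (T.iCycles i) := T.isIso_iCycles i (i + 1) (by simp) (CochainComplex.singleFunctor_obj_d _ _ _ _)
  have : IsIso (cyclesMap f i) := by rw [h2]; infer_instance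
  have h3 : K.homologyπ i = 0 := by
    rw [← cancel_epi (cyclesMap f i), comp_zero, ← homologyπ_naturality, h1, comp_zero]
  exact IsZero.of_iso (IsZero.of_epi_eq_zero _ h3)
    ((DerivedCategory.homologyFunctor A i).mapIso e.symm ≪≫
      (DerivedCategory.homologyFunctorFactors A i).app K)

end Groth.Agent.BoundedInjective
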