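import Groth.Agent.Misc7.GSS.Acyclic
import Groth.Agent.KTheory.InjResSES
import Mathlib.Algebra.Homology.Factorizations.CM5b

/-!
# Unbounded complexes and functors of finite cohomological dimension
-/

set_option autoImplicit false
universe v u v' u'
open CategoryTheory CategoryTheory.Limits HomologicalComplex
open Groth.CohFin Groth.CohBase

namespace Groth.Agent.FiniteDim

variable {A : Type u} [Category.{v} A] [Abelian A] [EnoughInjectives A]
  {B : Type u'} [Category.{v'} B] [Abelian B] (F : A ⥤ B) [F.Additive] [PreservesFiniteLimits F]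
  (n : ℕ) (hn : ∀ X : A, IsZero ((F.rightDerived n).obj X))

omit [EnoughInjectives A] in
lemma cokerShortExact {X Y : A} (f : X ⟶ Y) [Mono f] :
    (ShortComplex.mk f (cokernel.π f) (cokernel.condition f)).ShortExact :=
  { exact := ShortComplex.exact_of_g_is_cokernel _ (cokernelIsCokernel f)
    mono_f := inferInstance
    epi_g := inferInstance }

include hn in
lemma isZero_ge : ∀ (k : ℕ) (X : A), IsZero ((F.rightDerived (n + k + 1)).obj X) := by
  intro k
  induction k with
  | zero =>
    intro X
    cases n with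
    | zero =>
      have h0 : ∀ Y, IsZero (F.obj Y) := fun Y => (hn Y).of_iso (asIso (F.toRightDerivedZero.app Y))
      refine IsZero.of_iso ?_ ((injectiveResolution X).isoRightDerivedObj F _)
      exact (ShortComplex.exact_iff_isZero_homology _).1 (ShortComplex.exact_of_isZero_X₂ _ (h0 _))
    | succ m =>
      have : RightAcyclic F (Injective.under X) := rightAcyclic_of_injective F _
      obtain ⟨e⟩ := nonempty_rightDerived_shift F m _ (cokerShortExact (Injective.ι X)) this
      exact (hn _).of_iso e
  | succ k ih =>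
    intro X
    have : RightAcyclic F (Injective.under X) := rightAcyclic_of_injective F _
    obtain ⟨e⟩ := nonempty_rightDerived_shift F (n + k) _ (cokerShortExact (Injective.ι X)) this
    exact (ih _).of_iso e

include hn in
lemma isZero_of_le (j : ℕ) (h : n ≤ j) (X : A) : IsZero ((F.rightDerived j).obj X) := by
  obtain h | h := h.eq_or_lt
  · exact h ▸ hn X
  · obtain ⟨k, rfl⟩ : ∃ k, j = n + k + 1 := ⟨j - n - 1, by omega⟩
    exact isZero_ge F n hn k X

include hn in
/-- Unbounded acyclic complexes of acyclic objects stay acyclic. -/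
theorem exactAt_map (L : CochainComplex A ℤ) (hL : ∀ m, L.ExactAt m)
    (hA : ∀ m, RightAcyclic F (L.X m)) (m : ℤ) :
    ((F.mapHomologicalComplex (ComplexShape.up ℤ)).obj L).ExactAt m := by
  have hstep : ∀ (d : ℕ) (z : ℤ) (i : ℕ), n ≤ i + 1 + d →
      IsZero ((F.rightDerived (i + 1)).obj (L.cycles z)) := by
    intro d
    induction d with
    | zero => exact fun z i hi => isZero_of_le F n hn _ (by omega) _
    | succ d ih =>
      intro z i hi
      have hS := Groth.Misc7.GSS.cycles_shortExact L hL (z - 1) z (by omega)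
      obtain ⟨e⟩ := nonempty_rightDerived_shift F i _ hS (hA _)
      exact (ih (z - 1) (i + 1) (by omega)).of_iso e.symm
  have hZ : ∀ z, RightAcyclic F (L.cycles z) := fun z i => hstep n z i (by omega)
  obtain ⟨m, rfl⟩ : ∃ m', m = m' + 1 := ⟨m - 1, by omega⟩
  rw [HomologicalComplex.exactAt_iff' _ m (m + 1) (m + 1 + 1) (by simp) (by simp)]
  have hep : Epi (F.map (L.toCycles m (m + 1))) := by
    obtain ⟨e⟩ := nonempty_rightDerived_one_iso (F := F)
      (Groth.Misc7.GSS.cycles_shortExact L hL m _ rfl) (hA _)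
    exact Preadditive.epi_of_isZero_cokernel _ ((hZ m 0).of_iso e.symm)
  rw [ShortComplex.exact_iff_exact_up_to_refinements]
  intro W x hx
  have hker : IsLimit (KernelFork.ofι (F.map (L.iCycles (m + 1)))
      (by rw [← F.map_comp, L.iCycles_d, F.map_zero] :
        F.map (L.iCycles (m + 1)) ≫ F.map (L.d (m + 1) (m + 1 + 1)) = 0)) :=
    KernelFork.mapIsLimit _ (L.cyclesIsKernel (m + 1) (m + 1 + 1) (by simp)) F
  obtain ⟨z, hz⟩ := KernelFork.IsLimit.lift' hker x hx
  obtain ⟨W', π, hπ, y, hy⟩ := surjective_up_to_refinements_of_epi (F.map (L.toCycles m (m + 1))) z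
  refine ⟨W', π, hπ, y, ?_⟩
  dsimp at hz ⊢
  rw [← hz]
  exact (Category.assoc _ _ _).symm.trans ((congrArg (· ≫ _) hy).trans ((Category.assoc _ _ _).trans
    (congrArg (y ≫ ·) ((F.map_comp _ _).symm.trans (congrArg F.map (L.toCycles_i _ _))))))

include hn in
theorem quasiIso_map {K L : CochainComplex A ℤ} (hK : ∀ m, RightAcyclic F (K.X m))
    (hL : ∀ m, RightAcyclic F (L.X m)) (φ : K ⟶ L) [QuasiIso φ] :
    QuasiIso ((F.mapHomologicalComplex (ComplexShape.up ℤ)).map φ) := by
  have hA : ∀ m, RightAcyclic F ((CochainComplex.mappingCone φ).X m) := fun m j =>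
    ((rightAcyclic_biprod F (hK (m + 1)) (hL m)) j).of_iso ((F.rightDerived (j + 1)).mapIso
      (HomologicalComplex.homotopyCofiber.XIsoBiprod φ m (m + 1) rfl))
  let ψ := (F.mapHomologicalComplex (ComplexShape.up ℤ)).map φ
  have hac : ∀ m, (CochainComplex.mappingCone φ).ExactAt m := by
    rw [← HomotopyCategory.quotient_obj_mem_subcategoryAcyclic_iff_exactAt]
    refine ((HomotopyCategory.subcategoryAcyclic A).trW_iff_of_distinguished _
      (HomotopyCategory.mappingCone_triangleh_distinguished φ)).1 ?_
    rw [← HomotopyCategory.quasiIso_eq_trW_subcategoryAcyclic]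
    exact (HomotopyCategory.quotient_map_mem_quasiIso_iff φ).2 (show QuasiIso φ from inferInstance)
  have hac' : ∀ m, (CochainComplex.mappingCone ψ).ExactAt m := fun m =>
    (exactAt_map F n hn _ hac hA m).of_iso
      (CochainComplex.mappingCone.mapHomologicalComplexIso φ F)
  rw [← HomotopyCategory.quotient_obj_mem_subcategoryAcyclic_iff_exactAt] at hac'
  refine (HomotopyCategory.quotient_map_mem_quasiIso_iff ψ).1 ?_
  rw [HomotopyCategory.quasiIso_eq_trW_subcategoryAcyclic]
  exact ((HomotopyCategory.subcategoryAcyclic B).trW_iff_of_distinguished _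
    (HomotopyCategory.mappingCone_triangleh_distinguished ψ)).2 hac'

omit [EnoughInjectives A] in
lemma quasiIso_τ₁ {S₁ S₂ : ShortComplex (CochainComplex A ℤ)} (φ : S₁ ⟶ S₂) (hS₁ : S₁.ShortExact)
    (hS₂ : S₂.ShortExact) (h₂ : QuasiIso φ.τ₂) (h₃ : QuasiIso φ.τ₃) : QuasiIso φ.τ₁ := by
  rw [quasiIso_iff]
  intro j
  rw [quasiIsoAt_iff_isIso_homologyMap]
  have hij : (ComplexShape.up ℤ).Rel (j - 1) j := by simp
  exact Abelian.isIso_of_epi_of_isIso_of_isIso_of_mono
    ((HomologySequence.composableArrows₅_exact hS₁ _ _ hij).δ₀)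
    ((HomologySequence.composableArrows₅_exact hS₂ _ _ hij).δ₀)
    (ComposableArrows.δ₀Functor.map (HomologySequence.mapComposableArrows₅ φ hS₁ hS₂ (j - 1) j hij))
    (show Epi (homologyMap φ.τ₂ (j - 1)) from inferInstance)
    (show IsIso (homologyMap φ.τ₃ (j - 1)) from inferInstance)
    (show IsIso (homologyMap φ.τ₂ j) from inferInstance)
    (show Mono (homologyMap φ.τ₃ j) from inferInstance)

omit [EnoughInjectives A] in
lemma acyclic_cone_id (I : CochainComplex A ℤ) : (CochainComplex.mappingCone (𝟙 I)).Acyclic := by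
  intro m
  rw [exactAt_iff_isZero_homology, IsZero.iff_id_eq_zero, ← homologyMap_id,
    (CochainComplex.mappingCone.homotopyToZeroOfId I).homologyMap_eq m, homologyMap_zero]

omit [PreservesFiniteLimits F] in
lemma rightAcyclic_of_retract {X Y : A} (i : X ⟶ Y) (r : Y ⟶ X) (h : i ≫ r = 𝟙 X)
    (hY : RightAcyclic F Y) : RightAcyclic F X := fun j => by
  have : Mono ((F.rightDerived (j + 1)).map i ≫ (F.rightDerived (j + 1)).map r) := by
    rw [← Functor.map_comp, h, CategoryTheory.Functor.map_id]; infer_instance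
  have : Mono ((F.rightDerived (j + 1)).map i) := mono_of_mono _ ((F.rightDerived (j + 1)).map r)
  exact IsZero.of_mono ((F.rightDerived (j + 1)).map i) (hY j)

omit [PreservesFiniteLimits F] in
/-- Complexes of objects of finite dimension have acyclic resolutions. -/
theorem exists_resolution_of_dim [PreservesFiniteLimits F] : ∀ (d : ℕ) (K : CochainComplex A ℤ),
    (∀ m j, d ≤ j → IsZero ((F.rightDerived (j + 1)).obj (K.X m))) →
    ∃ (I : CochainComplex A ℤ) (i : K ⟶ I), QuasiIso i ∧ ∀ m, RightAcyclic F (I.X m)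
  | 0, K, h => ⟨K, 𝟙 K, inferInstance, fun m j => h m j (Nat.zero_le j)⟩
  | d + 1, K, h => by
    -- embedding into a complex of injective objects
    let E := CochainComplex.mappingCone (𝟙 (CochainComplex.cm5b.I K))
    let a : K ⟶ E := CochainComplex.cm5b.i (𝟙 K) ≫ biprod.fst
    have : Mono a := by
      apply HomologicalComplex.mono_of_mono_f _ (fun m => ?_)
      have h0 : Mono (a.f m ≫ (CochainComplex.mappingCone.snd
          (𝟙 (CochainComplex.cm5b.I K))).v m m (add_zero m)) := by
        have e : a.f m ≫ (CochainComplex.mappingCone.snd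
            (𝟙 (CochainComplex.cm5b.I K))).v m m (add_zero m) = Injective.ι (K.X m) :=
          (Category.assoc _ _ _).trans (CochainComplex.cm5b.i_f_comp (𝟙 K) m)
        rw [e]; exact Injective.ι_mono _
      exact mono_of_mono (a.f m) ((CochainComplex.mappingCone.snd
          (𝟙 (CochainComplex.cm5b.I K))).v m m (add_zero m))
    have hE : ∀ m, RightAcyclic F (E.X m) := fun m => by
      have : Injective (E.X m) := inferInstanceAs
        (Injective ((CochainComplex.mappingCone (𝟙 (CochainComplex.cm5b.I K))).X m))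
      exact rightAcyclic_of_injective F _
    let S : ShortComplex (CochainComplex A ℤ) := ShortComplex.mk a (cokernel.π a) (cokernel.condition a)
    have hS : S.ShortExact :=
      { exact := ShortComplex.exact_of_g_is_cokernel _ (cokernelIsCokernel a)
        mono_f := inferInstanceAs (Mono a)
        epi_g := inferInstanceAs (Epi (cokernel.π a)) }
    have hC : ∀ m j, d ≤ j → IsZero ((F.rightDerived (j + 1)).obj ((cokernel a).X m)) := by
      intro m j hj
      obtain ⟨e⟩ := nonempty_rightDerived_shift F j _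
        (hS.map_of_exact (HomologicalComplex.eval A (ComplexShape.up ℤ) m)) (hE m)
      exact (h m (j + 1) (by omega)).of_iso e.symm
    obtain ⟨I, i, hi, hI⟩ := exists_resolution_of_dim d (cokernel a) hC
    -- a contractible complex surjecting onto `I`
    let I' : CochainComplex A ℤ := I⟦(-1 : ℤ)⟧
    let P := CochainComplex.mappingCone (𝟙 I')
    let π : P ⟶ I := (CochainComplex.mappingCone.triangle (𝟙 I')).mor₃ ≫
      (shiftEquiv (CochainComplex A ℤ) (1 : ℤ)).counitIso.hom.app I
    have hP : ∀ m, RightAcyclic F (P.X m) := fun m j =>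
      ((rightAcyclic_biprod F (hI (m + 1 + -1)) (hI (m + -1))) j).of_iso ((F.rightDerived (j + 1)).mapIso
        (HomologicalComplex.homotopyCofiber.XIsoBiprod (𝟙 I') m (m + 1) rfl))
    have hπ : ∀ m, IsSplitEpi (π.f m) := fun m => by
      have h1 : IsSplitEpi ((CochainComplex.mappingCone.triangle (𝟙 I')).mor₃.f m) :=
        ⟨⟨⟨-(I'.shiftFunctorObjXIso 1 m (m + 1) rfl).hom ≫
          (CochainComplex.mappingCone.inl (𝟙 I')).v (m + 1) m (by omega), by
            erw [Preadditive.neg_comp, Category.assoc,
              CochainComplex.mappingCone.inl_v_triangle_mor₃_f,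
              Preadditive.comp_neg, neg_neg, Iso.hom_inv_id]⟩⟩⟩
      have h2 : IsIso (((shiftEquiv (CochainComplex A ℤ) (1 : ℤ)).counitIso.hom.app I).f m) :=
        ((HomologicalComplex.eval A (ComplexShape.up ℤ) m).mapIso
          ((shiftEquiv (CochainComplex A ℤ) (1 : ℤ)).counitIso.app I)).isIso_hom
      refine ⟨⟨⟨inv (((shiftEquiv (CochainComplex A ℤ) (1 : ℤ)).counitIso.hom.app I).f m) ≫
        h1.exists_splitEpi.some.section_, ?_⟩⟩⟩
      change (_ ≫ _) ≫ (_ ≫ _) = _
      rw [Category.assoc]
      erw [h1.exists_splitEpi.some.id_assoc, IsIso.inv_hom_id]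
    let g : E ⊞ P ⟶ I := biprod.desc (cokernel.π a ≫ i) π
    let σ : ∀ m, SplitEpi (g.f m) := fun m =>
      ⟨(hπ m).exists_splitEpi.some.section_ ≫ (biprod.inr : P ⟶ E ⊞ P).f m, by
        rw [Category.assoc, ← HomologicalComplex.comp_f, biprod.inr_desc]
        exact (hπ m).exists_splitEpi.some.id⟩
    have : Epi g := HomologicalComplex.epi_of_epi_f _ (fun m => (σ m).epi)
    let T : ShortComplex (CochainComplex A ℤ) := ShortComplex.mk (kernel.ι g) g (kernel.condition g)
    have hT : T.ShortExact :=
      { exact := ShortComplex.exact_of_f_is_kernel _ (kernelIsKernel g)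
        mono_f := inferInstanceAs (Mono (kernel.ι g))
        epi_g := inferInstanceAs (Epi g) }
    have w : (a ≫ biprod.inl) ≫ g = 0 := by
      rw [Category.assoc, biprod.inl_desc, cokernel.condition_assoc, zero_comp]
    let φ : S ⟶ T :=
      { τ₁ := kernel.lift g (a ≫ biprod.inl) w
        τ₂ := biprod.inl
        τ₃ := i
        comm₁₂ := kernel.lift_ι _ _ _
        comm₂₃ := biprod.inl_desc _ _ }
    have h₂ : QuasiIso φ.τ₂ :=
      Groth.Agent.InjResSES.quasiIso_f_of_acyclic
        (ShortComplex.mk (biprod.inl : E ⟶ E ⊞ P) biprod.snd biprod.inl_snd)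
        (ShortComplex.Splitting.ofHasBinaryBiproduct E P).shortExact (acyclic_cone_id I')
    refine ⟨kernel g, φ.τ₁, quasiIso_τ₁ φ hS hT h₂ hi, fun m => ?_⟩
    have hTm := hT.map_of_exact (HomologicalComplex.eval A (ComplexShape.up ℤ) m)
    have he : IsSplitEpi (T.map (HomologicalComplex.eval A (ComplexShape.up ℤ) m)).g :=
      IsSplitEpi.mk' (σ m)
    let s := ShortComplex.Splitting.ofExactOfSection _ hTm.exact (σ m).section_ (σ m).id hTm.mono_f
    refine rightAcyclic_of_retract F ((kernel.ι g).f m) s.r s.f_r ?_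
    intro j
    exact ((rightAcyclic_biprod F (hE m) (hP m)) j).of_iso ((F.rightDerived (j + 1)).mapIso
      ((HomologicalComplex.eval A (ComplexShape.up ℤ) m).mapBiprod E P))

include hn in
theorem exists_resolution (K : CochainComplex A ℤ) :
    ∃ (I : CochainComplex A ℤ) (i : K ⟶ I), QuasiIso i ∧ ∀ m, RightAcyclic F (I.X m) :=
  exists_resolution_of_dim F n K (fun m j hj => isZero_of_le F n hn _ (by omega) _)

end Groth.Agent.FiniteDim
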