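import Groth.Agent.KTheory.InjResSES
import Groth.Agent.KTheory.FiniteDimAcyclic
import Mathlib.Algebra.Homology.Augment
import Mathlib.Algebra.Homology.HomotopyCategory.Pretriangulated

/-!
# Resolutions of unbounded complexes by complexes with terms in a class
-/

set_option autoImplicit false
universe v u
open CategoryTheory CategoryTheory.Limits HomologicalComplex

namespace Groth.Agent.ClassResolution

variable {A : Type u} [Category.{v} A] [Abelian A] (P : ObjectProperty A)

/-- complexes from spliced short exact sequences -/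
theorem exists_spliced : ∀ (m : ℕ) (C Y : ℕ → A) (i : ∀ k, C k ⟶ Y k) (p : ∀ k, Y k ⟶ C (k + 1))
    (w : ∀ k, i k ≫ p k = 0), (∀ k, (ShortComplex.mk (i k) (p k) (w k)).ShortExact) → (∀ k, P (Y k)) →
    ∃ (K : CochainComplex A ℕ) (ε : C 0 ⟶ K.X 0) (hε : ε ≫ K.d 0 1 = 0),
      Mono ε ∧ (ShortComplex.mk ε (K.d 0 1) hε).Exact ∧ (m = 0 → Epi ε) ∧
      (∀ j, 1 ≤ j → j ≤ m → K.ExactAt j) ∧ (∀ j, m < j → IsZero (K.X j)) ∧
      (1 ≤ m → Epi (K.d (m - 1) m)) ∧ (∀ j, j < m → P (K.X j)) ∧ Nonempty (K.X m ≅ C m) := by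
  intro m
  induction m with
  | zero =>
    intro C Y i p w hS hY
    have hz : ∀ j, 0 < j → IsZero (((CochainComplex.single₀ A).obj (C 0)).X j) := fun j hj =>
      HomologicalComplex.isZero_single_obj_X _ _ _ _ (Nat.pos_iff_ne_zero.1 hj)
    let ε : C 0 ⟶ ((CochainComplex.single₀ A).obj (C 0)).X 0 :=
      (HomologicalComplex.singleObjXSelf (ComplexShape.up ℕ) 0 (C 0)).inv
    refine ⟨(CochainComplex.single₀ A).obj (C 0), ε, (hz 1 Nat.one_pos).eq_of_tgt _ _, ?_, ?_, fun _ => ?_,
      fun j h1 h2 => absurd (h1.trans h2) (by omega), hz, fun h => absurd h (by omega),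
      fun j hj => absurd hj (by omega), ⟨HomologicalComplex.singleObjXSelf _ 0 (C 0)⟩⟩
    · exact inferInstanceAs (Mono (HomologicalComplex.singleObjXSelf (ComplexShape.up ℕ) 0 (C 0)).inv)
    · exact (ShortComplex.exact_iff_epi _ ((hz 1 Nat.one_pos).eq_of_tgt _ _)).2
        (inferInstanceAs (Epi (HomologicalComplex.singleObjXSelf (ComplexShape.up ℕ) 0 (C 0)).inv))
    · exact inferInstanceAs (Epi (HomologicalComplex.singleObjXSelf (ComplexShape.up ℕ) 0 (C 0)).inv)
  | succ m ih =>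
    intro C Y i p w hS hY
    obtain ⟨K, ε, hε, hm, hex, he, hat, hz, hd, hP, ⟨e⟩⟩ := ih (fun k => C (k + 1)) (fun k => Y (k + 1))
      (fun k => i (k + 1)) (fun k => p (k + 1)) (fun k => w (k + 1)) (fun k => hS (k + 1))
      (fun k => hY (k + 1))
    have hp : Epi (p 0) := (hS 0).epi_g
    have hw : (p 0 ≫ ε) ≫ K.d 0 1 = 0 := by rw [Category.assoc, hε, comp_zero]
    let K' := CochainComplex.augment K (p 0 ≫ ε) hw
    have h01 : i 0 ≫ K'.d 0 1 = 0 := by
      change i 0 ≫ p 0 ≫ ε = 0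
      rw [reassoc_of% (w 0), zero_comp]
    refine ⟨K', i 0, h01, (hS 0).mono_f, ?_, fun h => absurd h (by omega), ?_, ?_, fun _ => ?_, ?_, ⟨e⟩⟩
    · let φ : ShortComplex.mk (i 0) (p 0) (w 0) ⟶ ShortComplex.mk (i 0) (K'.d 0 1) h01 :=
        { τ₁ := 𝟙 (C 0)
          τ₂ := 𝟙 (Y 0)
          τ₃ := ε
          comm₁₂ := (Category.id_comp _).trans (Category.comp_id _).symm
          comm₂₃ := Category.id_comp _ }
      have : Epi φ.τ₁ := inferInstanceAs (Epi (𝟙 (C 0)))
      have : IsIso φ.τ₂ := inferInstanceAs (IsIso (𝟙 (Y 0)))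
      have : Mono φ.τ₃ := hm
      exact (ShortComplex.exact_iff_of_epi_of_isIso_of_mono φ).1 (hS 0).exact
    · intro j h1 h2
      match j, h1, h2 with
      | 1, _, _ =>
        rw [exactAt_iff' _ 0 1 2 (by simp) (by simp)]
        let φ : ShortComplex.mk (p 0 ≫ ε) (K.d 0 1) hw ⟶ ShortComplex.mk ε (K.d 0 1) hε :=
          { τ₁ := p 0
            τ₂ := 𝟙 (K.X 0)
            τ₃ := 𝟙 (K.X 1)
            comm₁₂ := (Category.comp_id _).symm
            comm₂₃ := (Category.id_comp _).trans (Category.comp_id _).symm }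
        have : Epi φ.τ₁ := hp
        have : IsIso φ.τ₂ := inferInstanceAs (IsIso (𝟙 (K.X 0)))
        have : Mono φ.τ₃ := inferInstanceAs (Mono (𝟙 (K.X 1)))
        exact (ShortComplex.exact_iff_of_epi_of_isIso_of_mono φ).2 hex
      | j + 2, _, h2 =>
        rw [exactAt_iff' _ (j + 1) (j + 2) (j + 3) (by simp) (by simp)]
        have := hat (j + 1) (by omega) (by omega)
        rw [exactAt_iff' _ j (j + 1) (j + 2) (by simp) (by simp)] at this
        exact this
    · intro j hj
      match j, hj with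
      | j + 1, hj => exact hz j (by omega)
    · cases m with
      | zero =>
        change Epi (p 0 ≫ ε)
        have := he rfl
        exact epi_comp _ _
      | succ m => exact hd (by omega)
    · intro j hj
      match j, hj with
      | 0, _ => exact hY 0
      | j + 1, hj => exact hP j (by omega)

variable (h1 : ∀ X : A, ∃ (Y : A) (i : X ⟶ Y), P Y ∧ Mono i)
  (h2 : ∀ S : ShortComplex A, S.ShortExact → P S.X₁ → (P S.X₂ ↔ P S.X₃))

include h1 h2

lemma prop_zero {Z : A} (hZ : IsZero Z) : P Z := by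
  obtain ⟨Y, _, hY, -⟩ := h1 Z
  let S := ShortComplex.mk (𝟙 Y) (0 : Y ⟶ Z) (by simp)
  have hS : S.ShortExact :=
    { exact := (ShortComplex.exact_iff_epi _ rfl).2 (inferInstanceAs (Epi (𝟙 Y)))
      mono_f := inferInstanceAs (Mono (𝟙 Y))
      epi_g := ⟨fun _ _ _ => hZ.eq_of_src _ _⟩ }
  exact (h2 S hS hY).1 hY

lemma prop_of_iso {X X' : A} (e : X ≅ X') (hX : P X) : P X' := by
  obtain ⟨Z, hZ⟩ : ∃ Z : A, IsZero Z := ⟨_, Limits.isZero_zero A⟩
  let S := ShortComplex.mk e.hom (0 : X' ⟶ Z) comp_zero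
  have hS : S.ShortExact :=
    { exact := (ShortComplex.exact_iff_epi _ rfl).2 (inferInstanceAs (Epi e.hom))
      mono_f := inferInstanceAs (Mono e.hom)
      epi_g := ⟨fun _ _ _ => hZ.eq_of_src _ _⟩ }
  exact (h2 S hS hX).2 (prop_zero P h1 h2 hZ)

omit h1 in
lemma prop_biprod {X X' : A} (hX : P X) (hX' : P X') : P (X ⊞ X') :=
  (h2 _ (ShortComplex.Splitting.ofHasBinaryBiproduct X X').shortExact hX).2 hX'

/-- every complex embeds in a complex with terms in `P` -/
theorem exists_mono (K : CochainComplex A ℤ) :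
    ∃ (E : CochainComplex A ℤ) (a : K ⟶ E), Mono a ∧ ∀ m, P (E.X m) := by
  choose Y ι hY hι using h1
  let I : CochainComplex A ℤ :=
    { X := fun m => Y (K.X m)
      d := fun _ _ => 0 }
  let a : K ⟶ CochainComplex.mappingCone (𝟙 I) := CochainComplex.mappingCone.lift _
    (CochainComplex.HomComplex.Cocycle.mk
      (CochainComplex.HomComplex.Cochain.mk (fun p q _ => K.d p q ≫ ι (K.X q))) 2
      (by omega) (by
        ext p q hpq
        simp [I, CochainComplex.HomComplex.δ_v 1 2 (by omega) _ p q hpq (p + 1) (p + 1) (by omega) rfl]))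
    (CochainComplex.HomComplex.Cochain.ofHoms (fun n => ι (K.X n))) (by
        ext p q hpq
        simp [I, CochainComplex.HomComplex.δ_v 0 1 (by omega) _ p q hpq p q (by omega) (by omega)])
  refine ⟨_, a, HomologicalComplex.mono_of_mono_f _ (fun m => ?_), fun m => ?_⟩
  · have := hι (K.X m)
    have h : a.f m ≫ (CochainComplex.mappingCone.snd (𝟙 I)).v m m (add_zero m) = ι (K.X m) := by
      simp [a]
    have h' : Mono (a.f m ≫ (CochainComplex.mappingCone.snd (𝟙 I)).v m m (add_zero m)) := by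
      rw [h]; infer_instance
    exact mono_of_mono (a.f m) ((CochainComplex.mappingCone.snd (𝟙 I)).v m m (add_zero m))
  · exact prop_of_iso P (fun X => ⟨Y X, ι X, hY X, hι X⟩) h2
      (HomologicalComplex.homotopyCofiber.XIsoBiprod (𝟙 I) m (m + 1) rfl).symm
      (prop_biprod P h2 (hY _) (hY _))

omit h1 in
lemma prop_kernel_of_split {X₁ X₂ X₃ : A} (u : X₁ ⟶ X₂) (g : X₂ ⟶ X₃) (w : u ≫ g = 0)
    (hS : (ShortComplex.mk u g w).ShortExact) (σ : X₃ ⟶ X₂) (hσ : σ ≫ g = 𝟙 _)
    (h₂ : P X₂) (h₃ : P X₃) : P X₁ := by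
  let s := ShortComplex.Splitting.ofExactOfSection _ hS.exact σ hσ hS.mono_f
  let S' := ShortComplex.mk σ s.r s.s_r
  have hS' : S'.ShortExact :=
    ShortComplex.Splitting.shortExact
      { r := g
        s := u
        f_r := hσ
        s_g := s.f_r
        id := (add_comm _ _).trans s.id }
  exact (h2 S' hS' h₃).1 h₂

/-- resolutions from resolutions of a cokernel -/
theorem exists_resolution_step {K E : CochainComplex A ℤ} (a : K ⟶ E) [Mono a] (hE : ∀ m, P (E.X m))
    {I : CochainComplex A ℤ} (i : cokernel a ⟶ I) (hi : QuasiIso i) (hI : ∀ m, P (I.X m)) :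
    ∃ (J : CochainComplex A ℤ) (f : K ⟶ J), QuasiIso f ∧ ∀ m, P (J.X m) := by
  let S : ShortComplex (CochainComplex A ℤ) := ShortComplex.mk a (cokernel.π a) (cokernel.condition a)
  have hS : S.ShortExact :=
    { exact := ShortComplex.exact_of_g_is_cokernel _ (cokernelIsCokernel a)
      mono_f := inferInstanceAs (Mono a)
      epi_g := inferInstanceAs (Epi (cokernel.π a)) }
  let I' : CochainComplex A ℤ := I⟦(-1 : ℤ)⟧
  let Q := CochainComplex.mappingCone (𝟙 I')
  let π : Q ⟶ I := (CochainComplex.mappingCone.triangle (𝟙 I')).mor₃ ≫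
    (shiftEquiv (CochainComplex A ℤ) (1 : ℤ)).counitIso.hom.app I
  have hQ : ∀ m, P (Q.X m) := fun m =>
    prop_of_iso P h1 h2 (HomologicalComplex.homotopyCofiber.XIsoBiprod (𝟙 I') m (m + 1) rfl).symm
      (prop_biprod P h2 (hI (m + 1 + -1)) (hI (m + -1)))
  have hπ : ∀ m, ∃ σ : I.X m ⟶ Q.X m, σ ≫ π.f m = 𝟙 _ := fun m => by
    have h1' : (-(I'.shiftFunctorObjXIso 1 m (m + 1) rfl).hom ≫
        (CochainComplex.mappingCone.inl (𝟙 I')).v (m + 1) m (by omega)) ≫
          (CochainComplex.mappingCone.triangle (𝟙 I')).mor₃.f m = 𝟙 _ := by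
      erw [Preadditive.neg_comp, Category.assoc,
        CochainComplex.mappingCone.inl_v_triangle_mor₃_f,
        Preadditive.comp_neg, neg_neg, Iso.hom_inv_id]
    have h2' : IsIso (((shiftEquiv (CochainComplex A ℤ) (1 : ℤ)).counitIso.hom.app I).f m) :=
      ((HomologicalComplex.eval A (ComplexShape.up ℤ) m).mapIso
        ((shiftEquiv (CochainComplex A ℤ) (1 : ℤ)).counitIso.app I)).isIso_hom
    refine ⟨inv (((shiftEquiv (CochainComplex A ℤ) (1 : ℤ)).counitIso.hom.app I).f m) ≫
      (-(I'.shiftFunctorObjXIso 1 m (m + 1) rfl).hom ≫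
        (CochainComplex.mappingCone.inl (𝟙 I')).v (m + 1) m (by omega)), ?_⟩
    change (_ ≫ _) ≫ (_ ≫ _) = _
    rw [Category.assoc]
    erw [reassoc_of% h1', Category.id_comp]
    exact IsIso.inv_hom_id _
  choose σ hσ using hπ
  let g : E ⊞ Q ⟶ I := biprod.desc (cokernel.π a ≫ i) π
  let σ' : ∀ m, SplitEpi (g.f m) := fun m =>
    ⟨σ m ≫ (biprod.inr : Q ⟶ E ⊞ Q).f m, by
      rw [Category.assoc, ← HomologicalComplex.comp_f, biprod.inr_desc, hσ]⟩
  have : Epi g := HomologicalComplex.epi_of_epi_f _ (fun m => (σ' m).epi)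
  let T : ShortComplex (CochainComplex A ℤ) := ShortComplex.mk (kernel.ι g) g (kernel.condition g)
  have hT : T.ShortExact :=
    { exact := ShortComplex.exact_of_f_is_kernel _ (kernelIsKernel g)
      mono_f := inferInstanceAs (Mono (kernel.ι g))
      epi_g := inferInstanceAs (Epi g) }
  have w : (a ≫ biprod.inl) ≫ g = 0 := by
    rw [Category.assoc, biprod.inl_desc, cokernel.condition_assoc, zero_comp]
  let φ : S ⟶ T :=
    { τ₁ := kernel.lift g (a ≫ biprod.inl) w
      τ₂ := biprod.inl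
      τ₃ := i
      comm₁₂ := kernel.lift_ι _ _ _
      comm₂₃ := biprod.inl_desc _ _ }
  have h₂ : QuasiIso φ.τ₂ :=
    Groth.Agent.InjResSES.quasiIso_f_of_acyclic
      (ShortComplex.mk (biprod.inl : E ⟶ E ⊞ Q) biprod.snd biprod.inl_snd)
      (ShortComplex.Splitting.ofHasBinaryBiproduct E Q).shortExact (Groth.Agent.FiniteDim.acyclic_cone_id I')
  refine ⟨kernel g, φ.τ₁, Groth.Agent.FiniteDim.quasiIso_τ₁ φ hS hT h₂ hi, fun m => ?_⟩
  refine prop_kernel_of_split P h2 ((kernel.ι g).f m) (g.f m)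
    ((HomologicalComplex.comp_f _ _ m).symm.trans (congrArg (fun f => f.f m) (kernel.condition g)))
    (hT.map_of_exact (HomologicalComplex.eval A (ComplexShape.up ℤ) m)) (σ' m).section_ (σ' m).id
    (prop_of_iso P h1 h2 ((HomologicalComplex.eval A (ComplexShape.up ℤ) m).mapBiprod E Q).symm
      (prop_biprod P h2 (hE m) (hQ m))) (hI m)

omit h1 h2 in
lemma eval_cokernel_condition {K E : CochainComplex A ℤ} (a : K ⟶ E) (k : ℤ) :
    a.f k ≫ (cokernel.π a).f k = 0 := by
  rw [← HomologicalComplex.comp_f, cokernel.condition, HomologicalComplex.zero_f]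

omit h1 h2 in
/-- iterated cokernels -/
noncomputable def tower {E : CochainComplex A ℤ → CochainComplex A ℤ} (a : ∀ K, K ⟶ E K)
    (X : CochainComplex A ℤ) : ℕ → CochainComplex A ℤ
  | 0 => X
  | j + 1 => cokernel (a (tower a X j))

theorem exists_resolution (n : ℕ) (hn : 1 ≤ n)
    (h3 : ∀ K : CochainComplex A ℕ, (∀ i : ℕ, 1 ≤ i → i ≤ n → K.ExactAt i) → (∀ i : ℕ, n < i → IsZero (K.X i)) →
      Epi (K.d (n - 1) n) → (∀ i : ℕ, i < n → P (K.X i)) → P (K.X n))
    (X : CochainComplex A ℤ) :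
    ∃ (I : CochainComplex A ℤ) (f : X ⟶ I), QuasiIso f ∧ ∀ k : ℤ, P (I.X k) := by
  choose E a ha hE using exists_mono P h1 h2
  let T : ℕ → CochainComplex A ℤ := tower a X
  have hbase : ∀ k : ℤ, P ((T n).X k) := by
    intro k
    have hS : ∀ j, (ShortComplex.mk ((a (T j)).f k) ((cokernel.π (a (T j))).f k)
        (eval_cokernel_condition (a (T j)) k)).ShortExact := fun j => by
      have := ha (T j)
      exact ShortComplex.ShortExact.map_of_exact
        (S := ShortComplex.mk (a (T j)) (cokernel.π (a (T j))) (cokernel.condition _))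
        { exact := ShortComplex.exact_of_g_is_cokernel _ (cokernelIsCokernel _)
          mono_f := inferInstanceAs (Mono (a (T j)))
          epi_g := inferInstanceAs (Epi (cokernel.π (a (T j)))) }
        (HomologicalComplex.eval A (ComplexShape.up ℤ) k)
    obtain ⟨K, ε, hε, -, -, -, hat, hz, hd, hP, ⟨e⟩⟩ := exists_spliced P n (fun j => (T j).X k)
      (fun j => (E (T j)).X k) (fun j => (a (T j)).f k) (fun j => (cokernel.π (a (T j))).f k) _ hS
      (fun j => hE (T j) k)
    exact prop_of_iso P h1 h2 e (h3 K hat hz (hd hn) hP)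
  have key : ∀ d j, j + d = n → ∃ (I : CochainComplex A ℤ) (f : T j ⟶ I),
      QuasiIso f ∧ ∀ k : ℤ, P (I.X k) := by
    intro d
    induction d with
    | zero =>
      intro j hj
      obtain rfl : j = n := by omega
      exact ⟨T j, 𝟙 _, inferInstance, hbase⟩
    | succ d ih =>
      intro j hj
      obtain ⟨I, f, hf, hI⟩ := ih (j + 1) (by omega)
      have := ha (T j)
      exact exists_resolution_step P h1 h2 (a (T j)) (hE (T j)) f hf hI
  exact key n 0 (Nat.zero_add n)

end Groth.Agent.ClassResolution
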