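import Groth.Agent.KTheory.Basic
import Mathlib.Algebra.Homology.DerivedCategory.TStructure
import Mathlib.Algebra.Homology.DerivedCategory.SingleTriangle
import Mathlib.Algebra.Homology.DerivedCategory.FullyFaithful
import Mathlib.CategoryTheory.ObjectProperty.Kernels
import Mathlib.CategoryTheory.ObjectProperty.Extensions
import Mathlib.CategoryTheory.ObjectProperty.EpiMono
import Mathlib.Algebra.BigOperators.Finprod
import Mathlib.Algebra.Ring.NegOnePow
import Mathlib.Tactic

/-!
# `K₀` of a thick subcategory and of the bounded derived category with cohomology in it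
-/

set_option autoImplicit false
universe w' w v u

open CategoryTheory CategoryTheory.Limits CategoryTheory.Pretriangulated DerivedCategory ZeroObject

namespace Groth.KTheory

section Kernels

variable {C : Type u} [Category.{v} C] [Abelian C]

theorem shortExact_kernel_of_exact {X Y Z : C} (f : X ⟶ Y) (g : Y ⟶ Z) (w : f ≫ g = 0)
    (h : (ShortComplex.mk f g w).Exact) :
    (ShortComplex.mk (kernel.ι f) (kernel.lift g f w)
      (by rw [← cancel_mono (kernel.ι g)]; simp)).ShortExact :=
  { exact := by
      apply ShortComplex.exact_of_f_is_kernel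
      refine KernelFork.IsLimit.ofι' _ _ fun {W} k hk => ⟨kernel.lift f k ?_, kernel.lift_ι _ _ _⟩
      simpa using hk =≫ kernel.ι g
    mono_f := inferInstance
    epi_g := h.epi_kernelLift }

theorem isZero_kernel {X Y : C} (hX : IsZero X) (f : X ⟶ Y) : IsZero (kernel f) :=
  IsZero.of_mono_eq_zero (kernel.ι f) (hX.eq_of_tgt _ _)

end Kernels

section Euler

variable {C : Type u} [Category.{v} C] [Abelian C] [HasDerivedCategory.{w} C]

variable (P : ObjectProperty C)

/-- Bounded objects of `D(C)` with cohomology in `P`. -/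
abbrev dbProp : ObjectProperty (DerivedCategory C) := fun K =>
  (∀ i : ℤ, P ((homologyFunctor C i).obj K)) ∧ ∃ a b : ℤ, K.IsGE a ∧ K.IsLE b

/-- The Euler characteristic of the cohomology objects. -/
noncomputable def eulerChar {G : Type w'} [AddCommGroup G] (e : C → G) (K : DerivedCategory C) : G :=
  ∑ᶠ i : ℤ, (i.negOnePow : ℤ) • e ((homologyFunctor C i).obj K)

variable {P}

theorem finite_support_homology {G : Type w'} [AddCommGroup G] (e : C → G)
    (he : ∀ X, IsZero X → e X = 0) (K : DerivedCategory C) (hK : ∃ a b : ℤ, K.IsGE a ∧ K.IsLE b)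
    (g : ℤ → C) (hg : ∀ i, IsZero ((homologyFunctor C i).obj K) → IsZero (g i)) :
    (Function.support fun i : ℤ => (i.negOnePow : ℤ) • e (g i)).Finite := by
  obtain ⟨a, b, ha, hb⟩ := hK
  apply (Set.finite_Icc a b).subset
  intro i hi
  by_contra h
  apply hi
  have : IsZero ((homologyFunctor C i).obj K) := by
    rcases lt_or_ge i a with h' | h'
    · exact isZero_of_isGE K a i h'
    · exact isZero_of_isLE K b i (not_le.mp fun h'' => h ⟨h', h''⟩)
  simp only [he _ (hg i this), smul_zero]

variable [P.IsClosedUnderKernels] [P.ContainsZero] [P.IsClosedUnderIsomorphisms]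

omit [P.ContainsZero] [P.IsClosedUnderIsomorphisms] in
theorem eulerChar_triangle {G : Type w'} [AddCommGroup G] (e : C → G)
    (he : ∀ X, IsZero X → e X = 0)
    (hadd : ∀ S : ShortComplex C, S.ShortExact → P S.X₁ → P S.X₂ → P S.X₃ → e S.X₂ = e S.X₁ + e S.X₃)
    (T : Triangle (DerivedCategory C)) (hT : T ∈ distinguishedTriangles) (h₁ : dbProp P T.obj₁)
    (h₂ : dbProp P T.obj₂) (h₃ : dbProp P T.obj₃) :
    eulerChar e T.obj₂ = eulerChar e T.obj₁ + eulerChar e T.obj₃ := by
  let H := fun i : ℤ => homologyFunctor C i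
  let kf := fun i : ℤ => kernel ((H i).map T.mor₁)
  let kg := fun i : ℤ => kernel ((H i).map T.mor₂)
  let kd := fun i : ℤ => kernel (HomologySequence.δ T i (i + 1) rfl)
  have pkf : ∀ i, P (kf i) := fun i => P.prop_kernel _ (h₁.1 i) (h₂.1 i)
  have pkg : ∀ i, P (kg i) := fun i => P.prop_kernel _ (h₂.1 i) (h₃.1 i)
  have pkd : ∀ i, P (kd i) := fun i => P.prop_kernel _ (h₃.1 i) (h₁.1 (i + 1))
  have e1 : ∀ i, e ((H i).obj T.obj₁) = e (kf i) + e (kg i) := fun i =>
    hadd _ (shortExact_kernel_of_exact _ _ _ (HomologySequence.exact₂ T hT i))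
      (pkf i) (h₁.1 i) (pkg i)
  have e2 : ∀ i, e ((H i).obj T.obj₂) = e (kg i) + e (kd i) := fun i =>
    hadd _ (shortExact_kernel_of_exact _ _ _ (HomologySequence.exact₃ T hT i (i + 1) rfl))
      (pkg i) (h₂.1 i) (pkd i)
  have e3 : ∀ i, e ((H i).obj T.obj₃) = e (kd i) + e (kf (i + 1)) := fun i =>
    hadd _ (shortExact_kernel_of_exact _ _ _ (HomologySequence.exact₁ T hT i (i + 1) rfl))
      (pkd i) (h₃.1 i) (pkf (i + 1))
  have ff : (Function.support fun i : ℤ => (i.negOnePow : ℤ) • e (kf i)).Finite :=
    finite_support_homology e he T.obj₁ h₁.2 kf fun i hi => isZero_kernel hi _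
  have fg : (Function.support fun i : ℤ => (i.negOnePow : ℤ) • e (kg i)).Finite :=
    finite_support_homology e he T.obj₂ h₂.2 kg fun i hi => isZero_kernel hi _
  have fd : (Function.support fun i : ℤ => (i.negOnePow : ℤ) • e (kd i)).Finite :=
    finite_support_homology e he T.obj₃ h₃.2 kd fun i hi => isZero_kernel hi _
  have shift : ∑ᶠ i : ℤ, (i.negOnePow : ℤ) • e (kf (i + 1)) = -∑ᶠ i : ℤ, (i.negOnePow : ℤ) • e (kf i) := by
    rw [← finsum_neg_distrib, ← finsum_comp_equiv (Equiv.addRight (1 : ℤ))
      (f := fun i : ℤ => -((i.negOnePow : ℤ) • e (kf i)))]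
    exact finsum_congr fun i => by simp [Int.negOnePow_succ]
  have ff' : (Function.support fun i : ℤ => (i.negOnePow : ℤ) • e (kf (i + 1))).Finite := by
    refine (ff.preimage (f := fun i : ℤ => i + 1) (add_left_injective 1).injOn).subset ?_
    intro i hi
    simpa [Int.negOnePow_succ] using hi
  simp only [eulerChar, H] at e1 e2 e3 ⊢
  simp only [e1, e2, e3, smul_add]
  rw [finsum_add_distrib fg fd, finsum_add_distrib ff fg, finsum_add_distrib fd ff', shift]
  abel

theorem eulerChar_single {G : Type w'} [AddCommGroup G] (e : C → G) (he : ∀ X, IsZero X → e X = 0)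
    (X : C) :
    eulerChar e ((singleFunctor C 0).obj X) =
      e ((homologyFunctor C 0).obj ((singleFunctor C 0).obj X)) := by
  rw [eulerChar, finsum_eq_single _ 0]
  · simp
  · intro i hi
    rw [he, smul_zero]
    rcases lt_or_gt_of_ne hi with h | h
    · exact isZero_of_isGE _ 0 i h
    · exact isZero_of_isLE _ 0 i h

theorem dbProp_single (n : ℤ) {X : C} (hX : P X) : dbProp P ((singleFunctor C n).obj X) := by
  refine ⟨fun i => ?_, n, n, inferInstance, inferInstance⟩
  by_cases h : i = n
  · subst h; exact P.prop_of_iso ((singleFunctorCompHomologyFunctorIso C i).app X).symm hX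
  · refine P.prop_of_isZero ?_
    rcases lt_or_gt_of_ne h with h | h
    · exact isZero_of_isGE _ n i h
    · exact isZero_of_isLE _ n i h

theorem dbProp_zero : dbProp P (0 : DerivedCategory C) := by
  refine ⟨fun i => P.prop_of_isZero ((homologyFunctor C i).map_isZero (isZero_zero _)), 0, 0, ?_, ?_⟩
  · rw [isGE_iff]; exact fun i _ => (homologyFunctor C i).map_isZero (isZero_zero _)
  · rw [isLE_iff]; exact fun i _ => (homologyFunctor C i).map_isZero (isZero_zero _)

theorem clTr_single_mem {G : AddSubgroup (KZero.K0tr (dbProp P))} {Y : C} (hY : P Y)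
    (h : KZero.clTr (dbProp P) ((singleFunctor C 0).obj Y) ∈ G) (n : ℤ) :
    KZero.clTr (dbProp P) ((singleFunctor C n).obj Y) ∈ G := by
  have step : ∀ m : ℤ, KZero.clTr (dbProp P) ((singleFunctor C m).obj Y) =
      - KZero.clTr (dbProp P) ((singleFunctor C (m + 1)).obj Y) := fun m => by
    have e := ((singleFunctors C).shiftIso 1 m (m + 1) (add_comm _ _)).app Y
    have hsh : dbProp P (((singleFunctor C (m + 1)).obj Y)⟦(1 : ℤ)⟧) := by
      obtain ⟨hp, a, b, ha, hb⟩ := dbProp_single (P := P) m hY
      exact ⟨fun i => P.prop_of_iso ((homologyFunctor C i).mapIso e).symm (hp i), a, b,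
        TStructure.t.isGE_of_iso e.symm a, TStructure.t.isLE_of_iso e.symm b⟩
    rw [← clTr_iso e hsh (dbProp_single m hY) (isZero_zero _) dbProp_zero]
    exact clTr_shift (dbProp_single (m + 1) hY) hsh (isZero_zero _) dbProp_zero
  induction n using Int.induction_on with
  | zero => exact h
  | succ i hi =>
    have := step i
    rw [this, neg_mem_iff] at hi
    exact hi
  | pred i hi =>
    rw [step, sub_add_cancel, neg_mem_iff]
    exact hi

theorem clTr_mem_of_single_mem (G : AddSubgroup (KZero.K0tr (dbProp P)))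
    (h : ∀ Y, P Y → KZero.clTr (dbProp P) ((singleFunctor C 0).obj Y) ∈ G)
    (K : DerivedCategory C) (hK : dbProp P K) : KZero.clTr (dbProp P) K ∈ G := by
  obtain ⟨hp, a, b, ha, hb⟩ := hK
  obtain ⟨n, hn⟩ : ∃ n : ℕ, b - a < n := ⟨(b - a + 1).toNat, by omega⟩
  induction n generalizing K b with
  | zero =>
    have hz : IsZero K := by
      rw [IsZero.iff_id_eq_zero]
      exact TStructure.t.zero (𝟙 K) b a (by omega)
    rw [clTr_zero hz ⟨hp, a, b, ha, hb⟩]
    exact zero_mem _
  | succ n ih =>
    obtain ⟨X, Y, hX, hY, f, g, d, hT⟩ := TStructure.t.exists_triangle K (b - 1) b (by omega)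
    have : TStructure.t.IsLE X (b - 1) := ⟨hX⟩
    have : TStructure.t.IsGE Y b := ⟨hY⟩
    let T := Triangle.mk f g d
    change T ∈ _ at hT
    have isoX : ∀ i : ℤ, i ≤ b - 1 → IsIso ((homologyFunctor C i).map f) := fun i hi => by
      have : Mono ((homologyFunctor C i).map T.mor₁) := by
        rw [HomologySequence.mono_homologyMap_mor₁_iff T hT (i - 1) i (by omega)]
        exact (isZero_of_isGE Y b (i - 1) (by omega)).eq_of_src _ _
      have : Epi ((homologyFunctor C i).map T.mor₁) := by
        rw [HomologySequence.epi_homologyMap_mor₁_iff T hT i]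
        exact (isZero_of_isGE Y b i (by omega)).eq_of_tgt _ _
      exact isIso_of_mono_of_epi ((homologyFunctor C i).map T.mor₁)
    have isoY : ∀ i : ℤ, b ≤ i → IsIso ((homologyFunctor C i).map g) := fun i hi => by
      have : Mono ((homologyFunctor C i).map T.mor₂) := by
        rw [HomologySequence.mono_homologyMap_mor₂_iff T hT i]
        exact (isZero_of_isLE X (b - 1) i (by omega)).eq_of_src _ _
      have : Epi ((homologyFunctor C i).map T.mor₂) := by
        rw [HomologySequence.epi_homologyMap_mor₂_iff T hT i (i + 1) rfl]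
        exact (isZero_of_isLE X (b - 1) (i + 1) (by omega)).eq_of_tgt _ _
      exact isIso_of_mono_of_epi ((homologyFunctor C i).map T.mor₂)
    have hpX : ∀ i, P ((homologyFunctor C i).obj X) := fun i => by
      by_cases h' : i ≤ b - 1
      · have := isoX i h'
        exact P.prop_of_iso (asIso ((homologyFunctor C i).map f)).symm (hp i)
      · exact P.prop_of_isZero (isZero_of_isLE X (b - 1) i (by omega))
    have haX : X.IsGE a := by
      rw [isGE_iff]
      intro i hi
      by_cases h' : i ≤ b - 1
      · have := isoX i h'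
        exact (isZero_of_isGE K a i hi).of_iso (asIso ((homologyFunctor C i).map f))
      · exact isZero_of_isLE X (b - 1) i (by omega)
    have hbY : Y.IsLE b := by
      rw [isLE_iff]
      intro i hi
      have := isoY i (by omega)
      exact (isZero_of_isLE K b i hi).of_iso (asIso ((homologyFunctor C i).map g)).symm
    obtain ⟨Z, ⟨e⟩⟩ := Y.exists_iso_singleFunctor_obj_of_isGE_of_isLE b
    have hZ : P Z := by
      have := isoY b le_rfl
      exact P.prop_of_iso ((asIso ((homologyFunctor C b).map g)) ≪≫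
        (homologyFunctor C b).mapIso e ≪≫ (singleFunctorCompHomologyFunctorIso C b).app Z) (hp b)
    have hdY : dbProp P Y := by
      refine ⟨fun i => ?_, b, b, inferInstance, inferInstance⟩
      exact P.prop_of_iso ((homologyFunctor C i).mapIso e).symm ((dbProp_single b hZ).1 i)
    have hX' : KZero.clTr (dbProp P) X ∈ G := ih X hpX (b - 1) haX inferInstance (by omega)
    have hY' : KZero.clTr (dbProp P) Y ∈ G := by
      rw [clTr_iso e hdY (dbProp_single b hZ) (isZero_zero _) dbProp_zero]
      exact clTr_single_mem hZ (h Z hZ) b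
    have := clTr_rel (P := dbProp P) T hT ⟨hpX, a, b - 1, haX, ‹TStructure.t.IsLE X (b - 1)›⟩
      ⟨hp, a, b, ha, hb⟩ hdY
    change KZero.clTr (dbProp P) K = _ + _ at this
    rw [this]
    exact add_mem hX' hY'

variable (P) in
theorem exists_k0sub_equiv_dbProp :
    ∃ φ : KZero.K0sub P ≃+ KZero.K0tr (dbProp P),
      ∀ X : C, P X → φ (KZero.clSub P X) = KZero.clTr (dbProp P) ((singleFunctor C 0).obj X) := by
  obtain ⟨Z, hZ, hPZ⟩ := (inferInstance : P.ContainsZero).exists_zero
  have he : ∀ X : C, IsZero X → KZero.clSub P X = 0 := fun X hX =>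
    clSub_zero hX (P.prop_of_isZero hX)
  let F : KZero.K0sub P →+ KZero.K0tr (dbProp P) :=
    liftSub P (fun X => KZero.clTr (dbProp P) ((singleFunctor C 0).obj X)) fun S hS h₁ h₂ h₃ =>
      clTr_rel hS.singleTriangle hS.singleTriangle_distinguished (dbProp_single 0 h₁)
        (dbProp_single 0 h₂) (dbProp_single 0 h₃)
  let E : KZero.K0tr (dbProp P) →+ KZero.K0sub P :=
    liftTr (dbProp P) (eulerChar (KZero.clSub P)) fun T hT h₁ h₂ h₃ =>
      eulerChar_triangle _ he (fun S hS h₁ h₂ h₃ => clSub_rel S hS h₁ h₂ h₃) T hT h₁ h₂ h₃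
  have hF : ∀ X, P X → F (KZero.clSub P X) = KZero.clTr (dbProp P) ((singleFunctor C 0).obj X) :=
    fun X hX => liftSub_clSub _ _ hX
  have hEF : E.comp F = AddMonoidHom.id _ := by
    apply k0sub_hom_ext
    intro X hX
    rw [AddMonoidHom.comp_apply, hF X hX, liftTr_clTr _ _ (dbProp_single 0 hX),
      eulerChar_single _ he, AddMonoidHom.id_apply]
    exact clSub_iso ((singleFunctorCompHomologyFunctorIso C 0).app X)
      ((dbProp_single 0 hX).1 0) hX hZ hPZ
  have hsurj : Function.Surjective F := by
    rw [← AddMonoidHom.range_eq_top, eq_top_iff]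
    intro x hx
    clear hx
    induction x using k0tr_induction with
    | h0 => exact zero_mem _
    | hcl K hK => exact clTr_mem_of_single_mem _ (fun Y hY => AddMonoidHom.mem_range.mpr ⟨_, hF Y hY⟩) K hK
    | hadd a b ha hb => exact add_mem ha hb
    | hneg a ha => exact neg_mem ha
  exact ⟨AddEquiv.ofBijective F ⟨Function.LeftInverse.injective (g := E)
    (DFunLike.congr_fun hEF), hsurj⟩, hF⟩

end Euler

end Groth.KTheory
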