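import Groth.Agent.DerivedAdj.Basic
import Mathlib.Algebra.Homology.Localization

/-!
# The derived adjunction, for a right derived functor defined on cochain complexes
-/

set_option autoImplicit false
universe w₁ w₂ v₁ v₂ u₁ u₂

open CategoryTheory Limits

namespace Groth.DerivedAdjCx

variable {B : Type u₁} [Category.{v₁} B] [Abelian B] [HasDerivedCategory.{w₁} B]
  {A : Type u₂} [Category.{v₂} A] [Abelian A] [HasDerivedCategory.{w₂} A]

theorem nonempty_adj {F : A ⥤ B} {G : B ⥤ A} (adj : F ⊣ G) [F.Additive] [G.Additive]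
    [PreservesFiniteLimits F] [PreservesFiniteColimits F]
    (hB : Groth.DerivedAdj.EnoughKInj B)
    (RG : DerivedCategory B ⥤ DerivedCategory A)
    (α : G.mapHomologicalComplex (ComplexShape.up ℤ) ⋙ DerivedCategory.Q ⟶ DerivedCategory.Q ⋙ RG)
    [RG.IsRightDerivedFunctor α (HomologicalComplex.quasiIso B (ComplexShape.up ℤ))] :
    Nonempty (F.mapDerivedCategory ⊣ RG) := by
  have hF : (G.mapHomotopyCategory (ComplexShape.up ℤ) ⋙
      DerivedCategory.Qh (C := A)).HasPointwiseRightDerivedFunctor
      (HomotopyCategory.quasiIso B (ComplexShape.up ℤ)) :=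
    Groth.DerivedAdj.hasPointwiseRightDerivedFunctor_of_bijective _
      (Groth.DerivedAdj.exists_good hB)
  let R' := Groth.DerivedAdj.totalR (A := B) (B := A) G
  let β := (G.mapHomotopyCategory (ComplexShape.up ℤ) ⋙
    DerivedCategory.Qh (C := A)).totalRightDerivedUnit
    DerivedCategory.Qh (HomotopyCategory.quasiIso B (ComplexShape.up ℤ))
  let e₀ : G.mapHomologicalComplex (ComplexShape.up ℤ) ⋙ DerivedCategory.Q ≅
      HomotopyCategory.quotient B (ComplexShape.up ℤ) ⋙
        G.mapHomotopyCategory (ComplexShape.up ℤ) ⋙ DerivedCategory.Qh :=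
    Functor.isoWhiskerLeft _ (DerivedCategory.quotientCompQhIso A).symm ≪≫
      (Functor.associator _ _ _).symm ≪≫
      Functor.isoWhiskerRight (G.mapHomotopyCategoryFactors (ComplexShape.up ℤ)).symm _ ≪≫
      Functor.associator _ _ _
  have h₀ : (G.mapHomotopyCategory (ComplexShape.up ℤ) ⋙
      DerivedCategory.Qh (C := A)).IsLeftKanExtension e₀.hom :=
    ((G.mapHomotopyCategory (ComplexShape.up ℤ) ⋙
      DerivedCategory.Qh).isRightDerivedFunctor_iff_isLeftKanExtension e₀.hom
        (HomologicalComplex.homotopyEquivalences B (ComplexShape.up ℤ))).1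
      (Functor.isRightDerivedFunctor_of_inverts _ _ e₀.symm)
  have hβ : R'.IsLeftKanExtension β :=
    (R'.isRightDerivedFunctor_iff_isLeftKanExtension β
      (HomotopyCategory.quasiIso B (ComplexShape.up ℤ))).1 inferInstance
  let γ : G.mapHomologicalComplex (ComplexShape.up ℤ) ⋙ DerivedCategory.Q ⟶
      DerivedCategory.Q ⋙ R' :=
    e₀.hom ≫ Functor.whiskerLeft _ β ≫ (Functor.associator _ _ _).inv ≫
      Functor.whiskerRight (DerivedCategory.quotientCompQhIso B).hom R'
  have hγ : R'.IsLeftKanExtension γ :=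
    (Functor.isLeftKanExtension_iff_postcompose (α := e₀.hom) DerivedCategory.Q
      (DerivedCategory.quotientCompQhIso B) β γ rfl).1 hβ
  have hα : RG.IsLeftKanExtension α :=
    (RG.isRightDerivedFunctor_iff_isLeftKanExtension α
      (HomologicalComplex.quasiIso B (ComplexShape.up ℤ))).1 inferInstance
  exact ⟨(Groth.DerivedAdj.derivedAdj adj hB).ofNatIsoRight
    (Functor.leftKanExtensionUnique R' γ RG α)⟩

end Groth.DerivedAdjCx
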