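import Groth.Agent.DerivedAdj.Basic
import Mathlib.Algebra.Homology.DerivedCategory.RightDerivedFunctorPlus
import Mathlib.CategoryTheory.Adjunction.Restrict

/-!
# The derived adjunction on bounded below derived categories
-/

set_option autoImplicit false
universe w v u

open CategoryTheory Limits

namespace Groth.DerivedAdjPlus

variable {A B : Type u} [Category.{v} A] [Category.{v} B]
  [Abelian A] [Abelian B] [HasDerivedCategory.{w} A] [HasDerivedCategory.{w} B]
  [EnoughInjectives A] [EnoughInjectives B] {L : A ⥤ B} {R : B ⥤ A} (adj : L ⊣ R)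
  [L.Additive] [R.Additive]

/-- The adjunction on bounded below homotopy categories. -/
noncomputable def mapPlusAdj : L.mapHomotopyCategoryPlus ⊣ R.mapHomotopyCategoryPlus :=
  (Groth.DerivedAdj.mapHomotopyCategoryAdj adj (ComplexShape.up ℤ)).restrictFullyFaithful
    (HomotopyCategory.plus A).fullyFaithfulι (HomotopyCategory.plus B).fullyFaithfulι
    (ObjectProperty.liftCompιIso _ _ _).symm (ObjectProperty.liftCompιIso _ _ _).symm

theorem isIso_unit_of_inverts {C D H : Type*} [Category* C] [Category* D] [Category* H]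
    (F : C ⥤ H) (Q : C ⥤ D) (W : MorphismProperty C) [Q.IsLocalization W]
    (hF : W.IsInvertedBy F) (RF : D ⥤ H) (α : F ⟶ Q ⋙ RF)
    [RF.IsRightDerivedFunctor α W] : IsIso α := by
  have h : (Localization.lift F hF Q).IsRightDerivedFunctor
      (Localization.fac F hF Q).inv W :=
    Functor.isRightDerivedFunctor_of_inverts _ _ _
  have hiso := ((RF.isRightDerivedFunctor_iff_isIso_rightDerivedDesc α W
    (Localization.lift F hF Q) (Localization.fac F hF Q).inv).1 h)
  have fac := RF.rightDerived_fac α W (Localization.lift F hF Q) (Localization.fac F hF Q).inv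
  have : α = (Localization.fac F hF Q).inv ≫ inv (Functor.whiskerLeft Q
      (RF.rightDerivedDesc α W (Localization.lift F hF Q) (Localization.fac F hF Q).inv)) := by
    rw [IsIso.eq_comp_inv, fac]
  rw [this]
  infer_instance

include adj in
theorem nonempty_adj [PreservesFiniteLimits L] [PreservesFiniteColimits L] :
    Nonempty (L.rightDerivedFunctorPlus ⊣ R.rightDerivedFunctorPlus) := by
  have hinv : (HomotopyCategory.Plus.quasiIso A).IsInvertedBy
      (L.mapHomotopyCategoryPlus ⋙ DerivedCategory.Plus.Qh) := by
    intro X Y f hf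
    have : IsIso (DerivedCategory.Plus.ι.map
        ((L.mapHomotopyCategoryPlus ⋙ DerivedCategory.Plus.Qh).map f)) := by
      have h' := Localization.inverts DerivedCategory.Qh (HomotopyCategory.quasiIso A (ComplexShape.up ℤ))
        ((HomotopyCategory.Plus.ι A).map f) hf
      exact (NatIso.isIso_map_iff L.mapDerivedCategoryFactorsh
        ((HomotopyCategory.Plus.ι A).map f)).1 (inferInstanceAs
          (IsIso (L.mapDerivedCategory.map (DerivedCategory.Qh.map ((HomotopyCategory.Plus.ι A).map f)))))
    exact isIso_of_fully_faithful DerivedCategory.Plus.ι _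
  have := isIso_unit_of_inverts _ DerivedCategory.Plus.Qh (HomotopyCategory.Plus.quasiIso A) hinv
    L.rightDerivedFunctorPlus L.rightDerivedFunctorPlusUnit
  let e : DerivedCategory.Plus.Qh ⋙ L.rightDerivedFunctorPlus ≅
      L.mapHomotopyCategoryPlus ⋙ DerivedCategory.Plus.Qh :=
    (asIso L.rightDerivedFunctorPlusUnit).symm
  have hres : ∀ Y : DerivedCategory.Plus B, ∃ I : HomotopyCategory.Plus B,
      Nonempty (DerivedCategory.Plus.Qh.obj I ≅ Y) ∧
      ∀ K, Function.Bijective (DerivedCategory.Plus.Qh.map :
        (K ⟶ I) → (DerivedCategory.Plus.Qh.obj K ⟶ DerivedCategory.Plus.Qh.obj I)) := by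
    intro Y
    obtain ⟨n, hn⟩ := Y.property
    have : Y.IsGE n := (DerivedCategory.Plus.isGE_ι_obj_iff Y n).1 hn
    obtain ⟨M, _, ⟨i⟩⟩ := DerivedCategory.Plus.exists_injective_nonempty_iso Y n
    refine ⟨(HomotopyCategory.Plus.quotient B).obj
      ((InjectiveObject.ι B).mapCochainComplexPlus.obj M), ⟨i⟩, fun K => ?_⟩
    refine DerivedCategory.Plus.Qh_map_bijective_of_isKInjective K _ ?_
    let I := ((InjectiveObject.ι B).mapHomologicalComplex (ComplexShape.up ℤ)).obj M.obj
    have : ∀ j, Injective (I.X j) := fun j => (M.obj.X j).property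
    have : CochainComplex.IsStrictlyGE I n :=
      inferInstanceAs (CochainComplex.IsStrictlyGE
        (((InjectiveObject.ι B).mapHomologicalComplex (ComplexShape.up ℤ)).obj M.obj) n)
    exact CochainComplex.isKInjective_of_injective I n
  haveI : L.rightDerivedFunctorPlus.IsLeftDerivedFunctor e.hom
      (HomotopyCategory.Plus.quasiIso A) := Functor.isLeftDerivedFunctor_of_inverts _ _ e
  haveI : (L.rightDerivedFunctorPlus ⋙ R.rightDerivedFunctorPlus).IsLeftDerivedFunctor
      ((Functor.associator _ _ _).inv ≫ Functor.whiskerRight e.hom R.rightDerivedFunctorPlus)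
      (HomotopyCategory.Plus.quasiIso A) :=
    Functor.isLeftDerivedFunctor_of_inverts (L := DerivedCategory.Plus.Qh) _ _
      ((Functor.associator _ _ _).symm ≪≫ Functor.isoWhiskerRight e R.rightDerivedFunctorPlus)
  haveI : (R.rightDerivedFunctorPlus ⋙ L.rightDerivedFunctorPlus).IsRightDerivedFunctor
      (Functor.whiskerRight R.rightDerivedFunctorPlusUnit L.rightDerivedFunctorPlus ≫
        (Functor.associator _ _ _).hom)
      (HomotopyCategory.Plus.quasiIso B) :=
    Groth.DerivedAdj.isRightDerivedFunctor_comp _ R.rightDerivedFunctorPlus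
      R.rightDerivedFunctorPlusUnit hres _
  exact ⟨(mapPlusAdj adj).derived (HomotopyCategory.Plus.quasiIso A)
    (HomotopyCategory.Plus.quasiIso B) e.hom R.rightDerivedFunctorPlusUnit⟩

end Groth.DerivedAdjPlus
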