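import Mathlib.Algebra.Homology.DerivedCategory.ExactFunctor
import Mathlib.Algebra.Homology.DerivedCategory.Fractions
import Mathlib.CategoryTheory.Abelian.SerreClass.Localization
import Mathlib.CategoryTheory.Localization.Adjunction
import Mathlib.CategoryTheory.Localization.Composition
import Mathlib.CategoryTheory.Triangulated.Subcategory
import Mathlib.CategoryTheory.Adjunction.Additive
import Mathlib.CategoryTheory.Adjunction.FullyFaithful

/-!
# Derived categories of Serre quotients with a section functor
-/

set_option autoImplicit false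
universe w w' v v' u u'
open CategoryTheory CategoryTheory.Limits CategoryTheory.Pretriangulated

namespace Groth.Agent.DerivedQuotSection

variable {A : Type u} [Category.{v} A] [Abelian A] [HasDerivedCategory.{w} A]
  {B : Type u'} [Category.{v'} B] [Abelian B] [HasDerivedCategory.{w'} B]

/-- The adjunction on complexes. -/
noncomputable def cxAdj {F : B ⥤ A} {G : A ⥤ B} [F.Additive] [G.Additive] (adj : F ⊣ G) {ι : Type*}
    (c : ComplexShape ι) : F.mapHomologicalComplex c ⊣ G.mapHomologicalComplex c where
  unit :=
    { app := fun K =>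
        { f := fun i => adj.unit.app (K.X i)
          comm' := fun i j _ => (adj.unit.naturality (K.d i j)).symm }
      naturality := fun K L g => by
        ext i
        exact adj.unit.naturality (g.f i) }
  counit :=
    { app := fun K =>
        { f := fun i => adj.counit.app (K.X i)
          comm' := fun i j _ => (adj.counit.naturality (K.d i j)).symm }
      naturality := fun K L g => by
        ext i
        exact adj.counit.naturality (g.f i) }
  left_triangle_components := fun K => by
    ext i
    exact adj.left_triangle_components (K.X i)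
  right_triangle_components := fun K => by
    ext i
    exact adj.right_triangle_components (K.X i)

variable (P : ObjectProperty A) [P.IsSerreClass] (v : A ⥤ B) [v.IsLocalization P.isoModSerre]
  [v.Additive] [PreservesFiniteLimits v] [PreservesFiniteColimits v]

lemma isZero_iff (Z : DerivedCategory A) :
    IsZero (v.mapDerivedCategory.obj Z) ↔
      ∀ n : ℤ, P ((DerivedCategory.homologyFunctor A n).obj Z) := by
  let K := DerivedCategory.Q.objPreimage Z
  let e := DerivedCategory.Q.objObjPreimageIso Z
  let L : CochainComplex B ℤ := (v.mapHomologicalComplex _).obj K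
  let e' : v.mapDerivedCategory.obj Z ≅ DerivedCategory.Q.obj L :=
    v.mapDerivedCategory.mapIso e.symm ≪≫ v.mapDerivedCategoryFactors.app K
  have key : ∀ n, (DerivedCategory.homologyFunctor B n).obj (v.mapDerivedCategory.obj Z) ≅
      v.obj ((DerivedCategory.homologyFunctor A n).obj Z) := fun n =>
    (DerivedCategory.homologyFunctor B n).mapIso e' ≪≫
      (DerivedCategory.homologyFunctorFactors B n).app L ≪≫ (K.sc n).mapHomologyIso v ≪≫
      v.mapIso (((DerivedCategory.homologyFunctorFactors A n).app K).symm ≪≫
        (DerivedCategory.homologyFunctor A n).mapIso e)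
  constructor
  · intro hz n
    rw [← ObjectProperty.SerreClassLocalization.isZero_obj_iff v P]
    exact ((DerivedCategory.homologyFunctor B n).map_isZero hz).of_iso (key n).symm
  · intro hP
    have hn : ∀ n, IsZero ((DerivedCategory.homologyFunctor B n).obj (v.mapDerivedCategory.obj Z)) := fun n =>
      ((ObjectProperty.SerreClassLocalization.isZero_obj_iff v P _).2 (hP n)).of_iso (key n)
    rw [IsZero.iff_id_eq_zero]
    have : IsIso (0 : v.mapDerivedCategory.obj Z ⟶ v.mapDerivedCategory.obj Z) := by
      rw [DerivedCategory.isIso_iff]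
      intro n
      exact ⟨0, (hn n).eq_of_src _ _, (hn n).eq_of_src _ _⟩
    rw [← cancel_epi (0 : v.mapDerivedCategory.obj Z ⟶ v.mapDerivedCategory.obj Z), zero_comp, zero_comp]

lemma isIso_iff {X Y : DerivedCategory A} (g : X ⟶ Y) :
    IsIso (v.mapDerivedCategory.map g) ↔
      ObjectProperty.trW (fun Z : DerivedCategory A => ∀ n : ℤ, P ((DerivedCategory.homologyFunctor A n).obj Z)) g := by
  constructor
  · intro hg
    obtain ⟨Z, a, b, hT⟩ := distinguished_cocone_triangle g
    exact ⟨Z, a, b, hT, (isZero_iff P v Z).1 ((Triangle.isZero₃_iff_isIso₁ _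
      (v.mapDerivedCategory.map_distinguished _ hT)).2 hg)⟩
  · rintro ⟨Z, a, b, hT, hP⟩
    exact (Triangle.isZero₃_iff_isIso₁ _ (v.mapDerivedCategory.map_distinguished _ hT)).1
      ((isZero_iff P v Z).2 hP)

theorem isLocalization {u : B ⥤ A} (adj : u ⊣ v) [IsIso adj.unit] :
    v.mapDerivedCategory.IsLocalization
      (ObjectProperty.trW (fun Z : DerivedCategory A => ∀ n : ℤ, P ((DerivedCategory.homologyFunctor A n).obj Z))) := by
  have : u.Additive := adj.left_adjoint_additive
  let c := ComplexShape.up ℤ
  let V := v.mapHomologicalComplex c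
  let U := u.mapHomologicalComplex c
  let ad : U ⊣ V := cxAdj adj c
  have : ∀ K, IsIso (ad.unit.app K) := fun K => by
    have : ∀ i, IsIso ((ad.unit.app K).f i) := fun i => inferInstanceAs (IsIso (adj.unit.app (K.X i)))
    exact HomologicalComplex.Hom.isIso_of_components _
  have : IsIso ad.unit := NatIso.isIso_of_isIso_app _
  have hff := ad.fullyFaithfulLOfIsIsoUnit
  have : U.Full := hff.full
  have : U.Faithful := hff.faithful
  have := ad.isLocalization'
  let W₃ : MorphismProperty (CochainComplex A ℤ) :=
    (MorphismProperty.isomorphisms (DerivedCategory B)).inverseImage (V ⋙ DerivedCategory.Q)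
  have h3 : (V ⋙ DerivedCategory.Q).IsLocalization W₃ := by
    refine Functor.IsLocalization.comp V DerivedCategory.Q
      ((MorphismProperty.isomorphisms _).inverseImage V) (HomologicalComplex.quasiIso B c) W₃
      (fun X Y f hf => hf) (fun X Y f hf => ?_) (fun X Y f hf => ?_)
    · have : IsIso (V.map f) := hf
      exact inferInstanceAs (IsIso (DerivedCategory.Q.map (V.map f)))
    · let e : Arrow.mk (V.map (U.map f)) ≅ Arrow.mk f :=
        (Arrow.isoMk (asIso (ad.unit.app X)) (asIso (ad.unit.app Y)) (ad.unit.naturality f).symm).symm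
      refine (MorphismProperty.arrow_mk_iso_iff (W₃.map V) e).1 (W₃.map_mem_map V _ ?_)
      have : IsIso (DerivedCategory.Q.map f) := Localization.inverts _ (HomologicalComplex.quasiIso B c) f hf
      exact ((MorphismProperty.isomorphisms (DerivedCategory B)).arrow_mk_iso_iff
        (DerivedCategory.Q.mapArrow.mapIso e)).2 this
  have : (DerivedCategory.Q ⋙ v.mapDerivedCategory).IsLocalization W₃ :=
    Functor.IsLocalization.of_iso W₃ v.mapDerivedCategoryFactors.symm
  have hiff : ∀ {X Y : CochainComplex A ℤ} (f : X ⟶ Y),
      W₃ f ↔ IsIso (v.mapDerivedCategory.map (DerivedCategory.Q.map f)) := fun f =>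
    (MorphismProperty.isomorphisms (DerivedCategory B)).arrow_mk_iso_iff
      (Arrow.isoMk (v.mapDerivedCategoryFactors.app _).symm (v.mapDerivedCategoryFactors.app _).symm
        (v.mapDerivedCategoryFactors.inv.naturality f).symm)
  refine Functor.IsLocalization.of_comp DerivedCategory.Q v.mapDerivedCategory
    (HomologicalComplex.quasiIso A c) _ W₃ (fun X Y f hf => ?_) ?_
  · rw [hiff]
    have : IsIso (DerivedCategory.Q.map f) := Localization.inverts _ (HomologicalComplex.quasiIso A c) f hf
    infer_instance
  · refine le_antisymm (fun X Y g hg => ?_) ?_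
    · rw [← isIso_iff P v] at hg
      let eX := DerivedCategory.Q.objObjPreimageIso X
      let eY := DerivedCategory.Q.objObjPreimageIso Y
      obtain ⟨X', s, hs, f, hf⟩ := DerivedCategory.right_fac (eX.hom ≫ g ≫ eY.inv)
      let e : Arrow.mk (DerivedCategory.Q.map f) ≅ Arrow.mk g :=
        Arrow.isoMk (asIso (DerivedCategory.Q.map s) ≪≫ eX) eY (by
          have hf' : DerivedCategory.Q.map f = DerivedCategory.Q.map s ≫ eX.hom ≫ g ≫ eY.inv := by
            rw [hf, IsIso.hom_inv_id_assoc]
          simp [hf'])
      refine (MorphismProperty.arrow_mk_iso_iff (W₃.map _) e).1 (W₃.map_mem_map _ f ?_)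
      rw [hiff]
      exact ((MorphismProperty.isomorphisms (DerivedCategory B)).arrow_mk_iso_iff
        (v.mapDerivedCategory.mapArrow.mapIso e)).2 hg
    · rintro X Y g ⟨X', Y', f, hf, ⟨e⟩⟩
      rw [← isIso_iff P v]
      exact ((MorphismProperty.isomorphisms (DerivedCategory B)).arrow_mk_iso_iff
        (v.mapDerivedCategory.mapArrow.mapIso e)).1 ((hiff f).1 hf)

end Groth.Agent.DerivedQuotSection
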