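import Mathlib.Algebra.Homology.DerivedCategory.TStructure
import Mathlib.Algebra.Homology.DerivedCategory.FullyFaithful
import Mathlib.Algebra.Homology.DerivedCategory.HomologySequence
import Mathlib.CategoryTheory.Triangulated.TStructure.TruncLTGE
import Mathlib.Data.Int.Interval

/-!
# Splitting of bounded objects with vanishing higher extensions
-/

set_option autoImplicit false
universe w v u
open CategoryTheory CategoryTheory.Limits CategoryTheory.Pretriangulated DerivedCategory.TStructure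

namespace Groth.Agent.DerivedSplit

variable {A : Type u} [Category.{v} A] [Abelian A] [HasDerivedCategory.{w} A]

local notation "H" => DerivedCategory.homologyFunctor A
local notation "σ" => DerivedCategory.singleFunctor A

lemma hom_shift_eq_zero {X Y : A} (i j : ℤ) (p : ℕ) (hp : (p : ℤ) = i + 1 - j)
    (h : ∀ f : (σ 0).obj X ⟶ ((σ 0).obj Y)⟦(p : ℤ)⟧, f = 0)
    (φ : (σ i).obj X ⟶ ((σ j).obj Y)⟦(1 : ℤ)⟧) : φ = 0 := by
  let eX : ((σ i).obj X)⟦i⟧ ≅ (σ 0).obj X :=
    ((DerivedCategory.singleFunctors A).shiftIso i 0 i (by omega)).app X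
  let eY : ((σ j).obj Y)⟦j⟧ ≅ (σ 0).obj Y :=
    ((DerivedCategory.singleFunctors A).shiftIso j 0 j (by omega)).app Y
  let e : (((σ j).obj Y)⟦(1 : ℤ)⟧)⟦i⟧ ≅ ((σ 0).obj Y)⟦(p : ℤ)⟧ :=
    ((shiftFunctorAdd' (DerivedCategory A) (1 : ℤ) i (1 + i) rfl).app _).symm ≪≫
      (shiftFunctorAdd' (DerivedCategory A) j (p : ℤ) (1 + i) (by omega)).app _ ≪≫
      (shiftFunctor _ (p : ℤ)).mapIso eY
  apply (shiftFunctor (DerivedCategory A) i).map_injective
  rw [Functor.map_zero, ← cancel_epi eX.inv, ← cancel_mono e.hom, comp_zero, zero_comp]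
  exact h _

/-- A splitting of `K` in degrees `[a, b]`. -/
def Split (K : DerivedCategory A) (a b : ℤ) : Prop :=
  ∃ (p : ∀ j, K ⟶ (σ j).obj ((H j).obj K)) (i : ∀ j, (σ j).obj ((H j).obj K) ⟶ K),
    (∀ j ∈ Finset.Icc a b, i j ≫ p j = 𝟙 _) ∧
      (∀ j ∈ Finset.Icc a b, ∀ k ∈ Finset.Icc a b, j ≠ k → i j ≫ p k = 0) ∧
      ∑ j ∈ Finset.Icc a b, p j ≫ i j = 𝟙 K

theorem exists_split (a : ℤ) : ∀ (n : ℕ) (b : ℤ) (K : DerivedCategory A), b + 1 ≤ a + n →
    K.IsGE a → K.IsLE b →
    (∀ i j, a ≤ j → j < i → i ≤ b →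
      ∀ φ : (σ i).obj ((H i).obj K) ⟶ ((σ j).obj ((H j).obj K))⟦(1 : ℤ)⟧, φ = 0) →
    Split K a b := by
  intro n
  induction n with
  | zero =>
    intro b K hb _ _ _
    have hK : IsZero K := t.isZero K b a (by omega)
    refine ⟨fun _ => 0, fun _ => 0, fun j hj => ?_, fun _ _ _ _ _ => comp_zero, hK.eq_of_src _ _⟩
    rw [Finset.mem_Icc] at hj; omega
  | succ n ih =>
    intro b K hb hGE hLE hE
    by_cases hab : b < a
    · have hK : IsZero K := t.isZero K b a (by omega)
      refine ⟨fun _ => 0, fun _ => 0, fun j hj => ?_, fun _ _ _ _ _ => comp_zero, hK.eq_of_src _ _⟩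
      rw [Finset.mem_Icc] at hj; omega
    let T := (t.truncLT b).obj K
    let S := (t.truncGE b).obj K
    let ι : T ⟶ K := (t.truncLTι b).app K
    let π : K ⟶ S := (t.truncGEπ b).app K
    let δ : S ⟶ T⟦(1 : ℤ)⟧ := (t.truncGEδLT b).app K
    have hT : Triangle.mk ι π δ ∈ distTriang _ := t.triangleLTGE_distinguished b K
    have hTa : T.IsGE a := inferInstanceAs (t.IsGE ((t.truncLT b).obj K) a)
    have hTb : T.IsLE (b - 1) := inferInstanceAs (t.IsLE ((t.truncLT b).obj K) (b - 1))
    have hSa : S.IsGE b := inferInstanceAs (t.IsGE ((t.truncGE b).obj K) b)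
    have hSb : S.IsLE b := inferInstanceAs (t.IsLE ((t.truncGE b).obj K) b)
    have hιiso : ∀ j, j < b → IsIso ((H j).map ι) := fun j hj => by
      have : Mono ((H j).map ι) :=
        (DerivedCategory.HomologySequence.mono_homologyMap_mor₁_iff _ hT (j - 1) j).2
          ((DerivedCategory.isZero_of_isGE S b (j - 1) (by omega)).eq_of_src _ _)
      have : Epi ((H j).map ι) :=
        (DerivedCategory.HomologySequence.epi_homologyMap_mor₁_iff _ hT j).2
          ((DerivedCategory.isZero_of_isGE S b j hj).eq_of_tgt _ _)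
      exact isIso_of_mono_of_epi _
    have hπiso : IsIso ((H b).map π) := by
      have : Epi ((H b).map π) :=
        (DerivedCategory.HomologySequence.epi_homologyMap_mor₂_iff _ hT b (b + 1)).2
          ((DerivedCategory.isZero_of_isLE T (b - 1) (b + 1) (by omega)).eq_of_tgt _ _)
      have : Mono ((H b).map π) :=
        (DerivedCategory.HomologySequence.mono_homologyMap_mor₂_iff _ hT b).2
          ((DerivedCategory.isZero_of_isLE T (b - 1) b (by omega)).eq_of_src _ _)
      exact isIso_of_mono_of_epi _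
    let f := fun j => (σ j).map ((H j).map ι)
    have hf : ∀ j, j < b → IsIso (f j) := fun j hj => by
      have := hιiso j hj
      infer_instance
    obtain ⟨p', i', h1, h2, h3⟩ := ih (b - 1) T (by omega) hTa hTb (fun i j hj hji hi φ => by
      have := hf i (by omega)
      have := hf j (by omega)
      rw [← cancel_epi (inv (f i)), ← cancel_mono ((shiftFunctor _ (1 : ℤ)).map (f j)), comp_zero, zero_comp]
      exact hE i j hj hji (by omega) _)
    choose g hg₁ hg₂ using fun j : ℤ => show ∃ g : (σ j).obj ((H j).obj K) ⟶ (σ j).obj ((H j).obj T),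
      (j < b → f j ≫ g = 𝟙 _) ∧ (j < b → g ≫ f j = 𝟙 _) by
        by_cases hj : j < b
        · have := hf j hj
          exact ⟨inv (f j), fun _ => IsIso.hom_inv_id _, fun _ => IsIso.inv_hom_id _⟩
        · exact ⟨0, fun h => absurd h hj, fun h => absurd h hj⟩
    -- the top part
    obtain ⟨Y, ⟨eY⟩⟩ := DerivedCategory.exists_iso_singleFunctor_obj_of_isGE_of_isLE S b
    let eS : S ≅ (σ b).obj ((H b).obj K) := eY ≪≫ (σ b).mapIso
      (((DerivedCategory.singleFunctorCompHomologyFunctorIso A b).app Y).symm ≪≫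
        (H b).mapIso eY.symm ≪≫ (asIso ((H b).map π)).symm)
    have hδ : δ = 0 := by
      rw [← cancel_epi eS.inv, comp_zero, ← Category.comp_id (eS.inv ≫ δ), ← (shiftFunctor (DerivedCategory A) (1 : ℤ)).map_id, ← h3,
        Functor.map_sum, Preadditive.comp_sum]
      refine Finset.sum_eq_zero fun j hj => ?_
      rw [Finset.mem_Icc] at hj
      rw [Functor.map_comp, ← Category.id_comp (i' j), ← hg₁ j (by omega), Category.assoc, Functor.map_comp]
      have := hE b j hj.1 (by omega) le_rfl (eS.inv ≫ δ ≫ (p' j)⟦(1 : ℤ)⟧' ≫ (f j)⟦(1 : ℤ)⟧')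
      calc _ = (eS.inv ≫ δ ≫ (p' j)⟦(1 : ℤ)⟧' ≫ (f j)⟦(1 : ℤ)⟧') ≫ (g j ≫ i' j)⟦(1 : ℤ)⟧' := by
            simp only [Category.assoc, Functor.map_comp]
        _ = 0 := by rw [this, zero_comp]
    obtain ⟨s, hs⟩ : ∃ s : S ⟶ K, 𝟙 S = s ≫ π :=
      Triangle.coyoneda_exact₃ _ hT (𝟙 S) (show 𝟙 S ≫ δ = 0 by rw [hδ, comp_zero])
    obtain ⟨r, hr⟩ : ∃ r : K ⟶ T, 𝟙 K - π ≫ s = r ≫ ι :=
      Triangle.coyoneda_exact₂ _ hT _ (show (𝟙 K - π ≫ s) ≫ π = 0 by
        rw [Preadditive.sub_comp, Category.id_comp, Category.assoc, ← hs, Category.comp_id, sub_self])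
    have : Mono ι := Triangle.mono₁ _ hT hδ
    have hιπ : ι ≫ π = 0 := comp_distTriang_mor_zero₁₂ _ hT
    have hιr : ι ≫ r = 𝟙 T := by
      rw [← cancel_mono ι, Category.assoc, ← hr, Category.id_comp, Preadditive.comp_sub, Category.comp_id,
        reassoc_of% hιπ, zero_comp, sub_zero]
    have hsr : s ≫ r = 0 := by
      rw [← cancel_mono ι, Category.assoc, ← hr, zero_comp, Preadditive.comp_sub, Category.comp_id,
        ← Category.assoc, ← hs, Category.id_comp, sub_self]
    classical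
    let P : ∀ j, K ⟶ (σ j).obj ((H j).obj K) := fun j =>
      if h : j = b then π ≫ eS.hom ≫ eqToHom (by rw [h]) else r ≫ p' j ≫ f j
    let I : ∀ j, (σ j).obj ((H j).obj K) ⟶ K := fun j =>
      if h : j = b then eqToHom (by rw [h]) ≫ eS.inv ≫ s else g j ≫ i' j ≫ ι
    have hmem : ∀ j ∈ Finset.Icc a b, j ≠ b → j < b ∧ j ∈ Finset.Icc a (b - 1) := fun j hj hjb => by
      simp only [Finset.mem_Icc] at hj ⊢; omega
    refine ⟨P, I, fun j hj => ?_, fun j hj k hk hjk => ?_, ?_⟩
    · by_cases h : j = b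
      · subst h
        simp [P, I, ← reassoc_of% hs]
      · obtain ⟨hlt, hj'⟩ := hmem j hj h
        simp [P, I, h, reassoc_of% hιr, reassoc_of% (h1 j hj'), hg₂ j hlt]
    · by_cases h : j = b
      · subst h
        simp [P, I, Ne.symm hjk, reassoc_of% hsr]
      · obtain ⟨hlt, hj'⟩ := hmem j hj h
        by_cases h' : k = b
        · subst h'
          simp [P, I, h, reassoc_of% hιπ]
        · obtain ⟨_, hk'⟩ := hmem k hk h'
          simp [P, I, h, h', reassoc_of% hιr, reassoc_of% (h2 j hj' k hk' hjk)]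
    · have hIcc : Finset.Icc a b = insert b (Finset.Icc a (b - 1)) := by
        ext x; simp only [Finset.mem_Icc, Finset.mem_insert]; omega
      rw [hIcc, Finset.sum_insert (by simp), Finset.sum_congr rfl (g := fun j => r ≫ (p' j ≫ i' j) ≫ ι)]
      · rw [← Preadditive.comp_sum, ← Preadditive.sum_comp, h3, Category.id_comp, ← hr]
        simp [P, I]
      · intro j hj
        simp only [Finset.mem_Icc] at hj
        have h : j ≠ b := by omega
        simp [P, I, h, reassoc_of% (hg₁ j (by omega))]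

end Groth.Agent.DerivedSplit
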