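import Groth.Agent.KTheory.Basic
import Groth.Prelude.Def_SGA6
import Mathlib.CategoryTheory.Abelian.Refinements
import Mathlib.CategoryTheory.Adjunction.Additive
import Mathlib.CategoryTheory.Adjunction.Limits
import Mathlib.Algebra.Homology.ShortComplex.PreservesHomology

/-!
# Dévissage along a reflective subcategory

An exact functor `R : B ⥤ A` with a left adjoint, fully faithful on `Q` and with epimorphic unit on
`P`, induces a bijection on `K₀` when iterating the kernel of the unit kills every object of `P`.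
-/

set_option autoImplicit false
set_option linter.unusedSectionVars false

universe v v' u u'

open CategoryTheory CategoryTheory.Limits

namespace Groth.KTheory.DevissageAdj

variable {A : Type u} [Category.{v} A] [Abelian A] {B : Type u'} [Category.{v'} B] [Abelian B]
  {L : A ⥤ B} {R : B ⥤ A} (adj : L ⊣ R)

/-- The unit, with normalized source and target. -/
noncomputable def eta (X : A) : X ⟶ R.obj (L.obj X) := adj.unit.app X

theorem eta_nat {X Y : A} (f : X ⟶ Y) : f ≫ eta adj Y = eta adj X ≫ R.map (L.map f) :=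
  adj.unit.naturality f

/-- The kernel of the unit. -/
noncomputable abbrev T (X : A) : A := kernel (eta adj X)

/-- Functoriality of `T`. -/
noncomputable abbrev Tmap {X Y : A} (f : X ⟶ Y) : T adj X ⟶ T adj Y :=
  kernel.lift _ (kernel.ι _ ≫ f) (by
    rw [Category.assoc, eta_nat, kernel.condition_assoc, zero_comp])

/-- `n` steps kill `X`. -/
def Nil : ℕ → A → Prop
  | 0, X => IsZero X
  | n + 1, X => Nil n (T adj X)

theorem isZero_T {X : A} (h : IsZero X) : IsZero (T adj X) := h.of_mono (kernel.ι _)

theorem nil_zero {X : A} (h : IsZero X) : ∀ n, Nil adj n X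
  | 0 => h
  | n + 1 => by
    induction n generalizing X with
    | zero => exact isZero_T adj h
    | succ n ih => exact ih (isZero_T adj h)

theorem nil_succ : ∀ (n : ℕ) {X : A}, Nil adj n X → Nil adj (n + 1) X
  | 0, _, h => isZero_T adj h
  | n + 1, _, h => nil_succ n (X := T adj _) h

theorem nil_le {n m : ℕ} (h : n ≤ m) {X : A} (hX : Nil adj n X) : Nil adj m X := by
  induction h with
  | refl => exact hX
  | step _ ih => exact nil_succ adj _ ih

theorem nil_mono : ∀ (n : ℕ) {X Y : A} (f : Y ⟶ X) [Mono f], Nil adj n X → Nil adj n Y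
  | 0, _, _, f, _, h => IsZero.of_mono f h
  | n + 1, X, Y, f, _, h => by
    have : Mono (Tmap adj f) := mono_of_mono_fac (h := kernel.ι (eta adj Y) ≫ f)
      (kernel.lift_ι _ _ _)
    exact nil_mono n (Tmap adj f) h

variable [R.Additive] [PreservesFiniteLimits R] [PreservesFiniteColimits R]
  (P : ObjectProperty A) (Q : ObjectProperty B)

/-- `Σ_{k<n} [L Tᵏ X]`. -/
noncomputable def fN : ℕ → A → KZero.K0sub Q
  | 0, _ => 0
  | n + 1, X => KZero.clSub Q (L.obj X) + fN n (T adj X)

variable (hPker : ∀ {X Y : A} (f : X ⟶ Y), P X → P Y → P (kernel f))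
  (hQker : ∀ {X Y : B} (f : X ⟶ Y), Q X → Q Y → Q (kernel f))
  (hL : ∀ X, P X → Q (L.obj X)) (hR : ∀ M, Q M → P (R.obj M))
  (hunit : ∀ X, P X → Epi (eta adj X))
  (hcounit : ∀ M, Q M → IsIso (adj.counit.app M))

include hPker hL hR in
theorem prop_T {X : A} (h : P X) : P (T adj X) := hPker _ h (hR _ (hL _ h))

include hPker hL hR in
theorem fN_of_isZero : ∀ (n : ℕ) {X : A}, P X → IsZero X → fN adj Q n X = 0
  | 0, _, _, _ => rfl
  | n + 1, X, hX, h => by
    have := adj.left_adjoint_additive
    rw [fN, fN_of_isZero n (prop_T adj P Q hPker hL hR hX) (isZero_T adj h),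
      clSub_zero (L.map_isZero h) (hL _ hX), add_zero]

include hPker hL hR in
theorem fN_succ : ∀ (n : ℕ) {X : A}, P X → Nil adj n X → fN adj Q (n + 1) X = fN adj Q n X
  | 0, X, hX, h => fN_of_isZero adj P Q hPker hL hR 1 hX h
  | n + 1, X, hX, h => by
    rw [fN, fN_succ n (prop_T adj P Q hPker hL hR hX) h]
    rfl

include hPker hL hR in
theorem fN_le {n m : ℕ} (h : n ≤ m) {X : A} (hX : P X) (hn : Nil adj n X) :
    fN adj Q m X = fN adj Q n X := by
  induction h with
  | refl => rfl
  | @step m hm ih => rw [fN_succ adj P Q hPker hL hR m hX (nil_le adj hm hn), ih]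

include hPker hQker hL hR hcounit in
theorem fN_obj : ∀ (n : ℕ) {M : B}, Q M → Nil adj n (R.obj M) →
    fN adj Q n (R.obj M) = KZero.clSub Q M := by
  intro n M hM hn
  have := adj.left_adjoint_additive
  have := hcounit M hM
  cases n with
  | zero =>
    have hz : IsZero M := (L.map_isZero hn).of_iso (asIso (adj.counit.app M)).symm
    rw [clSub_zero hz hM]
    rfl
  | succ n =>
    have : Mono (eta adj (R.obj M)) :=
      mono_of_mono_fac (h := 𝟙 _) (adj.right_triangle_components M)
    have hT : IsZero (T adj (R.obj M)) := isZero_kernel_of_mono _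
    rw [fN, fN_of_isZero adj P Q hPker hL hR n (prop_T adj P Q hPker hL hR (hR M hM)) hT, add_zero]
    exact clSub_iso (asIso (adj.counit.app M)) (hL _ (hR M hM)) hM (isZero_kernel_of_mono (𝟙 M))
      (hQker (𝟙 M) hM hM)

include hPker hQker hL hR hunit hcounit in
theorem fN_rel : ∀ (n : ℕ) (S : ShortComplex A), S.ShortExact → P S.X₁ → P S.X₂ → P S.X₃ →
    Nil adj n S.X₂ → Nil adj n S.X₃ ∧ fN adj Q n S.X₂ = fN adj Q n S.X₁ + fN adj Q n S.X₃ := by
  intro n
  induction n with
  | zero =>
    intro S hS _ _ _ h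
    have := hS.epi_g
    exact ⟨IsZero.of_epi S.g h, (add_zero _).symm⟩
  | succ n ih =>
    intro S hS h₁ h₂ h₃ hn
    have := adj.left_adjoint_additive
    have := adj.leftAdjoint_preservesColimits
    have := hS.mono_f
    have := hS.epi_g
    have := hunit _ h₁
    have := hunit _ h₂
    have : PreservesFiniteColimits L := ⟨fun _ _ _ => inferInstance⟩
    let ι' := kernel.ι (L.map S.f)
    let j := kernel.ι (eta adj S.X₁ ≫ R.map (L.map S.f))
    have hRK : (ShortComplex.mk (R.map ι') (R.map (L.map S.f))
        (by rw [← R.map_comp, kernel.condition, R.map_zero])).Exact :=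
      (ShortComplex.exact_of_f_is_kernel (ShortComplex.mk ι' _ (kernel.condition _))
        (kernelIsKernel _)).map R
    have : Mono (R.map ι') := inferInstance
    let q : kernel (eta adj S.X₁ ≫ R.map (L.map S.f)) ⟶ R.obj (kernel (L.map S.f)) :=
      hRK.lift (j ≫ eta adj S.X₁) (by simp [j])
    have hq : q ≫ R.map ι' = j ≫ eta adj S.X₁ := hRK.lift_f _ _
    let h : T adj S.X₁ ⟶ kernel (eta adj S.X₁ ≫ R.map (L.map S.f)) :=
      kernel.lift _ (kernel.ι _) (by simp)
    have hnat : S.f ≫ eta adj S.X₂ = eta adj S.X₁ ≫ R.map (L.map S.f) :=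
      eta_nat adj S.f
    have hnat' : S.g ≫ eta adj S.X₃ = eta adj S.X₂ ≫ R.map (L.map S.g) :=
      eta_nat adj S.g
    let a : kernel (eta adj S.X₁ ≫ R.map (L.map S.f)) ⟶ T adj S.X₂ :=
      kernel.lift _ (j ≫ S.f) (by simp [j, hnat])
    have : Mono a := mono_of_mono_fac (h := j ≫ S.f) (kernel.lift_ι _ _ _)
    have hha : h ≫ j = kernel.ι _ := kernel.lift_ι _ _ _
    have s1 : (ShortComplex.mk h q (by
        rw [← cancel_mono (R.map ι'), Category.assoc, hq, zero_comp, reassoc_of% hha,
          kernel.condition])).ShortExact := by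
      refine { exact := ?_, mono_f := mono_of_mono_fac hha, epi_g := ?_ }
      · have : Mono h := mono_of_mono_fac hha
        refine ShortComplex.exact_of_f_is_kernel _ (KernelFork.IsLimit.ofι' _ _ fun {W} k hk => ?_)
        refine ⟨kernel.lift _ (k ≫ j) ?_, ?_⟩
        · have := hk =≫ R.map ι'
          simpa [hq] using this
        · apply (cancel_mono j).1
          simp [hha]
      · rw [epi_iff_surjective_up_to_refinements]
        intro W x
        obtain ⟨W', π, hπ, y, hy⟩ := surjective_up_to_refinements_of_epi (eta adj S.X₁)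
          (x ≫ R.map ι')
        refine ⟨W', π, hπ, kernel.lift _ y ?_, ?_⟩
        · rw [← Category.assoc, ← hy]
          simp only [Category.assoc, ← R.map_comp, ι', kernel.condition, R.map_zero, comp_zero]
        · simp only
          rw [← cancel_mono (R.map ι')]
          simp only [Category.assoc, hq]
          exact hy.trans (by simp [j])
    have s2 : (ShortComplex.mk a (Tmap adj S.g) (by
        rw [← cancel_mono (kernel.ι _)]; simp [a, S.zero])).ShortExact := by
      refine { exact := ?_, mono_f := inferInstanceAs (Mono a), epi_g := ?_ }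
      · refine ShortComplex.exact_of_f_is_kernel _ (KernelFork.IsLimit.ofι' _ _ fun {W} k hk => ?_)
        have hk' : (k ≫ kernel.ι _) ≫ S.g = 0 := by
          have := hk =≫ kernel.ι _
          simpa using this
        refine ⟨kernel.lift _ (hS.exact.lift _ hk') ?_, ?_⟩
        · refine (congrArg (hS.exact.lift _ hk' ≫ ·) hnat.symm).trans ?_
          rw [← Category.assoc, hS.exact.lift_f]
          exact (Category.assoc _ _ _).trans ((congrArg (k ≫ ·) (kernel.condition _)).trans comp_zero)
        · rw [← cancel_mono (kernel.ι _)]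
          simp [a, j]
      · rw [epi_iff_surjective_up_to_refinements]
        intro W c
        obtain ⟨W₁, π₁, hπ₁, b, hb⟩ :=
          surjective_up_to_refinements_of_epi S.g (c ≫ kernel.ι _)
        have hLex : (S.map (L ⋙ R)).Exact := by
          have h1 : (S.map L).Exact :=
            hS.exact.map_of_epi_of_preservesCokernel L inferInstance inferInstance
          exact h1.map R
        have hz : (b ≫ eta adj S.X₂) ≫ R.map (L.map S.g) = 0 := by
          rw [Category.assoc, ← hnat', ← Category.assoc, ← hb]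
          simp
        obtain ⟨W₂, π₂, hπ₂, x, hx⟩ := hLex.exact_up_to_refinements _ hz
        obtain ⟨W₃, π₃, hπ₃, y, hy⟩ := surjective_up_to_refinements_of_epi (eta adj S.X₁) x
        refine ⟨W₃, π₃ ≫ π₂ ≫ π₁, inferInstance,
          kernel.lift _ (π₃ ≫ π₂ ≫ b - y ≫ S.f) ?_, ?_⟩
        · have hx' : π₂ ≫ b ≫ eta adj S.X₂ = x ≫ R.map (L.map S.f) := hx
          simp only [Preadditive.sub_comp, Category.assoc, hnat, sub_eq_zero]
          exact (congrArg (π₃ ≫ ·) hx').trans ((Category.assoc _ _ _).symm.trans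
            ((congrArg (· ≫ R.map (L.map S.f)) hy).trans (Category.assoc _ _ _)))
        · rw [← cancel_mono (kernel.ι _)]
          simp [hb]
    let e : L.obj S.X₁ ⟶ kernel (L.map S.g) :=
      kernel.lift _ (L.map S.f) (by rw [← L.map_comp, S.zero, L.map_zero])
    have hLS : (S.map L).Exact :=
      hS.exact.map_of_epi_of_preservesCokernel L inferInstance inferInstance
    have : Epi e := (ShortComplex.exact_iff_epi_kernel_lift (S.map L)).1 hLS
    have s3 : (ShortComplex.mk ι' e (by
        rw [← cancel_mono (kernel.ι _)]; simp [e, ι'])).ShortExact :=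
      { exact := ShortComplex.exact_of_f_is_kernel _ (KernelFork.IsLimit.ofι' _ _ fun {W} k hk =>
          ⟨kernel.lift _ k (by simpa [e] using hk =≫ kernel.ι (L.map S.g)), kernel.lift_ι _ _ _⟩)
        mono_f := inferInstanceAs (Mono ι')
        epi_g := inferInstanceAs (Epi e) }
    have s4 : (ShortComplex.mk (kernel.ι (L.map S.g)) (L.map S.g)
        (kernel.condition _)).ShortExact :=
      { exact := ShortComplex.exact_of_f_is_kernel _ (kernelIsKernel _)
        mono_f := inferInstance
        epi_g := L.map_epi S.g }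
    have hK' := hQker (L.map S.f) (hL _ h₁) (hL _ h₂)
    have hI := hQker (L.map S.g) (hL _ h₂) (hL _ h₃)
    have hK : P (kernel (eta adj S.X₁ ≫ R.map (L.map S.f))) :=
      hPker _ h₁ (hR _ (hL _ h₂))
    have hT : ∀ {X : A}, P X → P (T adj X) := prop_T adj P Q hPker hL hR
    obtain ⟨hn3, e2⟩ := ih _ s2 hK (hT h₂) (hT h₃) hn
    obtain ⟨hn1, e1⟩ := ih _ s1 (hT h₁) hK (hR _ hK') (nil_mono adj n a hn)
    refine ⟨hn3, ?_⟩
    have e3 := clSub_rel (P := Q) _ s3 hK' (hL _ h₁) hI
    have e4 := clSub_rel (P := Q) _ s4 hI (hL _ h₂) (hL _ h₃)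
    simp only at e1 e2 e3 e4
    rw [fN_obj adj P Q hPker hQker hL hR hcounit n hK' hn1] at e1
    simp only [fN]
    rw [e2, e1, e4, e3]
    abel

include hPker hQker hL hR hunit hcounit in
theorem bijective_mapSub (hnil : ∀ X, P X → ∃ n, Nil adj n X) :
    Function.Bijective (SGA6.mapSub R Q P hR) := by
  classical
  have hmap : ∀ {M}, Q M →
      SGA6.mapSub R Q P hR (KZero.clSub Q M) = KZero.clSub P (R.obj M) := fun {M} hM => by
    rw [clSub_of hM, clSub_of (hR _ hM)]
    rfl
  let f : A → KZero.K0sub Q := fun X =>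
    if h : ∃ n, Nil adj n X then fN adj Q (Nat.find h) X else 0
  have hf : ∀ {X : A}, P X → ∀ {n}, Nil adj n X → f X = fN adj Q n X := fun {X} hX {n} hn => by
    simp only [f, dif_pos (show ∃ n, Nil adj n X from ⟨n, hn⟩)]
    exact (fN_le adj P Q hPker hL hR (Nat.find_min' _ hn) hX (Nat.find_spec (⟨n, hn⟩ : ∃ n, Nil adj n X))).symm
  let g : KZero.K0sub P →+ KZero.K0sub Q := liftSub P f fun S hS h₁ h₂ h₃ => by
    obtain ⟨n, hn⟩ := hnil _ h₂
    obtain ⟨hn3, e⟩ := fN_rel adj P Q hPker hQker hL hR hunit hcounit n S hS h₁ h₂ h₃ hn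
    have := hS.mono_f
    rw [hf h₁ (nil_mono adj n S.f hn), hf h₂ hn, hf h₃ hn3, e]
  have hleft : g.comp (SGA6.mapSub R Q P hR) = AddMonoidHom.id _ := by
    refine k0sub_hom_ext fun M hM => ?_
    obtain ⟨n, hn⟩ := hnil _ (hR _ hM)
    rw [AddMonoidHom.comp_apply, hmap hM, liftSub_clSub _ _ (hR _ hM), hf (hR _ hM) hn,
      fN_obj adj P Q hPker hQker hL hR hcounit n hM hn]
    rfl
  refine ⟨Function.LeftInverse.injective (g := g) fun x => congr($hleft x),
    Function.RightInverse.surjective (g := g) fun x => ?_⟩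
  suffices h : (SGA6.mapSub R Q P hR).comp g = AddMonoidHom.id _ from congr($h x)
  refine k0sub_hom_ext fun X hX => ?_
  obtain ⟨n, hn⟩ := hnil _ hX
  change SGA6.mapSub R Q P hR (g (KZero.clSub P X)) = KZero.clSub P X
  rw [liftSub_clSub _ _ hX, hf hX hn]
  clear hf hleft g
  induction n generalizing X with
  | zero => rw [fN, map_zero, clSub_zero hn hX]
  | succ n ih =>
    have := hunit _ hX
    have hs : (ShortComplex.mk (kernel.ι (eta adj X)) (eta adj X)
        (kernel.condition _)).ShortExact :=
      { exact := ShortComplex.exact_of_f_is_kernel _ (kernelIsKernel _)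
        mono_f := inferInstance
        epi_g := inferInstanceAs (Epi (eta adj X)) }
    have hTX := prop_T adj P Q hPker hL hR hX
    have e := clSub_rel (P := P) _ hs hTX hX (hR _ (hL _ hX))
    simp only at e
    rw [fN, map_add, hmap (hL _ hX), ih _ hTX hn]
    refine Eq.trans ?_ e.symm
    exact add_comm _ _

end Groth.KTheory.DevissageAdj
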