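import Groth.Prelude.Def_DerCA
import Mathlib.CategoryTheory.Triangulated.Triangulated
import Mathlib.CategoryTheory.Triangulated.Basic

/-!
# Essentially constant inverse systems in a triangulated category
-/

set_option autoImplicit false
universe v u

open CategoryTheory CategoryTheory.Limits CategoryTheory.Pretriangulated Opposite

namespace Groth.EssConstTriangle

variable {D : Type u} [Category.{v} D] [Preadditive D] [HasZeroObject D] [HasShift D ℤ]
  [∀ n : ℤ, (shiftFunctor D n).Additive] [Pretriangulated D]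

theorem tr_tr (X : ARSys.PS D) {a b c : ℕ} (h₁ : a ≤ b) (h₂ : b ≤ c) :
    ARSys.tr X h₂ ≫ ARSys.tr X h₁ = ARSys.tr X (h₁.trans h₂) := by
  rw [ARSys.tr, ARSys.tr, ARSys.tr, ← Functor.map_comp]
  rfl

theorem cone_tr {X : ARSys.PS D} {A : D} (c : (Functor.const ℕᵒᵖ).obj A ⟶ X) {a b : ℕ} (h : a ≤ b) :
    c.app (op b) ≫ ARSys.tr X h = c.app (op a) := by
  have := c.naturality (homOfLE h).op
  simpa using this.symm

theorem nat_tr {X Y : ARSys.PS D} (f : X ⟶ Y) {a b : ℕ} (h : a ≤ b) :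
    ARSys.tr X h ≫ f.app (op a) = f.app (op b) ≫ ARSys.tr Y h :=
  f.naturality (homOfLE h).op

/-- The level witnessing essential constancy may be raised. -/
theorem exists_data {X : ARSys.PS D} {A : D} {c : (Functor.const ℕᵒᵖ).obj A ⟶ X}
    (h : DerCA.IsEssConstant X A c) :
    ∃ i₀ : ℕ, ∀ (i : ℕ), i₀ ≤ i → ∃ s : X.obj (op i) ⟶ A, c.app (op i) ≫ s = 𝟙 A ∧
      ∀ j : ℕ, ∃ k₀ : ℕ, i ≤ k₀ ∧ j ≤ k₀ ∧ ∀ k, k₀ ≤ k → ∀ (hi : i ≤ k) (hj : j ≤ k),
        ARSys.tr X hj = ARSys.tr X hi ≫ s ≫ c.app (op j) := by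
  obtain ⟨i₀, s, hs, hk⟩ := h
  refine ⟨i₀, fun i hi => ⟨ARSys.tr X hi ≫ s, by rw [← Category.assoc, cone_tr c hi, hs],
    fun j => ?_⟩⟩
  obtain ⟨k, hik, hjk, e⟩ := hk j
  refine ⟨max i k, le_max_left _ _, hjk.trans (le_max_right _ _), fun l hl hil hjl => ?_⟩
  have hkl : k ≤ l := (le_max_right _ _).trans hl
  rw [← tr_tr X hjk hkl, e, ← Category.assoc, tr_tr, Category.assoc, ← Category.assoc (ARSys.tr X hil),
    tr_tr]

theorem exists_two_of_three (X Y Z : ARSys.PS D) (f : X ⟶ Y) (g : Y ⟶ Z)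
    (h : Z ⟶ X ⋙ shiftFunctor D (1 : ℤ))
    (hT : ∀ n : ℕ, Triangle.mk (f.app (op n)) (g.app (op n)) (h.app (op n)) ∈ distTriang D)
    (hX : ∃ (A : D) (cA : (Functor.const ℕᵒᵖ).obj A ⟶ X), DerCA.IsEssConstant X A cA)
    (hZ : ∃ (C : D) (cC : (Functor.const ℕᵒᵖ).obj C ⟶ Z), DerCA.IsEssConstant Z C cC) :
    ∃ (B : D) (cB : (Functor.const ℕᵒᵖ).obj B ⟶ Y), DerCA.IsEssConstant Y B cB := by
  obtain ⟨A, cA, hA⟩ := hX
  obtain ⟨C, cC, hC⟩ := hZ
  obtain ⟨a, ha⟩ := exists_data hA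
  obtain ⟨b, hb⟩ := exists_data hC
  let i₀ := max a b
  obtain ⟨sX₀, hsX₀, -⟩ := ha i₀ (le_max_left _ _)
  obtain ⟨sZ₀, hsZ₀, hkZ₀⟩ := hb i₀ (le_max_right _ _)
  obtain ⟨i, hi, -, hiZ⟩ := hkZ₀ i₀
  have hi' := hiZ i le_rfl hi hi
  let sX : X.obj (op i) ⟶ A := ARSys.tr X hi ≫ sX₀
  let sZ : Z.obj (op i) ⟶ C := ARSys.tr Z hi ≫ sZ₀
  let δ : C ⟶ A⟦(1 : ℤ)⟧ := cC.app (op i₀) ≫ h.app (op i₀) ≫ sX₀⟦(1 : ℤ)⟧'
  have hsX : cA.app (op i) ≫ sX = 𝟙 A := by rw [← Category.assoc, cone_tr cA hi, hsX₀]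
  have hsZ : cC.app (op i) ≫ sZ = 𝟙 C := by rw [← Category.assoc, cone_tr cC hi, hsZ₀]
  have natH : ∀ {p q : ℕ} (hpq : p ≤ q),
      h.app (op q) ≫ (ARSys.tr X hpq)⟦(1 : ℤ)⟧' = ARSys.tr Z hpq ≫ h.app (op p) :=
    fun hpq => (nat_tr h hpq).symm
  have hu₃ : sZ ≫ δ = h.app (op i) ≫ sX⟦(1 : ℤ)⟧' := by
    dsimp only [sX, sZ, δ]
    conv_rhs => rw [Functor.map_comp, ← Category.assoc (h.app (op i)), natH, hi']
    simp only [Category.assoc]
  -- the factorisations of the transition maps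
  have kX : ∀ j : ℕ, ∃ k₀ : ℕ, i ≤ k₀ ∧ j ≤ k₀ ∧ ∀ k, k₀ ≤ k → ∀ (hik : i ≤ k) (hjk : j ≤ k),
      ARSys.tr X hjk = ARSys.tr X hik ≫ sX ≫ cA.app (op j) := by
    obtain ⟨a', s', hs', hk'⟩ := hA
    intro j
    obtain ⟨k, h₁, h₂, e⟩ := hk' j
    obtain ⟨k', h₁', h₂', e'⟩ := hk' i
    refine ⟨max i (max j (max k k')), le_max_left _ _,
      (le_max_left _ _).trans (le_max_right _ _), fun l hl hil hjl => ?_⟩
    have hkl : k ≤ l := le_trans (le_trans (le_max_left _ _) (le_trans (le_max_right _ _) (le_max_right _ _))) hl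
    have hkl' : k' ≤ l := le_trans (le_trans (le_max_right _ _) (le_trans (le_max_right _ _) (le_max_right _ _))) hl
    rw [← tr_tr X h₂' hkl', e', ← tr_tr X h₂ hkl, e]
    simp only [Category.assoc, reassoc_of% hsX]
    rw [← Category.assoc, tr_tr, ← Category.assoc (ARSys.tr X hkl'), tr_tr]
    exact congrArg (_ ≫ ·) (congrArg (_ ≫ ·) (Category.id_comp (cA.app (op j))).symm)
  have kZ : ∀ j : ℕ, ∃ k₀ : ℕ, i ≤ k₀ ∧ j ≤ k₀ ∧ ∀ k, k₀ ≤ k → ∀ (hik : i ≤ k) (hjk : j ≤ k),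
      ARSys.tr Z hjk = ARSys.tr Z hik ≫ sZ ≫ cC.app (op j) := by
    intro j
    obtain ⟨k, h₁, h₂, e⟩ := hkZ₀ j
    refine ⟨max i k, le_max_left _ _, h₂.trans (le_max_right _ _), fun l hl hil hjl => ?_⟩
    rw [e l ((le_max_right _ _).trans hl) (hi.trans hil) hjl, Category.assoc, ← tr_tr Z hi hil,
      Category.assoc]
  choose K hKi hKj hK using fun j => (show ∃ k₀ : ℕ, i ≤ k₀ ∧ j ≤ k₀ ∧ ∀ k, k₀ ≤ k →
      ∀ (hik : i ≤ k) (hjk : j ≤ k), ARSys.tr X hjk = ARSys.tr X hik ≫ sX ≫ cA.app (op j) ∧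
        ARSys.tr Z hjk = ARSys.tr Z hik ≫ sZ ≫ cC.app (op j) by
    obtain ⟨k, h₁, h₂, e⟩ := kX j
    obtain ⟨k', h₁', h₂', e'⟩ := kZ j
    exact ⟨max k k', h₁.trans (le_max_left _ _), h₂.trans (le_max_left _ _), fun l hl hil hjl =>
      ⟨e l ((le_max_left _ _).trans hl) hil hjl, e' l ((le_max_right _ _).trans hl) hil hjl⟩⟩)
  have hv₃ : ∀ m, δ ≫ (cA.app (op m))⟦(1 : ℤ)⟧' = cC.app (op m) ≫ h.app (op m) := by
    intro m
    have hk := (hK m (K m) le_rfl (hKi m) (hKj m)).1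
    have e2 : cC.app (op (K m)) ≫ h.app (op (K m)) ≫ (ARSys.tr X (hKi m) ≫ sX)⟦(1 : ℤ)⟧' = δ := by
      dsimp only [sX, δ]
      rw [← Category.assoc (ARSys.tr X (hKi m)), tr_tr, Functor.map_comp,
        ← Category.assoc (h.app (op (K m))), natH, Category.assoc, ← Category.assoc (cC.app (op (K m))),
        cone_tr]
    rw [← e2, ← cone_tr cC (hKj m), Category.assoc (cC.app (op (K m))) (ARSys.tr Z (hKj m)), ← natH,
      hk, Category.assoc, Category.assoc, ← Functor.map_comp, Category.assoc]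
  obtain ⟨B, fB, gB, hB⟩ := distinguished_cocone_triangle₂ δ
  obtain ⟨u, hu₁, hu₂⟩ : ∃ u : Y.obj (op i) ⟶ B, f.app (op i) ≫ u = sX ≫ fB ∧
      g.app (op i) ≫ sZ = u ≫ gB :=
    complete_distinguished_triangle_morphism₂ _ _ (hT i) hB sX sZ hu₃.symm
  -- maps from `B`, normalised at level `i`
  have hv : ∀ m : ℕ, ∀ him : i ≤ m, ∃ v : B ⟶ Y.obj (op m), fB ≫ v = cA.app (op m) ≫ f.app (op m) ∧
      v ≫ g.app (op m) = gB ≫ cC.app (op m) ∧ v ≫ ARSys.tr Y him ≫ u = 𝟙 B := by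
    intro m him
    obtain ⟨v, hv₁, hv₂⟩ : ∃ v : B ⟶ Y.obj (op m), fB ≫ v = cA.app (op m) ≫ f.app (op m) ∧
        gB ≫ cC.app (op m) = v ≫ g.app (op m) :=
      complete_distinguished_triangle_morphism₂ _ _ hB (hT m) (cA.app (op m)) (cC.app (op m)) (hv₃ m)
    let θ : B ⟶ B := v ≫ ARSys.tr Y him ≫ u
    have hθ₁ : fB ≫ θ = fB := by
      dsimp only [θ]
      rw [← Category.assoc, hv₁, Category.assoc, ← Category.assoc (f.app (op m)), ← nat_tr f him,
        Category.assoc, hu₁, ← Category.assoc, cone_tr, reassoc_of% hsX]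
      exact Category.id_comp fB
    have hθ₂ : θ ≫ gB = gB := by
      dsimp only [θ]
      rw [Category.assoc, Category.assoc, ← hu₂, ← Category.assoc (ARSys.tr Y him),
        nat_tr g him, Category.assoc, ← Category.assoc v, ← hv₂, Category.assoc,
        ← Category.assoc (cC.app (op m)), cone_tr, hsZ, Category.comp_id]
    let φ : Triangle.mk fB gB δ ⟶ Triangle.mk fB gB δ :=
      { hom₁ := 𝟙 A
        hom₂ := θ
        hom₃ := 𝟙 C
        comm₁ := hθ₁.trans (Category.id_comp fB).symm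
        comm₂ := (Category.comp_id gB).trans hθ₂.symm
        comm₃ := (congrArg (δ ≫ ·) ((shiftFunctor D (1 : ℤ)).map_id A)).trans
          ((Category.comp_id δ).trans (Category.id_comp δ).symm) }
    have hθiso : IsIso θ :=
      isIso₂_of_isIso₁₃ φ hB hB (inferInstanceAs (IsIso (𝟙 A))) (inferInstanceAs (IsIso (𝟙 C)))
    refine ⟨inv θ ≫ v, ?_, ?_, ?_⟩
    · have : fB ≫ inv θ = fB := by rw [IsIso.comp_inv_eq, hθ₁]
      rw [reassoc_of% this, hv₁]
    · have : inv θ ≫ gB = gB := by rw [IsIso.inv_comp_eq, hθ₂]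
      rw [Category.assoc, ← hv₂, reassoc_of% this]
    · rw [Category.assoc]
      exact IsIso.inv_hom_id θ
  choose v hv₁ hv₂ hv₄ using hv
  let w : ∀ j, B ⟶ Y.obj (op j) := fun j => v (K j) (hKi j) ≫ ARSys.tr Y (hKj j)
  -- independence of the level
  have key : ∀ (j m : ℕ) (hjm : K j ≤ m) (him : i ≤ m),
      v m him ≫ ARSys.tr Y ((hKj j).trans hjm) = w j := by
    intro j m hjm him
    let d : B ⟶ Y.obj (op (K j)) := v m him ≫ ARSys.tr Y hjm - v (K j) (hKi j)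
    have hdg : d ≫ g.app (op (K j)) = 0 := by
      simp only [d, Preadditive.sub_comp, Category.assoc]
      rw [nat_tr g hjm, ← Category.assoc, hv₂, hv₂, Category.assoc, cone_tr, sub_self]
    obtain ⟨y, hy⟩ : ∃ y : B ⟶ X.obj (op (K j)), d = y ≫ f.app (op (K j)) :=
      Triangle.coyoneda_exact₂ _ (hT (K j)) d hdg
    obtain ⟨ex, -⟩ := hK j (K j) le_rfl (hKi j) (hKj j)
    let z : B ⟶ A := y ≫ ARSys.tr X (hKi j) ≫ sX
    have hz : z ≫ fB = 0 := by
      have e : d ≫ ARSys.tr Y (hKi j) ≫ u = 0 := by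
        simp only [d, Preadditive.sub_comp, Category.assoc]
        rw [← Category.assoc (ARSys.tr Y hjm), tr_tr, hv₄, hv₄, sub_self]
      rw [hy, Category.assoc, ← Category.assoc (f.app (op (K j))), ← nat_tr f (hKi j), Category.assoc,
        hu₁] at e
      simpa [z, Category.assoc] using e
    have hd : d ≫ ARSys.tr Y (hKj j) = 0 := by
      rw [hy, Category.assoc, ← nat_tr f (hKj j), ex]
      have e : cA.app (op j) ≫ f.app (op j) = fB ≫ w j := by
        simp only [w]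
        rw [← Category.assoc, hv₁, Category.assoc, ← nat_tr f (hKj j), ← Category.assoc, cone_tr]
      simp only [Category.assoc, e]
      simpa [z, Category.assoc] using hz =≫ w j
    simp only [d, Preadditive.sub_comp, Category.assoc, sub_eq_zero] at hd
    rw [tr_tr] at hd
    exact hd
  let cB : (Functor.const ℕᵒᵖ).obj B ⟶ Y :=
    { app := fun j => w j.unop
      naturality := by
        rintro ⟨q⟩ ⟨p⟩ φ
        have hφ : φ = (homOfLE (leOfHom φ.unop)).op := Subsingleton.elim _ _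
        rw [hφ]
        change 𝟙 B ≫ w p = w q ≫ ARSys.tr Y (leOfHom φ.unop)
        rw [Category.id_comp, ← key p (max (K p) (K q)) (le_max_left _ _) ((hKi p).trans (le_max_left _ _)),
          ← key q (max (K p) (K q)) (le_max_right _ _) ((hKi p).trans (le_max_left _ _)), Category.assoc,
          tr_tr] }
  have hwi : ∀ (k : ℕ) (hik : i ≤ k), w k ≫ ARSys.tr Y hik ≫ u = 𝟙 B := by
    intro k hik
    simp only [w, Category.assoc]
    rw [← Category.assoc (ARSys.tr Y (hKj k)), tr_tr, hv₄]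
  refine ⟨B, cB, i, u, ?_, fun j => ?_⟩
  · have := hwi i le_rfl
    change w i ≫ u = 𝟙 B
    rwa [show ARSys.tr Y (le_refl i) = 𝟙 _ from Y.map_id _, Category.id_comp] at this
  · let k := K j
    let l := K k
    have hl : i ≤ l := hKi k
    have hwf : ∀ p, fB ≫ w p = cA.app (op p) ≫ f.app (op p) ∧
        w p ≫ g.app (op p) = gB ≫ cC.app (op p) := by
      intro p
      simp only [w]
      constructor
      · rw [← Category.assoc, hv₁, Category.assoc, ← nat_tr f (hKj p), ← Category.assoc, cone_tr]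
      · rw [Category.assoc, nat_tr g (hKj p), ← Category.assoc, hv₂, Category.assoc, cone_tr]
    let D₁ := ARSys.tr Y (hKj k) - ARSys.tr Y hl ≫ u ≫ w k
    let D₂ := ARSys.tr Y (hKj j) - ARSys.tr Y (hKi j) ≫ u ≫ w j
    have h₁ : D₁ ≫ g.app (op k) = 0 := by
      obtain ⟨-, ez⟩ := hK k l le_rfl hl (hKj k)
      simp only [D₁, Preadditive.sub_comp, Category.assoc]
      rw [nat_tr g (hKj k), ez, (hwf k).2, ← reassoc_of% hu₂, ← reassoc_of% (nat_tr g hl), sub_self]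
    have h₂ : f.app (op k) ≫ D₂ = 0 := by
      obtain ⟨ex, -⟩ := hK j k le_rfl (hKi j) (hKj j)
      simp only [D₂, Preadditive.comp_sub]
      rw [← nat_tr f (hKj j), ex, ← Category.assoc (f.app (op k)), ← nat_tr f (hKi j)]
      simp only [Category.assoc, reassoc_of% hu₁, (hwf j).1, sub_self]
    obtain ⟨y, hy⟩ : ∃ y, D₁ = y ≫ f.app (op k) := Triangle.coyoneda_exact₂ _ (hT k) D₁ h₁
    refine ⟨l, hl, (hKj j).trans (hKj k), ?_⟩
    have h0 : D₁ ≫ D₂ = 0 := by rw [hy, Category.assoc, h₂, comp_zero]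
    simp only [D₁, D₂, Preadditive.sub_comp, Preadditive.comp_sub, Category.assoc] at h0
    rw [tr_tr, ← Category.assoc (ARSys.tr Y (hKj k)), tr_tr, reassoc_of% (hwi k (hKi j))] at h0
    have e : w k ≫ ARSys.tr Y (hKj j) = w j := by
      have := cB.naturality (homOfLE (hKj j)).op
      change 𝟙 B ≫ w j = w k ≫ ARSys.tr Y (hKj j) at this
      rw [Category.id_comp] at this
      exact this.symm
    rw [e, sub_self, sub_zero, sub_eq_zero] at h0
    exact h0

theorem exists_decomposition (X : ARSys.PS D) (A : D) (c : (Functor.const ℕᵒᵖ).obj A ⟶ X)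
    (hX : DerCA.IsEssConstant X A c) [HasBinaryBiproducts D] :
    ∃ (i : ℕ) (Z : ℕ → D) (e : ∀ j : ℕ, X.obj (op (i + j)) ≅ A ⊞ Z j)
      (z : ∀ j k : ℕ, j ≤ k → (Z k ⟶ Z j)),
      (∀ j : ℕ, c.app (op (i + j)) ≫ (e j).hom = biprod.inl) ∧
      (∀ (j k : ℕ) (hjk : j ≤ k), (e k).inv ≫ ARSys.tr X (Nat.add_le_add_left hjk i) =
        biprod.map (𝟙 A) (z j k hjk) ≫ (e j).inv) ∧
      (∀ j : ℕ, ∃ (k : ℕ) (hjk : j ≤ k), z j k hjk = 0) := by
  obtain ⟨i, s, hs, hk⟩ := hX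
  let r : ∀ j, X.obj (op (i + j)) ⟶ A := fun j => ARSys.tr X (Nat.le_add_right i j) ≫ s
  have hr : ∀ j, c.app (op (i + j)) ≫ r j = 𝟙 A := fun j => by
    rw [← Category.assoc, cone_tr, hs]
  have hsplit : ∀ j, ∃ (Z : D) (g : X.obj (op (i + j)) ⟶ Z) (φ : Z ⟶ X.obj (op (i + j))),
      φ ≫ g = 𝟙 Z ∧ φ ≫ r j = 0 ∧ c.app (op (i + j)) ≫ g = 0 ∧
        r j ≫ c.app (op (i + j)) + g ≫ φ = 𝟙 _ := by
    intro j
    obtain ⟨Z, g, h, hT⟩ := distinguished_cocone_triangle (c.app (op (i + j)))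
    have : Mono (Triangle.mk (c.app (op (i + j))) g h).mor₁ :=
      (IsSplitMono.mk' ⟨r j, hr j⟩).mono
    have h0 : h = 0 := (Triangle.mor₃_eq_zero_iff_mono₁ _ hT).2 this
    have : Epi g := (Triangle.mor₃_eq_zero_iff_epi₂ _ hT).1 h0
    have hcg : c.app (op (i + j)) ≫ g = 0 := comp_distTriang_mor_zero₁₂ _ hT
    obtain ⟨φ, hφ⟩ : ∃ φ : Z ⟶ X.obj (op (i + j)), 𝟙 _ - r j ≫ c.app (op (i + j)) = g ≫ φ :=
      Triangle.yoneda_exact₂ _ hT (𝟙 _ - r j ≫ c.app (op (i + j))) (by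
        change c.app (op (i + j)) ≫ (_ - _) = 0
        rw [Preadditive.comp_sub, reassoc_of% (hr j)]
        simp)
    refine ⟨Z, g, φ, ?_, ?_, hcg, by rw [← hφ]; abel⟩
    · rw [← cancel_epi g, ← Category.assoc, ← hφ, Preadditive.sub_comp, Category.assoc, hcg,
        comp_zero, sub_zero, Category.id_comp, Category.comp_id]
    · rw [← cancel_epi g, ← Category.assoc, ← hφ, Preadditive.sub_comp, Category.assoc, hr,
        Category.comp_id, Category.id_comp, sub_self, comp_zero]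
  choose Z g φ hφg hφr hcg htot using hsplit
  refine ⟨i, Z, fun j =>
    { hom := biprod.lift (r j) (g j)
      inv := biprod.desc (c.app (op (i + j))) (φ j)
      hom_inv_id := by rw [biprod.lift_desc, htot]
      inv_hom_id := by
        apply biprod.hom_ext'
        · rw [biprod.inl_desc_assoc, Category.comp_id]
          apply biprod.hom_ext <;> simp [hr, hcg]
        · rw [biprod.inr_desc_assoc, Category.comp_id]
          apply biprod.hom_ext <;> simp [hφg, hφr] },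
    fun j k hjk => φ k ≫ ARSys.tr X (Nat.add_le_add_left hjk i) ≫ g j, fun j => ?_,
    fun j k hjk => ?_, fun j => ?_⟩
  · apply biprod.hom_ext <;> simp [hr, hcg]
  · apply biprod.hom_ext'
    · simp [cone_tr]
    · have e : φ k ≫ ARSys.tr X (Nat.add_le_add_left hjk i) ≫ r j = 0 := by
        simp only [r]
        rw [← Category.assoc (ARSys.tr X _), tr_tr]
        exact hφr k
      simp only [biprod.inr_desc_assoc, biprod.inr_map_assoc, biprod.inr_desc, Category.assoc]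
      conv_lhs => rw [← Category.comp_id (ARSys.tr X (Nat.add_le_add_left hjk i)), ← htot j]
      simp only [Preadditive.comp_add]
      rw [reassoc_of% e, zero_comp, zero_add]
  · obtain ⟨k, hik, hjk, e⟩ := hk (i + j)
    refine ⟨k, by omega, ?_⟩
    have hkk : k ≤ i + k := Nat.le_add_left k i
    have e' : ARSys.tr X (Nat.add_le_add_left (show j ≤ k by omega) i) = r k ≫ c.app (op (i + j)) := by
      simp only [r]
      rw [← tr_tr X hjk hkk, e, ← Category.assoc, tr_tr, ← Category.assoc]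
    dsimp only
    rw [e', Category.assoc, hcg, comp_zero, comp_zero]

end Groth.EssConstTriangle
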