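import Mathlib.Algebra.Homology.HomotopyCategory.KProjective
import Mathlib.RingTheory.Spectrum.Prime.FreeLocus
import Mathlib.Algebra.Homology.ShortComplex.ModuleCat
import Mathlib.RingTheory.LocalRing.ResidueField.Basic
import Mathlib.Algebra.Category.ModuleCat.Projective
import Mathlib.LinearAlgebra.FiniteDimensional.Lemmas
import Mathlib.Data.Int.Interval
import Mathlib.Algebra.Ring.NegOnePow

/-!
# Euler characteristics of exact complexes over local rings
-/

set_option autoImplicit false
universe u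
open CategoryTheory CategoryTheory.Limits TensorProduct

namespace Groth.Agent.EulerLocal

lemma telescope (f : ℤ → ℤ) (a : ℤ) : ∀ n : ℕ,
    (Finset.Icc a (a + n)).sum (fun i => f i - f (i - 1)) = f (a + n) - f (a - 1) := by
  intro n
  induction n with
  | zero => simp
  | succ n ih =>
    have : Finset.Icc a (a + (n + 1 : ℕ)) = insert (a + (n + 1 : ℕ)) (Finset.Icc a (a + n)) := by
      ext x; simp only [Finset.mem_Icc, Finset.mem_insert]; omega
    rw [this, Finset.sum_insert (by simp), ih,
      show a + ((n + 1 : ℕ) : ℤ) - 1 = a + (n : ℤ) by omega]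
    ring

/-- A bounded exact complex of finite-dimensional vector spaces has Euler characteristic zero. -/
lemma sum_eq_zero_field {k : Type u} [Field k] (V : ℤ → Type u) [∀ i, AddCommGroup (V i)]
    [∀ i, Module k (V i)] [∀ i, Module.Finite k (V i)] (D : ∀ i, V i →ₗ[k] V (i + 1))
    (hex : ∀ i, Function.Exact (D i) (D (i + 1))) (s : Finset ℤ)
    (hs : ∀ i, i ∉ s → Module.finrank k (V i) = 0) :
    (s.sum fun i => ((i.negOnePow : ℤˣ) : ℤ) * (Module.finrank k (V i) : ℤ)) = 0 := by
  let r : ℤ → ℕ := fun i => Module.finrank k (LinearMap.range (D i))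
  have hr : ∀ i, Module.finrank k (V i) = 0 → r i = 0 := fun i h =>
    Nat.le_zero.1 (h ▸ LinearMap.finrank_range_le (D i))
  have hsplit : ∀ i, Module.finrank k (V i) = r i + r (i - 1) := fun i => by
    obtain ⟨j, rfl⟩ : ∃ j, i = j + 1 := ⟨i - 1, by omega⟩
    have h2 := LinearMap.finrank_range_add_finrank_ker (D (j + 1))
    rw [(LinearMap.exact_iff.1 (hex j) :)] at h2
    rw [show j + 1 - 1 = j by omega]
    exact h2.symm
  obtain ⟨a, n, hsub⟩ : ∃ (a : ℤ) (n : ℕ), ∀ i ∈ s, a < i ∧ i < a + n := by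
    refine ⟨-((s.sup fun i => i.natAbs + 1 : ℕ) : ℤ), 2 * s.sup fun i => i.natAbs + 1, fun i hi => ?_⟩
    have := Finset.le_sup (f := fun i : ℤ => i.natAbs + 1) hi
    omega
  rw [Finset.sum_subset (s₂ := Finset.Icc a (a + n)) (fun i hi => Finset.mem_Icc.2 ⟨(hsub i hi).1.le, (hsub i hi).2.le⟩)
    (fun i _ hi => by simp [hs i hi]),
    Finset.sum_congr rfl (g := fun i => (((i.negOnePow : ℤˣ) : ℤ) * r i) - ((((i - 1).negOnePow : ℤˣ) : ℤ) * r (i - 1))),
    telescope (fun i => ((i.negOnePow : ℤˣ) : ℤ) * r i)]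
  · rw [hr (a + n) (hs _ fun h => by have := (hsub _ h).2; omega),
      hr (a - 1) (hs _ fun h => by have := (hsub _ h).1; omega)]
    simp
  · intro i _
    rw [hsplit i, Int.negOnePow_sub, Int.negOnePow_one]
    push_cast
    ring

/-- A bounded exact complex of finite free modules over a local ring has Euler characteristic zero. -/
theorem sum_eq_zero_local {R : Type u} [CommRing R] [IsLocalRing R] (M : ℤ → Type u)
    [∀ i, AddCommGroup (M i)] [∀ i, Module R (M i)] [∀ i, Module.Finite R (M i)] [∀ i, Module.Free R (M i)]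
    (D : ∀ i, M i →ₗ[R] M (i + 1))
    (hex : ∀ i, Function.Exact (D i) (D (i + 1))) (s : Finset ℤ) (hs : ∀ i, i ∉ s → Subsingleton (M i)) :
    (s.sum fun i => ((i.negOnePow : ℤˣ) : ℤ) * (Module.finrank R (M i) : ℤ)) = 0 := by
  let C : CochainComplex (ModuleCat.{u} R) ℤ :=
    CochainComplex.of (fun i => ModuleCat.of R (M i)) (fun i => ModuleCat.ofHom (D i))
      (fun i => ModuleCat.hom_ext ((hex i).linearMap_comp_eq_zero))
  have hd : ∀ i, C.d i (i + 1) = ModuleCat.ofHom (D i) := fun i => by simp [C]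
  have hA : C.Acyclic := fun i => by
    obtain ⟨j, rfl⟩ : ∃ j, i = j + 1 := ⟨i - 1, by omega⟩
    rw [HomologicalComplex.exactAt_iff' _ j (j + 1) (j + 1 + 1) (by simp) (by simp),
      ShortComplex.moduleCat_exact_iff]
    intro x hx
    change C.d (j + 1) (j + 1 + 1) x = 0 at hx
    change ∃ w, C.d j (j + 1) w = x
    rw [hd] at hx ⊢
    exact (hex j x).1 hx
  have : ∀ i, Projective (C.X i) := fun i => inferInstanceAs (Projective (ModuleCat.of R (M i)))
  obtain ⟨b, hb⟩ : ∃ b : ℤ, ∀ i ∈ s, i ≤ b := ⟨((s.sup fun i => i.natAbs : ℕ) : ℤ), fun i hi => by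
    have := Finset.le_sup (f := fun i : ℤ => i.natAbs) hi
    omega⟩
  have : C.IsStrictlyLE b := (CochainComplex.isStrictlyLE_iff _ _).2 fun i hi =>
    @ModuleCat.isZero_of_subsingleton _ _ _ (hs i fun h => absurd (hb i h) (by omega))
  have := CochainComplex.isKProjective_of_projective C b
  let H := CochainComplex.IsKProjective.homotopyZero (𝟙 C) hA
  let k := IsLocalRing.ResidueField R
  let V := fun i => k ⊗[R] M i
  let DV : ∀ i, V i →ₗ[k] V (i + 1) := fun i => (D i).baseChange k
  have key : ∀ j, ∀ x, ∃ y z, x = DV j y + z ∧ (DV (j + 1) x = 0 → z = 0) := by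
    intro j x
    let h₁ : M (j + 1) →ₗ[R] M j := (H.hom (j + 1) j).hom
    let h₂ : M (j + 1 + 1) →ₗ[R] M (j + 1) := (H.hom (j + 1 + 1) (j + 1)).hom
    have hc : LinearMap.id = D j ∘ₗ h₁ + h₂ ∘ₗ D (j + 1) := by
      have := congrArg ModuleCat.Hom.hom (H.comm (j + 1))
      rw [dNext_eq _ (show (ComplexShape.up ℤ).Rel (j + 1) (j + 1 + 1) from rfl),
        prevD_eq _ (show (ComplexShape.up ℤ).Rel j (j + 1) from rfl), hd, hd] at this
      simp only [HomologicalComplex.id_f, HomologicalComplex.zero_f, add_zero, ModuleCat.hom_id,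
        ModuleCat.hom_add, ModuleCat.hom_comp, ModuleCat.hom_ofHom] at this
      exact this.trans (add_comm _ _)
    refine ⟨h₁.baseChange k x, h₂.baseChange k (DV (j + 1) x), ?_, fun h => by rw [h, map_zero]⟩
    have h' := congrArg (LinearMap.baseChange k) hc
    rw [LinearMap.baseChange_add, LinearMap.baseChange_comp, LinearMap.baseChange_comp,
      LinearMap.baseChange_id] at h'
    exact LinearMap.congr_fun h' x
  have hexV : ∀ i, Function.Exact (DV i) (DV (i + 1)) := fun i x => by
    constructor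
    · intro hx
      obtain ⟨y, z, hxy, hz⟩ := key i x
      exact ⟨y, by rw [hxy, hz hx, add_zero]⟩
    · rintro ⟨y, rfl⟩
      change ((D (i + 1)).baseChange k ∘ₗ (D i).baseChange k) y = 0
      rw [← LinearMap.baseChange_comp, (hex i).linearMap_comp_eq_zero, LinearMap.baseChange_zero,
        LinearMap.zero_apply]
  have hrk : ∀ i, Module.finrank k (V i) = Module.finrank R (M i) := fun i => Module.finrank_baseChange
  have := sum_eq_zero_field V DV hexV s (fun i hi => by
    have := hs i hi
    rw [hrk]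
    exact Module.finrank_zero_of_subsingleton)
  simpa only [hrk] using this

end Groth.Agent.EulerLocal
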