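import Groth.Agent.KTheory.ExtFiltSheaf
import Groth.Agent.KTheory.LambdaVb
import Groth.Agent.KTheory.KvbModel
import Groth.Agent.LocFree.SES

/-!
# Exterior powers of an extension by a line bundle
-/

set_option autoImplicit false
set_option linter.style.haveILetI false
universe u

open CategoryTheory CategoryTheory.Limits AlgebraicGeometry TopologicalSpace TensorProduct exteriorPower

namespace Groth.KTheory.ExtFilt

section Algebra

variable {R : Type u} [CommRing R] {M' M M'' : Type u} [AddCommGroup M'] [Module R M']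
  [AddCommGroup M] [Module R M] [AddCommGroup M''] [Module R M'']
  {f : M' →ₗ[R] M} {g : M →ₗ[R] M''}

theorem mu_surjective_line (hf : Function.Injective f) (hfg : Function.Exact f g)
    (hg : Function.Surjective g) [Module.Projective R M'']
    (h2 : ∀ j, 2 ≤ j → Subsingleton (⋀[R]^j M'')) {n : ℕ} :
    ∀ (p q : ℕ) (h : p + q = n + 1), 1 ≤ q → Function.Surjective (mu f h)
  | 0, q, h, _ => mu_surjective h
  | p + 1, q, h, hq => fun x => by
    have h' : p + (q + 1) = n + 1 := by omega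
    obtain ⟨z, rfl⟩ := mu_surjective_line hf hfg hg h2 p (q + 1) h' (by omega) x
    haveI := h2 (q + 1) (by omega)
    haveI : Subsingleton ((⋀[R]^p M') ⊗[R] (⋀[R]^(q + 1) M'')) :=
      subsingleton_of_forall_eq 0 fun y => by
        induction y using TensorProduct.induction_on with
        | zero => rfl
        | add a b ha hb => rw [ha, hb, add_zero]
        | tmul a b => rw [Subsingleton.elim b 0, TensorProduct.tmul_zero]
    exact mu_mem_range_succ hf hfg hg h' h (Subsingleton.elim _ _)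

end Algebra

open Groth.PicAux Groth.LocFree
open Groth.QCohMod (appₗ)

variable {X : Scheme.{u}}

/-- `0 → ⋀ⁿ⁺¹ K → ⋀ⁿ⁺¹ E → ⋀ⁿ K ⊗ L → 0` for an extension of a line bundle `L` by `K`. -/
theorem exists_shortExact_line (S : ShortComplex X.Modules) (hS : S.ShortExact)
    (h₁ : FlatMod.IsFinLocFree S.X₁) (h₂ : FlatMod.IsFinLocFree S.X₂)
    (h₃ : FlatMod.IsFinLocFreeOfRank 1 S.X₃) (n : ℕ) :
    ∃ (a : extPow (n + 1) S.X₁ ⟶ extPow (n + 1) S.X₂)
      (b : extPow (n + 1) S.X₂ ⟶ CohB1.tensorMod (extPow n S.X₁) S.X₃) (w : a ≫ b = 0),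
      (ShortComplex.mk a b w).ShortExact := by
  have h₃' := isFinLocFree_of_rank h₃
  have := LocFree.isQCoh h₁
  have := LocFree.isQCoh h₂
  have := LocFree.isQCoh h₃'
  have hsub : ∀ (U : X.Opens), IsAffineOpen U → ∀ j, 2 ≤ j → Subsingleton (ESec j S.X₃ U) := by
    intro U hU j hj
    have h := isFinLocFreeOfRank_extPow h₃ j
    rw [Nat.choose_eq_zero_of_lt (by omega)] at h
    have hz := KvbModel.isZero_of_rank_zero h
    refine subsingleton_of_forall_eq 0 fun x => (extEquiv j S.X₃ hU).injective ?_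
    rw [map_zero]
    exact congr($(congrArg (fun φ : extPow j S.X₃ ⟶ _ => φ.app U) (hz.eq_of_src (𝟙 _) 0)) _)
  obtain ⟨φ, hφ⟩ := exists_phi S.f (show n + 1 = n + 1 from rfl)
  obtain ⟨φ₀, hφ₀⟩ := exists_phi S.f (show (n + 1) + 0 = n + 1 from rfl)
  obtain ⟨π, hπ⟩ := exists_piHom (A := S.X₁) S.g n 1
  have := isQCoh_extPow n S.X₁
  have := isQCoh_extPow (n + 1) S.X₁
  have := isQCoh_extPow 1 S.X₂
  have := isQCoh_extPow 0 S.X₂
  have := isQCoh_extPow 1 S.X₃
  have := isQCoh_extPow (n + 1) S.X₂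
  have := Groth.QCohMod.isQCoh_tensorMod (M := extPow n S.X₁) (N := extPow 1 S.X₂)
  have := Groth.QCohMod.isQCoh_tensorMod (M := extPow n S.X₁) (N := extPow 1 S.X₃)
  haveI : Epi φ := Groth.QCohMod.epi_of_affine_surjective φ fun U hU y => by
    have := Groth.LocFree.projective_sections h₃' hU
    obtain ⟨hi, he, hs⟩ := sections_exact hS hU
    obtain ⟨y, rfl⟩ := (extEquiv (n + 1) S.X₂ hU).surjective y
    obtain ⟨z, rfl⟩ := mu_surjective_line hi he hs (hsub U hU) n 1 rfl le_rfl y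
    exact ⟨_, hφ U hU z⟩
  have hke : kernel.ι φ ≫ π = 0 := hom_ext_affine fun U hU x => by
    have := Groth.LocFree.projective_sections h₃' hU
    obtain ⟨hi, he, hs⟩ := sections_exact hS hU
    obtain ⟨z, hz⟩ := (tau n 1 S.X₁ S.X₂ hU).surjective ((kernel.ι φ).app U x)
    have h0 : φ.app U ((kernel.ι φ).app U x) = 0 :=
      congr($(congrArg (fun ψ : kernel φ ⟶ _ => ψ.app U) (kernel.condition φ)) x)
    rw [← hz, hφ U hU, LinearEquiv.map_eq_zero_iff] at h0
    change π.app U ((kernel.ι φ).app U x) = 0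
    rw [← hz, hπ U hU, pi_eq_zero_of_mu hi he hs rfl h0, map_zero]
  let γ := Abelian.epiDesc φ π hke
  have hγ : ∀ (U : X.Opens) w, γ.app U (φ.app U w) = π.app U w := fun U w =>
    congr($(congrArg (fun ψ : CohB1.tensorMod (extPow n S.X₁) (extPow 1 S.X₂) ⟶
      CohB1.tensorMod (extPow n S.X₁) (extPow 1 S.X₃) => ψ.app U)
      (Abelian.comp_epiDesc φ π hke)) w)
  haveI : Epi γ := Groth.QCohMod.epi_of_affine_surjective γ fun U hU y => by
    obtain ⟨-, -, hs⟩ := sections_exact hS hU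
    obtain ⟨z, rfl⟩ := (tau n 1 S.X₁ S.X₃ hU).surjective y
    obtain ⟨w, rfl⟩ := LinearMap.lTensor_surjective (ESec n S.X₁ U)
      (exteriorPower.map_surjective (n := 1) hs) z
    exact ⟨φ.app U (tau n 1 S.X₁ S.X₂ hU w), (hγ U _).trans (hπ U hU w)⟩
  haveI : Mono φ₀ := by
    refine (Preadditive.mono_iff_cancel_zero _).2 fun P k hk => hom_ext_affine fun U hU x => ?_
    have := Groth.LocFree.projective_sections h₃' hU
    obtain ⟨hi, he, hs⟩ := sections_exact hS hU
    obtain ⟨z, hz⟩ := (tau (n + 1) 0 S.X₁ S.X₂ hU).surjective (k.app U x)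
    have h0 : φ₀.app U (k.app U x) = 0 := congr($(congrArg (fun ψ : P ⟶ _ => ψ.app U) hk) x)
    rw [← hz, hφ₀ U hU, LinearEquiv.map_eq_zero_iff] at h0
    have := eq_zero_of_pi_eq_zero hi he hs (pi_eq_zero_of_mu hi he hs rfl h0)
    rw [← hz, this, map_zero]
    rfl
  obtain ⟨ε⟩ := nonempty_iso_of_range_eq (kernel.ι γ) φ₀ fun U hU => by
    have := Groth.LocFree.projective_sections h₃' hU
    obtain ⟨hi, he, hs⟩ := sections_exact hS hU
    ext y
    constructor
    · rintro ⟨k, rfl⟩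
      obtain ⟨w, hw⟩ := Groth.QCohMod.app_surjective_of_epi φ hU ((kernel.ι γ).app U k)
      obtain ⟨z, rfl⟩ := (tau n 1 S.X₁ S.X₂ hU).surjective w
      have h0 : γ.app U ((kernel.ι γ).app U k) = 0 :=
        congr($(congrArg (fun ψ : kernel γ ⟶ _ => ψ.app U) (kernel.condition γ)) k)
      rw [← hw, hγ, hπ U hU, LinearEquiv.map_eq_zero_iff] at h0
      obtain ⟨z', hz'⟩ := mu_mem_range_succ hi he hs (show n + (0 + 1) = n + 1 from rfl)
        (show n + 1 + 0 = n + 1 from rfl) h0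
      refine ⟨tau (n + 1) 0 S.X₁ S.X₂ hU z', ?_⟩
      rw [← hw, hφ U hU, hφ₀ U hU, hz']
    · rintro ⟨x, rfl⟩
      obtain ⟨z', rfl⟩ := (tau (n + 1) 0 S.X₁ S.X₂ hU).surjective x
      obtain ⟨z, hz, hz'⟩ := exists_pi_eq_zero_mu_eq he (show n + (0 + 1) = n + 1 from rfl)
        (show n + 1 + 0 = n + 1 from rfl) z'
      have h0 : γ.app U (φ.app U (tau n 1 S.X₁ S.X₂ hU z)) = 0 := by
        rw [hγ, hπ U hU]
        exact (congrArg _ hz).trans (map_zero _)
      obtain ⟨k, hk⟩ := Groth.QCohMod.exists_app_eq_of_mono_exact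
        (S := ShortComplex.mk _ _ (kernel.condition γ))
        (ShortComplex.exact_of_f_is_kernel _ (kernelIsKernel γ)) U _ h0
      refine ⟨k, ?_⟩
      rw [show (kernel.ι γ).app U k = _ from hk, hφ U hU, hφ₀ U hU]
      exact congrArg _ hz'
  let e₁ : extPow (n + 1) S.X₁ ≅ kernel γ :=
    (SecTwist.unitorR (extPow (n + 1) S.X₁)).symm ≪≫
      PicGrp.tensorModIso (Iso.refl _) (LambdaVb.nonempty_extPow_zero S.X₂).some.symm ≪≫ ε.symm
  let e₃ : CohB1.tensorMod (extPow n S.X₁) S.X₃ ≅ CohB1.tensorMod (extPow n S.X₁) (extPow 1 S.X₃) :=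
    PicGrp.tensorModIso (Iso.refl _) (LambdaVb.nonempty_extPow_one S.X₃).some.symm
  refine ⟨e₁.hom ≫ kernel.ι γ, γ ≫ e₃.inv, by simp, ?_⟩
  exact ShortComplex.shortExact_of_iso
    (S₁ := ShortComplex.mk (kernel.ι γ) γ (kernel.condition γ))
    (ShortComplex.isoMk e₁.symm (Iso.refl _) e₃.symm (by simp) (by simp))
    { exact := ShortComplex.exact_of_f_is_kernel _ (kernelIsKernel γ)
      mono_f := inferInstance
      epi_g := inferInstance }

end Groth.KTheory.ExtFilt
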