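import Mathlib.CategoryTheory.Functor.Derived.PointwiseRightDerived
import Mathlib.CategoryTheory.Localization.CalculusOfFractions
import Mathlib.CategoryTheory.Localization.CalculusOfFractions.Fractions

/-!
# Right derived functors from a class of adapted objects
-/

set_option autoImplicit false
open CategoryTheory CategoryTheory.Limits

namespace Groth.Agent.GoodDerived

variable {C D H : Type*} [Category* C] [Category* D] [Category* H]
  (L : C ⥤ D) (W : MorphismProperty C) [L.IsLocalization W] [W.HasLeftCalculusOfFractions]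
  (F : C ⥤ H) (P : ObjectProperty C)
  (hres : ∀ X : C, ∃ (I : C) (s : X ⟶ I), P I ∧ W s)
  (hinv : ∀ ⦃I J : C⦄ (s : I ⟶ J), P I → P J → W s → IsIso (F.map s))

variable {I : C} (hI : P I)

/-- A left fraction with target in the adapted class representing a morphism. -/
structure Rep (j : CostructuredArrow L (L.obj I)) where
  /-- the target -/
  J : C
  /-- numerator -/
  f : j.left ⟶ J
  /-- denominator -/
  s : I ⟶ J
  hJ : P J
  hs : W s
  fac : L.map f = j.hom ≫ L.map s

include hres in
lemma nonempty_rep (j : CostructuredArrow L (L.obj I)) : Nonempty (Rep L W P j) := by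
  obtain ⟨φ, hφ⟩ := Localization.exists_leftFraction L W j.hom
  obtain ⟨J, t, hJ, ht⟩ := hres φ.Y'
  exact ⟨⟨J, φ.f ≫ t, φ.s ≫ t, hJ, W.comp_mem _ _ φ.hs ht, by
    rw [hφ, Functor.map_comp, Functor.map_comp, φ.map_comp_map_s_assoc]⟩⟩

variable {L W P} in
/-- The value of a representative. -/
noncomputable def Rep.val {j : CostructuredArrow L (L.obj I)} (r : Rep L W P j) : F.obj j.left ⟶ F.obj I :=
  have := hinv r.s hI r.hJ r.hs
  F.map r.f ≫ inv (F.map r.s)

include hres in
lemma val_eq {j : CostructuredArrow L (L.obj I)} (r r' : Rep L W P j) :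
    r.val F hinv hI = r'.val F hinv hI := by
  have := hinv r.s hI r.hJ r.hs
  have := hinv r'.s hI r'.hJ r'.hs
  let φ : W.LeftFraction j.left I := .mk r.f r.s r.hs
  let φ' : W.LeftFraction j.left I := .mk r'.f r'.s r'.hs
  have h : φ.map L (Localization.inverts L W) = φ'.map L (Localization.inverts L W) := by
    have h1 := Localization.inverts L W r.s r.hs
    have h2 := Localization.inverts L W r'.s r'.hs
    simp only [φ, φ', MorphismProperty.LeftFraction.map]
    rw [r.fac, r'.fac, Category.assoc, Category.assoc, IsIso.hom_inv_id, IsIso.hom_inv_id]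
  obtain ⟨Z, t₁, t₂, hst, hft, ht⟩ :=
    (MorphismProperty.LeftFraction.map_eq_iff L W φ φ').1 h
  obtain ⟨Z', u, hZ', hu⟩ := hres Z
  dsimp [φ, φ'] at hst hft ht
  have hm : IsIso (F.map (r.s ≫ t₁ ≫ u)) := hinv _ hI hZ' (by
    rw [← Category.assoc]; exact W.comp_mem _ _ ht hu)
  change F.map r.f ≫ inv (F.map r.s) = F.map r'.f ≫ inv (F.map r'.s)
  rw [← cancel_mono (F.map (r.s ≫ t₁ ≫ u))]
  conv_rhs => rw [reassoc_of% hst]
  simp only [Functor.map_comp, Category.assoc, IsIso.inv_hom_id_assoc]
  simp only [← Functor.map_comp, reassoc_of% hft]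

/-- The cocone computing the derived functor at an adapted object. -/
noncomputable def cocone : Cocone (CostructuredArrow.proj L (L.obj I) ⋙ F) where
  pt := F.obj I
  ι :=
    { app := fun j => (nonempty_rep L W P hres j).some.val F hinv hI
      naturality := fun j j' g => by
        let r' := (nonempty_rep L W P hres j').some
        let r : Rep L W P j :=
          ⟨r'.J, g.left ≫ r'.f, r'.s, r'.hJ, r'.hs, by
            rw [Functor.map_comp, r'.fac, ← Category.assoc, CostructuredArrow.w g]⟩
        rw [val_eq L W F P hres hinv hI (nonempty_rep L W P hres j).some r]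
        simp [Rep.val, r, r']
        rfl }

lemma cocone_ι_id :
    (cocone L W F P hres hinv hI).ι.app (CostructuredArrow.mk (𝟙 (L.obj I))) = 𝟙 (F.obj I) := by
  obtain ⟨J, s, hJ, hs⟩ := hres I
  refine (val_eq L W F P hres hinv hI _ ⟨J, s, s, hJ, hs, by simp⟩).trans ?_
  simp [Rep.val]

/-- It is a colimit. -/
noncomputable def isColimit : IsColimit (cocone L W F P hres hinv hI) where
  desc c := c.ι.app (CostructuredArrow.mk (𝟙 (L.obj I)))
  fac c j := by
    let r := (nonempty_rep L W P hres j).some
    have := hinv r.s hI r.hJ r.hs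
    have hsi := Localization.inverts L W r.s r.hs
    let k : CostructuredArrow L (L.obj I) := CostructuredArrow.mk (inv (L.map r.s))
    have a := c.w (CostructuredArrow.homMk r.f
      (by change L.map r.f ≫ inv (L.map r.s) = j.hom; simp [r.fac]) : j ⟶ k)
    have b := c.w (CostructuredArrow.homMk r.s
      (by change L.map r.s ≫ inv (L.map r.s) = 𝟙 _; simp) :
        CostructuredArrow.mk (𝟙 (L.obj I)) ⟶ k)
    change (F.map r.f ≫ inv (F.map r.s)) ≫ _ = _
    rw [← a, ← b]
    dsimp
    rw [Category.assoc]
    erw [IsIso.inv_hom_id_assoc]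
    rfl
  uniq c m hm := by
    have := hm (CostructuredArrow.mk (𝟙 (L.obj I)))
    erw [cocone_ι_id, Category.id_comp] at this
    exact this

include L hres hinv in
theorem hasPointwiseRightDerivedFunctor : F.HasPointwiseRightDerivedFunctor W := fun X => by
  obtain ⟨I, s, hI, hs⟩ := hres X
  rw [F.hasPointwiseRightDerivedFunctorAt_iff_of_mem W s hs,
    F.hasPointwiseRightDerivedFunctorAt_iff L W]
  exact HasColimit.mk ⟨_, isColimit L W F P hres hinv hI⟩

include hres hinv hI in
theorem isIso_app (RF : D ⥤ H) (α : F ⟶ L ⋙ RF) [RF.IsRightDerivedFunctor α W] :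
    IsIso (α.app I) := by
  have := hasPointwiseRightDerivedFunctor L W F P hres hinv
  have hc := Functor.isPointwiseLeftKanExtensionOfHasPointwiseRightDerivedFunctor
    (α := α) (F' := RF) W (L.obj I)
  let e := (isColimit L W F P hres hinv hI).coconePointUniqueUpToIso hc
  have h := (isColimit L W F P hres hinv hI).comp_coconePointUniqueUpToIso_hom hc
    (CostructuredArrow.mk (𝟙 (L.obj I)))
  rw [cocone_ι_id] at h
  have h' : α.app I = e.hom := by
    refine Eq.trans ?_ (h.symm.trans (Category.id_comp _))
    change α.app I = α.app I ≫ RF.map (𝟙 (L.obj I))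
    rw [CategoryTheory.Functor.map_id]
    exact (Category.comp_id _).symm
  rw [h']
  exact e.isIso_hom

end Groth.Agent.GoodDerived
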