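import Groth.Agent.KTheory.FiniteDimAcyclic
import Groth.Agent.KTheory.GoodDerived
import Mathlib.Algebra.Homology.DerivedCategory.Fractions
import Mathlib.CategoryTheory.Abelian.Injective.Resolution

/-!
# Unbounded derived functors of functors of finite cohomological dimension
-/

set_option autoImplicit false
universe w w' v v' u u'
open CategoryTheory CategoryTheory.Limits HomologicalComplex
open Groth.CohFin

namespace Groth.Agent.FiniteDim

lemma enoughInjectives_of_resolutions (A : Type u) [Category.{v} A] [Abelian A]
    [HasInjectiveResolutions A] : EnoughInjectives A where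
  presentation X :=
    let R := injectiveResolution X
    ⟨{ J := R.cocomplex.X 0
       injective := R.injective 0
       f := R.ι.f 0
       mono := inferInstanceAs (Mono (R.ι.f 0)) }⟩

variable {A : Type u} [Category.{v} A] [Abelian A] [HasDerivedCategory.{w} A] [EnoughInjectives A]
  {B : Type u'} [Category.{v'} B] [Abelian B] [HasDerivedCategory.{w'} B]
  (F : A ⥤ B) [F.Additive] [PreservesFiniteLimits F]
  (n : ℕ) (hn : ∀ X : A, IsZero ((F.rightDerived n).obj X))

/-- complexes of acyclic objects in the homotopy category -/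
def acyclicTerms : ObjectProperty (HomotopyCategory A (ComplexShape.up ℤ)) :=
  fun K => ∀ m, RightAcyclic F (K.as.X m)

omit [HasDerivedCategory A] [HasDerivedCategory B] in
include hn in
lemma resolve (K : HomotopyCategory A (ComplexShape.up ℤ)) :
    ∃ (I : HomotopyCategory A (ComplexShape.up ℤ)) (s : K ⟶ I),
      acyclicTerms F I ∧ HomotopyCategory.quasiIso A (ComplexShape.up ℤ) s := by
  obtain ⟨K, rfl⟩ := HomotopyCategory.quotient_obj_surjective K
  obtain ⟨I, i, hi, hI⟩ := exists_resolution F n hn K
  exact ⟨(HomotopyCategory.quotient _ _).obj I, (HomotopyCategory.quotient _ _).map i, hI,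
    (HomotopyCategory.quotient_map_mem_quasiIso_iff i).2 hi⟩

omit [HasDerivedCategory A] in
include hn in
lemma inverts ⦃K L : HomotopyCategory A (ComplexShape.up ℤ)⦄ (s : K ⟶ L)
    (hK : acyclicTerms F K) (hL : acyclicTerms F L)
    (hs : HomotopyCategory.quasiIso A (ComplexShape.up ℤ) s) :
    IsIso ((F.mapHomotopyCategory (ComplexShape.up ℤ) ⋙ DerivedCategory.Qh).map s) := by
  obtain ⟨K, rfl⟩ := HomotopyCategory.quotient_obj_surjective K
  obtain ⟨L, rfl⟩ := HomotopyCategory.quotient_obj_surjective L
  obtain ⟨s, rfl⟩ := (HomotopyCategory.quotient _ _).map_surjective s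
  have : QuasiIso s := (HomotopyCategory.quotient_map_mem_quasiIso_iff s).1 hs
  have := @quasiIso_map A _ _ _ B _ _ F _ _ n hn K L hK hL s this
  exact Localization.inverts DerivedCategory.Qh (HomotopyCategory.quasiIso B (ComplexShape.up ℤ))
    ((HomotopyCategory.quotient _ _).map ((F.mapHomologicalComplex _).map s))
    ((HomotopyCategory.quotient_map_mem_quasiIso_iff _).2 this)

include hn in
theorem hasRightDerived :
    (F.mapHomotopyCategory (ComplexShape.up ℤ) ⋙ DerivedCategory.Qh).HasRightDerivedFunctor
      (HomotopyCategory.quasiIso A (ComplexShape.up ℤ)) := by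
  have := GoodDerived.hasPointwiseRightDerivedFunctor DerivedCategory.Qh
    (HomotopyCategory.quasiIso A (ComplexShape.up ℤ))
    (F.mapHomotopyCategory (ComplexShape.up ℤ) ⋙ DerivedCategory.Qh) (acyclicTerms F)
    (resolve F n hn) (inverts F n hn)
  infer_instance

include hn in
theorem isIso_unit
    [(F.mapHomotopyCategory (ComplexShape.up ℤ) ⋙ DerivedCategory.Qh).HasRightDerivedFunctor
      (HomotopyCategory.quasiIso A (ComplexShape.up ℤ))]
    (K : CochainComplex A ℤ) (hK : ∀ m, RightAcyclic F (K.X m)) :
    IsIso (((F.mapHomotopyCategory (ComplexShape.up ℤ) ⋙ DerivedCategory.Qh).totalRightDerivedUnit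
      DerivedCategory.Qh (HomotopyCategory.quasiIso A (ComplexShape.up ℤ))).app
        ((HomotopyCategory.quotient A (ComplexShape.up ℤ)).obj K)) :=
  GoodDerived.isIso_app DerivedCategory.Qh (HomotopyCategory.quasiIso A (ComplexShape.up ℤ))
    (F.mapHomotopyCategory (ComplexShape.up ℤ) ⋙ DerivedCategory.Qh) (acyclicTerms F)
    (resolve F n hn) (inverts F n hn) (I := (HomotopyCategory.quotient A (ComplexShape.up ℤ)).obj K) hK
    _ _

end Groth.Agent.FiniteDim
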