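import Groth.Agent.LocFree.Rank
import Groth.Agent.Ega2Proj.TwistExtend
import Groth.Agent.KTheory.LocFree
import Mathlib.RingTheory.LocalRing.Module

/-!
# A globally spanned bundle is a quotient of a free one, isomorphically near a given point
-/

set_option autoImplicit false
universe u

open CategoryTheory CategoryTheory.Limits AlgebraicGeometry TopologicalSpace Opposite

namespace Groth.KTheory.GenIso

open Groth.PicAux Groth.LocFree

/-- From a spanning set of a free module over a local ring one can choose a basis. -/
theorem exists_bijective_of_span {R M : Type u} [CommRing R] [IsLocalRing R] [AddCommGroup M]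
    [Module R M] [Module.Free R M] [Module.Finite R M] {r : ℕ} (hr : Module.finrank R M = r)
    {S : Set M} (hS : Submodule.span R S = ⊤) :
    ∃ v : Fin r → M, (∀ i, v i ∈ S) ∧ Function.Bijective fun c : Fin r → R => ∑ i, c i • v i := by
  let k := IsLocalRing.ResidueField R
  let q : M →ₗ[R] TensorProduct R k M := TensorProduct.mk R k M 1
  have hspan : Submodule.span k (q '' S) = ⊤ := by
    have h := (IsLocalRing.map_tensorProduct_mk_eq_top (R := R) (N := Submodule.span R S)).2 hS
    rw [Submodule.map_span] at h
    rw [eq_top_iff]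
    intro x _
    exact Submodule.span_le_restrictScalars R k _ (h.ge (Submodule.mem_top : x ∈ ⊤))
  have hdim : Module.finrank k (TensorProduct R k M) = r := by
    rw [Module.finrank_baseChange, hr]
  obtain ⟨f, hf, hfs, hfi⟩ := Submodule.exists_fun_fin_finrank_span_eq k (q '' S)
  have hn : Module.finrank k (Submodule.span k (q '' S)) = r := by
    rw [hspan, finrank_top, hdim]
  subst hn
  choose v hv hqv using hf
  refine ⟨v, hv, ?_⟩
  have htop : Submodule.span R (Set.range v) = ⊤ := by
    refine IsLocalRing.span_eq_top_of_tmul_eq_basis v (Module.Basis.mk hfi (hfs.trans hspan).ge) fun i => ?_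
    rw [Module.Basis.mk_apply]
    exact hqv i
  let b := Module.finBasisOfFinrankEq R M hr
  let L : (Fin _ → R) →ₗ[R] M := Fintype.linearCombination R v
  have hsurj : Function.Surjective L := by
    rw [← LinearMap.range_eq_top, Fintype.range_linearCombination, htop]
  have : Function.Bijective (L ∘ₗ b.equivFun.toLinearMap) :=
    OrzechProperty.bijective_of_surjective_endomorphism _ (hsurj.comp b.equivFun.surjective)
  have hL : Function.Bijective L :=
    (Function.Bijective.of_comp_iff L b.equivFun.bijective).1 this
  exact hL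

variable {X : Scheme.{u}} {G : X.Modules} {r : ℕ}

theorem exists_hom_free_isIso_nhd (hG : FlatMod.IsFinLocFreeOfRank r G)
    (hs : Groth.Ega2Proj.SpansStalks G) (y : X) :
    ∃ (σ : FlatMod.freeMod X r ⟶ G) (W : X.Opens), y ∈ W ∧
      IsIso ((Scheme.Modules.restrictFunctor W.ι).map σ) := by
  classical
  obtain ⟨U, s, hU, hyU, hsb⟩ := exists_affine_basis_ofRank hG y
  have hv := isFinLocFree_of_rank hG
  have := KTheory.LocFree.isQCoh hv
  have := KTheory.LocFree.free_stalk hv y
  have := finite_stalk hv y
  obtain ⟨v, hvS, hvb⟩ := exists_bijective_of_span (finrank_stalk hG y) (hs y)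
  choose t ht using hvS
  have hco : ∀ j, ∃ c : Fin r → Γ(X, U), ∑ i, c i • res G (le_refl U) (s i) = res G le_top (t j) :=
    fun j => (hsb U le_rfl).2 _
  choose c hc using hco
  simp only [res_self] at hc
  simp only at ht
  let C : Matrix (Fin r) (Fin r) Γ(X, U) := Matrix.of c
  let γ := X.presheaf.germ U y hyU
  have key : ∀ a : Fin r → X.presheaf.stalk y,
      ∑ i, Matrix.vecMul a (C.map γ) i • Groth.QCohMod.germ G y hyU (s i) = ∑ j, a j • v j := by
    intro a
    simp only [Matrix.vecMul, dotProduct, Matrix.map_apply, Finset.sum_smul, mul_smul]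
    rw [Finset.sum_comm]
    refine Finset.sum_congr rfl fun j _ => ?_
    rw [← Finset.smul_sum]
    congr 1
    rw [← ht j, ← Groth.QCohMod.germ_res G (le_top : U ≤ ⊤) y hyU (t j)]
    refine Eq.trans ?_ (congrArg (Groth.QCohMod.germ G y hyU) (hc j))
    rw [map_sum]
    simp only [C, Matrix.of_apply]
    exact Finset.sum_congr rfl fun i _ => (Groth.QCohMod.germ_smul G y hyU (c j i) (s i)).symm
  have hdet : IsUnit (γ C.det) := by
    rw [show γ C.det = (C.map γ).det from RingHom.map_det γ.hom C, ← Matrix.isUnit_iff_isUnit_det]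
    rw [← Matrix.vecMul_surjective_iff_isUnit]
    intro z
    obtain ⟨a, ha⟩ := hvb.2 (∑ i, z i • Groth.QCohMod.germ G y hyU (s i))
    refine ⟨a, ?_⟩
    have hb := nonempty_stalk_basis (M := G) (hs := hsb) hyU
    have hinj : Function.Injective fun q : Fin r → X.presheaf.stalk y =>
        ∑ i, q i • Groth.QCohMod.germ G y hyU (s i) := by
      obtain ⟨b⟩ := hb
      let L := Fintype.linearCombination (X.presheaf.stalk y)
        fun i => Groth.QCohMod.germ G y hyU (s i)
      have hsurj : Function.Surjective L := fun w => by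
        obtain ⟨a, rfl⟩ := hvb.2 w
        refine ⟨Matrix.vecMul a (C.map γ), ?_⟩
        exact key a
      have : Function.Bijective (L ∘ₗ b.equivFun.toLinearMap) :=
        OrzechProperty.bijective_of_surjective_endomorphism _ (hsurj.comp b.equivFun.surjective)
      exact ((Function.Bijective.of_comp_iff L b.equivFun.bijective).1 this).1
    exact hinj ((key a).trans ha)
  let W := X.basicOpen C.det
  have hWU : W ≤ U := X.basicOpen_le _
  have hbt : Basis' G W fun j => res G le_top (t j) := by
    intro V hV
    have hVU : V ≤ U := hV.trans hWU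
    let ρ : Γ(X, U) →+* Γ(X, V) := (X.presheaf.map (homOfLE hVU).op).hom
    have hu : IsUnit (C.map ρ) := by
      rw [Matrix.isUnit_iff_isUnit_det,
        show (C.map ρ).det = ρ C.det from (RingHom.map_det ρ C).symm]
      have h1 : IsUnit ((X.presheaf.map (homOfLE hWU).op).hom C.det) :=
        RingedSpace.isUnit_res_basicOpen X.toLocallyRingedSpace.toRingedSpace C.det
      have h2 := h1.map (X.presheaf.map (homOfLE hV).op).hom
      rwa [← RingHom.comp_apply, ← CommRingCat.hom_comp, ← X.presheaf.map_comp] at h2
    have e : ∀ q : Fin r → Γ(X, V), ∑ j, q j • res G hV (res G le_top (t j)) =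
        ∑ i, Matrix.vecMul q (C.map ρ) i • res G hVU (s i) := fun q => by
      simp only [Matrix.vecMul, dotProduct, Matrix.map_apply, Finset.sum_smul, mul_smul]
      rw [Finset.sum_comm]
      refine Finset.sum_congr rfl fun j _ => ?_
      rw [← Finset.smul_sum]
      congr 1
      rw [res_res, ← res_res (M := G) (le_top : U ≤ ⊤) hVU (t j), ← hc j, res_sum]
      exact Finset.sum_congr rfl fun i _ => res_smul _ _ _
    obtain ⟨hi, hsj⟩ := hsb V hVU
    have hvi : Function.Injective (Matrix.vecMul · (C.map ρ)) :=
      Matrix.vecMul_injective_of_isUnit hu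
    have hvs : Function.Surjective (Matrix.vecMul · (C.map ρ)) :=
      Matrix.vecMul_surjective_iff_isUnit.2 hu
    clear_value C
    refine ⟨fun a b hab => hvi (hi ?_), fun z => ?_⟩
    · exact (e a).symm.trans (hab.trans (e b))
    · obtain ⟨p, hp⟩ := hsj z
      obtain ⟨q, hq⟩ := hvs p
      refine ⟨q, (e q).trans ?_⟩
      rw [← hp, ← hq]
  obtain ⟨d⟩ := exists_split_free (X := X) r
  let σ : FlatMod.freeMod X r ⟶ G := ∑ j, d.p j ≫ homOfSection (t j)
  have hσ : ∀ i, σ.app ⊤ ((d.s i).app ⊤ (oneSec X ⊤)) = t i := fun i => by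
    have h : d.s i ≫ σ = homOfSection (t i) := by
      simp only [σ, Preadditive.comp_sum]
      rw [Finset.sum_eq_single i (fun j _ hj => by rw [← Category.assoc, d.off i j hj.symm, zero_comp])
        (by simp), ← Category.assoc, d.diag, Category.id_comp]
    exact (congr($(h).app ⊤ (oneSec X ⊤))).trans (homOfSection_one _)
  refine ⟨σ, W, (Scheme.mem_basicOpen X C.det y hyU).2 hdet,
    Scheme.Modules.Hom.isIso_iff_isIso_app.2 fun V => ?_⟩
  have hV : W.ι ''ᵁ V ≤ W := Scheme.Opens.ι_image_le W V
  rw [ConcreteCategory.isIso_iff_bijective]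
  change Function.Bijective (σ.app (W.ι ''ᵁ V))
  have hfree := d.basis (W.ι ''ᵁ V) le_top
  refine (Function.Bijective.of_comp_iff _ hfree).1 ?_
  refine Eq.mpr (congrArg Function.Bijective (funext fun q => ?_)) (hbt (W.ι ''ᵁ V) hV)
  simp only [Function.comp_apply, map_sum, Scheme.Modules.Hom.app_smul, app_res, hσ, res_res]

end Groth.KTheory.GenIso
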