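import Groth.Agent.KTheory.Basic
import Mathlib.CategoryTheory.Abelian.SerreClass.Localization
import Mathlib.CategoryTheory.Abelian.Refinements
import Mathlib.Algebra.Homology.ShortComplex.Abelian
import Mathlib.Algebra.Homology.ShortComplex.Preadditive
import Mathlib.GroupTheory.MonoidLocalization.GrothendieckGroup

/-!
# The K₀ sequence of a Serre quotient and Heller's criterion

`lamHom`, `iotaHom`, `surjective_lam`, `ker_lam`, `iota_eq_zero_iff`.
-/

set_option autoImplicit false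
universe v v' u u'
open CategoryTheory CategoryTheory.Limits
open scoped ZeroObject

namespace Groth.KTheory.Heller

variable {A : Type u} [Category.{v} A] [Abelian A]

theorem cl_ker_coker {X Y : A} (f : X ⟶ Y) :
    KZero.cl X + KZero.cl (cokernel f) = KZero.cl (kernel f) + KZero.cl Y := by
  have h₁ : (ShortComplex.mk (kernel.ι f) (Abelian.factorThruImage f) (by
      rw [← cancel_mono (Abelian.image.ι f)]; simp)).ShortExact :=
    { exact := ShortComplex.exact_of_f_is_kernel _ <| KernelFork.IsLimit.ofι _ _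
        (fun g hg => kernel.lift f g (by rw [← Abelian.image.fac f, reassoc_of% hg, zero_comp]))
        (fun g hg => kernel.lift_ι _ _ _)
        (fun g hg m hm => by rw [← cancel_mono (kernel.ι f), hm, kernel.lift_ι]) }
  have h₂ : (ShortComplex.mk (Abelian.image.ι f) (cokernel.π f) (kernel.condition _)).ShortExact :=
    { exact := ShortComplex.exact_of_f_is_kernel _ (kernelIsKernel _) }
  have e₁ := cl_rel _ h₁
  have e₂ := cl_rel _ h₂
  dsimp at e₁ e₂
  rw [e₁, e₂]; abel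

theorem cl_homology (S : ShortComplex A) :
    KZero.cl S.homology + KZero.cl S.X₁ = KZero.cl (kernel S.g) + KZero.cl (kernel S.f) := by
  have h := cl_ker_coker S.toCycles
  have e₁ : S.homology ≅ cokernel S.toCycles :=
    S.homologyIsCokernel.coconePointUniqueUpToIso (colimit.isColimit _)
  have e₂ : kernel S.toCycles ≅ kernel S.f :=
    (kernelCompMono S.toCycles S.iCycles).symm ≪≫ kernelIsoOfEq S.toCycles_i
  rw [cl_iso e₁, add_comm, h, cl_iso e₂, cl_iso S.cyclesIsoKernel, add_comm]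

theorem cl_homology_periodic {M : A} (φ ψ : M ⟶ M) (h₁ : φ ≫ ψ = 0) (h₂ : ψ ≫ φ = 0) :
    KZero.cl (ShortComplex.mk φ ψ h₁).homology = KZero.cl (ShortComplex.mk ψ φ h₂).homology := by
  have e₁ := cl_homology (ShortComplex.mk φ ψ h₁)
  have e₂ := cl_homology (ShortComplex.mk ψ φ h₂)
  dsimp at e₁ e₂
  rw [add_comm (KZero.cl (kernel φ))] at e₂
  exact add_right_cancel (e₁.trans e₂.symm)

section Serre

variable (P : ObjectProperty A) [P.IsSerreClass]

/-- `ι : K₀(P) → K₀(A)`. -/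
noncomputable def iotaHom : KZero.K0sub P →+ KZero.K0 A :=
  liftSub P KZero.cl fun S hS _ _ _ => cl_rel S hS

theorem iotaHom_clSub {X : A} (h : P X) : iotaHom P (KZero.clSub P X) = KZero.cl X :=
  liftSub_clSub _ _ h

theorem cl_mem_range {X : A} (h : P X) : KZero.cl X ∈ (iotaHom P).range :=
  ⟨_, iotaHom_clSub P h⟩

/-- The class of an object modulo `P`. -/
noncomputable def q (X : A) : KZero.K0 A ⧸ (iotaHom P).range := QuotientAddGroup.mk (KZero.cl X)

theorem q_eq_of_isoModSerre {X Y : A} (s : X ⟶ Y) (hs : P.isoModSerre s) : q P X = q P Y := by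
  unfold q
  rw [QuotientAddGroup.eq_iff_sub_mem,
    show KZero.cl X - KZero.cl Y = KZero.cl (kernel s) - KZero.cl (cokernel s) by
      rw [sub_eq_sub_iff_add_eq_add, cl_ker_coker s]]
  exact sub_mem (cl_mem_range P hs.1) (cl_mem_range P hs.2)

variable {Q : Type u'} [Category.{v'} Q] [Abelian Q]
  (L : A ⥤ Q) [L.IsLocalization P.isoModSerre] [L.Additive]

theorem q_eq_of_iso {X Y : A} (e : L.obj X ≅ L.obj Y) : q P X = q P Y := by
  obtain ⟨φ, hφ⟩ := Localization.exists_rightFraction L P.isoModSerre e.hom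
  have : L.map φ.s ≫ e.hom = L.map φ.f := by
    rw [hφ, MorphismProperty.RightFraction.map_s_comp_map]
  have hf : P.isoModSerre φ.f := by
    rw [← ObjectProperty.SerreClassLocalization.isIso_map_iff L P, ← this]
    have := Localization.inverts L P.isoModSerre φ.s φ.hs
    infer_instance
  exact (q_eq_of_isoModSerre P φ.s φ.hs).symm.trans (q_eq_of_isoModSerre P φ.f hf)

variable [PreservesFiniteLimits L] [PreservesFiniteColimits L]

/-- `λ : K₀(A) → K₀(Q)`. -/
noncomputable def lamHom : KZero.K0 A →+ KZero.K0 Q :=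
  lift (fun X => KZero.cl (L.obj X)) fun S hS => cl_rel _ (hS.map_of_exact L)

theorem lamHom_cl (X : A) : lamHom L (KZero.cl X) = KZero.cl (L.obj X) := lift_cl _ _ X

/-- The inverse map `K₀(Q) → K₀(A)/K₀(P)`. -/
noncomputable def muHom : KZero.K0 Q →+ KZero.K0 A ⧸ (iotaHom P).range :=
  haveI := Localization.essSurj L P.isoModSerre
  lift (fun W => q P (L.objPreimage W)) fun S hS => by
    haveI := hS.mono_f
    haveI := hS.epi_g
    obtain ⟨X', Y', f', hm, ⟨e⟩⟩ :=
      (ObjectProperty.SerreClassLocalization.mono_iff L P S.f).1 inferInstance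
    let e₁ : L.obj X' ≅ S.X₁ := Arrow.leftFunc.mapIso e
    let e₂ : L.obj Y' ≅ S.X₂ := Arrow.rightFunc.mapIso e
    have w : e₁.hom ≫ S.f = L.map f' ≫ e₂.hom := e.hom.w
    let e₃ : L.obj (cokernel f') ≅ S.X₃ :=
      PreservesCokernel.iso L f' ≪≫ cokernel.mapIso _ _ e₁ e₂ w.symm ≪≫
        IsColimit.coconePointUniqueUpToIso (cokernelIsCokernel S.f) hS.gIsCokernel
    rw [q_eq_of_iso P L (L.objObjPreimageIso S.X₂ ≪≫ e₂.symm),
      q_eq_of_iso P L (L.objObjPreimageIso S.X₁ ≪≫ e₁.symm),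
      q_eq_of_iso P L (L.objObjPreimageIso S.X₃ ≪≫ e₃.symm)]
    have := cl_rel (ShortComplex.mk f' (cokernel.π f') (cokernel.condition f'))
      { exact := ShortComplex.exact_of_g_is_cokernel _ (cokernelIsCokernel f') }
    exact congrArg QuotientAddGroup.mk this

theorem muHom_lamHom (x : KZero.K0 A) :
    muHom P L (lamHom L x) = QuotientAddGroup.mk x := by
  haveI := Localization.essSurj L P.isoModSerre
  have : (muHom P L).comp (lamHom L) = QuotientAddGroup.mk' _ := k0_hom_ext fun X => by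
    rw [AddMonoidHom.comp_apply, lamHom_cl, muHom, lift_cl]
    exact q_eq_of_iso P L (L.objObjPreimageIso _)
  exact DFunLike.congr_fun this x

include P in
theorem surjective_lam : Function.Surjective (lamHom L) := by
  haveI := Localization.essSurj L P.isoModSerre
  rw [← AddMonoidHom.range_eq_top, eq_top_iff]
  intro x hx
  clear hx
  induction x using k0_induction with
  | h0 => exact zero_mem _
  | hcl W => exact ⟨KZero.cl (L.objPreimage W), (lamHom_cl L _).trans (cl_iso (L.objObjPreimageIso W))⟩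
  | hadd a b ha hb => exact add_mem ha hb
  | hneg a ha => exact neg_mem ha

theorem ker_lam : (lamHom L).ker = (iotaHom P).range := by
  apply le_antisymm
  · intro x hx
    have := muHom_lamHom P L x
    rw [AddMonoidHom.mem_ker.1 hx, map_zero] at this
    exact (QuotientAddGroup.eq_zero_iff x).1 this.symm
  · rintro x ⟨y, rfl⟩
    rw [AddMonoidHom.mem_ker]
    induction y using k0sub_induction with
    | h0 => simp
    | hcl X h =>
      rw [iotaHom_clSub P h, lamHom_cl]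
      exact cl_zero ((ObjectProperty.SerreClassLocalization.isZero_obj_iff L P X).2 h)
    | hadd a b ha hb => simp [ha, hb]
    | hneg a ha => simp [ha]

end Serre

section Periodic

/-- The sum with a zero complex `(0,0)` has homology the zero complex part. -/
noncomputable def homologyIso {X Y R₁ R₂ R₃ : A} (f : R₁ ⟶ R₂) (g : R₂ ⟶ R₃) (w : f ≫ g = 0)
    (hex : (ShortComplex.mk f g w).Exact) {X' : A} :
    (ShortComplex.mk (biprod.map (0 : X ⟶ Y) f) (biprod.map (0 : Y ⟶ X') g)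
      (by ext <;> simp [w])).homology ≅ Y :=
  let T := ShortComplex.mk (0 : X ⟶ Y) (0 : Y ⟶ X') zero_comp
  let R := ShortComplex.mk f g w
  let S := ShortComplex.mk (biprod.map (0 : X ⟶ Y) f) (biprod.map (0 : Y ⟶ X') g)
      (by ext <;> simp [w])
  let i : T ⟶ S := ⟨biprod.inl, biprod.inl, biprod.inl, by simp [T, S], by simp [T, S]⟩
  let p : S ⟶ T := ⟨biprod.fst, biprod.fst, biprod.fst, by simp [T, S], by simp [T, S]⟩
  let j : R ⟶ S := ⟨biprod.inr, biprod.inr, biprod.inr, by simp [R, S], by simp [R, S]⟩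
  let r : S ⟶ R := ⟨biprod.snd, biprod.snd, biprod.snd, by simp [R, S], by simp [R, S]⟩
  Iso.symm <|
    ((ShortComplex.LeftHomologyData.ofZeros T rfl rfl).homologyIso).symm ≪≫
    { hom := ShortComplex.homologyMap i
      inv := ShortComplex.homologyMap p
      hom_inv_id := by
        rw [← ShortComplex.homologyMap_comp,
          show i ≫ p = 𝟙 T by ext <;> simp [i, p, T], ShortComplex.homologyMap_id]
      inv_hom_id := by
        have h0 : ShortComplex.homologyMap r ≫ ShortComplex.homologyMap j = 0 := by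
          rw [(ShortComplex.exact_iff_isZero_homology R |>.1 hex).eq_of_tgt
            (ShortComplex.homologyMap r) 0, zero_comp]
        have hid : 𝟙 S = p ≫ i + r ≫ j := by
          apply ShortComplex.hom_ext <;> simp [i, p, j, r, S] <;> exact biprod.total.symm
        rw [← ShortComplex.homologyMap_id S, hid, ShortComplex.homologyMap_add,
          ShortComplex.homologyMap_comp, ShortComplex.homologyMap_comp, h0, add_zero] }

theorem shortExact_biprod {S S' : ShortComplex A} (hS : S.ShortExact) (hS' : S'.ShortExact) :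
    (ShortComplex.mk (biprod.map S.f S'.f) (biprod.map S.g S'.g)
      (by ext <;> simp)).ShortExact where
  mono_f := by haveI := hS.mono_f; haveI := hS'.mono_f; infer_instance
  epi_g := by haveI := hS.epi_g; haveI := hS'.epi_g; infer_instance
  exact := by
    haveI := hS.mono_f
    haveI := hS'.mono_f
    rw [ShortComplex.exact_iff_exact_up_to_refinements]
    intro T x hx
    obtain ⟨T₁, π₁, hπ₁, a, ha⟩ := hS.exact.exact_up_to_refinements (x ≫ biprod.fst)
      (by simpa using congrArg (· ≫ biprod.fst) hx)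
    obtain ⟨T₂, π₂, hπ₂, b, hb⟩ := hS'.exact.exact_up_to_refinements (π₁ ≫ x ≫ biprod.snd)
      (by have := congrArg (π₁ ≫ · ≫ biprod.snd) hx; simpa using this)
    refine ⟨T₂, π₂ ≫ π₁, inferInstance, biprod.lift (π₂ ≫ a) b, ?_⟩
    apply biprod.hom_ext
    · simp [ha]
    · simp [hb]

variable {X Y : A} (S S' : ShortComplex A)

/-- `(A ⊞ C) ⊞ B' ⟶ B ⊞ (A' ⊞ C')`. -/
noncomputable def d0 : (S.X₁ ⊞ S.X₃) ⊞ S'.X₂ ⟶ S.X₂ ⊞ (S'.X₁ ⊞ S'.X₃) :=
  biprod.fst ≫ biprod.fst ≫ S.f ≫ biprod.inl + biprod.snd ≫ S'.g ≫ biprod.inr ≫ biprod.inr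

/-- `B ⊞ (A' ⊞ C') ⟶ (A ⊞ C) ⊞ B'`. -/
noncomputable def d1 : S.X₂ ⊞ (S'.X₁ ⊞ S'.X₃) ⟶ (S.X₁ ⊞ S.X₃) ⊞ S'.X₂ :=
  biprod.fst ≫ S.g ≫ biprod.inr ≫ biprod.inl + biprod.snd ≫ biprod.fst ≫ S'.f ≫ biprod.inr

theorem d0_d1 : d0 S S' ≫ d1 S S' = 0 := by simp [d0, d1]

theorem d1_d0 : d1 S S' ≫ d0 S S' = 0 := by simp [d0, d1]

theorem exact_d0_d1 (hS : S.ShortExact) (hS' : S'.ShortExact) :
    (ShortComplex.mk (d0 S S') (d1 S S') (d0_d1 S S')).Exact := by
  haveI := hS'.mono_f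
  haveI := hS'.epi_g
  rw [ShortComplex.exact_iff_exact_up_to_refinements]
  intro T x hx
  have ha : x ≫ biprod.fst ≫ S.g = 0 := by
    simpa [d1] using congrArg (· ≫ biprod.fst ≫ biprod.snd) hx
  have hb : x ≫ biprod.snd ≫ biprod.fst = 0 := by
    rw [← cancel_mono S'.f, zero_comp]
    simpa [d1] using congrArg (· ≫ biprod.snd) hx
  obtain ⟨T₁, π₁, hπ₁, a, h1⟩ := hS.exact.exact_up_to_refinements (x ≫ biprod.fst)
    (by simpa using ha)
  obtain ⟨T₂, π₂, hπ₂, b, h2⟩ := surjective_up_to_refinements_of_epi S'.g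
    (π₁ ≫ x ≫ biprod.snd ≫ biprod.snd)
  refine ⟨T₂, π₂ ≫ π₁, inferInstance, biprod.lift (biprod.lift (π₂ ≫ a) 0) b, ?_⟩
  apply biprod.hom_ext
  · simp [d0, h1]
  · apply biprod.hom_ext
    · simp [d0, hb]
    · simp [d0, h2]

theorem exact_d1_d0 (hS : S.ShortExact) (hS' : S'.ShortExact) :
    (ShortComplex.mk (d1 S S') (d0 S S') (d1_d0 S S')).Exact := by
  haveI := hS.mono_f
  haveI := hS.epi_g
  rw [ShortComplex.exact_iff_exact_up_to_refinements]
  intro T x hx
  have ha : x ≫ biprod.fst ≫ biprod.fst = 0 := by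
    rw [← cancel_mono S.f, zero_comp]
    simpa [d0] using congrArg (· ≫ biprod.fst) hx
  have hb : x ≫ biprod.snd ≫ S'.g = 0 := by
    simpa [d0] using congrArg (· ≫ biprod.snd ≫ biprod.snd) hx
  obtain ⟨T₁, π₁, hπ₁, a, h1⟩ := hS'.exact.exact_up_to_refinements (x ≫ biprod.snd)
    (by simpa using hb)
  obtain ⟨T₂, π₂, hπ₂, b, h2⟩ := surjective_up_to_refinements_of_epi S.g
    (π₁ ≫ x ≫ biprod.fst ≫ biprod.snd)
  refine ⟨T₂, π₂ ≫ π₁, inferInstance, biprod.lift b (biprod.lift (π₂ ≫ a) 0), ?_⟩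
  apply biprod.hom_ext
  · apply biprod.hom_ext
    · simp [d1, ha]
    · simp [d1, h2]
  · simp [d1, h1]

end Periodic

section IsoClasses

variable (A) in
/-- Isomorphism classes of objects. -/
def IsoCl : Type u := Quotient (isIsomorphicSetoid A)

/-- The class of an object. -/
def ic (X : A) : IsoCl A := Quotient.mk _ X

theorem ic_eq_iff {X Y : A} : ic X = ic Y ↔ Nonempty (X ≅ Y) := Quotient.eq''

noncomputable instance : Add (IsoCl A) :=
  ⟨Quotient.map₂ (fun X Y => X ⊞ Y) fun _ _ h₁ _ _ h₂ => by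
    obtain ⟨e₁⟩ := h₁; obtain ⟨e₂⟩ := h₂; exact ⟨biprod.mapIso e₁ e₂⟩⟩

noncomputable instance : Zero (IsoCl A) := ⟨ic 0⟩

theorem ic_add (X Y : A) : ic X + ic Y = ic (X ⊞ Y) := rfl

theorem ic_surjective : Function.Surjective (ic : A → IsoCl A) := Quotient.mk_surjective

noncomputable instance : AddCommMonoid (IsoCl A) where
  add_assoc a b c := by
    obtain ⟨X, rfl⟩ := ic_surjective a; obtain ⟨Y, rfl⟩ := ic_surjective b
    obtain ⟨Z, rfl⟩ := ic_surjective c
    exact ic_eq_iff.2 ⟨biprod.associator X Y Z⟩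
  zero_add a := by
    obtain ⟨X, rfl⟩ := ic_surjective a
    exact ic_eq_iff.2 ⟨(isoZeroBiprod (isZero_zero A)).symm⟩
  add_zero a := by
    obtain ⟨X, rfl⟩ := ic_surjective a
    exact ic_eq_iff.2 ⟨(isoBiprodZero (isZero_zero A)).symm⟩
  add_comm a b := by
    obtain ⟨X, rfl⟩ := ic_surjective a; obtain ⟨Y, rfl⟩ := ic_surjective b
    exact ic_eq_iff.2 ⟨biprod.braiding X Y⟩
  nsmul := nsmulRec

/-- The split class of an object. -/
noncomputable def sc (X : A) : Algebra.GrothendieckAddGroup (IsoCl A) :=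
  Algebra.GrothendieckAddGroup.of (ic X)

theorem sc_biprod (X Y : A) : sc (X ⊞ Y) = sc X + sc Y := by rw [sc, ← ic_add, map_add]; rfl

theorem sc_zero : sc (0 : A) = 0 := map_zero _

theorem exists_of_sc_eq {X Y : A} (h : sc X = sc Y) : ∃ Z : A, Nonempty (Z ⊞ X ≅ Z ⊞ Y) := by
  obtain ⟨⟨c, _⟩, hc⟩ := (AddLocalization.addMonoidOf (⊤ : AddSubmonoid (IsoCl A))).eq_iff_exists.1 h
  obtain ⟨Z, rfl⟩ := ic_surjective c
  exact ⟨Z, ic_eq_iff.1 hc⟩

/-- The relation of a sequence in the split group. -/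
noncomputable def rel (S : ShortComplex A) : Algebra.GrothendieckAddGroup (IsoCl A) :=
  sc S.X₂ - sc S.X₁ - sc S.X₃

theorem exists_rel {z : FreeAbelianGroup A} (hz : z ∈ KZero.relAb A) :
    ∃ S S' : ShortComplex A, S.ShortExact ∧ S'.ShortExact ∧
      FreeAbelianGroup.lift sc z = rel S - rel S' := by
  let S0 := ShortComplex.mk (0 : (0 : A) ⟶ 0) (0 : (0 : A) ⟶ 0) comp_zero
  have h0 : S0.ShortExact :=
    { exact := ShortComplex.exact_of_isZero_X₂ _ (isZero_zero A)
      mono_f := ⟨fun _ _ _ => (isZero_zero A).eq_of_tgt _ _⟩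
      epi_g := ⟨fun _ _ _ => (isZero_zero A).eq_of_src _ _⟩ }
  have e0 : rel S0 = 0 := by simp [rel, S0, sc_zero]
  induction hz using AddSubgroup.closure_induction with
  | mem x hx =>
    obtain ⟨S, hS, rfl⟩ := hx
    exact ⟨S, S0, hS, h0, by rw [e0, sub_zero]; simp [rel]⟩
  | zero => exact ⟨S0, S0, h0, h0, by simp⟩
  | add a b _ _ ha hb =>
    obtain ⟨S, S', hS, hS', e⟩ := ha
    obtain ⟨T, T', hT, hT', e'⟩ := hb
    exact ⟨_, _, shortExact_biprod hS hT, shortExact_biprod hS' hT',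
      by rw [map_add, e, e']; simp only [rel, sc_biprod]; abel⟩
  | neg a _ ha =>
    obtain ⟨S, S', hS, hS', e⟩ := ha
    exact ⟨S', S, hS', hS, by rw [map_neg, e]; abel⟩

end IsoClasses

section Criterion

variable (P : ObjectProperty A) [P.IsSerreClass]

theorem exists_sub (x : KZero.K0sub P) :
    ∃ X Y : A, P X ∧ P Y ∧ x = KZero.clSub P X - KZero.clSub P Y := by
  have hadd : ∀ {X Y : A}, P X → P Y →
      KZero.clSub P (X ⊞ Y) = KZero.clSub P X + KZero.clSub P Y := fun {X Y} hX hY =>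
    clSub_rel _ (ShortComplex.Splitting.ofHasBinaryBiproduct X Y).shortExact hX
      (P.prop_biprod hX hY) hY
  induction x using k0sub_induction with
  | h0 => exact ⟨0, 0, P.prop_zero, P.prop_zero, by simp⟩
  | hcl X h =>
    exact ⟨X, 0, h, P.prop_zero, by simp [clSub_zero (isZero_zero A) P.prop_zero]⟩
  | hadd a b ha hb =>
    obtain ⟨X, Y, hX, hY, rfl⟩ := ha
    obtain ⟨X', Y', hX', hY', rfl⟩ := hb
    exact ⟨X ⊞ X', Y ⊞ Y', P.prop_biprod hX hX', P.prop_biprod hY hY',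
      by rw [hadd hX hX', hadd hY hY']; abel⟩
  | hneg a ha =>
    obtain ⟨X, Y, hX, hY, rfl⟩ := ha
    exact ⟨Y, X, hY, hX, by abel⟩

theorem iota_eq_zero_iff (x : KZero.K0sub P) : iotaHom P x = 0 ↔
    ∃ (M : A) (φ ψ : M ⟶ M) (h₁ : φ ≫ ψ = 0) (h₂ : ψ ≫ φ = 0),
      P (ShortComplex.mk φ ψ h₁).homology ∧ P (ShortComplex.mk ψ φ h₂).homology ∧
      x = KZero.clSub P (ShortComplex.mk φ ψ h₁).homology -
        KZero.clSub P (ShortComplex.mk ψ φ h₂).homology := by
  constructor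
  · intro hx
    obtain ⟨X, Y, hX, hY, rfl⟩ := exists_sub P x
    rw [map_sub, iotaHom_clSub P hX, iotaHom_clSub P hY] at hx
    have hz : FreeAbelianGroup.of X - FreeAbelianGroup.of Y ∈ KZero.relAb A :=
      (QuotientAddGroup.eq_zero_iff _).1 hx
    obtain ⟨S, S', hS, hS', e⟩ := exists_rel hz
    simp only [map_sub, FreeAbelianGroup.lift_apply_of] at e
    have e' : sc (X ⊞ ((S.X₁ ⊞ S.X₃) ⊞ S'.X₂)) = sc (Y ⊞ (S.X₂ ⊞ (S'.X₁ ⊞ S'.X₃))) := by
      simp only [sc_biprod, rel] at e ⊢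
      rw [← sub_eq_zero] at e ⊢
      rw [← e]; abel
    obtain ⟨Z, hZ⟩ := exists_of_sc_eq e'
    -- absorb `Z` in the second short exact sequence
    let S'' : ShortComplex A := ShortComplex.mk (biprod.map S'.f (𝟙 Z))
      (biprod.map S'.g (0 : Z ⟶ (0 : A))) (by ext <;> simp)
    have hS'' : S''.ShortExact :=
      shortExact_biprod hS' (shortExact_id_left (Iso.refl Z) (isZero_zero A))
    have hiso : ic (X ⊞ ((S.X₁ ⊞ S.X₃) ⊞ S''.X₂)) = ic (Y ⊞ (S.X₂ ⊞ (S''.X₁ ⊞ S''.X₃))) := by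
      have hc := ic_eq_iff.2 hZ
      have hz' : ic (0 : A) = (0 : IsoCl A) := rfl
      simp only [S'', ← ic_add, hz', add_zero] at hc ⊢
      calc _ = ic Z + (ic X + (ic S.X₁ + ic S.X₃ + ic S'.X₂)) := by abel
        _ = ic Z + (ic Y + (ic S.X₂ + (ic S'.X₁ + ic S'.X₃))) := hc
        _ = _ := by abel
    obtain ⟨e⟩ := ic_eq_iff.1 hiso
    have w1 : biprod.map (0 : Y ⟶ X) (d1 S S'') ≫ biprod.map (0 : X ⟶ Y) (d0 S S'') = 0 := by
      ext <;> simp [d1_d0]
    have w0 : biprod.map (0 : X ⟶ Y) (d0 S S'') ≫ biprod.map (0 : Y ⟶ X) (d1 S S'') = 0 := by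
      ext <;> simp [d0_d1]
    -- on `M = X ⊞ R₀`
    let φ : X ⊞ ((S.X₁ ⊞ S.X₃) ⊞ S''.X₂) ⟶ _ := e.hom ≫ biprod.map (0 : Y ⟶ X) (d1 S S'')
    let ψ : X ⊞ ((S.X₁ ⊞ S.X₃) ⊞ S''.X₂) ⟶ _ := biprod.map (0 : X ⟶ Y) (d0 S S'') ≫ e.inv
    have h₁ : φ ≫ ψ = 0 := by simp [φ, ψ, reassoc_of% w1]
    have h₂ : ψ ≫ φ = 0 := by simp [φ, ψ, w0]
    let i₁ : (ShortComplex.mk φ ψ h₁).homology ≅ X :=
      ShortComplex.homologyMapIso (ShortComplex.isoMk (S₁ := ShortComplex.mk φ ψ h₁) (S₂ := ShortComplex.mk _ _ w1) e (Iso.refl _) e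
        (by simp [φ]) (by simp [ψ])) ≪≫ homologyIso _ _ _ (exact_d1_d0 S S'' hS hS'')
    let i₂ : (ShortComplex.mk ψ φ h₂).homology ≅ Y :=
      ShortComplex.homologyMapIso (ShortComplex.isoMk (S₁ := ShortComplex.mk ψ φ h₂) (S₂ := ShortComplex.mk _ _ w0) (Iso.refl _) e (Iso.refl _)
        (by simp [ψ]) (by simp [φ])) ≪≫ homologyIso _ _ _ (exact_d0_d1 S S'' hS hS'')
    have p₁ := P.prop_of_iso i₁.symm hX
    have p₂ := P.prop_of_iso i₂.symm hY
    exact ⟨_, φ, ψ, h₁, h₂, p₁, p₂, by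
      rw [clSub_iso i₁ p₁ hX (isZero_zero A) P.prop_zero,
        clSub_iso i₂ p₂ hY (isZero_zero A) P.prop_zero]⟩
  · rintro ⟨M, φ, ψ, h₁, h₂, p₁, p₂, rfl⟩
    rw [map_sub, iotaHom_clSub P p₁, iotaHom_clSub P p₂, cl_homology_periodic φ ψ h₁ h₂, sub_self]

end Criterion

end Groth.KTheory.Heller
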