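import Mathlib.Algebra.Homology.HomotopyCategory.Plus
import Mathlib.Algebra.Homology.HomotopyCategory.DegreewiseSplit

/-!
# Bounded above and bounded subcategories of the homotopy category
-/

set_option autoImplicit false
universe v u
open CategoryTheory CategoryTheory.Limits CategoryTheory.Pretriangulated ZeroObject

namespace Groth.Agent.HomotopyMinus

variable {V : Type u} [Category.{v} V] [Preadditive V] [HasZeroObject V] [HasBinaryBiproducts V]

local notation "Ho" => HomotopyCategory V (ComplexShape.up ℤ)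

lemma isStrictlyLE_mappingCone {K L : CochainComplex V ℤ} (f : K ⟶ L) (a b n : ℤ)
    [K.IsStrictlyLE a] [L.IsStrictlyLE b] (ha : a ≤ n + 1) (hb : b ≤ n) :
    (CochainComplex.mappingCone f).IsStrictlyLE n := by
  rw [CochainComplex.isStrictlyLE_iff]
  intro i hi
  simp only [CochainComplex.mappingCone.isZero_X_iff]
  exact ⟨K.isZero_of_isStrictlyLE a _ (by omega), L.isZero_of_isStrictlyLE b _ (by omega)⟩

theorem isTriangulated (P : ObjectProperty (CochainComplex V ℤ))
    (h0 : P 0)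
    (hs : ∀ (K : CochainComplex V ℤ) (n : ℤ), P K → P (K⟦n⟧))
    (hc : ∀ (K L : CochainComplex V ℤ) (f : K ⟶ L), P K → P L → P (CochainComplex.mappingCone f)) :
    ObjectProperty.IsTriangulated (fun K : Ho => P K.as) := by
  let Q : ObjectProperty Ho := fun K => P K.as
  have h0' : Q.ContainsZero :=
    ⟨⟨(HomotopyCategory.quotient V _).obj 0, Functor.map_isZero _ (isZero_zero _), h0⟩⟩
  have hs' : Q.IsStableUnderShift ℤ := ⟨fun n => ⟨fun K hK => by
    obtain ⟨K : CochainComplex V ℤ, rfl⟩ := K.quotient_obj_surjective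
    rw [ObjectProperty.prop_shift_iff, HomotopyCategory.shift_quotient_obj]
    exact hs K n hK⟩⟩
  have h3 : Q.IsTriangulatedClosed₃ := ⟨fun T hT h1 h2 => by
    obtain ⟨f : T.obj₁.as ⟶ T.obj₂.as, hf⟩ := (HomotopyCategory.quotient _ _).map_surjective T.mor₁
    refine ⟨_, hc _ _ f h1 h2, ⟨Triangle.π₃.mapIso (isoTriangleOfIso₁₂ T _ hT
      (HomotopyCategory.mappingCone_triangleh_distinguished f) (Iso.refl _) (Iso.refl _) ?_)⟩⟩
    change T.mor₁ ≫ 𝟙 _ = 𝟙 _ ≫ (HomotopyCategory.quotient _ _).map f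
    rw [hf]
    exact (Category.comp_id _).trans (Category.id_comp _).symm⟩
  have : Q.IsTriangulatedClosed₂ := .of_isTriangulatedClosed₃
  exact { toContainsZero := h0', toIsStableUnderShift := hs', toIsTriangulatedClosed₂ := this }

theorem minus :
    ObjectProperty.IsTriangulated (fun K : Ho => ∃ n : ℤ, CochainComplex.IsStrictlyLE K.as n) :=
  isTriangulated (fun K => ∃ n : ℤ, K.IsStrictlyLE n)
    ⟨0, (CochainComplex.isStrictlyLE_iff _ _).2 fun i _ => Functor.map_isZero (HomologicalComplex.eval V _ i) (isZero_zero _)⟩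
    (fun K n ⟨q, _⟩ => ⟨q - n, K.isStrictlyLE_shift q n (q - n) (by omega)⟩)
    (fun K L f ⟨a, _⟩ ⟨b, _⟩ => ⟨max (a - 1) b, isStrictlyLE_mappingCone f a b _ (by omega) (by omega)⟩)

theorem bounded :
    ObjectProperty.IsTriangulated (fun K : Ho => ∃ a b : ℤ, CochainComplex.IsStrictlyGE K.as a ∧
      CochainComplex.IsStrictlyLE K.as b) :=
  isTriangulated (fun K => ∃ a b : ℤ, K.IsStrictlyGE a ∧ K.IsStrictlyLE b)
    ⟨0, 0, (CochainComplex.isStrictlyGE_iff _ _).2 fun i _ => Functor.map_isZero (HomologicalComplex.eval V _ i) (isZero_zero _),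
      (CochainComplex.isStrictlyLE_iff _ _).2 fun i _ => Functor.map_isZero (HomologicalComplex.eval V _ i) (isZero_zero _)⟩
    (fun K n ⟨p, q, _, _⟩ => ⟨p - n, q - n, K.isStrictlyGE_shift p n (p - n) (by omega),
      K.isStrictlyLE_shift q n (q - n) (by omega)⟩)
    (fun K L f ⟨a, b, _, _⟩ ⟨c, d, _, _⟩ => ⟨min (a - 1) c, max (b - 1) d,
      CochainComplex.isStrictlyGE_mappingCone f a c _ (by omega) (by omega),
      isStrictlyLE_mappingCone f b d _ (by omega) (by omega)⟩)

/-- Composite null homotopies through a degreewise split sequence. -/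
theorem comp_eq_zero (S : ShortComplex (CochainComplex V ℤ))
    (σ : ∀ n : ℤ, (S.map (HomologicalComplex.eval V (ComplexShape.up ℤ) n)).Splitting)
    {B₁ B₃ : CochainComplex V ℤ} (b : B₁ ⟶ S.X₂) (b' : S.X₂ ⟶ B₃)
    (hb : Nonempty (Homotopy (b ≫ S.g) 0)) (hb' : Nonempty (Homotopy (S.f ≫ b') 0)) :
    Nonempty (Homotopy (b ≫ b') 0) := by
  obtain ⟨h⟩ := hb
  obtain ⟨h'⟩ := hb'
  let q := HomotopyCategory.quotient V (ComplexShape.up ℤ)
  let T := CochainComplex.trianglehOfDegreewiseSplit S σ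
  have hT : T ∈ distTriang _ :=
    (HomotopyCategory.distinguished_iff_iso_trianglehOfDegreewiseSplit T).2 ⟨S, σ, ⟨Iso.refl _⟩⟩
  have hg : q.map b ≫ T.mor₂ = 0 :=
    ((q.map_comp b S.g).symm.trans (HomotopyCategory.eq_of_homotopy _ _ h)).trans (q.map_zero _ _)
  obtain ⟨g, hgf⟩ := T.coyoneda_exact₂ hT (q.map b) hg
  refine ⟨HomotopyCategory.homotopyOfEq _ _ ?_⟩
  refine ((q.map_comp b b').trans ?_).trans (q.map_zero _ _).symm
  refine (congrArg (fun x => x ≫ q.map b') hgf).trans ((Category.assoc _ _ _).trans ?_)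
  have : T.mor₁ ≫ q.map b' = 0 :=
    ((q.map_comp S.f b').symm.trans (HomotopyCategory.eq_of_homotopy _ _ h')).trans (q.map_zero _ _)
  exact (congrArg (g ≫ ·) this).trans comp_zero

end Groth.Agent.HomotopyMinus
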