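import Mathlib.Algebra.Homology.HomologySequence
import Mathlib.Algebra.Homology.HomologicalComplexAbelian
import Mathlib.CategoryTheory.Abelian.Refinements
import Mathlib.CategoryTheory.Preadditive.Injective.Basic
import Mathlib.CategoryTheory.Abelian.Basic

/-!
# Extending maps into complexes of injectives
-/

set_option autoImplicit false
universe v u

open CategoryTheory CategoryTheory.Limits HomologicalComplex

namespace Groth.InjLadder

variable {V : Type u} [Category.{v} V] [Abelian V]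

/-- Two maps into an injective extend when they agree where they overlap. -/
theorem exists_extend_two {X Z B I : V} [Injective I] (a : X ⟶ B) (b : Z ⟶ B) (α : X ⟶ I) (β : Z ⟶ I)
    (h : ∀ {T : V} (k₁ : T ⟶ X) (k₂ : T ⟶ Z), k₁ ≫ a + k₂ ≫ b = 0 → k₁ ≫ α + k₂ ≫ β = 0) :
    ∃ F : B ⟶ I, a ≫ F = α ∧ b ≫ F = β := by
  let w := biprod.desc a b
  let γ := biprod.desc α β
  have hk : kernel.ι w ≫ γ = 0 := by
    have e1 : kernel.ι w ≫ biprod.fst ≫ a + kernel.ι w ≫ biprod.snd ≫ b = 0 := by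
      rw [← Preadditive.comp_add, ← biprod.desc_eq, kernel.condition]
    have := h (kernel.ι w ≫ biprod.fst) (kernel.ι w ≫ biprod.snd) (by simpa using e1)
    simpa [γ, biprod.desc_eq, Preadditive.comp_add] using this
  let c : Abelian.coimage w ⟶ I := cokernel.desc (kernel.ι w) γ hk
  let F : B ⟶ I := Injective.factorThru c (Abelian.factorThruCoimage w)
  have hF : w ≫ F = γ := by
    have e := Abelian.coimage.fac w
    rw [← e, Category.assoc, Injective.comp_factorThru]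
    exact cokernel.π_desc _ _ _
  refine ⟨F, ?_, ?_⟩
  · have := biprod.inl ≫= hF
    simpa [w, γ] using this
  · have := biprod.inr ≫= hF
    simpa [w, γ] using this

variable {A B I : CochainComplex V ℕ} (j : A ⟶ B) (ψ : A ⟶ I) (g : B.homology 0 ⟶ I.homology 0)
  [∀ n, Mono (j.f n)] [∀ n, Injective (I.X n)]

instance isIso_homologyπ_zero (K : CochainComplex V ℕ) : IsIso (K.homologyπ 0) :=
  K.isIso_homologyπ _ 0 rfl (K.shape _ _ (by simp))

theorem exists_zero (hg : homologyMap j 0 ≫ g = homologyMap ψ 0) :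
    ∃ F : B.X 0 ⟶ I.X 0, j.f 0 ≫ F = ψ.f 0 ∧
      B.iCycles 0 ≫ F = B.homologyπ 0 ≫ g ≫ inv (I.homologyπ 0) ≫ I.iCycles 0 := by
  refine exists_extend_two (j.f 0) (B.iCycles 0) (ψ.f 0) _ fun {T} k₁ k₂ h => ?_
  have hd : k₁ ≫ A.d 0 1 = 0 := by
    have h' := h =≫ B.d 0 1
    simp only [Preadditive.add_comp, Category.assoc, iCycles_d, comp_zero, add_zero, zero_comp,
      j.comm] at h'
    rwa [← cancel_mono (j.f 1), zero_comp, Category.assoc]
  let z := A.liftCycles k₁ 1 (by simp) hd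
  have hk : k₁ = z ≫ A.iCycles 0 := (A.liftCycles_i k₁ 1 (by simp) hd).symm
  have hk₂ : k₂ = -(z ≫ cyclesMap j 0) := by
    rw [← cancel_mono (B.iCycles 0), Preadditive.neg_comp, Category.assoc, cyclesMap_i,
      eq_neg_iff_add_eq_zero, ← reassoc_of% hk, add_comm]
    exact h
  have hπ : cyclesMap j 0 ≫ B.homologyπ 0 ≫ g = A.homologyπ 0 ≫ homologyMap ψ 0 := by
    rw [← homologyπ_naturality_assoc, hg]
  rw [hk₂, hk, Preadditive.neg_comp, Category.assoc, Category.assoc, reassoc_of% hπ,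
    homologyπ_naturality_assoc, IsIso.hom_inv_id_assoc, cyclesMap_i, add_neg_eq_zero]

theorem exists_succ (hA : ∀ n, 0 < n → A.ExactAt n) (n : ℕ) (F : B.X n ⟶ I.X n)
    (hF : j.f n ≫ F = ψ.f n) (hFc : B.iCycles n ≫ F ≫ I.d n (n + 1) = 0) :
    ∃ G : B.X (n + 1) ⟶ I.X (n + 1), j.f (n + 1) ≫ G = ψ.f (n + 1) ∧
      B.d n (n + 1) ≫ G = F ≫ I.d n (n + 1) := by
  refine exists_extend_two (j.f (n + 1)) (B.d n (n + 1)) (ψ.f (n + 1)) _ fun {T} k₁ k₂ h => ?_
  have hd : k₁ ≫ A.d (n + 1) (n + 2) = 0 := by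
    have h' := h =≫ B.d (n + 1) (n + 2)
    simp only [Preadditive.add_comp, Category.assoc, d_comp_d, comp_zero, add_zero, zero_comp,
      j.comm] at h'
    rwa [← cancel_mono (j.f (n + 2)), zero_comp, Category.assoc]
  have hex : (A.sc' n (n + 1) (n + 2)).Exact :=
    (A.exactAt_iff' n (n + 1) (n + 2) (by simp) (by simp)).1 (hA (n + 1) n.succ_pos)
  obtain ⟨T', π, hπ, a', ha'⟩ : ∃ (T' : V) (π : T' ⟶ T) (_ : Epi π) (a' : T' ⟶ A.X n),
      π ≫ k₁ = a' ≫ A.d n (n + 1) := hex.exact_up_to_refinements k₁ hd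
  have hz : (a' ≫ j.f n + π ≫ k₂) ≫ B.d n (n + 1) = 0 := by
    rw [Preadditive.add_comp, Category.assoc, Category.assoc, j.comm, ← reassoc_of% ha',
      ← Preadditive.comp_add, h, comp_zero]
  rw [← cancel_epi π, comp_zero, Preadditive.comp_add, reassoc_of% ha']
  calc a' ≫ A.d n (n + 1) ≫ ψ.f (n + 1) + π ≫ k₂ ≫ F ≫ I.d n (n + 1)
      = (a' ≫ j.f n + π ≫ k₂) ≫ F ≫ I.d n (n + 1) := by
        rw [← ψ.comm, ← hF, Preadditive.add_comp]
        simp only [Category.assoc]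
    _ = 0 := by
        rw [← B.liftCycles_i (a' ≫ j.f n + π ≫ k₂) (n + 1) (by simp) hz, Category.assoc, hFc,
          comp_zero]

theorem cycles_comp_d (hB : ∀ n, 0 < n → B.ExactAt n) (n : ℕ) (F : B.X n ⟶ I.X n)
    (G : B.X (n + 1) ⟶ I.X (n + 1)) (h : B.d n (n + 1) ≫ G = F ≫ I.d n (n + 1)) :
    B.iCycles (n + 1) ≫ G ≫ I.d (n + 1) (n + 1 + 1) = 0 := by
  have hex : (B.sc' n (n + 1) (n + 2)).Exact :=
    (B.exactAt_iff' n (n + 1) (n + 2) (by simp) (by simp)).1 (hB (n + 1) n.succ_pos)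
  obtain ⟨T', π, hπ, b', hb'⟩ : ∃ (T' : V) (π : T' ⟶ B.cycles (n + 1)) (_ : Epi π)
      (b' : T' ⟶ B.X n), π ≫ B.iCycles (n + 1) = b' ≫ B.d n (n + 1) :=
    hex.exact_up_to_refinements (B.iCycles (n + 1)) (B.iCycles_d _ _)
  rw [← cancel_epi π, reassoc_of% hb', reassoc_of% h, d_comp_d, comp_zero, comp_zero, comp_zero]

/-- A map from a subcomplex, and a compatible map of degree zero cohomology, extend. -/
theorem exists_extend (hA : ∀ n, 0 < n → A.ExactAt n) (hB : ∀ n, 0 < n → B.ExactAt n)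
    (hg : homologyMap j 0 ≫ g = homologyMap ψ 0) :
    ∃ F : B ⟶ I, j ≫ F = ψ ∧ homologyMap F 0 = g := by
  classical
  obtain ⟨F₀, h₀, h₀'⟩ := exists_zero j ψ g hg
  have h₀c : B.iCycles 0 ≫ F₀ ≫ I.d 0 (0 + 1) = 0 := by
    rw [reassoc_of% h₀', iCycles_d, comp_zero, comp_zero, comp_zero]
  let S : (n : ℕ) → {F : B.X n ⟶ I.X n //
      j.f n ≫ F = ψ.f n ∧ B.iCycles n ≫ F ≫ I.d n (n + 1) = 0} :=
    fun n => Nat.rec (motive := fun n => {F : B.X n ⟶ I.X n //
        j.f n ≫ F = ψ.f n ∧ B.iCycles n ≫ F ≫ I.d n (n + 1) = 0})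
      ⟨F₀, h₀, h₀c⟩
      (fun n p =>
        ⟨(exists_succ j ψ hA n p.1 p.2.1 p.2.2).choose,
          (exists_succ j ψ hA n p.1 p.2.1 p.2.2).choose_spec.1,
          cycles_comp_d hB n p.1 _ (exists_succ j ψ hA n p.1 p.2.1 p.2.2).choose_spec.2⟩) n
  let F : B ⟶ I :=
    { f := fun n => (S n).1
      comm' := fun i k hik => by
        obtain rfl : i + 1 = k := hik
        exact (exists_succ j ψ hA i (S i).1 (S i).2.1 (S i).2.2).choose_spec.2.symm }
  refine ⟨F, hom_ext _ _ fun n => (S n).2.1, ?_⟩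
  rw [← cancel_epi (B.homologyπ 0), homologyπ_naturality, ← cancel_mono (inv (I.homologyπ 0)),
    ← cancel_mono (I.iCycles 0)]
  simp only [Category.assoc, IsIso.hom_inv_id_assoc, cyclesMap_i]
  exact h₀'

end Groth.InjLadder

namespace Groth.InjLadder

variable {V : Type u} [Category.{v} V] [Abelian V]

theorem exists_ladder (C' C C'' I' I I'' : CochainComplex V ℕ)
    (jC : C' ⟶ C) (πC : C ⟶ C'') (jI : I' ⟶ I) (πI : I ⟶ I'')
    (mC : ∀ n, Mono (jC.f n)) (wC : ∀ n, jC.f n ≫ πC.f n = 0)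
    (exC : ∀ n, (ShortComplex.mk (jC.f n) (πC.f n) (wC n)).Exact)
    (wI : ∀ n, jI.f n ≫ πI.f n = 0)
    (hC' : ∀ n, 0 < n → C'.ExactAt n) (hC : ∀ n, 0 < n → C.ExactAt n)
    (hC'' : ∀ n, 0 < n → C''.ExactAt n)
    (injI' : ∀ n, Injective (I'.X n)) (injI : ∀ n, Injective (I.X n))
    (injI'' : ∀ n, Injective (I''.X n))
    (g' : C'.homology 0 ⟶ I'.homology 0) (g : C.homology 0 ⟶ I.homology 0)
    (g'' : C''.homology 0 ⟶ I''.homology 0)
    (hg1 : homologyMap jC 0 ≫ g = g' ≫ homologyMap jI 0)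
    (hg2 : homologyMap πC 0 ≫ g'' = g ≫ homologyMap πI 0) :
    ∃ (f' : C' ⟶ I') (f : C ⟶ I) (f'' : C'' ⟶ I''),
      jC ≫ f = f' ≫ jI ∧ πC ≫ f'' = f ≫ πI ∧
      homologyMap f' 0 = g' ∧ homologyMap f 0 = g ∧ homologyMap f'' 0 = g'' := by
  let Z : CochainComplex V ℕ := HomologicalComplex.zero
  have hZ : ∀ n, IsZero (Z.X n) := fun n => isZero_zero V
  have hZm : ∀ n, Mono ((0 : Z ⟶ C').f n) := fun n =>
    ⟨fun a b _ => (hZ n).eq_of_tgt a b⟩
  have hZ0 : IsZero (Z.homology 0) :=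
    ShortComplex.isZero_homology_of_isZero_X₂ (Z.sc 0) (hZ 0)
  obtain ⟨f', -, hf'⟩ := exists_extend (0 : Z ⟶ C') (0 : Z ⟶ I') g'
    (fun n _ => ShortComplex.exact_of_isZero_X₂ _ (hZ n)) hC' (hZ0.eq_of_src _ _)
  obtain ⟨f, hf, hf0⟩ := exists_extend jC (f' ≫ jI) g hC' hC
    (by rw [hg1, homologyMap_comp, hf'])
  have : Mono jC := mono_of_mono_f _ mC
  let S : ShortComplex (CochainComplex V ℕ) :=
    ShortComplex.mk jC (cokernel.π jC) (cokernel.condition jC)
  have hS : S.ShortExact := { exact := ShortComplex.exact_of_g_is_cokernel _ (cokernelIsCokernel jC) }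
  let ι : cokernel jC ⟶ C'' := cokernel.desc jC πC (hom_ext _ _ fun n => wC n)
  have hι : cokernel.π jC ≫ ι = πC := cokernel.π_desc _ _ _
  have hιm : ∀ n, Mono (ι.f n) := fun n => by
    refine Preadditive.mono_of_cancel_zero _ fun {T} t ht => ?_
    have : Epi ((cokernel.π jC).f n) :=
      inferInstanceAs (Epi ((eval V (ComplexShape.up ℕ) n).map (cokernel.π jC)))
    obtain ⟨T', π, hπ, c, hc⟩ :=
      surjective_up_to_refinements_of_epi ((cokernel.π jC).f n) t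
    have hc0 : c ≫ πC.f n = 0 := by
      rw [← hι, comp_f, ← reassoc_of% hc, ht, comp_zero]
    obtain ⟨T'', π', hπ', a, ha⟩ := (exC n).exact_up_to_refinements c hc0
    have h1 : jC.f n ≫ (cokernel.π jC).f n = 0 := by
      rw [← comp_f, cokernel.condition, zero_f]
    dsimp at ha
    rw [← cancel_epi π, ← cancel_epi π', comp_zero, comp_zero, hc, reassoc_of% ha, h1, comp_zero]
  have hD : ∀ n, 0 < n → (cokernel jC).ExactAt n := fun n hn => by
    rw [exactAt_iff_isZero_homology]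
    exact (hS.homology_exact₃ n (n + 1) (by simp)).isZero_of_both_zeros
      ((hC n hn).isZero_homology.eq_of_src _ _)
      ((hC' (n + 1) (by omega)).isZero_homology.eq_of_tgt _ _)
  let ψ : cokernel jC ⟶ I'' := cokernel.desc jC (f ≫ πI) (by
    rw [← Category.assoc, hf, Category.assoc,
      show jI ≫ πI = 0 from hom_ext _ _ fun n => wI n, comp_zero])
  have hψ : cokernel.π jC ≫ ψ = f ≫ πI := cokernel.π_desc _ _ _
  have hepi : Epi (homologyMap (cokernel.π jC) 0) :=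
    (hS.homology_exact₃ 0 1 (by simp)).epi_f ((hC' 1 one_pos).isZero_homology.eq_of_tgt _ _)
  obtain ⟨f'', hf'', hf''0⟩ := exists_extend ι ψ g'' hD hC'' (by
    rw [← cancel_epi (homologyMap (cokernel.π jC) 0), ← homologyMap_comp_assoc, hι, hg2,
      ← homologyMap_comp, hψ, homologyMap_comp, hf0])
  refine ⟨f', f, f'', hf, ?_, hf', hf0, hf''0⟩
  rw [← hι, Category.assoc, hf'', hψ]

end Groth.InjLadder
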