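import Groth.Agent.S14439
import Groth.Agent.PnCoh.Euler
import Groth.Agent.PnCoh.Finite
import Groth.Agent.PnCoh.MulVar
import Groth.Agent.Misc13.KNilp
import Groth.Agent.Inter.Chi
import Groth.Agent.Inter.Twist
import Groth.Agent.Duality.SheafHomTwist
import Groth.Agent.PlaneCurve.HypIdeal
import Groth.Agent.Variety2.ProjBasics
import Groth.Agent.CohDev.FiniteGeneric

/-!
# `K₀(Coh Pⁿ_k)` is free on `O, O(-1), …, O(-n)`
-/

set_option autoImplicit false
universe u

open CategoryTheory CategoryTheory.Limits AlgebraicGeometry TopologicalSpace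

namespace Groth.KTheory.K0Pn

open Groth.KTheory Groth.Misc13.KNilp

variable (k : Type u) [Field k] (n : ℕ)

local notation "Pn" => CohB1.ProjSpace n k
local notation "O(" d ")" => Twist.twistProjSpace n k d

instance isProper_over : IsProper (CohB1.ProjSpace n k ↘ Spec (CommRingCat.of k)) :=
  Groth.Variety2.isProper_projSpace_toSpec n k

instance isNoetherian_pn : IsNoetherian (CohB1.ProjSpace n k) := Groth.Inter.isNoetherian k

/-- The class of `O(d)`. -/
noncomputable def e (d : ℤ) : SGA6.Kcoh Pn := kc O(d)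

variable {k n}

theorem isCoh_O (d : ℤ) : Coh.IsCoh O(d) := Groth.PnCoh.isCoh_twist n k d

theorem isInv_O (d : ℤ) : PicF.IsInvertible O(d) := Groth.PlaneCurve.isInvertible_twistProjSpace d

theorem kc_congr {M N : (Pn).Modules} (i : M ≅ N) (hM : Coh.IsCoh M) (hN : Coh.IsCoh N) : kc M = kc N :=
  clSub_iso i hM hN (isZero_zero _) (Groth.KTheory.isCoh_of_isZero (isZero_zero _))

variable (k n)

/-- Twisting. -/
noncomputable def tw (d : ℤ) : SGA6.Kcoh Pn →+ SGA6.Kcoh Pn :=
  liftSub (fun M : (Pn).Modules => Coh.IsCoh M) (fun G => kc (CohB1.tensorMod O(d) G)) fun S hS h₁ h₂ h₃ => by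
    obtain ⟨S', hS', ⟨e₁⟩, ⟨e₂⟩, ⟨e₃⟩⟩ := Groth.Inter.exists_shortExact_twist (isInv_O d) hS
    have c₁ := Groth.Inter.isCoh_twist (isInv_O d) h₁
    have c₂ := Groth.Inter.isCoh_twist (isInv_O d) h₂
    have c₃ := Groth.Inter.isCoh_twist (isInv_O d) h₃
    have d₁ := Groth.QCohMod.isCoh_of_iso e₁.symm c₁
    have d₂ := Groth.QCohMod.isCoh_of_iso e₂.symm c₂
    have d₃ := Groth.QCohMod.isCoh_of_iso e₃.symm c₃
    rw [← kc_congr e₁ d₁ c₁, ← kc_congr e₂ d₂ c₂, ← kc_congr e₃ d₃ c₃]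
    exact clSub_rel (P := fun M : (Pn).Modules => Coh.IsCoh M) S' hS' d₁ d₂ d₃

variable {k n}

theorem tw_kc {d : ℤ} {G : (Pn).Modules} (hG : Coh.IsCoh G) :
    tw k n d (kc G) = kc (CohB1.tensorMod O(d) G) := liftSub_clSub _ _ hG

theorem tw_e (d a : ℤ) : tw k n d (e k n a) = e k n (d + a) := by
  obtain ⟨i⟩ := Groth.Duality.Pn.nonempty_twist_tensor n k d a
  rw [e, tw_kc (isCoh_O a)]
  exact kc_congr i (Groth.Inter.isCoh_twist (isInv_O d) (isCoh_O a)) (isCoh_O _)

variable (k n) in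
/-- The operator `[O(-1)] - 1`. -/
noncomputable abbrev T : SGA6.Kcoh Pn →+ SGA6.Kcoh Pn :=
  tw k n (-1) - AddMonoidHom.id _

/-- The standard open. -/
noncomputable abbrev D (i : Fin (n + 1)) : (Pn).Opens :=
  Proj.basicOpen (CohB1.polyGrading n k) (MvPolynomial.X i)

theorem T_mem (i : Fin (n + 1)) {Z : Set Pn} {c : SGA6.Kcoh Pn} (hc : c ∈ supSub Z) :
    T k n c ∈ supSub (Z ∩ (D (k := k) i : Set Pn)ᶜ) := by
  induction hc using AddSubgroup.closure_induction with
  | zero => rw [map_zero]; exact zero_mem _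
  | add a b _ _ ha hb => rw [map_add]; exact add_mem ha hb
  | neg a _ ha => rw [map_neg]; exact neg_mem ha
  | mem c hc =>
    obtain ⟨G, hG, hs, rfl⟩ := hc
    have hX : (MvPolynomial.X i : MvPolynomial (Fin (n + 1)) k) ∈ CohB1.polyGrading n k 1 :=
      (MvPolynomial.mem_homogeneousSubmodule _ _).mpr (MvPolynomial.isHomogeneous_X k i)
    obtain ⟨σ, hσ⟩ := Groth.PnCoh.exists_mulHom (CohB1.polyGrading n k) hX
    have hO : Coh.IsCoh (Coh.structureModule Pn) := Groth.QCohMod.isCoh_unit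
    have hbij : ∀ x ∉ (D (k := k) i : Set Pn)ᶜ, Function.Bijective ((Groth.QCohMod.stalk x).map ((tr G).map σ)) := fun x hx =>
      bijective_tr_map G σ x (Groth.CohDev.bijective_stalkLin_of_bijective_app σ x (not_not.1 hx) hσ)
    have hb := kc_sub_mem (isCoh_tr G (isCoh_O (-1)) hG) (isCoh_tr G hO hG) ((tr G).map σ) _ hbij
      ((support_tr_subset G _).trans hs) ((support_tr_subset G _).trans hs)
    obtain ⟨u, -⟩ := Groth.PicAux.exists_leftUnitor G
    have hu : kc ((tr G).obj (Coh.structureModule Pn)) = kc G := kc_congr u (isCoh_tr G hO hG) hG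
    rw [hu] at hb
    rw [AddMonoidHom.sub_apply, AddMonoidHom.id_apply, tw_kc hG]
    exact hb

theorem iterate_mem {Z : Set Pn} {c : SGA6.Kcoh Pn} (hc : c ∈ supSub Z) :
    ∀ m, m ≤ n + 1 → (⇑(T k n))^[m] c ∈ supSub (Z ∩ {x | ∀ i : Fin (n + 1), (i : ℕ) < m → x ∉ D (k := k) i}) := by
  intro m
  induction m with
  | zero =>
    intro _
    simpa using hc
  | succ m ih =>
    intro hm
    rw [Function.iterate_succ_apply']
    have h := T_mem ⟨m, hm⟩ (ih (by omega))
    refine (AddSubgroup.closure_mono ?_) h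
    rintro c ⟨G, hG, hs, rfl⟩
    refine ⟨G, hG, fun x hx => ⟨(hs hx).1.1, fun i hi => ?_⟩, rfl⟩
    rcases Nat.lt_succ_iff_lt_or_eq.1 hi with h' | h'
    · exact (hs hx).1.2 i h'
    · obtain rfl : i = ⟨m, hm⟩ := Fin.ext h'
      exact (hs hx).2

theorem exists_mem_D (x : Pn) : ∃ i : Fin (n + 1), x ∈ D (k := k) i := by
  obtain ⟨i, hi⟩ := Opens.mem_iSup.mp
    ((Groth.PnCoh.isAcyclicCover_stdOpen n k).cover.ge (show x ∈ (⊤ : (Pn).Opens) from trivial))
  exact ⟨i.down, hi⟩

theorem iterate_T_eq_zero (c : SGA6.Kcoh Pn) : (⇑(T k n))^[n + 1] c = 0 := by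
  have hc : c ∈ supSub (Set.univ : Set Pn) := by
    induction c using k0sub_induction with
    | h0 => exact zero_mem _
    | hcl G hG => exact mem_supSub hG fun _ _ => trivial
    | hadd a b ha hb => exact add_mem ha hb
    | hneg a ha => exact neg_mem ha
  have h := iterate_mem hc (n + 1) le_rfl
  have he : AddSubgroup.closure {c : SGA6.Kcoh Pn | ∃ G : (Pn).Modules, Coh.IsCoh G ∧
      CohB1.support G ⊆ (∅ : Set Pn) ∧ c = kc G} ≤ ⊥ := by
    rw [AddSubgroup.closure_le]
    rintro _ ⟨G, hG, hs, rfl⟩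
    exact clSub_zero ((Groth.QCohMod.isZero_iff_support_eq_empty G).mpr (Set.subset_empty_iff.1 hs)) hG
  refine he ((AddSubgroup.closure_mono ?_) h)
  rintro c ⟨G, hG, hs, rfl⟩
  refine ⟨G, hG, fun x hx => ?_, rfl⟩
  obtain ⟨i, hi⟩ := exists_mem_D x
  exact (hs hx).2 i i.2 hi

variable (k n) in
/-- The span of `O, O(-1), …, O(-(m-1))`. -/
noncomputable def span (m : ℕ) : AddSubgroup (SGA6.Kcoh Pn) :=
  AddSubgroup.closure {c | ∃ j : ℕ, j < m ∧ c = e k n (-(j : ℤ))}

theorem e_mem {m j : ℕ} (h : j < m) : e k n (-(j : ℤ)) ∈ span k n m :=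
  AddSubgroup.subset_closure ⟨j, h, rfl⟩

theorem span_mono {m m' : ℕ} (h : m ≤ m') : span k n m ≤ span k n m' :=
  AddSubgroup.closure_mono fun _ ⟨j, hj, hc⟩ => ⟨j, hj.trans_le h, hc⟩

theorem tw_neg_one_mem {m : ℕ} {c : SGA6.Kcoh Pn} (hc : c ∈ span k n m) :
    tw k n (-1) c ∈ span k n (m + 1) := by
  induction hc using AddSubgroup.closure_induction with
  | zero => rw [map_zero]; exact zero_mem _
  | add a b _ _ ha hb => rw [map_add]; exact add_mem ha hb
  | neg a _ ha => rw [map_neg]; exact neg_mem ha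
  | mem c hc =>
    obtain ⟨j, hj, rfl⟩ := hc
    rw [tw_e, show (-1 : ℤ) + -(j : ℤ) = -((j + 1 : ℕ) : ℤ) by push_cast; ring]
    exact e_mem (by omega)

theorem iterate_T_sub_bot (m : ℕ) : (⇑(T k n))^[m] (e k n 0) - e k n (-(m : ℤ)) ∈ span k n m := by
  induction m with
  | zero => simp
  | succ m ih =>
    rw [Function.iterate_succ_apply']
    set y := (⇑(T k n))^[m] (e k n 0) with hy
    have h1 := tw_neg_one_mem ih
    rw [map_sub, tw_e, show (-1 : ℤ) + -(m : ℤ) = -((m + 1 : ℕ) : ℤ) by push_cast; ring] at h1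
    have h2 : y ∈ span k n (m + 1) := by
      simpa using add_mem (span_mono (Nat.le_succ m) ih) (e_mem (k := k) (n := n) (Nat.lt_succ_self m))
    have := sub_mem h1 h2
    rw [AddMonoidHom.sub_apply, AddMonoidHom.id_apply]
    convert this using 1
    abel

theorem e_bot_mem : e k n (-((n + 1 : ℕ) : ℤ)) ∈ span k n (n + 1) := by
  have h := iterate_T_sub_bot (k := k) (n := n) (n + 1)
  rw [iterate_T_eq_zero, zero_sub] at h
  exact (neg_mem_iff).1 h

theorem iterate_T_sub_top (m : ℕ) : (⇑(T k n))^[m] (e k n 1) - ((-1 : ℤ) ^ m) • e k n 1 ∈ span k n m := by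
  induction m with
  | zero => simp
  | succ m ih =>
    rw [Function.iterate_succ_apply']
    set y := (⇑(T k n))^[m] (e k n 1) with hy
    have h1 := tw_neg_one_mem ih
    rw [map_sub, map_zsmul, tw_e, show (-1 : ℤ) + 1 = -((0 : ℕ) : ℤ) by norm_num] at h1
    have h3 : ((-1 : ℤ) ^ m) • e k n (-((0 : ℕ) : ℤ)) ∈ span k n (m + 1) := zsmul_mem (e_mem (by omega)) _
    have := sub_mem (add_mem h1 h3) (span_mono (Nat.le_succ m) ih)
    rw [AddMonoidHom.sub_apply, AddMonoidHom.id_apply]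
    convert this using 1
    rw [pow_succ, mul_neg_one, neg_smul]
    abel

theorem e_one_mem : e k n 1 ∈ span k n (n + 1) := by
  have h := iterate_T_sub_top (k := k) (n := n) (n + 1)
  rw [iterate_T_eq_zero, zero_sub] at h
  have h' := zsmul_mem ((neg_mem_iff).1 h) ((-1 : ℤ) ^ (n + 1))
  rwa [← mul_smul, ← mul_pow, neg_one_mul, neg_neg, one_pow, one_smul] at h'

theorem tw_mem (d : ℤ) (hd : d = 1 ∨ d = -1) {c : SGA6.Kcoh Pn} (hc : c ∈ span k n (n + 1)) :
    tw k n d c ∈ span k n (n + 1) := by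
  induction hc using AddSubgroup.closure_induction with
  | zero => rw [map_zero]; exact zero_mem _
  | add a b _ _ ha hb => rw [map_add]; exact add_mem ha hb
  | neg a _ ha => rw [map_neg]; exact neg_mem ha
  | mem c hc =>
    obtain ⟨j, hj, rfl⟩ := hc
    rw [tw_e]
    rcases hd with rfl | rfl
    · cases j with
      | zero => simpa using e_one_mem (k := k) (n := n)
      | succ j =>
        rw [show (1 : ℤ) + -((j + 1 : ℕ) : ℤ) = -(j : ℤ) by push_cast; ring]
        exact e_mem (by omega)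
    · rw [show (-1 : ℤ) + -(j : ℤ) = -((j + 1 : ℕ) : ℤ) by push_cast; ring]
      rcases Nat.lt_or_ge (j + 1) (n + 1) with h | h
      · exact e_mem h
      · obtain rfl : j = n := by omega
        exact e_bot_mem

theorem e_mem_span (d : ℤ) : e k n d ∈ span k n (n + 1) := by
  induction d using Int.induction_on with
  | zero => simpa using e_mem (k := k) (n := n) (Nat.succ_pos n)
  | succ i ih => rw [show (i : ℤ) + 1 = 1 + (i : ℤ) by ring, ← tw_e]; exact tw_mem 1 (Or.inl rfl) ih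
  | pred i ih =>
    rw [show -(i : ℤ) - 1 = -1 + -(i : ℤ) by ring, ← tw_e]
    exact tw_mem (-1) (Or.inr rfl) ih

theorem kc_sigma_mem : ∀ (m : ℕ) (d : Fin m → ℤ), kc (∐ fun j => O(d j)) ∈ span k n (n + 1)
  | 0, d => by
    have hz : IsZero (∐ fun j : Fin 0 => O(d j)) :=
      (IsZero.iff_id_eq_zero _).2 (Sigma.hom_ext _ _ fun j => j.elim0)
    show KZero.clSub _ _ ∈ _
    rw [clSub_zero hz (Groth.KTheory.isCoh_of_isZero hz)]
    exact zero_mem _
  | m + 1, d => by
    let f : O(d 0) ⟶ ∐ fun j => O(d j) := Sigma.ι (fun j => O(d j)) 0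
    let g : (∐ fun j => O(d j)) ⟶ ∐ fun j : Fin m => O(d j.succ) :=
      Sigma.desc fun j : Fin (m + 1) =>
        Fin.cases (motive := fun j => O(d j) ⟶ ∐ fun i : Fin m => O(d i.succ)) 0
          (fun i => Sigma.ι (fun i : Fin m => O(d i.succ)) i) j
    have w : f ≫ g = 0 := by simp [f, g]
    let sp : (ShortComplex.mk f g w).Splitting :=
      { r := Sigma.desc fun j : Fin (m + 1) =>
          Fin.cases (motive := fun j => O(d j) ⟶ O(d 0)) (𝟙 _) (fun i => 0) j
        s := Sigma.desc fun i : Fin m => Sigma.ι (fun j => O(d j)) i.succ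
        f_r := by simp [f]
        s_g := Sigma.hom_ext _ _ fun i => by simp [g]
        id := Sigma.hom_ext _ _ fun j => by
          cases j using Fin.cases <;> simp [f, g] }
    have h := clSub_rel (P := fun M : (Pn).Modules => Coh.IsCoh M) _ sp.shortExact (isCoh_O _)
      (Groth.PnCoh.isCoh_sigma _ fun j => isCoh_O (d j))
      (Groth.PnCoh.isCoh_sigma _ fun j => isCoh_O (d j.succ))
    show KZero.clSub _ _ ∈ _
    rw [h]
    exact add_mem (e_mem_span (d 0)) (kc_sigma_mem m fun i => d i.succ)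

theorem kc_mem_span [IsAlgClosed k] {F : (Pn).Modules} (hF : Coh.IsCoh F) : kc F ∈ span k n (n + 1) := by
  obtain ⟨C, π, w, hz, hC, hH, hepi, hex⟩ := Groth.Agent.S14439.result k n F hF
  have hcoh : ∀ i, Coh.IsCoh (C.X i) ∧ kc (C.X i) ∈ span k n (n + 1) := fun i => by
    obtain ⟨m, d, ⟨φ⟩⟩ := hC i
    have hs := Groth.PnCoh.isCoh_sigma (fun j => O(d j)) fun j => isCoh_O (d j)
    refine ⟨Groth.QCohMod.isCoh_of_iso φ.symm hs, ?_⟩
    rw [kc_congr φ (Groth.QCohMod.isCoh_of_iso φ.symm hs) hs]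
    exact kc_sigma_mem m d
  have hK : ∀ i, Coh.IsCoh (cokernel (C.d (i + 1) i)) := fun i =>
    haveI := (hcoh (i + 1)).1.1
    Groth.QCohMod.isCoh_cokernel _ (hcoh i).1
  have hstep : ∀ i, kc (C.X i) = kc (cokernel (C.d (i + 1 + 1) (i + 1))) + kc (cokernel (C.d (i + 1) i)) := by
    intro i
    let S : ShortComplex (Pn).Modules := ShortComplex.mk
      (cokernel.desc (C.d (i + 1 + 1) (i + 1)) (C.d (i + 1) i) (C.d_comp_d _ _ _))
      (cokernel.π (C.d (i + 1) i)) (by rw [← cancel_epi (cokernel.π _)]; simp)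
    let S₁ : ShortComplex (Pn).Modules := ShortComplex.mk (C.d (i + 1 + 1) (i + 1)) (C.d (i + 1) i) (C.d_comp_d _ _ _)
    have he : S₁.Exact := (HomologicalComplex.exactAt_iff' C (i + 1 + 1) (i + 1) i (by simp) (by simp)).1
      ((HomologicalComplex.exactAt_iff_isZero_homology _ _).2 (hH (i + 1) (by omega)))
    have hm : Mono S.f := he.mono_cokernelDesc
    let S₀ : ShortComplex (Pn).Modules := ShortComplex.mk (C.d (i + 1) i) (cokernel.π (C.d (i + 1) i))
      (cokernel.condition _)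
    have h0 : S₀.Exact := ShortComplex.exact_cokernel _
    have hS : S.Exact := by
      let φ : S₀ ⟶ S := { τ₁ := cokernel.π _, τ₂ := 𝟙 _, τ₃ := 𝟙 _ }
      haveI : Epi φ.τ₁ := inferInstanceAs (Epi (cokernel.π _))
      haveI : IsIso φ.τ₂ := inferInstanceAs (IsIso (𝟙 _))
      haveI : Mono φ.τ₃ := inferInstanceAs (Mono (𝟙 _))
      exact (ShortComplex.exact_iff_of_epi_of_isIso_of_mono φ).1 h0
    exact clSub_rel (P := fun M : (Pn).Modules => Coh.IsCoh M) S
      { exact := hS, mono_f := hm, epi_g := inferInstanceAs (Epi (cokernel.π _)) } (hK (i + 1)) (hcoh i).1 (hK i)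
  have hall : ∀ m i, n + 2 ≤ i + m → kc (cokernel (C.d (i + 1) i)) ∈ span k n (n + 1) := by
    intro m
    induction m with
    | zero =>
      intro i hi
      have hzi : IsZero (cokernel (C.d (i + 1) i)) :=
        IsZero.of_epi (cokernel.π (C.d (i + 1) i)) (hz i (by omega))
      show KZero.clSub _ _ ∈ _
      rw [clSub_zero hzi (hK i)]
      exact zero_mem _
    | succ m ih =>
      intro i hi
      have := sub_mem (hcoh i).2 (ih (i + 1) (by omega))
      rwa [hstep i, add_sub_cancel_left] at this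
  have h := hall (n + 2) 0 le_add_self
  have hd : IsColimit (CokernelCofork.ofπ π w) := hex.gIsCokernel
  have i : cokernel (C.d 1 0) ≅ F := (cokernelIsCokernel (C.d 1 0)).coconePointUniqueUpToIso hd
  rw [← kc_congr i (hK 0) hF]
  exact h

variable (k n) in
/-- The map `a ↦ ∑ aᵢ [O(-i)]`. -/
noncomputable def combo : (Fin (n + 1) → ℤ) →+ SGA6.Kcoh Pn where
  toFun a := ∑ i : Fin (n + 1), a i • e k n (-((i : ℕ) : ℤ))
  map_zero' := by simp
  map_add' a b := by simp [add_smul, Finset.sum_add_distrib]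

theorem surjective_combo [IsAlgClosed k] : Function.Surjective (combo k n) := by
  have hs : span k n (n + 1) ≤ (combo k n).range := by
    rw [span, AddSubgroup.closure_le]
    rintro _ ⟨j, hj, rfl⟩
    refine ⟨Pi.single ⟨j, hj⟩ 1, ?_⟩
    show ∑ i : Fin (n + 1), (Pi.single ⟨j, hj⟩ (1 : ℤ) : Fin (n + 1) → ℤ) i • e k n (-((i : ℕ) : ℤ)) = _
    rw [Finset.sum_eq_single ⟨j, hj⟩ (fun b _ hb => by rw [Pi.single_eq_of_ne hb, zero_smul]) (by simp),
      Pi.single_eq_same, one_smul]
  intro c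
  have hc : c ∈ span k n (n + 1) := by
    induction c using k0sub_induction with
    | h0 => exact zero_mem _
    | hcl G hG => exact kc_mem_span hG
    | hadd a b ha hb => exact add_mem ha hb
    | hneg a ha => exact neg_mem ha
  exact hs hc

variable (k n) in
/-- The Euler characteristic on `K₀`. -/
noncomputable def chi : SGA6.Kcoh Pn →+ ℤ :=
  liftSub (fun M : (Pn).Modules => Coh.IsCoh M) (fun G => Curv2.euler k Pn G) fun _ hS h₁ _ h₃ =>
    Groth.Inter.euler_add k hS h₁ h₃

theorem chi_e (d : ℤ) : chi k n (e k n d) = Ring.choose (d + n) n := by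
  rw [chi, e, liftSub_clSub _ _ (isCoh_O d), ← Groth.PnCoh.euler_twist k n d]
  exact Groth.EulerDeg.euler_eq_sum (k := k) (N := n + 1) fun q hq =>
    Groth.PnCoh.subsingleton_HH_twist (n := n) (R := k) d q (by omega) (by omega)

theorem injective_combo : Function.Injective (combo k n) := by
  rw [injective_iff_map_eq_zero]
  intro a ha
  have key : ∀ m : ℕ, ∑ i : Fin (n + 1), a i * Ring.choose ((m : ℤ) - (i : ℕ) + n) n = 0 := by
    intro m
    have hm := congrArg (fun c => chi k n (tw k n (m : ℤ) c)) ha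
    simpa [combo, map_sum, map_zsmul, tw_e, chi_e, ← sub_eq_add_neg] using hm
  have h : ∀ m : ℕ, ∀ hm : m < n + 1, a ⟨m, hm⟩ = 0 := by
    intro m
    induction m using Nat.strong_induction_on with
    | _ m ih =>
    intro hm
    have h0 := key m
    rw [Finset.sum_eq_single ⟨m, hm⟩] at h0
    · simpa [Ring.choose_natCast] using h0
    · intro i _ hi
      have hne : (i : ℕ) ≠ m := fun h => hi (Fin.ext h)
      rcases Nat.lt_or_gt_of_ne hne with h | h
      · rw [show a i = 0 from ih i h i.2, zero_mul]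
      · obtain ⟨j, hj⟩ : ∃ j : ℕ, (m : ℤ) - (i : ℕ) + n = j := ⟨m + n - i, by omega⟩
        rw [hj, Ring.choose_natCast, Nat.choose_eq_zero_of_lt (by omega), Nat.cast_zero, mul_zero]
    · simp
  exact funext fun i => h i i.2

/-- `K₀(Coh Pⁿ)` is free on `O, O(-1), …, O(-n)`. -/
theorem bijective_combo [IsAlgClosed k] : Function.Bijective (combo k n) :=
  ⟨injective_combo, surjective_combo⟩

end Groth.KTheory.K0Pn
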