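import Groth.Agent.KTheory.Resolution

/-!
# The class of objects with finite resolutions
-/

set_option autoImplicit false
universe v u

open CategoryTheory CategoryTheory.Limits ZeroObject

namespace Groth.KTheory.Resolution

variable {C : Type u} [Category.{v} C] [Abelian C] {P₀ P₁ : ObjectProperty C}

variable (P₀ P₁) in
/-- Objects of `P₁` with a finite resolution by objects of `P₀`. -/
def FinRes : ObjectProperty C := fun A => ∃ n, Res P₀ P₁ n A

namespace Setup

variable (h : Setup P₀ P₁)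
include h

/-- An extension of objects with resolutions has a resolution. -/
theorem res_ext' : ∀ {n : ℕ} {A' A A'' : C} {f : A' ⟶ A} {g : A ⟶ A''} {w : f ≫ g = 0},
    (ShortComplex.mk f g w).ShortExact → Res P₀ P₁ n A' → Res P₀ P₁ n A'' → P₁ A → Res P₀ P₁ n A
  | 0, _, _, _, _, _, _, hS, h', h'', _ => h.ext₀ _ hS h' h''
  | n + 1, A', A, A'', f, g, w, hS, h', h'', hA => by
    obtain ⟨hA'1, K', L', i', p', w', hp', hL', -⟩ := id h'
    obtain ⟨L'', u, q, hL'', hu, huq⟩ := h.cover A A'' A'' g (𝟙 _) hS.epi_g hA (h.res_le h'')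
      (h.res_le h'')
    rw [Category.comp_id] at huq
    have : Epi (q ≫ g) := huq ▸ hu
    have : Epi p' := hp'.epi_g
    obtain ⟨hep, a, b, wab, hab⟩ := horseshoe hS p' q
    exact ⟨hA, kernel (biprod.desc (p' ≫ f) q), L' ⊞ L'', _, _, _, shortExact_kernel _,
      h.biprod_mem hL' hL'', res_ext' hab (h.res_kernel (shortExact_kernel p') hL' h')
        (h.res_kernel (shortExact_kernel (q ≫ g)) hL'' h'')
        (h.ker₁ _ (shortExact_kernel _) (h.le _ (h.biprod_mem hL' hL'')) hA)⟩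

/-- The quotient of objects with finite resolutions has one. -/
theorem finRes_X₃ {A' A A'' : C} {f : A' ⟶ A} {g : A ⟶ A''} {w : f ≫ g = 0}
    (hS : (ShortComplex.mk f g w).ShortExact) (h' : FinRes P₀ P₁ A') (hA : FinRes P₀ P₁ A)
    (h'' : P₁ A'') : FinRes P₀ P₁ A'' := by
  obtain ⟨m, hm⟩ := h'
  obtain ⟨n, hn⟩ := hA
  obtain ⟨L, p, q, hL, hp, -⟩ := h.cover A A A (𝟙 _) (𝟙 _) inferInstance (h.res_le hn) (h.res_le hn)
    (h.res_le hn)
  have : Epi g := hS.epi_g
  have : Mono f := hS.mono_f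
  have : Epi p := hp
  have hn' := h.res_succ hn
  have hKer := h.res_kernel (shortExact_kernel p) hL hn'
  let a : kernel p ⟶ kernel (p ≫ g) := kernel.lift (p ≫ g) (kernel.ι p) (by simp)
  let b : kernel (p ≫ g) ⟶ A' := hS.exact.lift (kernel.ι (p ≫ g) ≫ p) (by simp)
  have hb : b ≫ f = kernel.ι (p ≫ g) ≫ p := hS.exact.lift_f _ _
  have hab : a ≫ b = 0 := by
    rw [← cancel_mono f, Category.assoc, hb, ← Category.assoc, kernel.lift_ι]; simp
  have hses : (ShortComplex.mk a b hab).ShortExact := by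
    have : Mono a := mono_of_mono_fac (kernel.lift_ι (p ≫ g) (kernel.ι p) _)
    refine { exact := ShortComplex.exact_of_f_is_kernel _ ?_, mono_f := this, epi_g := ?_ }
    · refine KernelFork.IsLimit.ofι' _ _ fun {W} k hk => ⟨kernel.lift p (k ≫ kernel.ι (p ≫ g)) ?_, ?_⟩
      · rw [Category.assoc, ← hb, ← Category.assoc]
        exact (hk =≫ f).trans zero_comp
      · rw [← cancel_mono (kernel.ι (p ≫ g)), Category.assoc]
        simp [a]
    · let t : pullback f p ⟶ kernel (p ≫ g) := kernel.lift (p ≫ g) (pullback.snd f p) (by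
        rw [← pullback.condition_assoc, w, comp_zero])
      exact epi_of_epi_fac (f := t) (g := b) (h := pullback.fst f p) (by
        rw [← cancel_mono f, Category.assoc, hb, ← Category.assoc, kernel.lift_ι, pullback.condition])
  have hE1 : P₁ (kernel (p ≫ g)) := h.ker₁ _ (shortExact_kernel (p ≫ g)) (h.le _ hL) h''
  exact ⟨max m n + 1, h'', kernel (p ≫ g), L, _, _, _, shortExact_kernel (p ≫ g), hL,
    h.res_ext' hses (h.res_mono (le_max_right _ _) hKer) (h.res_mono (le_max_left _ _) hm) hE1⟩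

/-- The kernel of an epimorphism of objects with finite resolutions has one. -/
theorem finRes_X₁ {A' A A'' : C} {f : A' ⟶ A} {g : A ⟶ A''} {w : f ≫ g = 0}
    (hS : (ShortComplex.mk f g w).ShortExact) (hA : FinRes P₀ P₁ A) (h'' : FinRes P₀ P₁ A'') :
    FinRes P₀ P₁ A' := by
  obtain ⟨n, hn⟩ := hA
  obtain ⟨m, hm⟩ := h''
  have hA'1 : P₁ A' := h.ker₁ _ hS (h.res_le hn) (h.res_le hm)
  obtain ⟨L, p, q, hL, hp, -⟩ := h.cover A A A (𝟙 _) (𝟙 _) inferInstance (h.res_le hn) (h.res_le hn)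
    (h.res_le hn)
  have : Epi g := hS.epi_g
  have : Mono f := hS.mono_f
  have : Epi p := hp
  have hKer := h.res_kernel (shortExact_kernel p) hL (h.res_succ hn)
  have hL' := h.res_kernel (shortExact_kernel (p ≫ g)) hL (h.res_succ hm)
  let b : kernel (p ≫ g) ⟶ A' := hS.exact.lift (kernel.ι (p ≫ g) ≫ p) (by simp)
  have hb : b ≫ f = kernel.ι (p ≫ g) ≫ p := hS.exact.lift_f _ _
  have hsq : IsPullback (kernel.ι (p ≫ g)) b p f := by
    refine IsPullback.of_isLimit' ⟨hb.symm⟩ (PullbackCone.IsLimit.mk _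
      (fun s => kernel.lift (p ≫ g) s.fst (by rw [← Category.assoc, s.condition, Category.assoc, w, comp_zero]))
      (fun s => kernel.lift_ι _ _ _) (fun s => ?_) (fun s m h1 _ => ?_))
    · rw [← cancel_mono f, Category.assoc, hb, ← Category.assoc, kernel.lift_ι, s.condition]
    · rw [← cancel_mono (kernel.ι (p ≫ g)), h1, kernel.lift_ι]
  have hbe : Epi b := Abelian.epi_snd_of_isLimit p f hsq.isLimit
  exact h.finRes_X₃ (shortExact_of_isPullback (shortExact_kernel p) hsq hbe) ⟨n, hKer⟩ ⟨m, hL'⟩ hA'1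

/-- The objects with finite resolutions satisfy the hypotheses of the resolution theorem. -/
theorem setup_finRes : Setup P₀ (FinRes P₀ P₁) where
  le X hX := ⟨0, hX⟩
  ext₀ := h.ext₀
  ext₁ := by
    rintro @⟨A', A, A'', f, g, w⟩ hS ⟨n, hn⟩ h''
    exact ⟨n, h.res_ext hS hn h''⟩
  ker₀ := h.ker₀
  ker₁ := by
    rintro @⟨A', A, A'', f, g, w⟩ hS hA h''
    exact h.finRes_X₁ hS hA h''
  cover A B D u v hu := fun ⟨_, hA⟩ ⟨_, hB⟩ ⟨_, hD⟩ =>
    h.cover A B D u v hu (h.res_le hA) (h.res_le hB) (h.res_le hD)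

theorem res_finRes : ∀ {n : ℕ} {A : C}, Res P₀ P₁ n A → Res P₀ (FinRes P₀ P₁) n A
  | 0, _, hA => hA
  | n + 1, _, hA => by
    obtain ⟨-, K, L, i, p, w, hS, hL, hK⟩ := id hA
    exact ⟨⟨n + 1, hA⟩, K, L, i, p, w, hS, hL, res_finRes hK⟩

/-- `K₀(P₀) → K₀` of the objects with finite resolutions is bijective. -/
theorem mapSub_finRes_bijective :
    Function.Bijective (SGA6.mapSub (𝟭 C) P₀ (FinRes P₀ P₁) h.setup_finRes.le) :=
  h.setup_finRes.mapSub_bijective fun _ ⟨n, hn⟩ => ⟨n, h.res_finRes hn⟩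

end Setup

end Groth.KTheory.Resolution
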