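import Groth.Agent.KTheory.LocFree
import Groth.Agent.KTheory.CohProps
import Groth.Agent.KTheory.DbEuler
import Groth.Agent.KTheory.ResolutionClass
import Groth.Prelude.Def_KRR
import Mathlib.Algebra.Homology.Augment
import Mathlib.Algebra.Homology.QuasiIso

/-!
# Finite locally free resolutions of coherent modules
-/

set_option autoImplicit false
universe u

open CategoryTheory CategoryTheory.Limits AlgebraicGeometry

namespace Groth.KTheory.LFRes

open Groth.KTheory.Resolution

variable {X : Scheme.{u}}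

theorem setup [IsLocallyNoetherian X] (hX : KRR.HasEnoughLocFree X) :
    Setup (KRR.vbP X) (cohProp X) where
  le _ h := LocFree.isCoh h
  ext₀ _ hS h₁ h₃ := LocFree.isFinLocFree_of_shortExact hS h₁ h₃
  ext₁ _ hS h₁ h₃ := LocFree.isCoh_of_shortExact hS h₁ h₃
  ker₀ _ hS h₂ h₃ := LocFree.isFinLocFree_of_shortExact_right hS h₂ h₃
  ker₁ S hS h₂ h₃ := by
    have := hS.mono_f
    have := h₂.1
    have := h₃.1
    have := Groth.QCohMod.isQCoh_of_mono_exact hS.exact
    exact Groth.QCohMod.isCoh_of_mono S.f h₂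
  cover A B D p v hp hA hB hD := by
    have := hA.1
    have := hB.1
    have := hD.1
    have hP : Coh.IsCoh (pullback v p) :=
      Groth.QCohMod.isCoh_of_iso (IsLimit.conePointUniqueUpToIso
        (Abelian.PullbackToBiproductIsKernel.isLimitPullbackToBiproduct v p)
        (kernelIsKernel (biprod.desc v (-p)))).symm
        (Groth.QCohMod.isCoh_kernel (biprod.desc v (-p)) (Groth.QCohMod.isCoh_biprod hD hA))
    obtain ⟨E, q, hE, hq⟩ := hX _ hP
    exact ⟨E, q ≫ pullback.fst v p, q ≫ pullback.snd v p, hE, epi_comp _ _, by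
      simp [pullback.condition]⟩

theorem exists_complex {n : ℕ} : ∀ {A : X.Modules}, Res (KRR.vbP X) (cohProp X) n A →
    ∃ (L : ChainComplex X.Modules ℕ) (π : L.X 0 ⟶ A) (w : L.d 1 0 ≫ π = 0),
      (∀ i, FlatMod.IsFinLocFree (L.X i)) ∧ (∀ i, n < i → IsZero (L.X i)) ∧
      (∀ i, 1 ≤ i → L.ExactAt i) ∧ (ShortComplex.mk _ π w).Exact ∧ Epi π := by
  induction n with
  | zero =>
    intro A hA
    refine ⟨(ChainComplex.single₀ X.Modules).obj A, (HomologicalComplex.singleObjXSelf _ 0 A).hom,
      by simp; rfl, fun i => ?_, fun i hi => HomologicalComplex.isZero_single_obj_X _ _ _ _ (by omega),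
      fun i hi => HomologicalComplex.exactAt_single_obj _ _ _ _ (by omega), ?_, inferInstance⟩
    · rcases eq_or_ne i 0 with rfl | hi
      · exact LocFree.isFinLocFree_of_iso (HomologicalComplex.singleObjXSelf _ 0 A).symm hA
      · exact LocFree.isFinLocFree_zero (HomologicalComplex.isZero_single_obj_X _ _ _ _ hi)
    · rw [ShortComplex.exact_iff_mono]
      · infer_instance
      · simp
  | succ n ih =>
    rintro A ⟨-, K, L₀, i, p, w, hS, hL₀, hK⟩
    obtain ⟨L, π, wπ, hfree, hzero, hex, hex0, hπ⟩ := ih hK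
    let L' := ChainComplex.augment L (π ≫ i) (by rw [← Category.assoc, wπ, zero_comp])
    have w' : L'.d 1 0 ≫ p = 0 := by
      change (π ≫ i) ≫ p = 0
      rw [Category.assoc, w, comp_zero]
    refine ⟨L', p, w', ?_, ?_, ?_, ?_, hS.epi_g⟩
    · rintro (_ | j)
      · exact hL₀
      · exact hfree j
    · rintro (_ | j) hj
      · omega
      · exact hzero j (by omega)
    · rintro (_ | _ | j) hj
      · omega
      · rw [L'.exactAt_iff' 2 1 0 (by simp) (by simp)]
        have hmono := hS.mono_f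
        let φ : ShortComplex.mk (L.d 1 0) π wπ ⟶ L'.sc' 2 1 0 :=
          { τ₁ := 𝟙 _, τ₂ := 𝟙 _, τ₃ := i
            comm₁₂ := (Category.id_comp _).trans (Category.comp_id _).symm
            comm₂₃ := Category.id_comp _ }
        have : Epi φ.τ₁ := inferInstanceAs (Epi (𝟙 _))
        have : IsIso φ.τ₂ := inferInstanceAs (IsIso (𝟙 _))
        have : Mono φ.τ₃ := hmono
        exact (ShortComplex.exact_iff_of_epi_of_isIso_of_mono φ).mp hex0
      · rw [L'.exactAt_iff' (j + 3) (j + 2) (j + 1) (by simp) (by simp)]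
        have h := hex (j + 1) (by omega)
        rw [L.exactAt_iff' (j + 2) (j + 1) j (by simp) (by simp)] at h
        exact (ShortComplex.exact_iff_of_iso (ShortComplex.isoMk (Iso.refl _) (Iso.refl _) (Iso.refl _)
          ((Category.id_comp _).trans (Category.comp_id _).symm)
          ((Category.id_comp _).trans (Category.comp_id _).symm))).mp h
    · have := hπ
      let φ : ShortComplex.mk _ p w' ⟶ ShortComplex.mk i p w :=
        { τ₁ := π, τ₂ := 𝟙 _, τ₃ := 𝟙 _
          comm₁₂ := (Category.comp_id _).symm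
          comm₂₃ := (Category.id_comp _).trans (Category.comp_id _).symm }
      have : Epi φ.τ₁ := hπ
      have : IsIso φ.τ₂ := inferInstanceAs (IsIso (𝟙 _))
      have : Mono φ.τ₃ := inferInstanceAs (Mono (𝟙 _))
      exact (ShortComplex.exact_iff_of_epi_of_isIso_of_mono φ).mpr hS.exact

theorem quasiIso_zero_iff {A : X.Modules} {L : ChainComplex X.Modules ℕ}
    (φ : L ⟶ (ChainComplex.single₀ X.Modules).obj A) :
    QuasiIsoAt φ 0 ↔ (ShortComplex.mk (L.d 1 0) (φ.f 0)
      ((ChainComplex.toSingle₀Equiv L A) φ).2).Exact ∧ Epi (φ.f 0) := by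
  rw [ChainComplex.quasiIsoAt₀_iff, ShortComplex.quasiIso_iff_of_zeros']
  · exact ShortComplex.exact_and_epi_g_iff_of_iso
      (ShortComplex.isoMk (Iso.refl _) (Iso.refl _) (Iso.refl _)
        ((Category.id_comp _).trans (Category.comp_id _).symm)
        ((Category.id_comp _).trans (Category.comp_id _).symm))
  all_goals first | rfl | exact HomologicalComplex.shape _ _ _ (by simp) | simp

theorem hasLFRes_of_finRes {A : X.Modules} (hA : FinRes (KRR.vbP X) (cohProp X) A) :
    KRR.HasLFRes A := by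
  obtain ⟨n, hn⟩ := hA
  obtain ⟨L, π, w, hfree, hzero, hex, hex0, hπ⟩ := exists_complex hn
  refine ⟨n, L, (ChainComplex.toSingle₀Equiv L A).symm ⟨π, w⟩, hfree, hzero, ⟨fun i => ?_⟩⟩
  rcases i with _ | i
  · rw [quasiIso_zero_iff]
    have e : ((ChainComplex.toSingle₀Equiv L A).symm ⟨π, w⟩).f 0 = π :=
      ChainComplex.toSingle₀Equiv_symm_apply_f_zero π w
    refine ⟨(ShortComplex.exact_iff_of_iso (ShortComplex.isoMk (Iso.refl _) (Iso.refl _) (Iso.refl _)
      (by simp) (by simp [e]))).mp hex0, ?_⟩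
    rw [e]
    exact hπ
  · rw [quasiIsoAt_iff_exactAt' _ _ (ChainComplex.exactAt_succ_single_obj _ _)]
    exact hex _ (by omega)

theorem finRes_of_hasLFRes [IsLocallyNoetherian X] (hX : KRR.HasEnoughLocFree X) {A : X.Modules}
    (hA : Coh.IsCoh A) (h : KRR.HasLFRes A) : FinRes (KRR.vbP X) (cohProp X) A := by
  obtain ⟨n, L, φ, hfree, hzero, hq⟩ := h
  have S := setup hX
  have hcohL : ∀ i, (cohProp X) (L.X i) := fun i => S.le _ (hfree i)
  have key : ∀ d i, n ≤ i + d → FinRes (KRR.vbP X) (cohProp X) (kernel (L.d (i + 1) i)) := by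
    intro d
    induction d with
    | zero =>
      intro i hi
      exact ⟨0, LocFree.isFinLocFree_zero (Groth.KTheory.isZero_kernel (hzero (i + 1) (by omega)) _)⟩
    | succ d ih =>
      intro i hi
      have hex : L.ExactAt (i + 1) :=
        (quasiIsoAt_iff_exactAt' φ (i + 1) (ChainComplex.exactAt_succ_single_obj _ _)).mp (hq.quasiIsoAt _)
      rw [L.exactAt_iff' (i + 2) (i + 1) i (by simp) (by simp)] at hex
      exact S.finRes_X₃ (Groth.KTheory.shortExact_kernel_of_exact _ _ _ hex) (ih (i + 1) (by omega))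
        ⟨0, hfree (i + 2)⟩ ((cohProp X).prop_kernel _ (hcohL _) (hcohL _))
  obtain ⟨hex0, hepi⟩ := (quasiIso_zero_iff φ).mp (hq.quasiIsoAt 0)
  let π : L.X 0 ⟶ A := φ.f 0
  have : Epi π := hepi
  have h1 : FinRes (KRR.vbP X) (cohProp X) (kernel π) :=
    S.finRes_X₃ (Groth.KTheory.shortExact_kernel_of_exact _ _ _ hex0) (key n 0 (by omega))
      ⟨0, hfree 1⟩ ((cohProp X).prop_kernel _ (hcohL 0) hA)
  exact S.finRes_X₃ (Groth.KTheory.Resolution.shortExact_kernel π) h1 ⟨0, hfree 0⟩ hA

theorem finRes_eq [IsLocallyNoetherian X] (hX : KRR.HasEnoughLocFree X) :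
    FinRes (KRR.vbP X) (cohProp X) = fun M : X.Modules => Coh.IsCoh M ∧ KRR.HasLFRes M := by
  funext A
  refine propext ⟨fun h => ⟨?_, hasLFRes_of_finRes h⟩, fun h => finRes_of_hasLFRes hX h.1 h.2⟩
  obtain ⟨n, hn⟩ := h
  exact (setup hX).res_le hn

end Groth.KTheory.LFRes
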