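import Groth.Agent.MilnorKLambda.LamModel

/-!
# Special λ-rings from splittings into sums of lines
-/

set_option autoImplicit false
universe u v w

open Finset MvPolynomial LambdaRing

namespace Groth.KTheory.LambdaSpecial

open Groth.MilnorKLambda.Lam

variable {V : Type v}

/-- `u_v ↦ 1 + X_v`. -/
noncomputable def toModel (V : Type v) : MvPolynomial V ℤ →+* MvPolynomial V ℚ :=
  eval₂Hom (Int.castRingHom _) fun x => 1 + X x

theorem toModel_injective : Function.Injective (toModel V) := by
  let back : MvPolynomial V ℚ →+* MvPolynomial V ℚ :=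
    (aeval fun x => (X x - 1 : MvPolynomial V ℚ) : MvPolynomial V ℚ →ₐ[ℚ] MvPolynomial V ℚ).toRingHom
  have h : back.comp (toModel V) = MvPolynomial.map (Int.castRingHom ℚ) :=
    MvPolynomial.ringHom_ext (fun r => by simp [back, toModel]) fun x => by simp [back, toModel]
  intro a b hab
  apply MvPolynomial.map_injective (Int.castRingHom ℚ) Int.cast_injective
  rw [← h, RingHom.comp_apply, RingHom.comp_apply, hab]

attribute [local instance] modelOps

theorem isModelLine_pow {L : MvPolynomial V ℚ} (hL : IsModelLine L) : ∀ b : ℕ, IsModelLine (L ^ b)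
  | 0 => ⟨by simp, fun k _ => by simp⟩
  | b + 1 => by rw [pow_succ]; exact (isModelLine_pow hL b).mul hL

theorem isModelLine_toModel (d : V →₀ ℕ) : IsModelLine (toModel V (monomial d 1)) := by
  induction d using Finsupp.induction with
  | zero => exact ⟨by simp, fun k _ => by simp⟩
  | single_add a b f _ _ ih =>
    rw [monomial_single_add, map_mul, map_pow]
    refine IsModelLine.mul ?_ ih
    have hX : toModel V (X a) = 1 + X a := by simp [toModel]
    rw [hX]
    exact isModelLine_pow (isModelLine_one_add_X a) b

section Hom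

variable {K : Type u} [CommRing K] [LambdaOps K]

/-- An additive map respecting sums of products of `λ`-operations respects `λ`-operations on differences. -/
theorem lam_neg_eq (z : K) (n : ℕ) :
    LambdaOps.lam (n + 1) (-z) =
      -∑ i ∈ range (n + 1), LambdaOps.lam (i + 1) z * LambdaOps.lam (n - i) (-z) := by
  have h := LambdaOps.lam_add (n + 1) z (-z)
  rw [add_neg_cancel, LambdaCore.lam_zero_of_pos (by omega), Finset.sum_range_succ',
    LambdaOps.lam_zero, one_mul, Nat.sub_zero] at h
  refine eq_neg_of_add_eq_zero_left ?_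
  rw [add_comm]
  simp only [Nat.add_sub_add_right] at h
  exact h.symm

variable (f : MvPolynomial V ℤ →+* K)
  (hline : ∀ d : V →₀ ℕ, ∀ i, 2 ≤ i → LambdaOps.lam i (f (monomial d 1)) = 0)

/-- The `λ`-operations of `z` come from the polynomial ring. -/
def Good (z : MvPolynomial V ℤ) : Prop :=
  ∀ n : ℕ, ∃ w, toModel V w = LambdaOps.lam n (toModel V z) ∧ f w = LambdaOps.lam n (f z)

include hline

theorem good_monomial (d : V →₀ ℕ) : Good f (monomial d (1 : ℤ)) := by
  intro n
  match n with
  | 0 => exact ⟨1, by rw [LambdaOps.lam_zero, map_one], by rw [LambdaOps.lam_zero, map_one]⟩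
  | 1 => exact ⟨_, (LambdaOps.lam_one _).symm, (LambdaOps.lam_one _).symm⟩
  | n + 2 => exact ⟨0, by rw [map_zero, (isModelLine_toModel d).lam_eq_zero (by omega)],
      by rw [map_zero, hline d _ (by omega)]⟩

omit hline in
theorem good_zero : Good f 0 := fun n => by
  match n with
  | 0 => exact ⟨1, by rw [LambdaOps.lam_zero, map_one], by rw [LambdaOps.lam_zero, map_one]⟩
  | n + 1 => exact ⟨0, by simp only [map_zero, LambdaCore.lam_zero_of_pos (show 1 ≤ n + 1 by omega)],
      by simp only [map_zero, LambdaCore.lam_zero_of_pos (show 1 ≤ n + 1 by omega)]⟩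

omit hline in
theorem good_add {a b : MvPolynomial V ℤ} (ha : Good f a) (hb : Good f b) : Good f (a + b) := fun n => by
  choose wa hwa hwa' using ha
  choose wb hwb hwb' using hb
  refine ⟨∑ i ∈ range (n + 1), wa i * wb (n - i), ?_, ?_⟩
  · rw [map_add, LambdaOps.lam_add, map_sum]
    exact sum_congr rfl fun i _ => by rw [map_mul, hwa, hwb]
  · rw [map_add, LambdaOps.lam_add, map_sum]
    exact sum_congr rfl fun i _ => by rw [map_mul, hwa', hwb']

omit hline in
theorem good_neg {a : MvPolynomial V ℤ} (ha : Good f a) : Good f (-a) := fun n => by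
  induction n using Nat.strong_induction_on with
  | _ n ih =>
    match n with
    | 0 => exact ⟨1, by rw [LambdaOps.lam_zero, map_one], by rw [LambdaOps.lam_zero, map_one]⟩
    | m + 1 =>
      choose wa hwa hwa' using ha
      choose wn hwn hwn' using fun i : Fin (m + 1) => ih (m - i) (by omega)
      refine ⟨-∑ i : Fin (m + 1), wa (i + 1) * wn i, ?_, ?_⟩
      · rw [map_neg, map_neg, lam_neg_eq, ← Fin.sum_univ_eq_sum_range
          (fun i => LambdaOps.lam (i + 1) (toModel V a) * LambdaOps.lam (m - i) (-toModel V a)), map_sum]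
        exact congrArg _ (sum_congr rfl fun i _ => by rw [map_mul, hwa, hwn, map_neg])
      · rw [map_neg, map_neg, lam_neg_eq, ← Fin.sum_univ_eq_sum_range
          (fun i => LambdaOps.lam (i + 1) (f a) * LambdaOps.lam (m - i) (-f a)), map_sum]
        exact congrArg _ (sum_congr rfl fun i _ => by rw [map_mul, hwa', hwn', map_neg])

theorem good_all (z : MvPolynomial V ℤ) : Good f z := by
  induction z using MvPolynomial.induction_on' with
  | monomial d c =>
    induction c using Int.induction_on with
    | zero => rw [map_zero]; exact good_zero f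
    | succ i ih => rw [map_add]; exact good_add f ih (good_monomial f hline d)
    | pred i ih =>
      rw [sub_eq_add_neg, map_add]
      refine good_add f ih ?_
      rw [map_neg]
      exact good_neg f (good_monomial f hline d)
  | add a b ha hb => exact good_add f ha hb

theorem lam_mul_of_lines (n : ℕ) (P : MvPolynomial (Fin n ⊕ Fin n) ℤ) (hP : IsMulPoly n P)
    (x y : MvPolynomial V ℤ) :
    LambdaOps.lam n (f x * f y) =
      aeval (Sum.elim (fun k : Fin n => LambdaOps.lam ((k : ℕ) + 1) (f x))
        (fun k : Fin n => LambdaOps.lam ((k : ℕ) + 1) (f y))) P := by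
  choose L hL hL' using good_all f hline
  have key : L (x * y) n = aeval (Sum.elim (fun k : Fin n => L x ((k : ℕ) + 1))
      (fun k : Fin n => L y ((k : ℕ) + 1))) P := by
    apply toModel_injective
    rw [hL, map_mul, model_isSpecial.lam_mul n P hP]
    refine Eq.trans ?_ (comp_aeval_apply _ (toModel V).toIntAlgHom P).symm
    congr 2
    funext k
    rcases k with k | k <;> simp [hL]
  rw [← map_mul, ← hL', key]
  refine (comp_aeval_apply _ f.toIntAlgHom P).trans ?_
  congr 2
  funext k
  rcases k with k | k <;> simp [hL']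

theorem lam_lam_of_lines (i j : ℕ) (Q : MvPolynomial (Fin (i * j)) ℤ) (hQ : IsCompPoly i j Q)
    (x : MvPolynomial V ℤ) :
    LambdaOps.lam j (LambdaOps.lam i (f x)) =
      aeval (fun k : Fin (i * j) => LambdaOps.lam ((k : ℕ) + 1) (f x)) Q := by
  choose L hL hL' using good_all f hline
  have key : L (L x i) j = aeval (fun k : Fin (i * j) => L x ((k : ℕ) + 1)) Q := by
    apply toModel_injective
    rw [hL, hL, model_isSpecial.lam_lam i j Q hQ]
    refine Eq.trans ?_ (comp_aeval_apply _ (toModel V).toIntAlgHom Q).symm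
    congr 2
    funext k
    simp [hL]
  rw [← hL', ← hL', key]
  refine (comp_aeval_apply _ f.toIntAlgHom Q).trans ?_
  congr 2
  funext k
  simp [hL']

end Hom

/-- A pre-λ-ring in which any two elements split into sums of lines in some injective extension is special. -/
theorem isSpecial_of_split {K : Type u} [CommRing K] [LambdaOps K]
    (h1 : ∀ n, 2 ≤ n → LambdaOps.lam n (1 : K) = 0)
    (h : ∀ x y : K, ∃ (L : Type w) (_ : CommRing L) (_ : LambdaOps L) (g : K →+* L) (V : Type w)
      (f : MvPolynomial V ℤ →+* L), Function.Injective g ∧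
      (∀ i z, g (LambdaOps.lam i z) = LambdaOps.lam i (g z)) ∧
      (∀ d : V →₀ ℕ, ∀ i, 2 ≤ i → LambdaOps.lam i (f (monomial d 1)) = 0) ∧
      g x ∈ f.range ∧ g y ∈ f.range) : IsSpecial K := by
  refine ⟨h1, fun n P hP x y => ?_, fun i j Q hQ x => ?_⟩
  · obtain ⟨L, _, _, g, V, f, hg, hl, hline, ⟨x', hx⟩, ⟨y', hy⟩⟩ := h x y
    apply hg
    rw [hl, map_mul, ← hx, ← hy, lam_mul_of_lines f hline n P hP]
    refine Eq.trans ?_ (comp_aeval_apply _ g.toIntAlgHom P).symm
    congr 2
    funext k
    rcases k with k | k <;> simp [hl, hx, hy]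
  · obtain ⟨L, _, _, g, V, f, hg, hl, hline, ⟨x', hx⟩, -⟩ := h x x
    apply hg
    rw [hl, hl, ← hx, lam_lam_of_lines f hline i j Q hQ]
    refine Eq.trans ?_ (comp_aeval_apply _ g.toIntAlgHom Q).symm
    congr 2
    funext k
    simp [hl, hx]

end Groth.KTheory.LambdaSpecial
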