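import Mathlib

/-!
# The higher derived limits of a tower of abelian groups vanish from degree two on
-/

set_option autoImplicit false
universe u

open CategoryTheory CategoryTheory.Limits Opposite

namespace Groth.LimTower

theorem hom_elim {a b : ℕ} (f g : a ⟶ b) : f = g := Subsingleton.elim _ _


/-- The tower of free groups on the representable tower below `n`. -/
noncomputable def freeRep (n : ℕ) : (ℕᵒᵖ ⥤ AddCommGrpCat.{u}) := uliftYoneda.{u}.obj n ⋙ AddCommGrpCat.free.{u}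

theorem mono_freeRep_map {n m : ℕ} (f : n ⟶ m) :
    Mono (Functor.whiskerRight (uliftYoneda.{u}.map f) AddCommGrpCat.free.{u} :
      freeRep n ⟶ freeRep m) := by
  have : ∀ k : ℕᵒᵖ, Mono ((Functor.whiskerRight (uliftYoneda.{u}.map f) AddCommGrpCat.free.{u} :
      freeRep n ⟶ freeRep m).app k) := by
    intro k
    rw [Functor.whiskerRight_app, AddCommGrpCat.mono_iff_injective]
    change Function.Injective (FreeAbelianGroup.map ((uliftYoneda.{u}.map f).app k))
    by_cases h : unop k ≤ n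
    · let g : (uliftYoneda.{u}.obj m).obj k → (uliftYoneda.{u}.obj n).obj k :=
        fun _ => ⟨homOfLE h⟩
      have : (fun x => g ((uliftYoneda.{u}.map f).app k x)) = id := funext fun x => by
        rcases x with ⟨x⟩
        exact congrArg ULift.up (hom_elim _ _)
      refine Function.LeftInverse.injective (g := FreeAbelianGroup.map g) fun x => ?_
      rw [← FreeAbelianGroup.map_comp_apply]
      exact (congrArg (fun v => FreeAbelianGroup.map v x) this).trans (FreeAbelianGroup.map_id_apply x)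
    · have : IsEmpty ((uliftYoneda.{u}.obj n).obj k) := ⟨fun x => h (leOfHom x.down)⟩
      exact Function.injective_of_subsingleton _
  exact NatTrans.mono_of_mono_app _

/-- The transition maps of an injective tower are surjective. -/
theorem surjective_map_of_injective (J : (ℕᵒᵖ ⥤ AddCommGrpCat.{u})) [Injective J] (n : ℕ) :
    Function.Surjective (J.map (homOfLE n.le_succ).op) := by
  intro x
  let a : uliftYoneda.{u}.obj n ⟶ J ⋙ forget AddCommGrpCat := uliftYonedaEquiv.symm x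
  let φ : freeRep n ⟶ J :=
    { app := fun k => (AddCommGrpCat.adj.homEquiv _ _).symm (a.app k)
      naturality := fun k l g =>
        (AddCommGrpCat.adj.homEquiv_naturality_left_symm _ _).symm.trans
          ((congrArg _ (a.naturality g)).trans (AddCommGrpCat.adj.homEquiv_naturality_right_symm _ _)) }
  let ι : freeRep n ⟶ freeRep (n + 1) :=
    Functor.whiskerRight (uliftYoneda.{u}.map (homOfLE n.le_succ)) AddCommGrpCat.free.{u}
  have : Mono ι := mono_freeRep_map _
  let ψ := Injective.factorThru φ ι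
  have hψ : ι ≫ ψ = φ := Injective.comp_factorThru _ _
  refine ⟨ψ.app (op (n + 1)) (FreeAbelianGroup.of ⟨𝟙 _⟩), ?_⟩
  have e1 : J.map (homOfLE n.le_succ).op (ψ.app (op (n + 1)) (FreeAbelianGroup.of ⟨𝟙 _⟩)) =
      ψ.app (op n) (FreeAbelianGroup.of ⟨homOfLE n.le_succ⟩) := by
    rw [← NatTrans.naturality_apply]
    refine congrArg (ψ.app (op n)) ?_
    change FreeAbelianGroup.map _ (FreeAbelianGroup.of _) = _
    rw [FreeAbelianGroup.map_of_apply]
    exact congrArg (fun z => FreeAbelianGroup.of (ULift.up z)) (hom_elim _ _)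
  have e2 := congr($(congr_app hψ (op n)) (FreeAbelianGroup.of ⟨𝟙 _⟩))
  rw [e1]
  have e3 : ι.app (op n) (FreeAbelianGroup.of ⟨𝟙 _⟩) = FreeAbelianGroup.of ⟨homOfLE n.le_succ⟩ := by
    change FreeAbelianGroup.map _ (FreeAbelianGroup.of _) = _
    rw [FreeAbelianGroup.map_of_apply]
    exact congrArg (fun z => FreeAbelianGroup.of (ULift.up z)) (hom_elim _ _)
  rw [NatTrans.comp_app, ConcreteCategory.comp_apply, e3] at e2
  rw [e2]
  change FreeAbelianGroup.lift (a.app (op n)) (FreeAbelianGroup.of ⟨𝟙 _⟩) = x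
  rw [FreeAbelianGroup.lift_apply_of]
  exact (uliftYonedaEquiv (F := J ⋙ forget AddCommGrpCat.{u}) (X := n)).apply_symm_apply x

theorem exists_limit_elt (F : (ℕᵒᵖ ⥤ AddCommGrpCat.{u})) (y : ∀ n, F.obj (op n))
    (hy : ∀ n, F.map (homOfLE n.le_succ).op (y (n + 1)) = y n) :
    ∃ x : (limit F : AddCommGrpCat.{u}), ∀ n, limit.π F (op n) x = y n := by
  have hs : ∀ {a b : ℕ} (h : a ≤ b), F.map (homOfLE h).op (y b) = y a := by
    intro a b h
    induction b, h using Nat.le_induction with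
    | base => exact congr($(F.map_id (op a)) (y a))
    | succ b hb ih =>
      rw [← ih, ← hy b, ← ConcreteCategory.comp_apply, ← F.map_comp]
      rfl
  let s : (F ⋙ forget AddCommGrpCat).sections :=
    ⟨fun k => y (unop k), fun {a b} g => by
      have : g = (homOfLE (leOfHom g.unop)).op := Subsingleton.elim _ _
      rw [this]
      exact hs (leOfHom g.unop)⟩
  let t := isLimitOfPreserves (forget AddCommGrpCat.{u}) (limit.isLimit F)
  exact ⟨(Types.isLimitEquivSections t).symm s,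
    fun n => Types.isLimitEquivSections_symm_apply t s (op n)⟩

theorem surjective_of_exact {I₀ I₁ I₂ I₃ : (ℕᵒᵖ ⥤ AddCommGrpCat.{u})} (d₀ : I₀ ⟶ I₁) (d₁ : I₁ ⟶ I₂) (d₂ : I₂ ⟶ I₃)
    (hI : ∀ n : ℕ, Function.Surjective (I₀.map (homOfLE n.le_succ).op))
    (h₁ : ∀ k (v : I₁.obj k), d₁.app k v = 0 → ∃ w, d₀.app k w = v)
    (h₂ : ∀ k (v : I₂.obj k), d₂.app k v = 0 → ∃ w, d₁.app k w = v)
    (h₀₁ : ∀ k (w : I₀.obj k), d₁.app k (d₀.app k w) = 0)
    (x : (limit I₂ : AddCommGrpCat.{u})) (hx : limMap d₂ x = 0) :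
    ∃ y : (limit I₁ : AddCommGrpCat.{u}), limMap d₁ y = x := by
  have hz : ∀ k, d₂.app k (limit.π I₂ k x) = 0 := fun k => by
    rw [← ConcreteCategory.comp_apply, ← limMap_π, ConcreteCategory.comp_apply, hx, map_zero]
  have hzc : ∀ n : ℕ, I₂.map (homOfLE n.le_succ).op (limit.π I₂ (op (n + 1)) x) = limit.π I₂ (op n) x :=
    fun n => by rw [← ConcreteCategory.comp_apply, limit.w]
  have step : ∀ (n : ℕ) (p : {v : I₁.obj (op n) // d₁.app _ v = limit.π I₂ (op n) x}),
      ∃ q : {v : I₁.obj (op (n + 1)) // d₁.app _ v = limit.π I₂ (op (n + 1)) x},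
        I₁.map (homOfLE n.le_succ).op q.1 = p.1 := by
    intro n p
    obtain ⟨v, hv⟩ := h₂ _ _ (hz (op (n + 1)))
    obtain ⟨w, hw⟩ := h₁ (op n) (I₁.map (homOfLE n.le_succ).op v - p.1) (by
      rw [map_sub, NatTrans.naturality_apply, hv, hzc, p.2, sub_self])
    obtain ⟨w', rfl⟩ := hI n w
    refine ⟨⟨v - d₀.app _ w', by rw [map_sub, hv, h₀₁, sub_zero]⟩, ?_⟩
    rw [map_sub, ← NatTrans.naturality_apply, hw, sub_sub_cancel]
  choose q hq using step
  obtain ⟨v₀, hv₀⟩ := h₂ _ _ (hz (op 0))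
  let S : ∀ n : ℕ, {v : I₁.obj (op n) // d₁.app _ v = limit.π I₂ (op n) x} :=
    fun n => Nat.rec (motive := fun n => {v : I₁.obj (op n) // d₁.app _ v = limit.π I₂ (op n) x})
      ⟨v₀, hv₀⟩ q n
  obtain ⟨y, hy⟩ := exists_limit_elt I₁ (fun n => (S n).1) (fun n => hq n (S n))
  refine ⟨y, Concrete.limit_ext _ _ _ fun k => ?_⟩
  rw [← ConcreteCategory.comp_apply, limMap_π, ConcreteCategory.comp_apply]
  obtain ⟨n⟩ := k
  rw [hy n]
  exact (S n).2

theorem isZero_rightDerived [EnoughInjectives (ℕᵒᵖ ⥤ AddCommGrpCat.{u})]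
    [(lim : (ℕᵒᵖ ⥤ AddCommGrpCat.{u}) ⥤ AddCommGrpCat.{u}).Additive] (A : (ℕᵒᵖ ⥤ AddCommGrpCat.{u})) (i : ℕ) (hi : 2 ≤ i) :
    IsZero (((lim : (ℕᵒᵖ ⥤ AddCommGrpCat.{u}) ⥤ AddCommGrpCat.{u}).rightDerived i).obj A) := by
  obtain ⟨m, rfl⟩ := Nat.exists_eq_add_of_le hi
  let P := injectiveResolution A
  refine IsZero.of_iso ?_ (P.isoRightDerivedObj (lim : (ℕᵒᵖ ⥤ AddCommGrpCat.{u}) ⥤ AddCommGrpCat.{u}) (2 + m))
  change IsZero (HomologicalComplex.homology
    (((lim : (ℕᵒᵖ ⥤ AddCommGrpCat.{u}) ⥤ AddCommGrpCat.{u}).mapHomologicalComplex (ComplexShape.up ℕ)).obj P.cocomplex) (2 + m))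
  rw [show 2 + m = m + 2 by omega, ← HomologicalComplex.exactAt_iff_isZero_homology,
    HomologicalComplex.exactAt_iff' _ (m + 1) (m + 2) (m + 3) (by simp) (by simp),
    ShortComplex.ab_exact_iff]
  intro x hx
  have ex : ∀ (j : ℕ) (k : ℕᵒᵖ) (v : (P.cocomplex.X (j + 1)).obj k),
      (P.cocomplex.d (j + 1) (j + 2)).app k v = 0 → ∃ w, (P.cocomplex.d j (j + 1)).app k w = v :=
    fun j k v hv => (ShortComplex.ab_exact_iff _).1
      ((P.exact_succ j).map ((evaluation ℕᵒᵖ AddCommGrpCat.{u}).obj k)) v hv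
  exact surjective_of_exact (P.cocomplex.d m (m + 1)) (P.cocomplex.d (m + 1) (m + 2))
    (P.cocomplex.d (m + 2) (m + 3)) (fun n => surjective_map_of_injective _ n) (ex m) (ex (m + 1))
    (fun k w => congr($(congr_app (P.cocomplex.d_comp_d m (m + 1) (m + 2)) k) w)) x hx

end Groth.LimTower
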