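import Groth.Agent.S3194
import Groth.Prelude.Def_SGA6
import Mathlib.Algebra.Category.ModuleCat.ChangeOfRingsExact
import Mathlib.Algebra.MvPolynomial.CommRing
import Mathlib.RingTheory.Flat.Localization
import Mathlib.RingTheory.Localization.FractionRing
import Mathlib.RingTheory.TensorProduct.Quotient
import Mathlib.RingTheory.Polynomial.Basic

/-!
# `K₀` of finite modules over two transversal branches
-/

set_option autoImplicit false
universe u

open CategoryTheory TensorProduct

namespace Groth.KTheory.NodeK0

/-- Finite modules. -/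
abbrev fin (A : Type u) [CommRing A] : ObjectProperty (ModuleCat.{u} A) :=
  fun M => Module.Finite A M

theorem cl_iso {A : Type u} [CommRing A] {M N : ModuleCat.{u} A} (e : M ≅ N)
    (h : Module.Finite A M) : KZero.clSub (fin A) M = KZero.clSub (fin A) N :=
  clSub_iso (Z := ModuleCat.of A PUnit.{u + 1}) e h
    (Module.Finite.equiv e.toLinearEquiv) (ModuleCat.isZero_of_subsingleton _)
    (inferInstanceAs (Module.Finite A PUnit.{u + 1}))

variable {A B : Type u} [CommRing A] [CommRing B] [IsDomain B] [IsPrincipalIdealRing B]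
  (ψ : A →+* B) (hψ : Function.Surjective ψ)

/-- The module `A ⧸ ker ψ`. -/
abbrev branch : ModuleCat.{u} A := ModuleCat.of A (A ⧸ RingHom.ker ψ)

theorem finite_branch : Module.Finite A (branch ψ) :=
  inferInstanceAs (Module.Finite A (A ⧸ RingHom.ker ψ))

include hψ in
/-- Modules on one branch have classes multiples of the branch. -/
theorem mem_zmultiples_of_killed (M : ModuleCat.{u} A) (hM : Module.Finite A M)
    (h : ∀ a ∈ RingHom.ker ψ, ∀ m : M, a • m = 0) :
    KZero.clSub (fin A) M ∈ AddSubgroup.zmultiples (KZero.clSub (fin A) (branch ψ)) := by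
  let sec := Function.surjInv hψ
  let _ : SMul B M := ⟨fun b m => sec b • m⟩
  have hsmul : ∀ (c : A) (x : M), ψ c • x = c • x := fun c x => by
    change sec (ψ c) • x = c • x
    rw [← sub_eq_zero, ← sub_smul]
    exact h _ (by rw [RingHom.mem_ker, map_sub, Function.surjInv_eq hψ, sub_self]) x
  let _ : Module B M := Function.Surjective.moduleLeft ψ hψ hsmul
  let _ : Algebra A B := ψ.toAlgebra
  have : IsScalarTower A B M := IsScalarTower.of_algebraMap_smul hsmul
  have hMB : Module.Finite B M := Module.Finite.of_restrictScalars_finite A B M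
  obtain ⟨z, hz⟩ := (Groth.Agent.S3194.result B).2 (KZero.clSub (fin B) (ModuleCat.of B M))
  have hR : ∀ N : ModuleCat.{u} B, fin B N → fin A ((ModuleCat.restrictScalars ψ).obj N) := by
    intro N ⟨⟨t, ht⟩⟩
    refine ⟨⟨t, eq_top_iff.2 fun (x : N) _ => ?_⟩⟩
    have hx : x ∈ Submodule.span B (t : Set N) := ht.ge trivial
    induction hx using Submodule.span_induction with
    | mem v hv => exact Submodule.subset_span hv
    | zero => exact zero_mem _
    | add v w _ _ hv hw => exact add_mem (hv trivial) (hw trivial)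
    | smul c v _ hv =>
      obtain ⟨a, rfl⟩ := hψ c
      exact Submodule.smul_mem _ a (hv trivial)
  let Φ := SGA6.mapSub (ModuleCat.restrictScalars.{u} ψ) (fin B) (fin A) hR
  have hΦ : ∀ N : ModuleCat.{u} B, fin B N → Φ (KZero.clSub (fin B) N) =
      KZero.clSub (fin A) ((ModuleCat.restrictScalars ψ).obj N) := fun N hN => by
    rw [clSub_of hN, clSub_of (hR N hN)]
    rfl
  let g : A →ₗ[A] (ModuleCat.restrictScalars ψ).obj (ModuleCat.of B B) :=
    { toFun := fun a => ψ a, map_add' := map_add ψ, map_smul' := map_mul ψ }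
  have hg : LinearMap.ker g = RingHom.ker ψ := rfl
  let e₁ : branch ψ ≅ (ModuleCat.restrictScalars ψ).obj (ModuleCat.of B B) :=
    LinearEquiv.toModuleIso
      ((Submodule.quotEquivOfEq _ _ hg.symm).trans (g.quotKerEquivOfSurjective hψ))
  let l₂ : M →ₗ[A] (ModuleCat.restrictScalars ψ).obj (ModuleCat.of B M) :=
    { toFun := fun m => m, map_add' := fun _ _ => rfl, map_smul' := fun a x => (hsmul a x).symm }
  let e₂ : M ≅ (ModuleCat.restrictScalars ψ).obj (ModuleCat.of B M) :=
    LinearEquiv.toModuleIso (LinearEquiv.ofBijective l₂ Function.bijective_id)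
  refine ⟨z, ?_⟩
  have h' := congrArg Φ hz
  rw [map_zsmul, hΦ _ (inferInstanceAs (Module.Finite B B)), hΦ _ hMB] at h'
  rw [cl_iso e₂ hM, ← h']
  exact congrArg (z • ·) (cl_iso e₁ (finite_branch ψ))

variable [IsNoetherianRing A] {B' : Type u} [CommRing B'] [IsDomain B'] [IsPrincipalIdealRing B']
  (χ : A →+* B') (hχ : Function.Surjective χ)
  (hmul : ∀ a ∈ RingHom.ker ψ, ∀ b ∈ RingHom.ker χ, a * b = 0)

include hψ hχ hmul in
theorem mem_sup (x : KZero.K0sub (fin A)) :
    x ∈ AddSubgroup.zmultiples (KZero.clSub (fin A) (branch ψ)) ⊔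
      AddSubgroup.zmultiples (KZero.clSub (fin A) (branch χ)) := by
  induction x using k0sub_induction with
  | h0 => exact zero_mem _
  | hadd a b ha hb => exact add_mem ha hb
  | hneg a ha => exact neg_mem ha
  | hcl M hM =>
    have : Module.Finite A M := hM
    let N : Submodule A M := RingHom.ker ψ • (⊤ : Submodule A M)
    have hN : Module.Finite A N := inferInstance
    · let S : ShortComplex (ModuleCat.{u} A) :=
        ShortComplex.mk (ModuleCat.ofHom N.subtype) (ModuleCat.ofHom (X := M) N.mkQ)
          (by ext : 1; exact LinearMap.ext fun x => (Submodule.Quotient.mk_eq_zero N).2 x.2)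
      have hS : S.ShortExact := ShortComplex.ShortExact.mk'
        ((ShortComplex.moduleCat_exact_iff S).2 fun x hx =>
          ⟨⟨x, (Submodule.Quotient.mk_eq_zero N).1 hx⟩, rfl⟩)
        ((ModuleCat.mono_iff_injective _).2 N.injective_subtype)
        ((ModuleCat.epi_iff_surjective _).2 N.mkQ_surjective)
      have hQ : Module.Finite A (M ⧸ N) := inferInstance
      rw [show KZero.clSub (fin A) M = _ from clSub_rel (P := fin A) S hS hN hM hQ]
      refine add_mem (AddSubgroup.mem_sup_right ?_) (AddSubgroup.mem_sup_left ?_)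
      · refine mem_zmultiples_of_killed χ hχ _ hN fun b hb n => Subtype.ext ?_
        change b • n.1 = 0
        refine Submodule.smul_induction_on (p := fun x => b • x = 0) n.2
          (fun a ha m _ => by rw [← mul_smul, mul_comm, hmul a ha b hb, zero_smul])
          fun p q hp hq => by rw [smul_add, hp, hq, add_zero]
      · refine mem_zmultiples_of_killed ψ hψ _ hQ fun a ha q => ?_
        obtain ⟨m, rfl⟩ := N.mkQ_surjective q
        exact (Submodule.Quotient.mk_eq_zero N).2 (Submodule.smul_mem_smul ha trivial)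

include hψ in
/-- The rank at the generic point of a branch. -/
theorem exists_rank (y : A) (hy : ψ y ≠ 0) (hy0 : ∀ a ∈ RingHom.ker ψ, y * a = 0)
    (hyχ : y ∈ RingHom.ker χ) :
    ∃ r : KZero.K0sub (fin A) →+ ℤ, r (KZero.clSub (fin A) (branch ψ)) = 1 ∧
      r (KZero.clSub (fin A) (branch χ)) = 0 := by
  let F := FractionRing B
  let g : A →+* F := (algebraMap B F).comp ψ
  let _ : Algebra A F := g.toAlgebra
  let S : Submonoid A := (nonZeroDivisors B).comap (ψ : A →* B)
  have : IsLocalization S F :=
    { map_units := fun s => IsLocalization.map_units F (⟨ψ s.1, s.2⟩ : nonZeroDivisors B)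
      surj := fun z => by
        obtain ⟨⟨b, s⟩, hbs⟩ := IsLocalization.surj (nonZeroDivisors B) z
        obtain ⟨a, rfl⟩ := hψ b
        obtain ⟨t, ht⟩ := hψ s.1
        refine ⟨⟨a, t, show ψ t ∈ nonZeroDivisors B from ht ▸ s.2⟩, ?_⟩
        change z * algebraMap B F (ψ t) = algebraMap B F (ψ a)
        rw [ht]
        exact hbs
      exists_of_eq := fun {a b} hab => by
        refine ⟨⟨y, show ψ y ∈ nonZeroDivisors B from mem_nonZeroDivisors_of_ne_zero hy⟩, ?_⟩
        change y * a = y * b
        rw [← sub_eq_zero, ← mul_sub]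
        refine hy0 _ ?_
        rw [RingHom.mem_ker, map_sub, sub_eq_zero]
        exact IsFractionRing.injective B F hab }
  have : Module.Flat A F := IsLocalization.flat F S
  let r : KZero.K0sub (fin A) →+ ℤ :=
    liftSub (fin A) (fun M => (Module.finrank F (F ⊗[A] M) : ℤ)) fun T hT h₁ h₂ _ => by
      have : Module.Finite A T.X₂ := h₂
      have : Module.Finite A T.X₁ := h₁
      let f' : F ⊗[A] T.X₁ →ₗ[F] F ⊗[A] T.X₂ := T.f.hom.baseChange F
      let g' : F ⊗[A] T.X₂ →ₗ[F] F ⊗[A] T.X₃ := T.g.hom.baseChange F
      have hex := (ShortComplex.ShortExact.moduleCat_exact_iff_function_exact T).1 hT.exact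
      have hi : Function.Injective f' :=
        Module.Flat.lTensor_preserves_injective_linearMap _ hT.moduleCat_injective_f
      have hs : Function.Surjective g' :=
        LinearMap.lTensor_surjective F hT.moduleCat_surjective_g
      have he : LinearMap.ker g' = LinearMap.range f' := SetLike.ext fun z =>
        (lTensor_exact F hex hT.moduleCat_surjective_g z).trans Iff.rfl
      have h := g'.finrank_range_add_finrank_ker
      rw [LinearMap.finrank_range_of_inj (R := F) (f := g'.range.subtype)
        Subtype.val_injective |>.symm, Submodule.range_subtype,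
        LinearMap.range_eq_top.2 hs, finrank_top, he,
        LinearMap.finrank_range_of_inj hi] at h
      rw [← h]
      push_cast
      ring
  have key : ∀ I : Ideal A, Nonempty ((F ⊗[A] (A ⧸ I)) ≃ₗ[F] F ⧸ I.map (algebraMap A F)) :=
    fun I => ⟨(Algebra.TensorProduct.quotIdealMapEquivTensorQuot F I).symm.toLinearEquiv⟩
  refine ⟨r, ?_, ?_⟩
  · rw [liftSub_clSub (X := branch ψ) _ _ (finite_branch ψ)]
    obtain ⟨e⟩ := key (RingHom.ker ψ)
    have h0 : (RingHom.ker ψ).map (algebraMap A F) = ⊥ :=
      (Ideal.map_eq_bot_iff_le_ker _).2 fun a ha => by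
        rw [RingHom.mem_ker] at ha ⊢
        change algebraMap B F (ψ a) = 0
        rw [ha, map_zero]
    rw [e.finrank_eq, (Submodule.quotEquivOfEqBot _ h0).finrank_eq, Module.finrank_self]
    rfl
  · rw [liftSub_clSub (X := branch χ) _ _ (finite_branch χ)]
    obtain ⟨e⟩ := key (RingHom.ker χ)
    have h0 : (RingHom.ker χ).map (algebraMap A F) = ⊤ :=
      Ideal.eq_top_of_isUnit_mem _ (Ideal.mem_map_of_mem _ hyχ)
        (IsLocalization.map_units F (⟨y, mem_nonZeroDivisors_of_ne_zero hy⟩ : S))
    have : Subsingleton (F ⧸ (RingHom.ker χ).map (algebraMap A F)) := by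
      rw [h0]
      infer_instance
    rw [e.finrank_eq, Module.finrank_zero_of_subsingleton]
    rfl

end Groth.KTheory.NodeK0
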