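import Groth.Prelude.Def_SGA6
import Groth.Agent.KTheory.Heller
import Groth.Agent.Misc13.KNilp
import Groth.Agent.Misc6.DevissageSupp
import Groth.Agent.QCohMod.ExtendFP
import Groth.Agent.QCohMod.QCQS
import Groth.Agent.LocFree.FP
import Groth.Agent.QCohMod.PullbackQCoh
import Groth.Agent.QCohMod.Coherent
import Groth.Agent.CohTwo.SupportLocal

/-!
# Localization for `K₀` of coherent modules along an open immersion
-/

set_option autoImplicit false
universe u

open CategoryTheory CategoryTheory.Limits AlgebraicGeometry TopologicalSpace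

namespace Groth.KTheory.OpenLoc

open Groth.QCohMod Groth.Misc13.KNilp

variable {X U : Scheme.{u}} [IsNoetherian X] (j : U ⟶ X) [IsOpenImmersion j]


theorem quasiCompact_of_noetherian : QuasiCompact j := by
  refine ⟨fun V _ _ => ?_⟩
  rw [j.isOpenEmbedding.isInducing.isCompact_iff]
  exact NoetherianSpace.isCompact _

include j in
theorem isLocallyNoetherian_source : IsLocallyNoetherian U :=
  LocallyOfFiniteType.isLocallyNoetherian j

theorem isFP_of_isCoh' {Y : Scheme.{u}} [IsLocallyNoetherian Y] {M : Y.Modules}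
    (hM : Coh.IsCoh M) : CohB1.IsFP M := by
  have := hM.1
  refine Groth.LocFree.isFP_of_affine_cover _ fun x => ?_
  obtain ⟨V, hV, hx⟩ := Groth.QCohMod.exists_affine_mem x
  have : IsNoetherianRing Γ(Y, V) := IsLocallyNoetherian.component_noetherian ⟨V, hV⟩
  have := Groth.QCohMod.finite_sections M hM.2 hV
  exact ⟨V, hV, hx, Module.finitePresentation_of_finite _ _⟩

theorem isCoh_restrict_hom {Y Z : Scheme.{u}} (k : Y ⟶ Z) [IsOpenImmersion k] {F : Z.Modules}
    (hF : Coh.IsCoh F) : Coh.IsCoh (F.restrict k) :=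
  haveI := hF.1
  Groth.QCohMod.isCoh_of_iso ((Scheme.Modules.restrictFunctorIsoPullback k).app F).symm
    ⟨inferInstance, Groth.QCohMod.isFT_pullback k F hF.2⟩

theorem isFT_of_isFP' {Y : Scheme.{u}} {M : Y.Modules} (h : CohB1.IsFP M) : CohB1.IsFT M :=
  haveI := h
  inferInstance

/-- Coherent modules on an open subscheme extend. -/
theorem exists_coh_extension (G : U.Modules) (hG : Coh.IsCoh G) :
    ∃ F : X.Modules, Coh.IsCoh F ∧ Nonempty ((Scheme.Modules.restrictFunctor j).obj F ≅ G) := by
  have := isLocallyNoetherian_source j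
  have := quasiCompact_of_noetherian j
  have := hG.1
  let G₀ : (j.opensRange : Scheme.{u}).Modules := G.restrict j.isoOpensRange.inv
  let H : X.Modules := (Scheme.Modules.pushforward j).obj G
  have : H.IsQuasicoherent := Groth.QCohMod.isQCoh_pushforward G j
  have hG₀ : Coh.IsCoh G₀ := isCoh_restrict_hom j.isoOpensRange.inv hG
  have : IsLocallyNoetherian (j.opensRange : Scheme.{u}) := inferInstance
  obtain ⟨F, -, e, hFq, hFfp, -⟩ := exists_extension_fp H j.opensRange
    (NoetherianSpace.isCompact _) G₀ (isFP_of_isCoh' hG₀) 0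
  refine ⟨F, ⟨hFq, isFT_of_isFP' hFfp⟩, ⟨?_⟩⟩
  exact (Scheme.Modules.restrictFunctorCongr j.isoOpensRange_hom_ι).symm.app F ≪≫
    (Scheme.Modules.restrictFunctorComp j.isoOpensRange.hom j.opensRange.ι).app F ≪≫
    (Scheme.Modules.restrictFunctor j.isoOpensRange.hom).mapIso e ≪≫
    ((Scheme.Modules.restrictFunctorComp j.isoOpensRange.hom j.isoOpensRange.inv).app G).symm ≪≫
    (Scheme.Modules.restrictFunctorCongr j.isoOpensRange.hom_inv_id ≪≫
      Scheme.Modules.restrictFunctorId).app G

/-- A morphism becoming an isomorphism on `U` is bijective on stalks at points of `U`. -/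
theorem bijective_stalk_of_isIso {M N : X.Modules} (a : M ⟶ N) [IsIso ((Scheme.Modules.restrictFunctor j).map a)] (u : U) :
    Function.Bijective ((stalk (j u)).map a) := by
  have h : IsIso ((Scheme.Modules.restrictFunctor j ⋙ stalk u).map a) := inferInstanceAs (IsIso ((stalk u).map ((Scheme.Modules.restrictFunctor j).map a)))
  have h' : IsIso ((stalk (j u)).map a) :=
    (NatIso.isIso_map_iff (Scheme.Modules.restrictStalkNatIso j u) a).1 h
  exact (ConcreteCategory.isIso_iff_bijective _).1 h'

variable (W : Set X) (hW : Set.range j = Wᶜ)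

include hW in
theorem kc_sub_mem_of_isIso {M F : X.Modules} (hM : Coh.IsCoh M) (hF : Coh.IsCoh F) (a : M ⟶ F)
    [IsIso ((Scheme.Modules.restrictFunctor j).map a)] : kc M - kc F ∈ supSub W := by
  have := kc_sub_mem hM hF a W (fun x hx => by
    obtain ⟨u, rfl⟩ := (hW ▸ hx : x ∈ Set.range j)
    exact bijective_stalk_of_isIso j a u) (Z := Set.univ) (Set.subset_univ _) (Set.subset_univ _)
  rwa [Set.univ_inter] at this

variable [PreservesFiniteLimits (Scheme.Modules.restrictFunctor j)]

/-- The coherent image of a morphism to a direct image. -/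
theorem exists_image {F : X.Modules} (hF : Coh.IsCoh F) {G : U.Modules} [G.IsQuasicoherent]
    (φ : (Scheme.Modules.restrictFunctor j).obj F ⟶ G) [Epi φ] :
    ∃ (K : X.Modules) (q : F ⟶ K) (i : K ⟶ (Scheme.Modules.pushforward j).obj G)
      (θ : (Scheme.Modules.restrictFunctor j).obj K ≅ G),
      Coh.IsCoh K ∧ Coh.IsCoh (kernel q) ∧ Epi q ∧ Mono i ∧
      q ≫ i = (Scheme.Modules.restrictAdjunction j).homEquiv _ _ φ ∧
      (Scheme.Modules.restrictFunctor j).map q ≫ θ.hom = φ := by
  have := quasiCompact_of_noetherian j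
  set adj := Scheme.Modules.restrictAdjunction j
  set b := adj.homEquiv _ _ φ
  have : ((Scheme.Modules.pushforward j).obj G).IsQuasicoherent :=
    Groth.QCohMod.isQCoh_pushforward G j
  have hk : Coh.IsCoh (kernel b) := Groth.QCohMod.isCoh_kernel b hF
  have := hk.1
  have hI : Coh.IsCoh (cokernel (kernel.ι b)) := Groth.QCohMod.isCoh_cokernel _ hF
  have := hI.1
  have := hF.1
  let i : Abelian.coimage b ⟶ (Scheme.Modules.pushforward j).obj G :=
    Abelian.factorThruCoimage b
  have hqi : cokernel.π (kernel.ι b) ≫ i = b := Abelian.coimage.fac b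
  let θ : (Scheme.Modules.restrictFunctor j).obj (Abelian.coimage b) ⟶ G := (Scheme.Modules.restrictFunctor j).map i ≫ adj.counit.app G
  have hθ : (Scheme.Modules.restrictFunctor j).map (cokernel.π (kernel.ι b)) ≫ θ = φ := by
    rw [← Category.assoc, ← Functor.map_comp, hqi, ← Adjunction.homEquiv_counit,
      Equiv.symm_apply_apply]
  have : Epi θ := epi_of_epi_fac hθ
  have : Mono θ := mono_comp _ _
  have : IsIso θ := isIso_of_mono_of_epi θ
  exact ⟨_, cokernel.π (kernel.ι b), i, asIso θ, hI,
    Groth.QCohMod.isCoh_kernel _ hF, inferInstance, inferInstance, hqi, hθ⟩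

include hW in
/-- Coherent modules with isomorphic restrictions have the same class modulo `W`. -/
theorem kc_sub_mem_of_iso {F₁ F₂ : X.Modules} (h₁ : Coh.IsCoh F₁) (h₂ : Coh.IsCoh F₂)
    (e : (Scheme.Modules.restrictFunctor j).obj F₁ ≅ (Scheme.Modules.restrictFunctor j).obj F₂) : kc F₁ - kc F₂ ∈ supSub W := by
  have := isLocallyNoetherian_source j
  have hc := Groth.QCohMod.isCoh_biprod h₁ h₂
  have := (isCoh_restrict_hom j h₂).1
  let adj := Scheme.Modules.restrictAdjunction j
  let b : F₁ ⊞ F₂ ⟶ _ := biprod.desc (adj.homEquiv _ _ e.hom) (adj.homEquiv _ _ (𝟙 _))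
  let φ := (adj.homEquiv _ _).symm b
  have hl : (Scheme.Modules.restrictFunctor j).map biprod.inl ≫ φ = e.hom := by
    rw [← Adjunction.homEquiv_naturality_left_symm, biprod.inl_desc, Equiv.symm_apply_apply]
  have hr : (Scheme.Modules.restrictFunctor j).map biprod.inr ≫ φ = 𝟙 _ := by
    rw [← Adjunction.homEquiv_naturality_left_symm, biprod.inr_desc, Equiv.symm_apply_apply]
  have : Epi φ := epi_of_epi_fac hr
  obtain ⟨K, q, i, θ, hK, -, -, -, -, hq⟩ := exists_image j hc φ
  have i₁ : IsIso ((Scheme.Modules.restrictFunctor j).map (biprod.inl ≫ q)) := by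
    have : (Scheme.Modules.restrictFunctor j).map (biprod.inl ≫ q) = e.hom ≫ θ.inv := by
      rw [Iso.eq_comp_inv, Functor.map_comp, Category.assoc, hq, hl]
    rw [this]; infer_instance
  have i₂ : IsIso ((Scheme.Modules.restrictFunctor j).map (biprod.inr ≫ q)) := by
    have : (Scheme.Modules.restrictFunctor j).map (biprod.inr ≫ q) = θ.inv := by
      rw [← Category.id_comp θ.inv, Iso.eq_comp_inv, Functor.map_comp, Category.assoc, hq, hr]
    rw [this]; infer_instance
  have := sub_mem (kc_sub_mem_of_isIso j W hW h₁ hK (biprod.inl ≫ q))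
    (kc_sub_mem_of_isIso j W hW h₂ hK (biprod.inr ≫ q))
  simpa using this

/-- A chosen coherent extension. -/
noncomputable def ext (G : U.Modules) (hG : Coh.IsCoh G) : X.Modules :=
  (exists_coh_extension j G hG).choose

theorem isCoh_ext (G : U.Modules) (hG : Coh.IsCoh G) : Coh.IsCoh (ext j G hG) :=
  (exists_coh_extension j G hG).choose_spec.1

open Classical in
/-- The class of any extension, modulo `W`. -/
noncomputable def extCls (G : U.Modules) : SGA6.Kcoh X ⧸ supSub W :=
  if hG : Coh.IsCoh G then QuotientAddGroup.mk (kc (ext j G hG)) else 0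

include hW in
theorem extCls_eq {G : U.Modules} (hG : Coh.IsCoh G) {F : X.Modules} (hF : Coh.IsCoh F)
    (e : (Scheme.Modules.restrictFunctor j).obj F ≅ G) : extCls j W G = QuotientAddGroup.mk (kc F) := by
  rw [extCls, dif_pos hG, QuotientAddGroup.eq_iff_sub_mem]
  exact kc_sub_mem_of_iso j W hW (isCoh_ext j G hG) hF
    ((exists_coh_extension j G hG).choose_spec.2.some ≪≫ e.symm)

include hW in
theorem extCls_additive (S : ShortComplex U.Modules) (hS : S.ShortExact) (h₁ : Coh.IsCoh S.X₁)
    (h₂ : Coh.IsCoh S.X₂) (h₃ : Coh.IsCoh S.X₃) :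
    extCls j W S.X₂ = extCls j W S.X₁ + extCls j W S.X₃ := by
  obtain ⟨F, hF, ⟨e₂⟩⟩ := exists_coh_extension j S.X₂ h₂
  have := hS.epi_g
  have := h₃.1
  obtain ⟨K, q, i, θ, hK, hN, hq', -, -, hq⟩ := exists_image j hF (e₂.hom ≫ S.g)
  let e₁ : (Scheme.Modules.restrictFunctor j).obj (kernel q) ≅ S.X₁ :=
    PreservesKernel.iso (Scheme.Modules.restrictFunctor j) q ≪≫ kernel.mapIso _ _ e₂ θ hq ≪≫
      IsLimit.conePointUniqueUpToIso (kernelIsKernel S.g) hS.fIsKernel
  rw [extCls_eq j W hW h₂ hF e₂, extCls_eq j W hW h₁ hN e₁, extCls_eq j W hW h₃ hK θ,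
    ← QuotientAddGroup.mk_add]
  congr 1
  exact clSub_rel (P := fun M : X.Modules => Coh.IsCoh M)
    (ShortComplex.mk (kernel.ι q) q (kernel.condition q))
    { exact := ShortComplex.exact_of_f_is_kernel _ (kernelIsKernel q) } hN hF hK

variable (hj : ∀ M : X.Modules, Coh.IsCoh M → Coh.IsCoh ((Scheme.Modules.restrictFunctor j).obj M))

/-- Restriction on classes. -/
noncomputable abbrev res : SGA6.Kcoh X →+ SGA6.Kcoh U :=
  SGA6.mapSub (Scheme.Modules.restrictFunctor j) (fun M : X.Modules => Coh.IsCoh M) (fun M : U.Modules => Coh.IsCoh M) hj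

theorem res_kc {M : X.Modules} (h : Coh.IsCoh M) : res j hj (kc M) = kc ((Scheme.Modules.restrictFunctor j).obj M) := by
  unfold kc res
  rw [clSub_of (P := fun M : X.Modules => Coh.IsCoh M) h,
    clSub_of (P := fun M : U.Modules => Coh.IsCoh M) (hj M h)]
  rfl

theorem surjective_res : Function.Surjective (res j hj) := by
  have := isLocallyNoetherian_source j
  rw [← AddMonoidHom.range_eq_top, eq_top_iff]
  intro x hx
  clear hx
  induction x using k0sub_induction with
  | h0 => exact zero_mem _
  | hcl G hG =>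
    obtain ⟨F, hF, ⟨e⟩⟩ := exists_coh_extension j G hG
    exact ⟨kc F, (res_kc j hj hF).trans
      (clSub_iso e (hj F hF) hG (isZero_zero _) (Groth.KTheory.isCoh_of_isZero (isZero_zero _)))⟩
  | hadd a b ha hb => exact add_mem ha hb
  | hneg a ha => exact neg_mem ha

include hW in
theorem ker_res : (res j hj).ker = supSub W := by
  have := isLocallyNoetherian_source j
  apply le_antisymm
  · intro x hx
    let μ : SGA6.Kcoh U →+ SGA6.Kcoh X ⧸ supSub W :=
      liftSub _ (extCls j W) (extCls_additive j W hW)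
    have hμ : μ.comp (res j hj) = QuotientAddGroup.mk' _ :=
      k0sub_hom_ext fun M hM => by
        rw [AddMonoidHom.comp_apply, res_kc j hj hM]
        exact (liftSub_clSub (P := fun M : U.Modules => Coh.IsCoh M) (extCls j W)
          (extCls_additive j W hW) (hj M hM)).trans (extCls_eq j W hW (hj M hM) hM (Iso.refl _))
    have := DFunLike.congr_fun hμ x
    rw [AddMonoidHom.comp_apply, AddMonoidHom.mem_ker.1 hx, map_zero] at this
    exact (QuotientAddGroup.eq_zero_iff x).1 this.symm
  · rw [supSub, AddSubgroup.closure_le]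
    rintro c ⟨G, hG, hs, rfl⟩
    rw [SetLike.mem_coe, AddMonoidHom.mem_ker, res_kc j hj hG]
    refine clSub_zero (P := fun M : U.Modules => Coh.IsCoh M) ?_ (hj G hG)
    refine (Groth.QCohMod.isZero_iff_support_eq_empty _).2
      (Set.eq_empty_iff_forall_notMem.2 fun u hu => ?_)
    have hjW : j u ∈ Wᶜ := hW ▸ Set.mem_range_self u
    apply hu
    have h : Subsingleton (G.presheaf.stalk (j u)) := not_not.1 fun h => hjW (hs h)
    exact @Function.Injective.subsingleton _ _ _ (ConcreteCategory.bijective_of_isIso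
      ((Scheme.Modules.restrictStalkNatIso j u).hom.app G)).injective h

end Groth.KTheory.OpenLoc
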