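import Groth.Agent.KTheory.RegKoszulBC
import Groth.Agent.KTheory.LFRes
import Groth.Agent.Misc4.StructCompact
import Groth.Agent.PnCoh.GlobalFun
import Groth.Agent.CohBase.RelAmpleVanish
import Groth.Agent.QCohMod.Category

/-!
# The canonical resolution of a regular sheaf on relative projective space
-/

universe u

open CategoryTheory CategoryTheory.Limits AlgebraicGeometry Opposite TopologicalSpace
open Groth.PicAux Groth.CohBase Groth.Variety2.Reg

namespace Groth.KTheory.RegKoszul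

/-! ## Surjectivity of the pullback of sections -/

section SurjSec

variable {X Y Z : Scheme.{u}}

/-- Every section of the pullback over a preimage is a pulled back section. -/
abbrev SurjSec (f : X ⟶ Y) (M : Y.Modules) (U : Y.Opens) : Prop :=
  Function.Surjective (fun m : Γ(M, U) => pullSec f M m)

theorem pullSec_add' (f : X ⟶ Y) (M : Y.Modules) {U : Y.Opens} (a b : Γ(M, U)) :
    pullSec f M (a + b) = pullSec f M a + pullSec f M b :=
  map_add (((Scheme.Modules.pullbackPushforwardAdjunction f).unit.app M).app U).hom a b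

theorem pullSec_bijective_of_le_range (f : X ⟶ Y) [IsOpenImmersion f] (M : Y.Modules) {U : Y.Opens}
    (hU : U ≤ f.opensRange) : Function.Bijective (fun m : Γ(M, U) => pullSec f M m) := by
  have e : U ≤ f ''ᵁ f ⁻¹ᵁ U := by
    rw [Scheme.Hom.image_preimage_eq_opensRange_inf]
    exact le_inf hU le_rfl
  have h1 : Function.Bijective (fun m : Γ(M, U) => (res M (f.image_preimage_le U) m : Γ(M, f ''ᵁ f ⁻¹ᵁ U))) :=
    ⟨fun a b h => by simpa using congrArg (res M e) h, fun b => ⟨res M e b, by simp⟩⟩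
  let E := ((Scheme.Modules.restrictFunctorIsoPullback f).app M)
  have h2 : Function.Bijective (E.hom.app (f ⁻¹ᵁ U)) := by
    refine Function.bijective_iff_has_inverse.mpr ⟨E.inv.app (f ⁻¹ᵁ U), fun a => ?_, fun a => ?_⟩
    · exact congr(($(E.hom_inv_id)).app (f ⁻¹ᵁ U) a)
    · exact congr(($(E.inv_hom_id)).app (f ⁻¹ᵁ U) a)
  have h3 := h2.comp h1
  convert h3 using 1
  funext m
  exact (restrictIso_pullSec f M m).symm

theorem SurjSec.comp {f : X ⟶ Y} {g : Y ⟶ Z} {M : Z.Modules} {U : Z.Opens} (hg : SurjSec g M U)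
    (hf : SurjSec f ((Scheme.Modules.pullback g).obj M) (g ⁻¹ᵁ U)) : SurjSec (f ≫ g) M U := by
  intro s
  let E := (Scheme.Modules.pullbackComp f g).app M
  obtain ⟨t, ht⟩ := hf (E.inv.app (f ⁻¹ᵁ g ⁻¹ᵁ U) s)
  obtain ⟨m, rfl⟩ := hg t
  refine ⟨m, ?_⟩
  refine ((pullSec_comp f g M m).symm).trans ?_
  refine (congrArg (E.hom.app (f ⁻¹ᵁ g ⁻¹ᵁ U)) ht).trans ?_
  exact congr(($(E.inv_hom_id)).app (f ⁻¹ᵁ g ⁻¹ᵁ U) s)

theorem SurjSec.of_comp {f : X ⟶ Y} {g : Y ⟶ Z} {M : Z.Modules} {U : Z.Opens}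
    (h : SurjSec (f ≫ g) M U)
    (hf : Function.Injective (fun m : Γ((Scheme.Modules.pullback g).obj M, g ⁻¹ᵁ U) => pullSec f _ m)) :
    SurjSec g M U := by
  intro s
  let E := (Scheme.Modules.pullbackComp f g).app M
  obtain ⟨m, hm⟩ := h (E.hom.app (f ⁻¹ᵁ g ⁻¹ᵁ U) (pullSec f _ s))
  refine ⟨m, hf ?_⟩
  have h' := congrArg (E.inv.app (f ⁻¹ᵁ g ⁻¹ᵁ U)) ((pullSec_comp f g M m).trans hm)
  refine Eq.trans ?_ (h'.trans (congr(($(E.hom_inv_id)).app (f ⁻¹ᵁ g ⁻¹ᵁ U) (pullSec f _ s))))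
  exact (congr(($(E.hom_inv_id)).app (f ⁻¹ᵁ g ⁻¹ᵁ U) (pullSec f _ (pullSec g M m)))).symm

theorem SurjSec.congr_hom {f g : X ⟶ Y} (e : f = g) {M : Y.Modules} {U : Y.Opens}
    (h : SurjSec f M U) : SurjSec g M U := by
  subst e; exact h

theorem SurjSec.congr_opens {f : X ⟶ Y} {M : Y.Modules} {U U' : Y.Opens} (e : U = U')
    (h : SurjSec f M U) : SurjSec f M U' := by
  subst e; exact h

theorem surjective_app_of_hv_kernel {M N : X.Modules} (φ : M ⟶ N) [Epi φ] {W : X.Opens}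
    (h : HV W (kernel φ) 1) : Function.Surjective (φ.app W) := fun z =>
  (mem_ker_deltaSec (shortExact_toAb (kernel_shortExact φ)) W z).mp (h.elim _ _)

end SurjSec

/-! ## Sections of `toSpec^* E` -/

section Affine

variable (n : ℕ) (R : Type u) [CommRing R]

theorem surjSec_toSpec_structure :
    SurjSec (CohB1.ProjSpace.toSpec n R) (Coh.structureModule _) ⊤ := by
  let f := CohB1.ProjSpace.toSpec n R
  intro s
  have := isIso_pullUnit f
  have : IsIso f.appTop := PnCoh.isIso_appTop_toSpec n R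
  obtain ⟨r, hr⟩ := (ConcreteCategory.bijective_of_isIso 
    f.appTop).2 ((pullUnit f).app (f ⁻¹ᵁ ⊤) s)
  refine ⟨r • oneSec _ ⊤, ?_⟩
  refine Function.LeftInverse.injective (g := (inv (pullUnit f)).app (f ⁻¹ᵁ ⊤))
    (fun x => congr(($(IsIso.hom_inv_id (pullUnit f))).app (f ⁻¹ᵁ ⊤) x)) ?_
  change (pullUnit f).app (f ⁻¹ᵁ ⊤) (pullSec f _ (r • oneSec _ ⊤)) = _
  rw [pullSec_smul, Scheme.Modules.Hom.app_smul, pullbackObjUnit_oneSec]
  exact (mul_one _).trans hr

theorem surjSec_toSpec (E : (Spec (CommRingCat.of R)).Modules) [E.IsQuasicoherent] :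
    SurjSec (CohB1.ProjSpace.toSpec n R) E ⊤ := by
  classical
  let f := CohB1.ProjSpace.toSpec n R
  obtain ⟨I, π₀, hπ⟩ := exists_free_epi E
  let S : I → (Spec (CommRingCat.of R)).Modules := fun _ => Coh.structureModule _
  let π : (∐ S) ⟶ E := π₀
  haveI : Epi π := hπ
  haveI : (∐ S).IsQuasicoherent := Groth.QCohMod.isQCoh_sigma S
  haveI := flat_toSpec n R
  haveI := PrinPartsAux.preservesFiniteLimits_pullback f
  obtain ⟨e0⟩ := PnCoh.nonempty_twist_zero_iso (CohB1.polyGrading n R)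
  have hK : HV (⊤ : (CohB1.ProjSpace n R).Opens) ((Scheme.Modules.pullback f).obj (kernel π)) 1 :=
    HV.of_iso (PicGrp.tensorModIso (Iso.refl _) e0 ≪≫ (exists_braiding _ _).choose ≪≫
        (exists_leftUnitor _).choose)
      (hv_baseTw n R 0 (n + 1) 1 (Or.inl le_rfl) (by omega) (Or.inl (by omega)) (kernel π) inferInstance)
  haveI : Epi ((Scheme.Modules.pullback f).map π) := Functor.map_epi _ _
  have hsurj : Function.Surjective (((Scheme.Modules.pullback f).map π).app ⊤) := by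
    refine surjective_app_of_hv_kernel _ (HV.of_iso ?_ hK)
    exact PreservesKernel.iso (Scheme.Modules.pullback f) π
  intro s
  obtain ⟨z, rfl⟩ := hsurj s
  haveI : CompactSpace (CohB1.ProjSpace n R) :=
    QuasiCompact.compactSpace_of_compactSpace f
  let P := PreservesCoproduct.iso (Scheme.Modules.pullback f) S
  let zz : Coh.structureModule (CohB1.ProjSpace n R) ⟶
      ∐ fun i => (Scheme.Modules.pullback f).obj (S i) := homOfSection z ≫ P.hom
  obtain ⟨J, t, ht⟩ := Groth.Misc4.StructCompact.exists_finset_sum _ zz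
  have hz : homOfSection z = ∑ i ∈ J, t i ≫ (Scheme.Modules.pullback f).map (Limits.Sigma.ι S i) := by
    have := congrArg (· ≫ P.inv) ht
    simp only [zz, Category.assoc, Iso.hom_inv_id, Category.comp_id, Preadditive.sum_comp] at this
    rw [this]
    refine Finset.sum_congr rfl fun i _ => congrArg (t i ≫ ·) ?_
    simp [P]
  choose m hm using fun i => surjSec_toSpec_structure n R ((t i).app ⊤ (oneSec _ ⊤))
  refine ⟨∑ i ∈ J, π.app ⊤ ((Limits.Sigma.ι S i).app ⊤ (m i)), ?_⟩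
  let ps : Γ(E, ⊤) →+ Γ((Scheme.Modules.pullback f).obj E, f ⁻¹ᵁ ⊤) :=
    AddMonoidHom.mk' (fun x => pullSec f E x) (pullSec_add' f E)
  change ps _ = _
  rw [map_sum]
  have hz' := congrArg (fun φ => ((Scheme.Modules.pullback f).map π).app ⊤
    (φ.app ⊤ (oneSec (CohB1.ProjSpace n R) ⊤))) hz
  simp only [homOfSection_one] at hz'
  refine Eq.trans ?_ hz'.symm
  let ev : (Coh.structureModule (CohB1.ProjSpace n R) ⟶ (Scheme.Modules.pullback f).obj
      (∐ S)) →+ Γ((Scheme.Modules.pullback f).obj E, f ⁻¹ᵁ ⊤) :=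
    AddMonoidHom.mk' (fun φ => ((Scheme.Modules.pullback f).map π).app ⊤ (φ.app ⊤ (oneSec _ ⊤)))
      (fun a b => (map_add (((Scheme.Modules.pullback f).map π).app ⊤).hom _ _))
  refine Eq.trans ?_ (map_sum ev _ J).symm
  refine Finset.sum_congr rfl fun i _ => ?_
  change (pullSec f E (U := ⊤) _ : Γ((Scheme.Modules.pullback f).obj E, ⊤)) = ((Scheme.Modules.pullback f).map π).app ⊤
    (((Scheme.Modules.pullback f).map (Limits.Sigma.ι S i)).app ⊤ ((t i).app ⊤ (oneSec _ ⊤)))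
  rw [← hm i]
  exact ((pullSec_map f π (U := ⊤) _).symm.trans
    (congrArg (((Scheme.Modules.pullback f).map π).app (f ⁻¹ᵁ ⊤)) (pullSec_map f (Limits.Sigma.ι S i) (U := ⊤) (m i)).symm))

end Affine

/-! ## Over any base -/

variable {n : ℕ} {T : Scheme.{u}}

/-- Every section of `pr^* E` over `pr⁻¹V` comes from `E` over `V`. -/
theorem surjSec_pr (E : T.Modules) (hE : Coh.IsQCoh E) {V : T.Opens} (hV : IsAffineOpen V) :
    SurjSec (KRR.pr n T) E V := by
  haveI : E.IsQuasicoherent := hE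
  let R := Γ(T, V)
  let j : Spec (CommRingCat.of R) ⟶ T := hV.fromSpec
  obtain ⟨ι, _, hι1, hι2, hr⟩ := exists_chart (n := n) hV
  haveI : IsOpenImmersion j := inferInstanceAs (IsOpenImmersion hV.fromSpec)
  have h1 : SurjSec j E V :=
    (pullSec_bijective_of_le_range j E (hV.opensRange_fromSpec.ge)).2
  have h2 : SurjSec (CohB1.ProjSpace.toSpec n R) ((Scheme.Modules.pullback j).obj E) (j ⁻¹ᵁ V) :=
    (surjSec_toSpec n R _).congr_opens hV.fromSpec_preimage_self.symm
  refine ((h1.comp h2).congr_hom hι2.symm).of_comp (pullSec_bijective_of_le_range ι _ ?_).1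
  rw [← Scheme.Hom.image_top_eq_opensRange]
  exact hr.ge

/-! ## The canonical sequence of regular sheaves -/

/-- The counit of `pr^* ⊣ pr_*`. -/
noncomputable abbrev cou (G : (KRR.PY n T).Modules) :
    (Scheme.Modules.pullback (KRR.pr n T)).obj ((Scheme.Modules.pushforward (KRR.pr n T)).obj G) ⟶ G :=
  (Scheme.Modules.pullbackPushforwardAdjunction (KRR.pr n T)).counit.app G

/-- `G_0 = F`, `G_{k+1} = ker(pr^* pr_* G_k → G_k)(1)`. -/
noncomputable def seqG (F : (KRR.PY n T).Modules) : ℕ → (KRR.PY n T).Modules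
  | 0 => F
  | k + 1 => KRR.twF n T 1 (kernel (cou (seqG F k)))

section Resolution

variable {F : (KRR.PY n T).Modules} (hF : Coh.IsQCoh F) (hreg : KRR.IsRegSheaf n T F)

include hF hreg

theorem seqG_reg : ∀ k, Coh.IsQCoh (seqG F k) ∧ KRR.IsRegSheaf n T (seqG F k)
  | 0 => by rw [seqG]; exact ⟨hF, hreg⟩
  | k + 1 => by
    obtain ⟨h1, h2⟩ := seqG_reg k
    haveI : (seqG F k).IsQuasicoherent := h1
    haveI : ((Scheme.Modules.pushforward (KRR.pr n T)).obj (seqG F k)).IsQuasicoherent :=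
      Groth.QCohMod.isQCoh_pushforward _ (KRR.pr n T)
    rw [seqG]
    exact ⟨RegSheaf.isQCoh_twF 1 (inferInstance : (kernel (cou (seqG F k))).IsQuasicoherent),
      isRegSheaf_kernel_counit h1 h2⟩

omit hF hreg in
theorem hv_zero_iff {X : Scheme.{u}} {W : X.Opens} (M : X.Modules) :
    HV W M 0 ↔ Subsingleton Γ(M, W) :=
  (Abelian.Ext.addEquiv₀.trans (homFreeOpen W (abSheaf M))).toEquiv.subsingleton_congr

omit hF hreg in
theorem twF_iso (a : ℤ) {A B : (KRR.PY n T).Modules} (e : A ≅ B) :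
    Nonempty (KRR.twF n T a A ≅ KRR.twF n T a B) :=
  ⟨((DCoh.tensorBi (X := KRR.PY n T)).obj (Twist.twistOver n T a)).mapIso e⟩

theorem hv_seqG_one (k : ℕ) {V : T.Opens} (hV : IsAffineOpen V) (q : ℕ) :
    HV (KRR.pr n T ⁻¹ᵁ V) (KRR.twF n T (-1) (seqG F (k + 1))) q := by
  obtain ⟨h1, h2⟩ := seqG_reg hF hreg k
  obtain ⟨h1', h2'⟩ := seqG_reg hF hreg (k + 1)
  rcases Nat.eq_zero_or_pos q with rfl | hq
  · refine HV.of_iso (M := kernel (cou (seqG F k))) ?_ ?_
    · rw [seqG]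
      exact (RegSheaf.nonempty_twF_zero n T _).some.symm ≪≫
        (RegSheaf.nonempty_twF_twF n T (-1) 1 0 (by omega) _).some.symm
    rw [hv_zero_iff]
    refine subsingleton_of_forall_eq 0 fun z => ?_
    haveI : (seqG F k).IsQuasicoherent := h1
    obtain ⟨t, ht⟩ := surjSec_pr ((Scheme.Modules.pushforward (KRR.pr n T)).obj (seqG F k))
      (Groth.QCohMod.isQCoh_pushforward _ (KRR.pr n T)) hV
      ((kernel.ι (cou (seqG F k))).app (KRR.pr n T ⁻¹ᵁ V) z)
    have e1 : (cou (seqG F k)).app (KRR.pr n T ⁻¹ᵁ V)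
        ((kernel.ι (cou (seqG F k))).app (KRR.pr n T ⁻¹ᵁ V) z) = 0 :=
      congr(($(kernel.condition (cou (seqG F k)))).app (KRR.pr n T ⁻¹ᵁ V) z)
    have e2 : (cou (seqG F k)).app (KRR.pr n T ⁻¹ᵁ V) (pullSec (KRR.pr n T) _ t) =
        (show Γ(seqG F k, KRR.pr n T ⁻¹ᵁ V) from t) :=
      congr(($((Scheme.Modules.pullbackPushforwardAdjunction
        (KRR.pr n T)).right_triangle_components (seqG F k))).app V t)
    have ht' : pullSec (KRR.pr n T) _ t =
        (kernel.ι (cou (seqG F k))).app (KRR.pr n T ⁻¹ᵁ V) z := ht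
    rw [ht', e1] at e2
    refine Groth.QCohMod.app_injective_of_mono (kernel.ι (cou (seqG F k))) _ ?_
    rw [map_zero, ← ht', show t = 0 from e2.symm]
    exact map_zero (((Scheme.Modules.pullbackPushforwardAdjunction (KRR.pr n T)).unit.app _).app V).hom
  · exact van_of_regular h1' h2' hq (by omega) V hV

theorem hv_seqG {V : T.Opens} (hV : IsAffineOpen V) : ∀ (j k q : ℕ), j ≤ n → j < k →
    HV (KRR.pr n T ⁻¹ᵁ V) (KRR.twF n T (-((j + 1 : ℕ) : ℤ)) (seqG F k)) q
  | 0, k + 1, q, _, _ => by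
    simpa using hv_seqG_one hF hreg k hV q
  | j + 1, k + 1, q, hj, hk => by
    obtain ⟨h1, h2⟩ := seqG_reg hF hreg k
    haveI : (seqG F k).IsQuasicoherent := h1
    haveI : ((Scheme.Modules.pushforward (KRR.pr n T)).obj (seqG F k)).IsQuasicoherent :=
      Groth.QCohMod.isQCoh_pushforward _ (KRR.pr n T)
    haveI : Epi (cou (seqG F k)) := epi_counit _ h1 h2
    have hS := shortExact_toAb (RegSheaf.shortExact_tw
      (ShortComplex.mk _ _ (kernel.condition (cou (seqG F k)))) (kernel_shortExact (cou (seqG F k)))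
      (inferInstance : (kernel (cou (seqG F k))).IsQuasicoherent)
      (Groth.QCohMod.isQCoh_pullback_obj (KRR.pr n T) _) h1 (-((j + 1 : ℕ) : ℤ)))
    have hP : ∀ p, HV (KRR.pr n T ⁻¹ᵁ V) (KRR.twF n T (-((j + 1 : ℕ) : ℤ))
        ((Scheme.Modules.pullback (KRR.pr n T)).obj
          ((Scheme.Modules.pushforward (KRR.pr n T)).obj (seqG F k)))) p := fun p =>
      van_twF_pullback' _ inferInstance (Or.inr (by omega)) (Or.inl (by omega)) V hV
    refine HV.of_iso (M := KRR.twF n T (-((j + 1 : ℕ) : ℤ)) (kernel (cou (seqG F k)))) ?_ ?_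
    · rw [seqG]
      exact (RegSheaf.nonempty_twF_twF n T _ 1 _ (by push_cast; ring) _).some.symm
    cases q with
    | succ q => exact hVanish_first hS (hP (q + 1)) (hv_seqG hV j k q (by omega) (by omega))
    | zero =>
      rw [hv_zero_iff]
      have hsub := (hv_zero_iff _).mp (hP 0)
      haveI : Mono ((((DCoh.tensorBi (X := KRR.PY n T)).obj (Twist.twistOver n T (-((j + 1 : ℕ) : ℤ))))).map
          (kernel.ι (cou (seqG F k)))) :=
        (RegSheaf.shortExact_tw
          (ShortComplex.mk _ _ (kernel.condition (cou (seqG F k)))) (kernel_shortExact (cou (seqG F k)))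
          (inferInstance : (kernel (cou (seqG F k))).IsQuasicoherent)
          (Groth.QCohMod.isQCoh_pullback_obj (KRR.pr n T) _) h1 (-((j + 1 : ℕ) : ℤ))).mono_f
      exact @Function.Injective.subsingleton _ _ _ (Groth.QCohMod.app_injective_of_mono
        (((DCoh.tensorBi (X := KRR.PY n T)).obj (Twist.twistOver n T (-((j + 1 : ℕ) : ℤ)))).map
          (kernel.ι (cou (seqG F k)))) _) hsub

omit hF hreg in
theorem hv_cycles' {X : Scheme.{u}} {W : X.Opens} {G : ℤ → X.Modules}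
    (op : ∀ (_ : ℕ) (a b : ℤ), b = a + 1 → (G a ⟶ G b)) (s : ℕ)
    (hcomm : ∀ (t t' : ℕ) (a b b' c : ℤ) (hab : b = a + 1) (hab' : b' = a + 1) (hbc : c = b + 1)
      (hbc' : c = b' + 1), op t a b hab ≫ op t' b c hbc = op t' a b' hab' ≫ op t b' c hbc')
    (hiso : ∀ x : X, ∃ i < s, ∀ (a b : ℤ) (h : b = a + 1),
      Function.Bijective ((QCohMod.stalk x).map (op i a b h)))
    (q : ℕ) (a : ℤ) (h : ∀ j : ℕ, j < s → HV W (G (a - 1 - j)) (q + j)) : HV W (G a) q := by
  have hk : ∀ i j : ℕ, j = i + 1 → HV W (Kosz.obj G s j a) (q + i) := by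
    rintro i j rfl
    rcases Nat.lt_or_ge i s with hi | hi
    · exact hv_kosz s (i + 1) a _ (by have := h i hi; rwa [show a - 1 - (i : ℤ) = a - ((i + 1 : ℕ) : ℤ) by omega] at this)
    · exact HV.of_isZero (isZero_kosz s (i + 1) a (by omega)) _
  suffices H : ∀ (m i : ℕ), s ≤ i + m → HV W (kernel (Kosz.d op s i a)) (q + i + 1) by
    have := epi_kosz op s hcomm hiso a
    refine HV.of_iso (Kosz.obj0Iso (G := G) s a) ?_
    exact hVanish_third (shortExact_toAb (kernel_shortExact (Kosz.d op s 0 a)))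
      (H s 0 (by omega)) (hk 0 1 rfl)
  intro m
  induction m with
  | zero =>
    intro i hi
    exact HV.of_isZero
      (IsZero.of_mono (kernel.ι (Kosz.d op s i a)) (isZero_kosz s (i + 1) a (by omega))) _
  | succ m ih =>
    intro i hi
    obtain ⟨w, hw⟩ := shortExact_cycles op s hcomm hiso i a
    exact hVanish_third (shortExact_toAb hw) (ih (i + 1) (by omega)) (hk (i + 1) (i + 2) rfl)

theorem isZero_seqG_succ : IsZero (seqG F (n + 1)) := by
  obtain ⟨h1, h2⟩ := seqG_reg hF hreg (n + 1)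
  haveI : (seqG F (n + 1)).IsQuasicoherent := h1
  haveI : ((Scheme.Modules.pushforward (KRR.pr n T)).obj (seqG F (n + 1))).IsQuasicoherent :=
    Groth.QCohMod.isQCoh_pushforward _ (KRR.pr n T)
  haveI : Epi (cou (seqG F (n + 1))) := epi_counit _ h1 h2
  refine IsZero.of_epi (cou (seqG F (n + 1))) ((Scheme.Modules.pullback (KRR.pr n T)).map_isZero ?_)
  refine isZero_of_sections_cover _ (fun V : T.affineOpens => V.1) (fun V => V.2)
    (iSup_affineOpens_eq_top T) fun V => ?_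
  change Subsingleton Γ(seqG F (n + 1), KRR.pr n T ⁻¹ᵁ V.1)
  rw [← hv_zero_iff]
  refine HV.of_iso ((nonempty_G_iso_twF (seqG F (n + 1)) 0).some ≪≫
    (RegSheaf.nonempty_twF_zero n T _).some)
    (hv_cycles' (G := G (seqG F (n + 1))) (op (seqG F (n + 1))) (n + 1) (op_comm _)
      (op_stalk_bijective _) 0 0 fun j hj => ?_)
  refine HV.of_iso ?_ (hv_seqG hF hreg V.2 j (n + 1) (0 + j) (by omega) hj)
  rw [show (0 : ℤ) - 1 - (j : ℤ) = -((j + 1 : ℕ) : ℤ) by omega]
  exact (nonempty_G_iso_twF _ _).some.symm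

theorem isZero_seqG : ∀ k, n < k → IsZero (seqG F k)
  | k + 1, hk => by
    rcases Nat.lt_or_ge n k with h | h
    · have hz := isZero_seqG k h
      rw [seqG]
      refine ((DCoh.tensorBi (X := KRR.PY n T)).obj (Twist.twistOver n T 1)).map_isZero ?_
      exact IsZero.of_mono (kernel.ι _) ((Scheme.Modules.pullback (KRR.pr n T)).map_isZero
        ((Scheme.Modules.pushforward (KRR.pr n T)).map_isZero hz))
    · obtain rfl : k = n := by omega
      exact isZero_seqG_succ hF hreg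

end Resolution

/-- Splicing short exact sequences `0 → K_k → X_k → A_k → 0` along `A_{k+1} ≅ K_k`. -/
theorem exists_spliced {Y : Scheme.{u}} (A K X : ℕ → Y.Modules) (i : ∀ k, K k ⟶ X k) (p : ∀ k, X k ⟶ A k)
    (hip : ∀ k, i k ≫ p k = 0) (hT : ∀ k, (ShortComplex.mk (i k) (p k) (hip k)).ShortExact)
    (e : ∀ k, A (k + 1) ≅ K k) {B : Y.Modules} (e0 : A 0 ≅ B) :
    ∃ (L : ChainComplex Y.Modules ℕ) (π : L ⟶ (ChainComplex.single₀ Y.Modules).obj B),
      (∀ k, Nonempty (L.X k ≅ X k)) ∧ QuasiIso π := by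
  let d : ∀ k, X (k + 1) ⟶ X k := fun k => p (k + 1) ≫ (e k).hom ≫ i k
  have hdp : ∀ k, d k ≫ p k = 0 := fun k => by simp [d, hip k]
  have hdd : ∀ k, d (k + 1) ≫ d k = 0 := fun k => by
    change d (k + 1) ≫ p (k + 1) ≫ (e k).hom ≫ i k = 0
    rw [reassoc_of% (hdp (k + 1)), zero_comp]
  let L : ChainComplex Y.Modules ℕ := ChainComplex.of X d hdd
  have hw : L.d 1 0 ≫ (p 0 ≫ e0.hom) = 0 := by
    rw [show L.d 1 0 = d 0 from ChainComplex.of_d X d 0, ← Category.assoc, hdp 0, zero_comp]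
  refine ⟨L, (ChainComplex.toSingle₀Equiv L B).symm ⟨p 0 ≫ e0.hom, hw⟩, fun k => ⟨Iso.refl _⟩,
    ⟨fun k => ?_⟩⟩
  have hex : ∀ k, (ShortComplex.mk (d k) (p k) (hdp k)).Exact := fun k => by
    let φ : ShortComplex.mk (d k) (p k) (hdp k) ⟶ ShortComplex.mk (i k) (p k) (hip k) :=
      { τ₁ := p (k + 1) ≫ (e k).hom, τ₂ := 𝟙 _, τ₃ := 𝟙 _
        comm₁₂ := (Category.assoc _ _ _).trans (Category.comp_id _).symm
        comm₂₃ := (Category.id_comp _).trans (Category.comp_id _).symm }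
    have : Epi (p (k + 1)) := (hT (k + 1)).epi_g
    have : Epi φ.τ₁ := epi_comp _ _
    have : IsIso φ.τ₂ := inferInstanceAs (IsIso (𝟙 _))
    have : Mono φ.τ₃ := inferInstanceAs (Mono (𝟙 _))
    exact (ShortComplex.exact_iff_of_epi_of_isIso_of_mono φ).mpr (hT k).exact
  rcases k with _ | k
  · rw [LFRes.quasiIso_zero_iff]
    let π₀ := (ChainComplex.toSingle₀Equiv L B).symm ⟨p 0 ≫ e0.hom, hw⟩
    have e' : ((ChainComplex.toSingle₀Equiv L B).symm ⟨p 0 ≫ e0.hom, hw⟩).f 0 = p 0 ≫ e0.hom :=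
      ChainComplex.toSingle₀Equiv_symm_apply_f_zero _ hw
    refine ⟨(ShortComplex.exact_iff_of_iso (ShortComplex.isoMk
      (S₁ := ShortComplex.mk (d 0) (p 0) (hdp 0))
      (S₂ := ShortComplex.mk (L.d 1 0) (π₀.f 0) ((ChainComplex.toSingle₀Equiv L B) π₀).2)
      (Iso.refl _) (Iso.refl _) e0
      ((Category.id_comp _).trans ((ChainComplex.of_d X d 0).trans (Category.comp_id _).symm))
      (by exact (Category.id_comp _).trans e'))).mp (hex 0), ?_⟩
    rw [e']
    have : Epi (p 0) := (hT 0).epi_g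
    exact epi_comp _ _
  · rw [quasiIsoAt_iff_exactAt' _ _ (ChainComplex.exactAt_succ_single_obj _ _),
      L.exactAt_iff' (k + 2) (k + 1) k (by simp) (by simp)]
    let φ : ShortComplex.mk (d (k + 1)) (p (k + 1)) (hdp (k + 1)) ⟶
        ShortComplex.mk (d (k + 1)) (d k) (hdd k) :=
      { τ₁ := 𝟙 _, τ₂ := 𝟙 _, τ₃ := (e k).hom ≫ i k
        comm₁₂ := (Category.id_comp _).trans (Category.comp_id _).symm
        comm₂₃ := Category.id_comp _ }
    have : Epi φ.τ₁ := inferInstanceAs (Epi (𝟙 _))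
    have : IsIso φ.τ₂ := inferInstanceAs (IsIso (𝟙 _))
    have : Mono (i k) := (hT k).mono_f
    have : Mono φ.τ₃ := mono_comp _ _
    refine (ShortComplex.exact_iff_of_iso (ShortComplex.isoMk
      (S₁ := ShortComplex.mk (d (k + 1)) (d k) (hdd k)) (S₂ := L.sc' (k + 2) (k + 1) k)
      (Iso.refl _) (Iso.refl _) (Iso.refl _)
      ((Category.id_comp _).trans ((ChainComplex.of_d X d (k + 1)).trans (Category.comp_id _).symm))
      ((Category.id_comp _).trans ((ChainComplex.of_d X d k).trans (Category.comp_id _).symm)))).mp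
      ((ShortComplex.exact_iff_of_epi_of_isIso_of_mono φ).mp (hex (k + 1)))

/-- The resolution of a regular sheaf by twisted inverse images. -/
theorem exists_resolution {F : (KRR.PY n T).Modules} (hF : Coh.IsQCoh F) (hreg : KRR.IsRegSheaf n T F) :
    ∃ (L : ChainComplex (KRR.PY n T).Modules ℕ)
      (π : L ⟶ (ChainComplex.single₀ (KRR.PY n T).Modules).obj F),
      (∀ i, Nonempty (L.X i ≅ KRR.twF n T (-(i : ℤ)) ((Scheme.Modules.pullback (KRR.pr n T)).obj
        ((Scheme.Modules.pushforward (KRR.pr n T)).obj (seqG F i))))) ∧ QuasiIso π := by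
  haveI : ∀ k, (seqG F k).IsQuasicoherent := fun k => (seqG_reg hF hreg k).1
  haveI : ∀ k, ((Scheme.Modules.pushforward (KRR.pr n T)).obj (seqG F k)).IsQuasicoherent :=
    fun k => Groth.QCohMod.isQCoh_pushforward _ (KRR.pr n T)
  haveI : ∀ k, Epi (cou (seqG F k)) := fun k =>
    epi_counit _ (seqG_reg hF hreg k).1 (seqG_reg hF hreg k).2
  have hT : ∀ k : ℕ, (RegSheaf.tw (ShortComplex.mk _ _ (kernel.condition (cou (seqG F k))))
      (-(k : ℤ))).ShortExact := fun k =>
    RegSheaf.shortExact_tw _ (kernel_shortExact (cou (seqG F k)))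
      (inferInstance : (kernel (cou (seqG F k))).IsQuasicoherent)
      (Groth.QCohMod.isQCoh_pullback_obj (KRR.pr n T) _) (seqG_reg hF hreg k).1 _
  refine exists_spliced (fun k => (RegSheaf.tw (ShortComplex.mk _ _
      (kernel.condition (cou (seqG F k)))) (-(k : ℤ))).X₃) _ _ _ _ _ hT (fun k => ?_) ?_
  · exact ((RegSheaf.nonempty_twF_twF n T (-((k + 1 : ℕ) : ℤ)) 1 (-(k : ℤ)) (by push_cast; ring)
      (kernel (cou (seqG F k)))).some :)
  · exact ((RegSheaf.nonempty_twF_zero n T F).some :)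

end Groth.KTheory.RegKoszul
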