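import Groth.Agent.KTheory.KvbPull
import Groth.Agent.KTheory.KvbModel
import Groth.Agent.LambdaCore.Gamma
import Groth.Agent.LocFree.Tensor
import Groth.Agent.PicAux.PullTensor

/-!
# Pullback of models of `K(X)` is a homomorphism of augmented λ-rings
-/

set_option autoImplicit false
universe u v

open CategoryTheory CategoryTheory.Limits AlgebraicGeometry

namespace Groth.KTheory.PullLambda

open LambdaRing Groth.LambdaCore Groth.LocFree Groth.KTheory.LambdaVb

variable {X Y : Scheme.{u}} (f : X ⟶ Y)
  {KX : Type v} [CommRing KX] [LambdaOps KX] {PX : PosStructure KX} {φX : SGA6.Kvb X →+ KX}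
  {KY : Type v} [CommRing KY] [LambdaOps KY] {PY : PosStructure KY} {φY : SGA6.Kvb Y →+ KY}
  (hKX : KRR.IsModel X KX PX φX) (hKY : KRR.IsModel Y KY PY φY)
  {g : KY →+ KX} (hg : KRR.IsPull f φY φX g)

include hKX hKY hg

theorem map_one' : g 1 = 1 := by
  have h := isFinLocFree_unit Y
  rw [← hKY.map_one, hg _ h, ← hKX.map_one]
  exact congrArg φX (kcl_iso (PicLoc.pullbackStructureIso f) (isFinLocFree_pullback f h))

theorem map_mul' (x y : KY) : g (x * y) = g x * g y := by
  obtain ⟨a, rfl⟩ := hKY.bijective.2 x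
  induction a using k0sub_induction with
  | h0 => simp
  | hadd p q hp hq => simp only [map_add, add_mul, hp, hq]
  | hneg p hp => simp only [map_neg, neg_mul, hp]
  | hcl E hE =>
    obtain ⟨b, rfl⟩ := hKY.bijective.2 y
    induction b using k0sub_induction with
    | h0 => simp
    | hadd p q hp hq => simp only [map_add, mul_add, hp, hq]
    | hneg p hp => simp only [map_neg, mul_neg, hp]
    | hcl F hF =>
      change g (φY (KRR.cl Y E) * φY (KRR.cl Y F)) = g (φY (KRR.cl Y E)) * g (φY (KRR.cl Y F))
      rw [hKY.map_mul E F hE hF, hg _ (show FlatMod.IsFinLocFree (((DCoh.tensorBi (X := Y)).obj E).obj F) from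
        isFinLocFree_tensorMod hE hF), hg E hE, hg F hF,
        hKX.map_mul _ _ (isFinLocFree_pullback f hE) (isFinLocFree_pullback f hF)]
      exact congrArg φX (kcl_iso (Groth.PicAux.exists_pullback_tensorMod f E F).choose
        (isFinLocFree_pullback f (isFinLocFree_tensorMod hE hF)))

theorem map_lam_pos {e : KY} (he : e ∈ PY.pos) (i : ℕ) : g (LambdaOps.lam i e) = LambdaOps.lam i (g e) := by
  obtain ⟨n, E, hn, hE, rfl⟩ := (hKY.mem_pos_iff e).1 he
  have hv := isFinLocFree_of_rank hE
  have := KTheory.LocFree.isQCoh hv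
  have hΛ := isFinLocFree_extPow hv i
  rw [hKY.map_lam i E _ hv hΛ (isExtPow_extPow i E), hg _ hΛ, hg _ hv]
  exact (hKX.map_lam i _ _ (isFinLocFree_pullback f hv) (isFinLocFree_pullback f hΛ)
    (isExtPow_pullback f (isExtPow_extPow i E))).symm

theorem map_aug_pos {e : KY} (he : e ∈ PY.pos) : PX.aug (g e) = PY.aug e := by
  obtain ⟨n, E, hn, hE, rfl⟩ := (hKY.mem_pos_iff e).1 he
  rw [hKY.aug_cl n E hE, hg _ (isFinLocFree_of_rank hE), hKX.aug_cl n _ (isFinLocFreeOfRank_pullback f hE)]

/-- The pullback is a homomorphism of augmented λ-rings. -/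
theorem exists_lambdaHom : ∃ G : KY →+* KX, IsLambdaHom G ∧ (∀ x, PX.aug (G x) = PY.aug x) ∧ ∀ x, G x = g x := by
  let G : KY →+* KX :=
    { toFun := g
      map_one' := map_one' f hKX hKY hg
      map_mul' := map_mul' f hKX hKY hg
      map_zero' := map_zero g
      map_add' := map_add g }
  refine ⟨G, fun i x => ?_, fun x => ?_, fun x => rfl⟩
  · obtain ⟨e, e', he, he', rfl⟩ := PY.exists_sub x
    have hs : ∀ {z : KY}, z ∈ PY.pos → PowerSeries.map G (lamSeries z) = lamSeries (G z) := fun hz =>
      PowerSeries.ext fun j => by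
        simp only [PowerSeries.coeff_map, lamSeries, PowerSeries.coeff_mk]
        exact map_lam_pos f hKX hKY hg hz j
    have key : PowerSeries.map G (lamSeries (e - e')) = lamSeries (G (e - e')) := by
      refine (isUnit_lamSeries (G e')).mul_right_cancel ?_
      rw [map_sub G, lamSeries_sub_mul, ← hs he', ← map_mul, lamSeries_sub_mul, hs he]
    simpa [lamSeries] using congrArg (PowerSeries.coeff i) key
  · obtain ⟨e, e', he, he', rfl⟩ := PY.exists_sub x
    show PX.aug (g (e - e')) = _
    rw [map_sub, map_sub, map_sub, map_aug_pos f hKX hKY hg he, map_aug_pos f hKX hKY hg he']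

omit hKX hKY hg in
/-- A λ-homomorphism compatible with augmentations respects the γ-filtrations. -/
theorem map_mem_gammaFiltration {G : KY →+* KX} (hG : IsLambdaHom G) (ha : ∀ x, PX.aug (G x) = PY.aug x)
    {k : ℕ} {x : KY} (hx : x ∈ gammaFiltration PY k) : G x ∈ gammaFiltration PX k := by
  rcases Nat.eq_zero_or_pos k with rfl | hk
  · simp [gammaFiltration]
  refine gammaFiltration_induction (G := (gammaFiltration PX k).comap G.toAddMonoidHom) hk.ne' (fun l h1 h2 => ?_) hx
  rw [AddSubgroup.mem_comap, RingHom.toAddMonoidHom_eq_coe, AddMonoidHom.coe_coe, map_list_prod, List.map_map]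
  have h := prod_mem_gammaFiltration (P := PX) k (l.map fun p => (p.1, G p.2))
    (fun p hp => by
      obtain ⟨q, hq, rfl⟩ := List.mem_map.1 hp
      rw [ha]; exact h1 q hq)
    (by simpa [List.map_map, Function.comp_def] using h2)
  rw [List.map_map] at h
  simp only [Function.comp_def, map_gamma hG] at h ⊢
  exact h

end Groth.KTheory.PullLambda
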