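import Groth.Agent.KTheory.KvbModel
import Groth.Agent.LocFree.ExtPullback

/-!
# The tautological relation of a projective bundle in `K₀`
-/

set_option autoImplicit false
universe v u

open CategoryTheory CategoryTheory.Limits AlgebraicGeometry

namespace Groth.KTheory.TautRel

open Groth.LocFree LambdaVb KvbModel

theorem sum_alt_lam {K : Type v} [CommRing K] [LambdaRing.LambdaOps K] (k ℓ : K)
    (hℓ : ∀ i, 2 ≤ i → LambdaRing.LambdaOps.lam i ℓ = 0) (n : ℕ) :
    ∑ i ∈ Finset.range (n + 1), (-1 : K) ^ i * LambdaRing.LambdaOps.lam i (k + ℓ) * ℓ ^ (n - i) =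
      (-1 : K) ^ n * LambdaRing.LambdaOps.lam n k := by
  have hsucc : ∀ i : ℕ, LambdaRing.LambdaOps.lam (i + 1) (k + ℓ) =
      LambdaRing.LambdaOps.lam (i + 1) k + LambdaRing.LambdaOps.lam i k * ℓ := by
    intro i
    rw [LambdaRing.LambdaOps.lam_add, Finset.sum_range_succ, Finset.sum_range_succ,
      Finset.sum_eq_zero fun j hj => ?_, Nat.sub_self, Nat.add_sub_cancel_left,
      LambdaRing.LambdaOps.lam_zero, LambdaRing.LambdaOps.lam_one, mul_one, zero_add, add_comm]
    rw [Finset.mem_range] at hj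
    rw [hℓ _ (by omega), mul_zero]
  induction n with
  | zero => simp [LambdaRing.LambdaOps.lam_zero]
  | succ n ih =>
    rw [Finset.sum_range_succ]
    have h : ∀ i ∈ Finset.range (n + 1),
        (-1 : K) ^ i * LambdaRing.LambdaOps.lam i (k + ℓ) * ℓ ^ (n + 1 - i) =
          ((-1 : K) ^ i * LambdaRing.LambdaOps.lam i (k + ℓ) * ℓ ^ (n - i)) * ℓ := fun i hi => by
      rw [Finset.mem_range] at hi
      rw [Nat.sub_add_comm (by omega), pow_succ, mul_assoc _ _ ℓ]
    rw [Finset.sum_congr rfl h, ← Finset.sum_mul, ih, hsucc, Nat.sub_self, pow_zero, mul_one]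
    ring

theorem tautological_relation {X P : Scheme.{u}} [ConnectedSpace P] {r : ℕ} {E : X.Modules}
    (hE : FlatMod.IsFinLocFreeOfRank (r + 1) E) (π : P ⟶ X) (O1 : P.Modules)
    (q : (Scheme.Modules.pullback π).obj E ⟶ O1) (hPB : KRR.IsProjBundle π E O1 q)
    {KX : Type v} [CommRing KX] [LambdaRing.LambdaOps KX] {PX : LambdaRing.PosStructure KX}
    {φX : SGA6.Kvb X →+ KX} (hKX : KRR.IsModel X KX PX φX)
    {KP : Type v} [CommRing KP] [LambdaRing.LambdaOps KP] {PP : LambdaRing.PosStructure KP}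
    {φP : SGA6.Kvb P →+ KP} (hKP : KRR.IsModel P KP PP φP)
    (g : KX →+ KP) (hg : KRR.IsPull π φX φP g) :
    ∑ i ∈ Finset.range (r + 2), (-1 : KP) ^ i *
      g (LambdaRing.LambdaOps.lam i (φX (KRR.cl X E))) * φP (KRR.cl P O1) ^ (r + 1 - i) = 0 := by
  have hvE := isFinLocFree_of_rank hE
  have := KTheory.LocFree.isQCoh hvE
  let E' := (Scheme.Modules.pullback π).obj E
  have hE' : FlatMod.IsFinLocFreeOfRank (r + 1) E' := isFinLocFreeOfRank_pullback π hE
  have hvE' := isFinLocFree_of_rank hE'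
  have hO := isFinLocFree_of_rank hPB.invertible
  let S := ShortComplex.mk (kernel.ι q) q (kernel.condition q)
  have hS : S.ShortExact :=
    { exact := ShortComplex.exact_of_f_is_kernel _ (kernelIsKernel q)
      mono_f := inferInstance
      epi_g := hPB.epi }
  have hK : FlatMod.IsFinLocFreeOfRank r (kernel q) :=
    isFinLocFreeOfRank_left (S := S) hS hE' hPB.invertible
  have hvK := isFinLocFree_of_rank hK
  have := KTheory.LocFree.isQCoh hvK
  set ℓ := φP (KRR.cl P O1) with hℓdef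
  set k := φP (KRR.cl P (kernel q))
  have hsum : φP (kcl E') = k + ℓ := by
    exact (congrArg φP (clSub_rel (P := fun M : P.Modules => FlatMod.IsFinLocFree M) S hS hvK hvE' hO)).trans (map_add φP _ _)
  have hlam : ∀ i : ℕ, g (LambdaRing.LambdaOps.lam i (φX (KRR.cl X E))) =
      LambdaRing.LambdaOps.lam i (k + ℓ) := fun i => by
    have hΛ := isFinLocFree_extPow hvE i
    rw [hKX.map_lam i E _ hvE hΛ (isExtPow_extPow i E), hg _ hΛ, ← hsum]
    exact (hKP.map_lam i E' _ hvE' (isFinLocFree_pullback π hΛ)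
      (isExtPow_pullback π (isExtPow_extPow i E))).symm
  have hℓpos : ℓ ∈ PP.pos := (hKP.mem_pos_iff _).2 ⟨1, O1, le_rfl, hPB.invertible, rfl⟩
  have hℓaug : PP.aug ℓ = ((1 : ℕ) : ℤ) := hKP.aug_cl 1 O1 hPB.invertible
  simp only [hlam]
  rw [sum_alt_lam k ℓ (fun i hi => PP.lam_eq_zero ℓ hℓpos i (by rw [hℓaug]; exact_mod_cast hi)),
    hKP.map_lam (r + 1) _ _ hvK (isFinLocFree_extPow hvK _) (isExtPow_extPow (r + 1) (kernel q))]
  have h0 := isFinLocFreeOfRank_extPow hK (r + 1)
  rw [Nat.choose_eq_zero_of_lt (by omega)] at h0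
  rw [show φP (KRR.cl P (extPow (r + 1) (kernel q))) = φP (kcl (extPow (r + 1) (kernel q))) from rfl,
    kcl_zero (isZero_of_rank_zero h0), map_zero, mul_zero]

end Groth.KTheory.TautRel
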