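import Groth.Agent.KTheory.Basic
import Groth.Agent.KTheory.Perf
import Groth.Agent.KTheory.LocFree
import Groth.Agent.Misc4.QCohDPerf
import Groth.Agent.Misc4.ProjQCohGood

/-!
# `K₀` along a fully faithful triangulated functor; perfect objects have quasi-coherent cohomology
-/

set_option autoImplicit false
universe w v v' u u'

open CategoryTheory CategoryTheory.Limits CategoryTheory.Pretriangulated AlgebraicGeometry

namespace Groth.KTheory.PerfAffine

attribute [local instance] HasDerivedCategory.standard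

theorem isQCohD_of_isPerfect {X : Scheme.{u}} {K : DCoh.D X} (hK : DCoh.IsPerfect K) :
    DCoh.IsQCohD K :=
  Groth.Misc4.QCohDPerf.isQCohD_of_local fun x => by
    obtain ⟨V, hx, E, hE, ⟨e⟩⟩ := (Perf.isPerfect_iff K).1 hK x
    exact ⟨V, hx, Groth.Misc4.QCohDPerf.isQCohD_of_iso e.symm
      (Groth.Misc4.ProjQCohGood.isQCohD_of_terms E fun n => LocFree.isQCoh (hE.2 n))⟩

variable {D : Type u} [Category.{v} D] [Preadditive D] [HasZeroObject D] [HasShift D ℤ]
  [∀ n : ℤ, (shiftFunctor D n).Additive] [Pretriangulated D]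
  {D' : Type u'} [Category.{v'} D'] [Preadditive D'] [HasZeroObject D'] [HasShift D' ℤ]
  [∀ n : ℤ, (shiftFunctor D' n).Additive] [Pretriangulated D']

/-- A fully faithful triangulated functor, essentially surjective between object properties,
induces an isomorphism on `K₀`. -/
theorem exists_equiv_of_fullyFaithful (t : D ⥤ D') [t.Full] [t.Faithful] [t.CommShift ℤ]
    [t.IsTriangulated] (Q : ObjectProperty D) (Q' : ObjectProperty D')
    (ht : ∀ M, Q M ↔ Q' (t.obj M)) (hex : ∀ K, Q' K → ∃ M, Q M ∧ Nonempty (t.obj M ≅ K))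
    (hiso' : ∀ {K L : D'}, (K ≅ L) → Q' K → Q' L) (hiso : ∀ {K L : D}, (K ≅ L) → Q K → Q L)
    (Z : D) (hZ : IsZero Z) (hQZ : Q Z) :
    ∃ Θ : KZero.K0tr Q ≃+ KZero.K0tr Q',
      ∀ M, Q M → Θ (KZero.clTr Q M) = KZero.clTr Q' (t.obj M) := by
  classical
  have hZ' : IsZero (t.obj Z) := Functor.map_isZero t hZ
  have hQZ' := (ht Z).1 hQZ
  let F : KZero.K0tr Q →+ KZero.K0tr Q' :=
    liftTr Q (fun M => KZero.clTr Q' (t.obj M)) fun T hT h1 h2 h3 =>
      clTr_rel (t.mapTriangle.obj T) (t.map_distinguished T hT) ((ht _).1 h1) ((ht _).1 h2) ((ht _).1 h3)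
  let pre : D' → D := fun K => if h : Q' K then (hex K h).choose else Z
  have hpre : ∀ K, Q' K → Q (pre K) ∧ Nonempty (t.obj (pre K) ≅ K) := fun K h => by
    simp only [pre, dif_pos h]; exact (hex K h).choose_spec
  let G : KZero.K0tr Q' →+ KZero.K0tr Q :=
    liftTr Q' (fun K => KZero.clTr Q (pre K)) fun T hT h1 h2 h3 => by
      obtain ⟨q1, ⟨e1⟩⟩ := hpre _ h1
      obtain ⟨q2, ⟨e2⟩⟩ := hpre _ h2
      obtain ⟨q3, ⟨e3⟩⟩ := hpre _ h3
      let f := t.preimage (e1.hom ≫ T.mor₁ ≫ e2.inv)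
      obtain ⟨C, g, h, hC⟩ := distinguished_cocone_triangle f
      let i := Pretriangulated.isoTriangleOfIso₁₂ (t.mapTriangle.obj (Triangle.mk f g h)) T
        (t.map_distinguished _ hC) hT e1 e2
        (show t.map f ≫ e2.hom = e1.hom ≫ T.mor₁ by simp [f])
      have eC : C ≅ pre T.obj₃ := t.preimageIso (Triangle.π₃.mapIso i ≪≫ e3.symm)
      have hQC : Q C := hiso eC.symm q3
      exact (clTr_rel _ hC q1 q2 hQC).trans
        (congrArg (KZero.clTr Q (pre T.obj₁) + ·) (clTr_iso eC hQC q3 hZ hQZ))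
  have hF : ∀ M, Q M → F (KZero.clTr Q M) = KZero.clTr Q' (t.obj M) := fun M h => liftTr_clTr _ _ h
  have hGF : G.comp F = AddMonoidHom.id _ := k0tr_hom_ext fun M h => by
    obtain ⟨q, ⟨e⟩⟩ := hpre _ ((ht M).1 h)
    rw [AddMonoidHom.comp_apply, hF M h, liftTr_clTr _ _ ((ht M).1 h)]
    exact clTr_iso (t.preimageIso e) q h hZ hQZ
  have hFG : F.comp G = AddMonoidHom.id _ := k0tr_hom_ext fun K h => by
    obtain ⟨q, ⟨e⟩⟩ := hpre K h
    rw [AddMonoidHom.comp_apply, liftTr_clTr _ _ h, hF _ q]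
    exact clTr_iso e ((ht _).1 q) h hZ' hQZ'
  exact ⟨AddMonoidHom.toAddEquiv F G hGF hFG, fun M h => hF M h⟩

end Groth.KTheory.PerfAffine
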