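import Groth.Agent.KTheory.PerfCoh
import Groth.Agent.KTheory.LFResRegular
import Mathlib.AlgebraicGeometry.Noetherian

/-!
# Coherent modules on regular schemes are perfect
-/

set_option autoImplicit false
universe u

open CategoryTheory CategoryTheory.Limits CategoryTheory.Pretriangulated AlgebraicGeometry
  TopologicalSpace

namespace Groth.KTheory.Perf

attribute [local instance] HasDerivedCategory.standard

variable {X : Scheme.{u}}

theorem hasEnoughLocFree_of_isAffine [IsAffine X] : KRR.HasEnoughLocFree X := by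
  intro M hM
  have := hM.1
  obtain ⟨G, hG⟩ := Groth.QCohMod.exists_generators_of_finite M
    (((Groth.QCohMod.isCoh_iff M).1 hM).2 ⊤ (isAffineOpen_top X))
  obtain ⟨n, ⟨e⟩⟩ := Finite.exists_equiv_fin G.I
  let F : G.I → X.Modules := fun _ => Coh.structureModule X
  let π : (∐ F) ⟶ M := G.π
  have hπ : Epi π := inferInstanceAs (Epi G.π)
  let r : FlatMod.freeMod X n ≅ ∐ F := Sigma.reindex e.symm F
  exact ⟨FlatMod.freeMod X n, r.hom ≫ π, Groth.LocFree.isFinLocFree_freeMod X n, epi_comp _ _⟩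

theorem isPerfect_of_res : ∀ (n : ℕ) (A : X.Modules),
    Resolution.Res (KRR.vbP X) (cohProp X) n A → DCoh.IsPerfect (DCoh.inD X A)
  | 0, _, hA => isPerfect_inD_of_finLocFree hA
  | n + 1, A, hA => by
    obtain ⟨-, K, L, i, p, w, hS, hL, hK⟩ := hA
    exact isPerfect_obj₃ hS.singleTriangle hS.singleTriangle_distinguished
      (isPerfect_of_res n K hK) (isPerfect_inD_of_finLocFree hL)

/-- On a regular scheme coherent modules are perfect. -/
theorem isPerfect_inD_of_regular [IsLocallyNoetherian X]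
    (hreg : ∀ x : X, IsRegularLocalRing (X.presheaf.stalk x)) {M : X.Modules} (hM : Coh.IsCoh M) :
    DCoh.IsPerfect (DCoh.inD X M) := by
  rw [isPerfect_iff]
  intro x
  obtain ⟨W, hWa, hxW⟩ := Groth.QCohMod.exists_affine_mem x
  have : IsAffine (W : Scheme.{u}) := hWa
  have : IsNoetherian (W : Scheme.{u}) := {}
  have hreg' : ∀ y : (W : Scheme.{u}), IsRegularLocalRing ((W : Scheme.{u}).presheaf.stalk y) :=
    fun y => by
      have := hreg y.1
      exact IsRegularLocalRing.of_ringEquiv (W.stalkIso y).commRingCatIsoToRingEquiv.symm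
  have hc : Coh.IsCoh (M.restrict W.ι) := by
    have hq : (M.restrict W.ι).IsQuasicoherent :=
      have := hM.1
      Scheme.Modules.isQuasicoherent_restrictFunctor W.ι M
    refine ⟨hq, Groth.QCohMod.isFT_of_affine_cover _ fun y => ⟨⊤, isAffineOpen_top _, trivial, ?_⟩⟩
    exact Groth.QCohMod.finite_restrict_sections M W
      (((Groth.QCohMod.isCoh_iff M).1 hM).2 W hWa)
  obtain ⟨n, hn⟩ := LFRes.finRes_of_regular hasEnoughLocFree_of_isAffine hreg' _ hc
  obtain ⟨V, hxV, E, hE, ⟨e⟩⟩ := (isPerfect_iff _).1 (isPerfect_of_res n _ hn) ⟨x, hxW⟩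
  obtain ⟨c⟩ := nonempty_rdComp (k := V.ι) (j := W.ι) (l := V.ι ≫ W.ι) rfl (DCoh.inD X M)
  exact ⟨(V.ι ≫ W.ι).opensRange, ⟨⟨⟨x, hxW⟩, hxV⟩, rfl⟩, perfOn_of_range _ hE
    (c ≪≫ (Rd V.ι).mapIso
      (((Scheme.Modules.restrictFunctor W.ι).mapDerivedCategorySingleFunctor 0).app M) ≪≫ e)⟩

theorem isPerfect_of_regular [IsLocallyNoetherian X]
    (hreg : ∀ x : X, IsRegularLocalRing (X.presheaf.stalk x)) (K : DCoh.D X) (a b : ℤ)
    (ha : K.IsGE a) (hb : K.IsLE b) (hK : DCoh.IsCohD K) : DCoh.IsPerfect K :=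
  isPerfect_of_hd K a b ha hb fun i => isPerfect_inD_of_regular hreg (hK i)

end Groth.KTheory.Perf
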