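import Mathlib.CategoryTheory.Triangulated.Pretriangulated
import Mathlib.Algebra.Homology.HomologicalComplex

/-!
# Postnikov systems in triangulated categories
-/

set_option autoImplicit false
universe v u
open CategoryTheory CategoryTheory.Limits CategoryTheory.Pretriangulated

namespace Groth.Agent.Postnikov

variable {D : Type u} [Category.{v} D] [Preadditive D] [HasZeroObject D] [HasShift D ℤ]
  [∀ n : ℤ, (shiftFunctor D n).Additive]

/-- There are no nonzero maps `A⟦m⟧ ⟶ B`. -/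
def Vanish (A B : D) (m : ℤ) : Prop := ∀ ψ : A⟦m⟧ ⟶ B, ψ = 0

omit [HasZeroObject D] [HasShift D ℤ] [∀ n : ℤ, (shiftFunctor D n).Additive] in
lemma zero_of_iso {A A' B B' : D} (eA : A ≅ A') (eB : B ≅ B')
    (h : ∀ ψ : A' ⟶ B', ψ = 0) (ψ : A ⟶ B) : ψ = 0 := by
  rw [← cancel_epi eA.inv, ← cancel_mono eB.hom, Category.assoc]
  simpa using h (eA.inv ≫ ψ ≫ eB.hom)

omit [HasZeroObject D] in
lemma Vanish.shifted {A B : D} {m : ℤ} (h : Vanish A B m) (a b : ℤ) (hab : a = m + b)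
    (ψ : A⟦a⟧ ⟶ B⟦b⟧) : ψ = 0 := by
  refine zero_of_iso ((shiftFunctorAdd' D m b a (by omega)).app A) (Iso.refl _) (fun φ => ?_) ψ
  obtain ⟨φ, rfl⟩ := (shiftFunctor D b).map_surjective φ
  rw [h φ, Functor.map_zero]

omit [HasZeroObject D] [∀ n : ℤ, (shiftFunctor D n).Additive] in
lemma Vanish.shifted₁ {A B : D} {m : ℤ} (h : Vanish A B m) (a c : ℤ) (hc : a + c = m)
    (ψ : (A⟦a⟧)⟦c⟧ ⟶ B) : ψ = 0 :=
  zero_of_iso ((shiftFunctorAdd' D a c m hc).app A).symm (Iso.refl _) h ψ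

omit [HasZeroObject D] [∀ n : ℤ, (shiftFunctor D n).Additive] in
lemma Vanish.unshifted {A B : D} (h : Vanish A B 0) (ψ : A ⟶ B) : ψ = 0 :=
  zero_of_iso ((shiftFunctorZero D ℤ).app A).symm (Iso.refl _) h ψ

omit [HasZeroObject D] in
lemma vanish_of_shifted {A B : D} (a b m : ℤ) (hab : a = m + b)
    (h : ∀ ψ : A⟦a⟧ ⟶ B⟦b⟧, ψ = 0) : Vanish A B m := fun φ => by
  apply (shiftFunctor D b).map_injective
  rw [Functor.map_zero]
  exact zero_of_iso ((shiftFunctorAdd' D m b a (by omega)).app A).symm (Iso.refl _) h _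

variable [Pretriangulated D]
  {X : ℕ → D} {n : ℕ} {Y : ℕ → D} {a : ∀ k, Y k ⟶ X k} {b : ∀ k, X (k + 1) ⟶ Y k}
  {c : ∀ k, Y k ⟶ (shiftFunctor D (1 : ℤ)).obj (Y (k + 1))}
  (h0 : IsIso (a 0))
  (hT : ∀ k, k < n → Triangle.mk (a (k + 1)) (b k) (c k) ∈ distTriang D)

include hT in
lemma exists_fac_c (k : ℕ) (hk : k < n) {W : D} (ψ : W ⟶ Y (k + 1)) (h : ψ ≫ a (k + 1) = 0) :
    ∃ g : W⟦(1 : ℤ)⟧ ⟶ Y k, ψ⟦(1 : ℤ)⟧' = g ≫ c k :=
  Triangle.coyoneda_exact₁ _ (hT k hk) (ψ⟦(1 : ℤ)⟧') (by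
    change ψ⟦(1 : ℤ)⟧' ≫ (a (k + 1))⟦(1 : ℤ)⟧' = 0
    rw [← Functor.map_comp, h, Functor.map_zero])

include hT in
lemma exists_fac_a (k : ℕ) (hk : k < n) {Z : D} (ψ : (Y (k + 1))⟦(1 : ℤ)⟧ ⟶ Z) (h : c k ≫ ψ = 0) :
    ∃ g : (X (k + 1))⟦(1 : ℤ)⟧ ⟶ Z, ψ = (a (k + 1))⟦(1 : ℤ)⟧' ≫ g := by
  obtain ⟨g, hg⟩ := Triangle.yoneda_exact₂ _
    (rot_of_distTriang _ (rot_of_distTriang _ (hT k hk))) ψ h
  exact ⟨-g, by rw [hg]; exact (Preadditive.neg_comp _ _).trans (Preadditive.comp_neg _ _).symm⟩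

include h0 hT in
theorem vanish_to {W : D} : ∀ (k : ℕ), k ≤ n → ∀ (s : ℤ),
    (∀ l, l ≤ k → Vanish W (X l) (s + k - l)) → Vanish W (Y k) s := by
  intro k
  induction k with
  | zero =>
    intro _ s h ψ
    have := h 0 le_rfl
    rw [show s + ((0 : ℕ) : ℤ) - ((0 : ℕ) : ℤ) = s by simp] at this
    rw [← cancel_mono (a 0), zero_comp]
    exact this _
  | succ k ih =>
    intro hk s h ψ
    have h1 := h (k + 1) le_rfl
    rw [show s + ((k + 1 : ℕ) : ℤ) - ((k + 1 : ℕ) : ℤ) = s by simp] at h1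
    obtain ⟨g, hg⟩ := exists_fac_c hT k (by omega) ψ (h1 _)
    have h2 : Vanish W (Y k) (s + 1) := ih (by omega) (s + 1) (fun l hl => by
      rw [show s + 1 + (k : ℤ) - l = s + ((k + 1 : ℕ) : ℤ) - l by omega]
      exact h l (by omega))
    apply (shiftFunctor D (1 : ℤ)).map_injective
    rw [hg, h2.shifted₁ s 1 rfl g, zero_comp, Functor.map_zero]

include h0 hT in
theorem vanish_from {Z : D} : ∀ (k : ℕ), k ≤ n → ∀ (t : ℤ),
    (∀ l, l ≤ k → Vanish (X l) Z ((l : ℤ) - k - t)) → ∀ ψ : Y k ⟶ Z⟦t⟧, ψ = 0 := by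
  intro k
  induction k with
  | zero =>
    intro _ t h ψ
    rw [← cancel_epi (inv (a 0)), comp_zero]
    exact zero_of_iso ((shiftFunctorZero D ℤ).app _).symm (Iso.refl _)
      ((h 0 le_rfl).shifted 0 t (by simp)) _
  | succ k ih =>
    intro hk t h ψ
    let e := (shiftFunctorAdd' D t 1 (t + 1) rfl).app Z
    have h2 := ih (by omega) (t + 1) (fun l hl => by
      rw [show (l : ℤ) - k - (t + 1) = l - ((k + 1 : ℕ) : ℤ) - t by omega]
      exact h l (by omega)) (c k ≫ ψ⟦(1 : ℤ)⟧' ≫ e.inv)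
    obtain ⟨g, hg⟩ := exists_fac_a hT k (by omega) (ψ⟦(1 : ℤ)⟧') (by
      rw [← cancel_mono e.inv, Category.assoc, zero_comp]
      exact h2)
    have hg0 : g = 0 := zero_of_iso (Iso.refl _) e.symm
      ((h (k + 1) le_rfl).shifted 1 (t + 1) (by omega)) g
    apply (shiftFunctor D (1 : ℤ)).map_injective
    rw [hg, hg0, comp_zero, Functor.map_zero]

end Groth.Agent.Postnikov

namespace Groth.Agent.Postnikov

variable {D : Type u} [Category.{v} D] [Preadditive D] [HasZeroObject D] [HasShift D ℤ]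
  [∀ n : ℤ, (shiftFunctor D n).Additive] [Pretriangulated D]
  {X X' : ChainComplex D ℕ} {n : ℕ}
  {Y : ℕ → D} {a : ∀ k, Y k ⟶ X.X k} {b : ∀ k, X.X (k + 1) ⟶ Y k}
  {c : ∀ k, Y k ⟶ (shiftFunctor D (1 : ℤ)).obj (Y (k + 1))}
  (h0 : IsIso (a 0))
  (hP : ∀ k, k < n → Triangle.mk (a (k + 1)) (b k) (c k) ∈ distTriang D ∧ b k ≫ a k = X.d (k + 1) k)
  {qY : ℕ → D} {qa : ∀ k, qY k ⟶ X'.X k} {qb : ∀ k, X'.X (k + 1) ⟶ qY k}
  {qc : ∀ k, qY k ⟶ (shiftFunctor D (1 : ℤ)).obj (qY (k + 1))}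
  (qh0 : IsIso (qa 0))
  (qhP : ∀ k, k < n → Triangle.mk (qa (k + 1)) (qb k) (qc k) ∈ distTriang D ∧
    qb k ≫ qa k = X'.d (k + 1) k)

include qh0 qhP in
theorem vanish_X_to
    (hX : ∀ i j : ℕ, j + 1 < i → i ≤ n → ∀ ψ : (shiftFunctor D ((i : ℤ) - j - 1)).obj (X.X i) ⟶ X'.X j, ψ = 0)
    (i j : ℕ) (hij : j + 1 < i) (hi : i ≤ n) : Vanish (X.X i) (qY j) ((i : ℤ) - j - 1) :=
  vanish_to qh0 (fun k hk => (qhP k hk).1) j (by omega) _ (fun l hl => by
    rw [show (i : ℤ) - j - 1 + j - l = i - l - 1 by omega]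
    exact hX i l (by omega) hi)

include hP qh0 qhP in
theorem exists_morphism (φ : X ⟶ X') (h0 : IsIso (a 0))
    (hX : ∀ i j : ℕ, j + 1 < i → i ≤ n → ∀ ψ : (shiftFunctor D ((i : ℤ) - j - 1)).obj (X.X i) ⟶ X'.X j, ψ = 0) :
    ∃ y : ∀ k, Y k ⟶ qY k,
      (∀ k, k ≤ n → y k ≫ qa k = a k ≫ φ.f k) ∧
      (∀ k, k < n → b k ≫ y k = φ.f (k + 1) ≫ qb k ∧
        c k ≫ (shiftFunctor D (1 : ℤ)).map (y (k + 1)) = y k ≫ qc k) := by
  classical
  have hb : ∀ (k : ℕ) (y : Y k ⟶ qY k), k < n → y ≫ qa k = a k ≫ φ.f k →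
      b k ≫ y = φ.f (k + 1) ≫ qb k := by
    intro k y hk hy
    have hδ : (b k ≫ y - φ.f (k + 1) ≫ qb k) ≫ qa k = 0 := by
      rw [Preadditive.sub_comp, Category.assoc, Category.assoc, hy, (qhP k hk).2,
        ← Category.assoc, (hP k hk).2, φ.comm, sub_self]
    rw [← sub_eq_zero]
    generalize b k ≫ y - φ.f (k + 1) ≫ qb k = δ at hδ ⊢
    cases k with
    | zero => rwa [← cancel_mono (qa 0), zero_comp]
    | succ j =>
      obtain ⟨g, hg⟩ := exists_fac_c (fun k hk => (qhP k hk).1) j (by omega) δ hδ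
      apply (shiftFunctor D (1 : ℤ)).map_injective
      have hv := vanish_X_to qh0 qhP hX (j + 2) j (by omega) (by omega)
      rw [show (((j + 2 : ℕ) : ℤ) - j - 1) = 1 by omega] at hv
      rw [hg, hv g, zero_comp, Functor.map_zero]
  have step : ∀ (k : ℕ) (y : Y k ⟶ qY k), ∃ y' : Y (k + 1) ⟶ qY (k + 1),
      k < n → y ≫ qa k = a k ≫ φ.f k → y' ≫ qa (k + 1) = a (k + 1) ≫ φ.f (k + 1) ∧
        c k ≫ (shiftFunctor D (1 : ℤ)).map y' = y ≫ qc k := by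
    intro k y
    by_cases h : k < n ∧ y ≫ qa k = a k ≫ φ.f k
    · obtain ⟨y', h1, h2⟩ := complete_distinguished_triangle_morphism₁ _ _ (hP k h.1).1 (qhP k h.1).1
        (φ.f (k + 1)) y (hb k y h.1 h.2)
      exact ⟨y', fun _ _ => ⟨h1.symm, h2⟩⟩
    · exact ⟨0, fun h1 h2 => (h ⟨h1, h2⟩).elim⟩
  let y : ∀ k, Y k ⟶ qY k := fun k =>
    Nat.rec (motive := fun k => Y k ⟶ qY k) (a 0 ≫ φ.f 0 ≫ inv (qa 0))
      (fun k y => (step k y).choose) k
  have ha : ∀ k, k ≤ n → y k ≫ qa k = a k ≫ φ.f k := by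
    intro k
    induction k with
    | zero => intro _; simp [y]
    | succ k ih => intro hk; exact ((step k (y k)).choose_spec (by omega) (ih (by omega))).1
  exact ⟨y, ha, fun k hk => ⟨hb k (y k) hk (ha k hk.le),
    ((step k (y k)).choose_spec hk (ha k hk.le)).2⟩⟩

variable (φ : X ⟶ X') (y z : ∀ k, Y k ⟶ qY k)
  (hy : (∀ k, k ≤ n → y k ≫ qa k = a k ≫ φ.f k) ∧
      (∀ k, k < n → b k ≫ y k = φ.f (k + 1) ≫ qb k ∧ c k ≫ (shiftFunctor D (1 : ℤ)).map (y (k + 1)) = y k ≫ qc k))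
  (hz : (∀ k, k ≤ n → z k ≫ qa k = a k ≫ φ.f k) ∧
      (∀ k, k < n → b k ≫ z k = φ.f (k + 1) ≫ qb k ∧ c k ≫ (shiftFunctor D (1 : ℤ)).map (z (k + 1)) = z k ≫ qc k))

include hP qh0 hy hz in
theorem unique_top
    (hv : ∀ i : ℕ, 1 ≤ i → i ≤ n → ∀ ψ : (shiftFunctor D (i : ℤ)).obj (X.X i) ⟶ (shiftFunctor D (n : ℤ)).obj (qY n), ψ = 0) :
    y n = z n := by
  have key : ∀ k, k ≤ n → ∀ f : qY k ⟶ (qY n)⟦(n : ℤ) - k⟧, (y k - z k) ≫ f = 0 := by
    intro k
    induction k with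
    | zero =>
      intro _ f
      have : (y 0 - z 0) ≫ qa 0 = 0 := by
        rw [Preadditive.sub_comp, hy.1 0 (Nat.zero_le _), hz.1 0 (Nat.zero_le _), sub_self]
      rw [show y 0 - z 0 = 0 by rw [← cancel_mono (qa 0), this, zero_comp], zero_comp]
    | succ k ih =>
      intro hk f
      let e := (shiftFunctorAdd' D ((n : ℤ) - ((k + 1 : ℕ) : ℤ)) 1 ((n : ℤ) - k) (by omega)).app (qY n)
      obtain ⟨g, hg⟩ := exists_fac_a (fun k hk => (hP k hk).1) k (by omega)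
        (((y (k + 1) - z (k + 1)) ≫ f)⟦(1 : ℤ)⟧' ≫ e.inv) (by
          rw [Functor.map_comp, Functor.map_sub, Category.assoc, ← Category.assoc,
            Preadditive.comp_sub, (hy.2 k (by omega)).2, (hz.2 k (by omega)).2,
            ← Preadditive.sub_comp, Category.assoc]
          exact ih (by omega) _)
      have hm : Vanish (X.X (k + 1)) (qY n) ((k + 1 : ℕ) - (n : ℤ)) :=
        vanish_of_shifted ((k + 1 : ℕ) : ℤ) (n : ℤ) _ (by omega) (hv (k + 1) (by omega) hk)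
      apply (shiftFunctor D (1 : ℤ)).map_injective
      rw [Functor.map_zero, ← cancel_mono e.inv, hg,
        hm.shifted 1 ((n : ℤ) - k) (by omega) g, comp_zero, zero_comp]
  let e : qY n ≅ (qY n)⟦(n : ℤ) - n⟧ :=
    ((shiftFunctorZero' D ((n : ℤ) - n) (by omega)).app (qY n)).symm
  rw [← sub_eq_zero, ← cancel_mono e.hom, zero_comp]
  exact key n le_rfl e.hom

include h0 hP qh0 qhP hy hz in
theorem unique
    (hv : ∀ i j : ℕ, 0 < i → i ≤ j → j ≤ n →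
      (∀ ψ : (shiftFunctor D (1 - (i : ℤ))).obj (X.X (j - i)) ⟶ X'.X j, ψ = 0) ∧
      (∀ ψ : X.X j ⟶ (shiftFunctor D (-(i : ℤ))).obj (X'.X (j - i)), ψ = 0))
    (k : ℕ) (hk : k ≤ n) : y k = z k := by
  induction k with
  | zero =>
    rw [← cancel_mono (qa 0), hy.1 0 hk, hz.1 0 hk]
  | succ k ih =>
    rw [← sub_eq_zero]
    let d := y (k + 1) - z (k + 1)
    have hdc : c k ≫ (shiftFunctor D (1 : ℤ)).map d = 0 := by
      simp only [d, Functor.map_sub, Preadditive.comp_sub]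
      rw [(hy.2 k (by omega)).2, (hz.2 k (by omega)).2, ih (by omega), sub_self]
    obtain ⟨g, hg⟩ := exists_fac_a (fun k hk => (hP k hk).1) k (by omega) _ hdc
    obtain ⟨u, rfl⟩ := (shiftFunctor D (1 : ℤ)).map_surjective g
    have hd : d = a (k + 1) ≫ u := (shiftFunctor D (1 : ℤ)).map_injective (by rw [hg, Functor.map_comp])
    have hu : u ≫ qa (k + 1) = 0 := by
      have h1 : a (k + 1) ≫ (u ≫ qa (k + 1)) = 0 := by
        rw [← Category.assoc, ← hd]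
        simp only [d, Preadditive.sub_comp]
        rw [hy.1 (k + 1) hk, hz.1 (k + 1) hk, sub_self]
      obtain ⟨w, hw⟩ := Triangle.yoneda_exact₂ _ (hP k (by omega)).1 (u ≫ qa (k + 1)) h1
      have hw0 : w = 0 := zero_of_iso (Iso.refl _) ((shiftFunctorZero D ℤ).app (X'.X (k + 1))).symm
        (vanish_from h0 (fun k hk => (hP k hk).1) k (by omega) 0 (fun l hl => by
          have := (hv (k + 1 - l) (k + 1) (by omega) (by omega) hk).1
          rw [show k + 1 - (k + 1 - l) = l by omega,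
            show (1 : ℤ) - ((k + 1 - l : ℕ) : ℤ) = (l : ℤ) - k - 0 by omega] at this
          exact this)) w
      exact hw.trans (by rw [hw0]; exact comp_zero)
    have hu0 : u = 0 := by
      obtain ⟨g, hg⟩ := exists_fac_c (fun k hk => (qhP k hk).1) k (by omega) u hu
      apply (shiftFunctor D (1 : ℤ)).map_injective
      have hg0 := vanish_to (W := X.X (k + 1)) qh0 (fun k hk => (qhP k hk).1) k (by omega) 1
        (fun l hl => by
          have := (hv (k + 1 - l) (k + 1) (by omega) (by omega) hk).2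
          rw [show k + 1 - (k + 1 - l) = l by omega] at this
          exact vanish_of_shifted 0 (-((k + 1 - l : ℕ) : ℤ)) _ (by omega)
            (fun ψ => zero_of_iso ((shiftFunctorZero D ℤ).app _) (Iso.refl _) this ψ))
      rw [hg, hg0 g, zero_comp, Functor.map_zero]
    change d = 0
    rw [hd, hu0, comp_zero]

end Groth.Agent.Postnikov
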