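import Groth.Agent.KTheory.EssConstTriangle
import Groth.Agent.DerivedAdj.Devissage
import Mathlib.CategoryTheory.Functor.OfSequence

/-!
# Pro-isomorphisms and essentially constant systems in derived categories
-/

set_option autoImplicit false
universe w v u
open CategoryTheory CategoryTheory.Limits CategoryTheory.Pretriangulated Opposite

namespace Groth.Agent.ProSystems

section triangulated

variable {D : Type u} [Category.{v} D] [Preadditive D] [HasZeroObject D] [HasShift D ℤ]
  [∀ n : ℤ, (shiftFunctor D n).Additive] [Pretriangulated D]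

/-- A map of systems whose cones form a pro-zero system is a pro-isomorphism. -/
theorem isProIso_of_isProZero {X Y Z : ARSys.PS D} (f : X ⟶ Y) (g : Y ⟶ Z)
    (h : Z ⟶ X ⋙ shiftFunctor D (1 : ℤ))
    (hT : ∀ n : ℕ, Triangle.mk (f.app (op n)) (g.app (op n)) (h.app (op n)) ∈ distTriang D)
    (hZ : DerCA.IsProZero Z) : DerCA.IsProIso f := by
  intro n
  obtain ⟨n', hn', e'⟩ := hZ n
  obtain ⟨m, hm, e⟩ := hZ n'
  have h1 : ARSys.tr Y hm ≫ g.app (op n') = 0 := by
    have := g.naturality (homOfLE hm).op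
    change ARSys.tr Y hm ≫ g.app (op n') = g.app (op m) ≫ ARSys.tr Z hm at this
    rw [this, e, comp_zero]
  obtain ⟨b₀, hb₀⟩ : ∃ b₀ : Y.obj (op m) ⟶ X.obj (op n'), ARSys.tr Y hm = b₀ ≫ f.app (op n') :=
    Triangle.coyoneda_exact₂ _ (hT n') _ h1
  have natf : ∀ {a b : ℕ} (hab : a ≤ b), ARSys.tr X hab ≫ f.app (op a) = f.app (op b) ≫ ARSys.tr Y hab :=
    fun hab => f.naturality (homOfLE hab).op
  refine ⟨m, hn'.trans hm, b₀ ≫ ARSys.tr X hn', ?_, ?_⟩
  · let d := f.app (op m) ≫ b₀ - ARSys.tr X hm
    have hd : d ≫ f.app (op n') = 0 := by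
      simp only [d, Preadditive.sub_comp, Category.assoc]
      rw [← hb₀, natf hm, sub_self]
    obtain ⟨u, hu⟩ : ∃ u : (X.obj (op m))⟦(1 : ℤ)⟧ ⟶ Z.obj (op n'),
        d⟦(1 : ℤ)⟧' = u ≫ h.app (op n') :=
      Triangle.coyoneda_exact₁ _ (hT n') _ (by
        change d⟦(1 : ℤ)⟧' ≫ (f.app (op n'))⟦(1 : ℤ)⟧' = 0
        rw [← Functor.map_comp, hd, Functor.map_zero])
    have hd0 : d ≫ ARSys.tr X hn' = 0 := by
      apply (shiftFunctor D (1 : ℤ)).map_injective
      rw [Functor.map_comp, hu, Functor.map_zero, Category.assoc]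
      have := h.naturality (homOfLE hn').op
      change ARSys.tr Z hn' ≫ h.app (op n) = h.app (op n') ≫ (ARSys.tr X hn')⟦(1 : ℤ)⟧' at this
      rw [← this, e', zero_comp, comp_zero]
    simp only [d, Preadditive.sub_comp, Category.assoc, sub_eq_zero] at hd0
    rw [hd0, Groth.EssConstTriangle.tr_tr]
  · rw [Category.assoc, natf hn', ← Category.assoc, ← hb₀, Groth.EssConstTriangle.tr_tr]

end triangulated

section EssConst

variable {C : Type*} [Category C] {E : Type*} [Category E]

/-- Existence of a value. -/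
def HasValue (X : ARSys.PS C) : Prop :=
  ∃ (B : C) (c : (Functor.const ℕᵒᵖ).obj B ⟶ X), DerCA.IsEssConstant X B c

lemma hasValue_map (X : ARSys.PS C) (G : C ⥤ E) (h : HasValue X) : HasValue (X ⋙ G) := by
  obtain ⟨B, c, i, s, hs, hk⟩ := h
  refine ⟨G.obj B,
    { app := fun j => G.map (c.app j)
      naturality := fun j j' φ => by
        have h1 : G.map (c.app j) ≫ G.map (X.map φ) = G.map (c.app j') := by
          rw [← G.map_comp]
          exact congrArg G.map ((c.naturality φ).symm.trans (Category.id_comp _))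
        exact (Category.id_comp _).trans h1.symm },
    i, G.map s, ?_, fun j => ?_⟩
  · change G.map _ ≫ G.map s = 𝟙 _
    rw [← G.map_comp, hs, G.map_id]
  · obtain ⟨k, hi, hj, e⟩ := hk j
    refine ⟨k, hi, hj, ?_⟩
    change G.map (ARSys.tr X hj) = G.map (ARSys.tr X hi) ≫ G.map s ≫ G.map (c.app (op j))
    rw [e, G.map_comp, G.map_comp]

lemma hasValue_of_iso {X Y : ARSys.PS C} (e : X ≅ Y) (h : HasValue X) : HasValue Y := by
  obtain ⟨B, c, i, s, hs, hk⟩ := h
  refine ⟨B, c ≫ e.hom, i, e.inv.app _ ≫ s, by simp [hs], fun j => ?_⟩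
  obtain ⟨k, hi, hj, he⟩ := hk j
  refine ⟨k, hi, hj, ?_⟩
  have h1 : ARSys.tr Y hj = e.inv.app (op k) ≫ ARSys.tr X hj ≫ e.hom.app (op j) := by
    rw [e.hom.naturality, ← Category.assoc, Iso.inv_hom_id_app, Category.id_comp]
  have h2 : e.inv.app (op k) ≫ ARSys.tr X hi = ARSys.tr Y hi ≫ e.inv.app (op i) :=
    (e.inv.naturality _).symm
  rw [h1, he]
  simp only [Category.assoc, NatTrans.comp_app]
  rw [reassoc_of% h2]

lemma hasValue_of_isZero [HasZeroObject C] [HasZeroMorphisms C] (X : ARSys.PS C)
    (h : ∀ n : ℕ, IsZero (X.obj (op n))) : HasValue X := by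
  refine ⟨X.obj (op 0), { app := fun j => 0, naturality := fun j j' φ => (h j'.unop).eq_of_tgt _ _ },
    0, 𝟙 _, (h 0).eq_of_src _ _, fun j => ⟨j, Nat.zero_le _, le_rfl, (h j).eq_of_tgt _ _⟩⟩

end EssConst

variable {A : Type u} [Category.{v} A] [Abelian A] [HasDerivedCategory.{w} A]

open DerivedCategory

local notation "tA" => (TStructure.t : Triangulated.TStructure (DerivedCategory A))

lemma isIso_homologyMap_truncGT (X : DerivedCategory A) (n i : ℤ) (hi : n < i) :
    IsIso ((homologyFunctor A i).map (((tA).truncGTπ n).app X)) := by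
  let T := ((tA).triangleLEGT n).obj X
  have hT : T ∈ distTriang (DerivedCategory A) := (tA).triangleLEGT_distinguished n X
  have : T.obj₁.IsLE n := inferInstanceAs ((tA).IsLE (((tA).truncLE n).obj X) n)
  have : Mono ((homologyFunctor A i).map T.mor₂) :=
    (HomologySequence.mono_homologyMap_mor₂_iff T hT i).2
      ((isZero_of_isLE T.obj₁ n i hi).eq_of_src _ _)
  have : Epi ((homologyFunctor A i).map T.mor₂) :=
    (HomologySequence.epi_homologyMap_mor₂_iff T hT i (i + 1) rfl).2
      ((isZero_of_isLE T.obj₁ n (i + 1) (by omega)).eq_of_tgt _ _)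
  exact isIso_of_mono_of_epi ((homologyFunctor A i).map T.mor₂)

lemma isLE_truncGT (X : DerivedCategory A) (n b : ℤ) [X.IsLE b] :
    (((tA).truncGT n).obj X).IsLE b := by
  rw [isLE_iff]
  intro i hi
  by_cases h : n < i
  · have := isIso_homologyMap_truncGT X n i h
    exact (isZero_of_isLE X b i hi).of_iso
      (asIso ((homologyFunctor A i).map (((tA).truncGTπ n).app X))).symm
  · have : (((tA).truncGT n).obj X).IsGE (n + 1) :=
      inferInstanceAs ((tA).IsGE (((tA).truncGT n).obj X) (n + 1))
    exact isZero_of_isGE _ (n + 1) i (by omega)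

/-- Maps between objects concentrated in one degree are detected on homology. -/
lemma eq_zero_of_homology {K L : DerivedCategory A} (q : ℤ) [K.IsGE q] [K.IsLE q] [L.IsGE q] [L.IsLE q]
    (g : K ⟶ L) (h : (homologyFunctor A q).map g = 0) : g = 0 := by
  obtain ⟨M, ⟨eM⟩⟩ := exists_iso_singleFunctor_obj_of_isGE_of_isLE K q
  obtain ⟨N, ⟨eN⟩⟩ := exists_iso_singleFunctor_obj_of_isGE_of_isLE L q
  obtain ⟨u, hu⟩ := (singleFunctor A q).map_surjective (eM.inv ≫ g ≫ eN.hom)
  have h1 : (singleFunctor A q ⋙ homologyFunctor A q).map u = 0 := by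
    rw [Functor.comp_map, hu, Functor.map_comp, Functor.map_comp, h, zero_comp, comp_zero]
  have h2 : u = 0 := by
    have := (singleFunctorCompHomologyFunctorIso A q).hom.naturality u
    rw [h1, zero_comp] at this
    rw [← cancel_epi ((singleFunctorCompHomologyFunctorIso A q).hom.app M)]
    simpa using this.symm
  have h3 : eM.inv ≫ g ≫ eN.hom = 0 := by rw [← hu, h2, Functor.map_zero]
  rw [← cancel_epi eM.inv, ← cancel_mono eN.hom, Category.assoc, h3]
  simp

theorem isProZero_of_homology : ∀ (N : ℕ) (Z : ARSys.PS (DerivedCategory A)) (a : ℤ),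
    (∀ (n : ℕ) (i : ℤ), i < a ∨ a + N ≤ i → IsZero ((homologyFunctor A i).obj (Z.obj (op n)))) →
    (∀ i, DerCA.IsProZero (Z ⋙ homologyFunctor A i)) → DerCA.IsProZero Z := by
  intro N
  induction N with
  | zero =>
    intro Z a hZ _ n
    refine ⟨n, le_rfl, IsZero.eq_of_tgt ?_ _ _⟩
    have : (Z.obj (op n)).IsGE a := by
      rw [isGE_iff]; exact fun i hi => hZ n i (Or.inl hi)
    have : (Z.obj (op n)).IsLE (a - 1) := by
      rw [isLE_iff]; exact fun i hi => hZ n i (Or.inr (by simp; omega))
    exact (tA).isZero _ (a - 1) a (by omega)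
  | succ N ih =>
    intro Z a hZ hH k
    let q : ℤ := a + N
    let Z₁ : ARSys.PS (DerivedCategory A) := Z ⋙ (tA).truncLE (q - 1)
    have hle : ∀ n, (Z₁.obj (op n)).IsLE (q - 1) := fun n =>
      inferInstanceAs ((tA).IsLE (((tA).truncLE (q - 1)).obj (Z.obj (op n))) (q - 1))
    have h₁ : DerCA.IsProZero Z₁ := by
      refine ih Z₁ a (fun n i hi => ?_) (fun i n => ?_)
      · rcases hi with hi | hi
        · by_cases hq : i ≤ q - 1
          · have := Groth.DerivedAdj.isIso_homologyMap_truncLE (Z.obj (op n)) (q - 1) i hq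
            exact (hZ n i (Or.inl hi)).of_iso
              (asIso ((homologyFunctor A i).map (((tA).truncLEι (q - 1)).app (Z.obj (op n)))))
          · have := hle n
            exact isZero_of_isLE _ (q - 1) i (by omega)
        · have := hle n
          exact isZero_of_isLE _ (q - 1) i (by omega)
      · by_cases hq : i ≤ q - 1
        · obtain ⟨m, hm, e⟩ := hH i n
          refine ⟨m, hm, ?_⟩
          have := Groth.DerivedAdj.isIso_homologyMap_truncLE (Z.obj (op n)) (q - 1) i hq
          have hnat := congrArg (homologyFunctor A i).map (((tA).truncLEι (q - 1)).naturality (ARSys.tr Z hm))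
          rw [Functor.map_comp, Functor.map_comp] at hnat
          change (homologyFunctor A i).map (((tA).truncLE (q - 1)).map (ARSys.tr Z hm)) = 0
          rw [← cancel_mono ((homologyFunctor A i).map (((tA).truncLEι (q - 1)).app (Z.obj (op n)))), hnat,
            zero_comp]
          change _ ≫ (homologyFunctor A i).map (ARSys.tr Z hm) = 0
          rw [show (homologyFunctor A i).map (ARSys.tr Z hm) = 0 from e, comp_zero]
        · refine ⟨n, le_rfl, IsZero.eq_of_tgt ?_ _ _⟩
          have := hle n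
          exact isZero_of_isLE (Z₁.obj (op n)) (q - 1) i (by omega)
    obtain ⟨n, hn, en⟩ := h₁ k
    obtain ⟨m, hm, em⟩ := hH q n
    refine ⟨m, hn.trans hm, ?_⟩
    have hge : ∀ p, (((tA).truncGT (q - 1)).obj (Z.obj (op p))).IsGE q := fun p => by
      have h : (tA).IsGE (((tA).truncGT (q - 1)).obj (Z.obj (op p))) (q - 1 + 1) := inferInstance
      rwa [show q - 1 + 1 = q by omega] at h
    have hle' : ∀ p, (((tA).truncGT (q - 1)).obj (Z.obj (op p))).IsLE q := fun p => by
      have : (Z.obj (op p)).IsLE q := by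
        rw [isLE_iff]; exact fun i hi => hZ p i (Or.inr (by simp [q] at hi ⊢; omega))
      exact isLE_truncGT _ _ _
    have hg : ((tA).truncGT (q - 1)).map (ARSys.tr Z hm) = 0 := by
      have := hge n; have := hge m; have := hle' n; have := hle' m
      apply eq_zero_of_homology q
      have := isIso_homologyMap_truncGT (Z.obj (op m)) (q - 1) q (by omega)
      have hnat := congrArg (homologyFunctor A q).map (((tA).truncGTπ (q - 1)).naturality (ARSys.tr Z hm))
      rw [Functor.map_comp, Functor.map_comp] at hnat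
      rw [← cancel_epi ((homologyFunctor A q).map (((tA).truncGTπ (q - 1)).app (Z.obj (op m)))), ← hnat,
        comp_zero]
      change (homologyFunctor A q).map (ARSys.tr Z hm) ≫ _ = 0
      rw [show (homologyFunctor A q).map (ARSys.tr Z hm) = 0 from em, zero_comp]
    have h0 : ARSys.tr Z hm ≫ ((tA).truncGTπ (q - 1)).app (Z.obj (op n)) = 0 := by
      have := ((tA).truncGTπ (q - 1)).naturality (ARSys.tr Z hm)
      rw [hg, comp_zero] at this
      exact this
    obtain ⟨u, hu⟩ : ∃ u : Z.obj (op m) ⟶ Z₁.obj (op n),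
        ARSys.tr Z hm = u ≫ ((tA).truncLEι (q - 1)).app (Z.obj (op n)) :=
      Triangle.coyoneda_exact₂ _ ((tA).triangleLEGT_distinguished (q - 1) (Z.obj (op n))) _ h0
    rw [← Groth.EssConstTriangle.tr_tr Z hn hm, hu, Category.assoc]
    have := ((tA).truncLEι (q - 1)).naturality (ARSys.tr Z hn)
    rw [show ((tA).truncLE (q - 1)).map (ARSys.tr Z hn) = 0 from en, zero_comp] at this
    rw [show ((tA).truncLEι (q - 1)).app (Z.obj (op n)) ≫ ARSys.tr Z hn = 0 from this.symm, comp_zero]

omit [HasDerivedCategory A] in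
lemma comp_eq_zero_of_exact {S : ShortComplex A} (hS : S.Exact) {W V : A} (r : W ⟶ S.X₂)
    (s : S.X₂ ⟶ V) (hr : r ≫ S.g = 0) (hs : S.f ≫ s = 0) : r ≫ s = 0 := by
  have := hS.mono_cokernelDesc
  have h : r ≫ cokernel.π S.f = 0 := by
    rw [← cancel_mono (cokernel.desc S.f S.g S.zero), Category.assoc, cokernel.π_desc, hr, zero_comp]
  rw [← cokernel.π_desc S.f s hs, reassoc_of% h, zero_comp]

theorem isProIso_of_homology (X Y : ARSys.PS (DerivedCategory A)) (f : X ⟶ Y) (a b : ℤ) (hab : a ≤ b)
    (hX : ∀ (n : ℕ) (i : ℤ), i < a ∨ b < i → IsZero ((homologyFunctor A i).obj (X.obj (op n))))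
    (hY : ∀ (n : ℕ) (i : ℤ), i < a ∨ b < i → IsZero ((homologyFunctor A i).obj (Y.obj (op n))))
    (hH : ∀ i : ℤ, DerCA.IsProIso (Functor.whiskerRight f (homologyFunctor A i))) :
    DerCA.IsProIso f := by
  choose C g h hT using fun n : ℕ => distinguished_cocone_triangle (f.app (op n))
  have hc : ∀ n : ℕ, ∃ c : C (n + 1) ⟶ C n,
      g (n + 1) ≫ c = Y.map (homOfLE (Nat.le_succ n)).op ≫ g n ∧
      h (n + 1) ≫ (X.map (homOfLE (Nat.le_succ n)).op)⟦(1 : ℤ)⟧' = c ≫ h n := fun n =>
    complete_distinguished_triangle_morphism _ _ (hT (n + 1)) (hT n) _ _ (f.naturality _).symm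
  choose c hc₁ hc₂ using hc
  let Z : ARSys.PS (DerivedCategory A) := Functor.ofOpSequence c
  let gN : Y ⟶ Z := NatTrans.ofOpSequence g (fun n => by
    simp only [Z, Functor.ofOpSequence_map_homOfLE_succ]
    exact (hc₁ n).symm)
  let hN : Z ⟶ X ⋙ shiftFunctor (DerivedCategory A) (1 : ℤ) := NatTrans.ofOpSequence h (fun n => by
    simp only [Z, Functor.ofOpSequence_map_homOfLE_succ]
    exact (hc₂ n).symm)
  refine isProIso_of_isProZero f gN hN hT ?_
  refine isProZero_of_homology ((b - a).toNat + 2) Z (a - 1) (fun n i hi => ?_) (fun i n => ?_)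
  · refine (HomologySequence.exact₃ _ (hT n) i (i + 1) rfl).isZero_X₂ ?_ ?_
    · exact (hY n i (by omega)).eq_of_src _ _
    · exact (hX n (i + 1) (by omega)).eq_of_tgt _ _
  · obtain ⟨m₁, hm₁, b₁, -, hb₁⟩ := hH i n
    obtain ⟨m₂, hm₂, b₂, hb₂, -⟩ := hH (i + 1) m₁
    refine ⟨m₂, hm₁.trans hm₂, ?_⟩
    let H := homologyFunctor A i
    let H' := homologyFunctor A (i + 1)
    change H.map (ARSys.tr Z (hm₁.trans hm₂)) = 0
    rw [← Groth.EssConstTriangle.tr_tr Z hm₁ hm₂, Functor.map_comp]
    let δ := fun p : ℕ => HomologySequence.δ (Triangle.mk (f.app (op p)) (g p) (h p)) i (i + 1) rfl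
    have hex := fun p : ℕ => HomologySequence.exact₃ _ (hT p) i (i + 1) rfl
    have h2 : H.map (ARSys.tr Z hm₂) ≫ δ m₁ = 0 := by
      have e1 : H.map (ARSys.tr Z hm₂) ≫ δ m₁ = δ m₂ ≫ H'.map (ARSys.tr X hm₂) :=
        (DerivedCategory.homologyFunctor A 0).homologySequenceδ_naturality
          (Triangle.mk (f.app (op m₂)) (g m₂) (h m₂)) (Triangle.mk (f.app (op m₁)) (g m₁) (h m₁))
          (Triangle.homMk _ _ (ARSys.tr X hm₂) (ARSys.tr Y hm₂) (ARSys.tr Z hm₂)
            (f.naturality _).symm (gN.naturality _).symm (hN.naturality _).symm) i (i + 1) rfl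
      refine e1.trans ?_
      refine (congrArg (δ m₂ ≫ ·) (show H'.map (ARSys.tr X hm₂) = H'.map (f.app (op m₂)) ≫ b₂ from hb₂.symm)).trans ?_
      refine (Category.assoc _ _ _).symm.trans ?_
      refine (congrArg (· ≫ b₂) (show δ m₂ ≫ H'.map (f.app (op m₂)) = 0 from
          HomologySequence.δ_comp _ (hT m₂) i (i + 1) rfl)).trans ?_
      exact zero_comp
    have h1 : H.map (g m₁) ≫ H.map (ARSys.tr Z hm₁) = 0 := by
      refine (H.map_comp _ _).symm.trans ((congrArg H.map (show g m₁ ≫ ARSys.tr Z hm₁ = ARSys.tr Y hm₁ ≫ g n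
        from (gN.naturality (homOfLE hm₁).op).symm)).trans ((H.map_comp _ _).trans ?_))
      refine (congrArg (· ≫ H.map (g n))
        (show H.map (ARSys.tr Y hm₁) = b₁ ≫ H.map (f.app (op n)) from hb₁.symm)).trans ?_
      refine (Category.assoc _ _ _).trans ((congrArg (b₁ ≫ ·) ((H.map_comp _ _).symm.trans
        ((congrArg H.map (show f.app (op n) ≫ g n = 0 from comp_distTriang_mor_zero₁₂ _ (hT n))).trans
          (H.map_zero _ _)))).trans ?_)
      exact comp_zero
    exact comp_eq_zero_of_exact (hex m₁) _ _ h2 h1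

/-- A system concentrated in one degree is a system of single complexes. -/
lemma nonempty_iso_single (X : ARSys.PS (DerivedCategory A)) (q : ℤ)
    (hge : ∀ n, (X.obj (op n)).IsGE q) (hle : ∀ n, (X.obj (op n)).IsLE q) :
    Nonempty (X ≅ (X ⋙ homologyFunctor A q) ⋙ singleFunctor A q) := by
  choose M e using fun n : ℕ =>
    have := hge n
    have := hle n
    exists_iso_singleFunctor_obj_of_isGE_of_isLE (X.obj (op n)) q
  let e' : ∀ n : ℕ, X.obj (op n) ≅ (singleFunctor A q).obj (M n) := fun n => (e n).some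
  let F := singleFunctor A q
  let M' : ARSys.PS A :=
    { obj := fun n => M n.unop
      map := fun {n m} φ => F.preimage ((e' n.unop).inv ≫ X.map φ ≫ (e' m.unop).hom)
      map_id := fun n => F.map_injective (by simp)
      map_comp := fun φ ψ => F.map_injective (by simp) }
  let ε : X ≅ M' ⋙ F := NatIso.ofComponents (fun n => e' n.unop) (fun {n m} φ => by simp [M'])
  exact ⟨ε ≪≫ Functor.isoWhiskerRight (M'.rightUnitor.symm ≪≫
    Functor.isoWhiskerLeft M' (singleFunctorCompHomologyFunctorIso A q).symm ≪≫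
    (Functor.associator _ _ _).symm ≪≫ Functor.isoWhiskerRight ε.symm (homologyFunctor A q)) F⟩

theorem hasValue_of_homology : ∀ (N : ℕ) (X : ARSys.PS (DerivedCategory A)) (a : ℤ),
    (∀ (n : ℕ) (i : ℤ), i < a ∨ a + N ≤ i → IsZero ((homologyFunctor A i).obj (X.obj (op n)))) →
    (∀ i, HasValue (X ⋙ homologyFunctor A i)) → HasValue X := by
  intro N
  induction N with
  | zero =>
    intro X a hX _
    refine hasValue_of_isZero X (fun n => ?_)
    have : (X.obj (op n)).IsGE a := by
      rw [isGE_iff]; exact fun i hi => hX n i (Or.inl hi)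
    have : (X.obj (op n)).IsLE (a - 1) := by
      rw [isLE_iff]; exact fun i hi => hX n i (Or.inr (by simp; omega))
    exact (tA).isZero _ (a - 1) a (by omega)
  | succ N ih =>
    intro X a hX hH
    let q : ℤ := a + N
    let X₁ : ARSys.PS (DerivedCategory A) := X ⋙ (tA).truncLE (q - 1)
    let X₃ : ARSys.PS (DerivedCategory A) := X ⋙ (tA).truncGT (q - 1)
    have hle : ∀ n, (X₁.obj (op n)).IsLE (q - 1) := fun n =>
      inferInstanceAs ((tA).IsLE (((tA).truncLE (q - 1)).obj (X.obj (op n))) (q - 1))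
    have h₁ : HasValue X₁ := by
      refine ih X₁ a (fun n i hi => ?_) (fun i => ?_)
      · by_cases hq : i ≤ q - 1
        · have := Groth.DerivedAdj.isIso_homologyMap_truncLE (X.obj (op n)) (q - 1) i hq
          exact (hX n i (Or.inl (by omega))).of_iso
            (asIso ((homologyFunctor A i).map (((tA).truncLEι (q - 1)).app (X.obj (op n)))))
        · have := hle n
          exact isZero_of_isLE _ (q - 1) i (by omega)
      · by_cases hq : i ≤ q - 1
        · let α : X₁ ⋙ homologyFunctor A i ⟶ X ⋙ homologyFunctor A i :=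
            Functor.whiskerRight (Functor.whiskerLeft X ((tA).truncLEι (q - 1)) ≫ X.rightUnitor.hom) _
          have : ∀ n, IsIso (α.app n) := fun n => by
            have := Groth.DerivedAdj.isIso_homologyMap_truncLE (X.obj n) (q - 1) i hq
            change IsIso ((homologyFunctor A i).map ((((tA).truncLEι (q - 1)).app (X.obj n)) ≫ 𝟙 _))
            rw [Category.comp_id]; infer_instance
          have : IsIso α := NatIso.isIso_of_isIso_app α
          exact hasValue_of_iso (asIso α).symm (hH i)
        · refine hasValue_of_isZero _ (fun n => ?_)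
          have := hle n
          exact isZero_of_isLE (X₁.obj (op n)) (q - 1) i (by omega)
    have hge₃ : ∀ p, (X₃.obj (op p)).IsGE q := fun p => by
      have h : (tA).IsGE (((tA).truncGT (q - 1)).obj (X.obj (op p))) (q - 1 + 1) := inferInstance
      rwa [show q - 1 + 1 = q by omega] at h
    have hle₃ : ∀ p, (X₃.obj (op p)).IsLE q := fun p => by
      have : (X.obj (op p)).IsLE q := by
        rw [isLE_iff]; exact fun i hi => hX p i (Or.inr (by simp [q] at hi ⊢; omega))
      exact isLE_truncGT _ _ _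
    have h₃ : HasValue X₃ := by
      obtain ⟨e⟩ := nonempty_iso_single X₃ q hge₃ hle₃
      refine hasValue_of_iso e.symm (hasValue_map _ _ ?_)
      let α : X ⋙ homologyFunctor A q ⟶ X₃ ⋙ homologyFunctor A q :=
        Functor.whiskerRight (X.rightUnitor.inv ≫ Functor.whiskerLeft X ((tA).truncGTπ (q - 1))) _
      have : ∀ n, IsIso (α.app n) := fun n => by
        have := isIso_homologyMap_truncGT (X.obj n) (q - 1) q (by omega)
        change IsIso ((homologyFunctor A q).map (𝟙 _ ≫ (((tA).truncGTπ (q - 1)).app (X.obj n))))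
        rw [Category.id_comp]; infer_instance
      have : IsIso α := NatIso.isIso_of_isIso_app α
      exact hasValue_of_iso (asIso α) (hH q)
    exact Groth.EssConstTriangle.exists_two_of_three X₁ X X₃
      (Functor.whiskerLeft X ((tA).truncLEι (q - 1)) ≫ X.rightUnitor.hom)
      (X.rightUnitor.inv ≫ Functor.whiskerLeft X ((tA).truncGTπ (q - 1)))
      (Functor.whiskerLeft X ((tA).truncGTδLE (q - 1)) ≫ (Functor.associator _ _ _).inv)
      (fun n => by
        refine isomorphic_distinguished _ ((tA).triangleLEGT_distinguished (q - 1) (X.obj (op n))) _ ?_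
        exact Triangle.isoMk _ _ (Iso.refl _) (Iso.refl _) (Iso.refl _) (by simp; exact (Category.comp_id _).trans (Category.id_comp _).symm) (by simp; exact (Category.comp_id _).trans (Category.id_comp _).symm) (by simp; erw [CategoryTheory.Functor.map_id]; exact (Category.comp_id _).trans (Category.id_comp _).symm))
      h₁ h₃

end Groth.Agent.ProSystems
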