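import Groth.Agent.KTheory.ProjBdlGen
import Mathlib.Order.Filter.Germ.Basic

/-!
# `K₀` of a projective bundle is free on the powers of `O(-1)`
-/

set_option autoImplicit false
set_option linter.style.haveILetI false
universe u

open CategoryTheory CategoryTheory.Limits AlgebraicGeometry Opposite TopologicalSpace
open Groth.CohBase Groth.PicAux Groth.Variety2.Reg

namespace Groth.KTheory.ProjBdl

open Groth.KTheory.RegKoszul Groth.LocFree LambdaVb

variable {T P : Scheme.{u}} {π : P ⟶ T} {A : LPair P} {n : ℕ} (hA : HasCharts n π A)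

include hA

theorem isFinLocFree_push_twB_pullback {N : T.Modules} (hN : FlatMod.IsFinLocFree N) {a : ℤ}
    (ha : -(n : ℤ) ≤ a) :
    FlatMod.IsFinLocFree ((Scheme.Modules.pushforward π).obj (twB A a ((Scheme.Modules.pullback π).obj N))) :=
  isFinLocFree_push hA (isFinLocFree_twB A a (isFinLocFree_pullback π hN)) fun _ hq =>
    van_twB_pullback hA (KTheory.LocFree.isQCoh hN) (Or.inl hq) (Or.inl ha)

/-- `N ↦ [π_* (π^* N (a))]`. -/
theorem exists_pushTw (a : ℤ) : ∃ f : SGA6.Kvb T →+ SGA6.Kvb T, -(n : ℤ) ≤ a → ∀ N : T.Modules,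
    FlatMod.IsFinLocFree N →
      f (kcl N) = kcl ((Scheme.Modules.pushforward π).obj (twB A a ((Scheme.Modules.pullback π).obj N))) := by
  by_cases ha : -(n : ℤ) ≤ a
  · refine ⟨liftSub (fun M : T.Modules => FlatMod.IsFinLocFree M) (fun N =>
      kcl ((Scheme.Modules.pushforward π).obj (twB A a ((Scheme.Modules.pullback π).obj N))))
      fun S hS h₁ h₂ h₃ => ?_, fun _ N hN => liftSub_clSub _ _ hN⟩
    have hq := fun {M : T.Modules} (h : FlatMod.IsFinLocFree M) =>
      KTheory.LocFree.isQCoh (isFinLocFree_pullback π h)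
    exact kcl_rel (shortExact_push hA
      (shortExact_twB A a (KvbPull.shortExact_pullback π hS h₁ h₂ h₃) (hq h₁) (hq h₂) (hq h₃))
      (van_twB_pullback hA (KTheory.LocFree.isQCoh h₁) (Or.inl le_rfl) (Or.inl ha))
      (isQCoh_twB A a (hq h₂)) (isQCoh_twB A a (hq h₃)))
      (isFinLocFree_push_twB_pullback hA h₁ ha) (isFinLocFree_push_twB_pullback hA h₂ ha)
      (isFinLocFree_push_twB_pullback hA h₃ ha)
  · exact ⟨0, fun h => absurd h ha⟩

/-- `N ↦ [π_* (π^* N (a))]` for `a ≥ -n`. -/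
noncomputable def pushTw (a : ℤ) : SGA6.Kvb T →+ SGA6.Kvb T :=
  (exists_pushTw hA a).choose

theorem pushTw_kcl {a : ℤ} (ha : -(n : ℤ) ≤ a) {N : T.Modules} (hN : FlatMod.IsFinLocFree N) :
    pushTw hA a (kcl N) =
      kcl ((Scheme.Modules.pushforward π).obj (twB A a ((Scheme.Modules.pullback π).obj N))) :=
  (exists_pushTw hA a).choose_spec ha N hN

theorem pushTw_zero (x : SGA6.Kvb T) : pushTw hA 0 x = x := by
  suffices h : pushTw hA 0 = AddMonoidHom.id _ from congr($h x)
  refine k0sub_hom_ext fun N hN => ?_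
  change pushTw hA 0 (kcl N) = kcl N
  rw [pushTw_kcl hA (by omega) hN]
  haveI := isIso_unit hA (KTheory.LocFree.isQCoh hN)
  exact (kcl_iso (asIso ((Scheme.Modules.pullbackPushforwardAdjunction π).unit.app N) ≪≫
    (Scheme.Modules.pushforward π).mapIso (nonempty_twB_zero A _).some.symm) hN).symm

theorem pushTw_neg {a : ℤ} (h1 : -(n : ℤ) ≤ a) (h2 : a < 0) : pushTw hA a = 0 :=
  k0sub_hom_ext fun N hN => (pushTw_kcl hA h1 hN).trans
    (KvbModel.kcl_zero (isZero_push_pullback hA (KTheory.LocFree.isQCoh hN) h1 h2))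

/-- Tensoring with a bundle from the base keeps vanishing. -/
theorem van_pullback_tensor {F : P.Modules} (hF : FlatMod.IsFinLocFree F) {M : T.Modules}
    (hM : FlatMod.IsFinLocFree M) {q : ℕ} (h : Van π F q) :
    Van π (CohB1.tensorMod ((Scheme.Modules.pullback π).obj M) F) q := by
  obtain ⟨_, _, _⟩ := facts hA
  haveI := KTheory.LocFree.isQCoh (isFinLocFree_tensorMod (isFinLocFree_pullback π hM) hF)
  refine van_of_local fun x => ?_
  obtain ⟨U, r, s, hU, hx, hs⟩ := exists_affine_basis hM x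
  refine ⟨U, hU, hx, ?_⟩
  let ι := (π ⁻¹ᵁ U).ι
  have hv : HV (⊤ : (π ⁻¹ᵁ U : P.Opens).toScheme.Opens) ((Scheme.Modules.pullback ι).obj F) q := by
    refine HV.of_iso ((Scheme.Modules.restrictFunctorIsoPullback ι).app F) ((hVanish_restrict_iff ι F q ⊤).2 ?_)
    rw [Scheme.Opens.ι_image_top]
    exact h U hU
  let e : (Scheme.Modules.pullback ι).obj ((Scheme.Modules.pullback π).obj M) ≅
      FlatMod.freeMod (π ⁻¹ᵁ U : P.Opens) r :=
    (Scheme.Modules.pullbackComp ι π).app M ≪≫
      (Scheme.Modules.pullbackCongr (morphismRestrict_ι π U).symm).app M ≪≫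
      ((Scheme.Modules.pullbackComp (π ∣_ U) U.ι).app M).symm ≪≫
      (Scheme.Modules.pullback (π ∣_ U)).mapIso (((Scheme.Modules.restrictFunctorIsoPullback U.ι).app M).symm ≪≫
        (nonempty_iso_of_basis hs).some) ≪≫ (nonempty_pullback_freeMod (π ∣_ U) r).some
  have h' := HV.of_iso ((exists_braiding _ _).choose ≪≫ PicGrp.tensorModIso e.symm (Iso.refl _) ≪≫
    (exists_pullback_tensorMod ι _ F).choose.symm ≪≫
    ((Scheme.Modules.restrictFunctorIsoPullback ι).app _).symm)
    (hv_tensor_freeMod (isFinLocFree_pullback ι hF) r hv)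
  have h'' := (hVanish_restrict_iff ι _ q ⊤).1 h'
  rwa [Scheme.Opens.ι_image_top] at h''

theorem isFinLocFree_push_tensor {F : P.Modules} (hF : FlatMod.IsFinLocFree F) {M : T.Modules}
    (hM : FlatMod.IsFinLocFree M) (h : ∀ q, 1 ≤ q → Van π F q) :
    FlatMod.IsFinLocFree
      ((Scheme.Modules.pushforward π).obj (CohB1.tensorMod ((Scheme.Modules.pullback π).obj M) F)) :=
  isFinLocFree_push hA (isFinLocFree_tensorMod (isFinLocFree_pullback π hM) hF) fun q hq =>
    van_pullback_tensor hA hF hM (h q hq)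

/-- `M ↦ [π_* (π^* M ⊗ F)]` for acyclic `F`. -/
theorem exists_pushMul (F : P.Modules) : ∃ f : SGA6.Kvb T →+ SGA6.Kvb T, FlatMod.IsFinLocFree F →
    (∀ q, 1 ≤ q → Van π F q) → ∀ M : T.Modules, FlatMod.IsFinLocFree M →
      f (kcl M) = kcl ((Scheme.Modules.pushforward π).obj
        (CohB1.tensorMod ((Scheme.Modules.pullback π).obj M) F)) := by
  by_cases hh : FlatMod.IsFinLocFree F ∧ ∀ q, 1 ≤ q → Van π F q
  · obtain ⟨hF, hv⟩ := hh
    refine ⟨liftSub (fun M : T.Modules => FlatMod.IsFinLocFree M) (fun M =>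
      kcl ((Scheme.Modules.pushforward π).obj (CohB1.tensorMod ((Scheme.Modules.pullback π).obj M) F)))
      fun S hS h₁ h₂ h₃ => ?_, fun _ _ M hM => liftSub_clSub _ _ hM⟩
    have hp := fun {M : T.Modules} (h : FlatMod.IsFinLocFree M) => isFinLocFree_pullback π h
    let S' := S.map (Scheme.Modules.pullback π)
    haveI : S'.X₁.IsQuasicoherent := KTheory.LocFree.isQCoh (hp h₁)
    haveI : S'.X₂.IsQuasicoherent := KTheory.LocFree.isQCoh (hp h₂)
    haveI : S'.X₃.IsQuasicoherent := KTheory.LocFree.isQCoh (hp h₃)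
    have hT := shortExact_tensor hF (S := S') (KvbPull.shortExact_pullback π hS h₁ h₂ h₃)
    obtain ⟨f, g, w, hT'⟩ := exists_shortExact_of_iso hT
      (exists_braiding ((Scheme.Modules.pullback π).obj S.X₁) F).choose
      (exists_braiding ((Scheme.Modules.pullback π).obj S.X₂) F).choose
      (exists_braiding ((Scheme.Modules.pullback π).obj S.X₃) F).choose
    exact kcl_rel (shortExact_push hA hT' (van_pullback_tensor hA hF h₁ (hv 1 le_rfl))
      (KTheory.LocFree.isQCoh (isFinLocFree_tensorMod (hp h₂) hF))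
      (KTheory.LocFree.isQCoh (isFinLocFree_tensorMod (hp h₃) hF)))
      (isFinLocFree_push_tensor hA hF h₁ hv) (isFinLocFree_push_tensor hA hF h₂ hv)
      (isFinLocFree_push_tensor hA hF h₃ hv)
  · exact ⟨0, fun h h' => absurd ⟨h, h'⟩ hh⟩

/-- `M ↦ [π_* (π^* M ⊗ F)]`. -/
noncomputable def pushMul (F : P.Modules) : SGA6.Kvb T →+ SGA6.Kvb T :=
  (exists_pushMul hA F).choose

theorem pushMul_kcl {F : P.Modules} (hF : FlatMod.IsFinLocFree F) (hv : ∀ q, 1 ≤ q → Van π F q)
    {M : T.Modules} (hM : FlatMod.IsFinLocFree M) :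
    pushMul hA F (kcl M) =
      kcl ((Scheme.Modules.pushforward π).obj (CohB1.tensorMod ((Scheme.Modules.pullback π).obj M) F)) :=
  (exists_pushMul hA F).choose_spec hF hv M hM

theorem eventually_van [CompactSpace T] {F : P.Modules} (hF : FlatMod.IsFinLocFree F) :
    ∀ᶠ d : ℕ in Filter.atTop, ∀ q, 1 ≤ q → Van π (twB A (d : ℤ) F) q := by
  obtain ⟨d₀, hd⟩ := exists_regB_twB hA hF
  refine Filter.eventually_atTop.2 ⟨d₀, fun d hle q hq => ?_⟩
  exact (van_of_regB hA (isQCoh_twB A _ (KTheory.LocFree.isQCoh hF)) hd hq (a := (d : ℤ) - d₀)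
    (by omega)).of_iso (nonempty_twB_twB A _ _ _ (by ring) F).some

/-- The germ at infinity of `d ↦ (M ↦ [π_* (π^* M ⊗ F(d))])`. -/
theorem exists_germ [CompactSpace T] :
    ∃ V : SGA6.Kvb P →+ (Filter.atTop : Filter ℕ).Germ (SGA6.Kvb T →+ SGA6.Kvb T),
      ∀ F : P.Modules, FlatMod.IsFinLocFree F →
        V (kcl F) = ↑(fun d : ℕ => pushMul hA (twB A (d : ℤ) F)) := by
  refine ⟨liftSub (fun M : P.Modules => FlatMod.IsFinLocFree M)
    (fun F => ↑(fun d : ℕ => pushMul hA (twB A (d : ℤ) F))) fun S hS h₁ h₂ h₃ => ?_,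
    fun F hF => liftSub_clSub _ _ hF⟩
  rw [← Filter.Germ.coe_add, Filter.Germ.coe_eq]
  filter_upwards [eventually_van hA h₁, eventually_van hA h₂, eventually_van hA h₃] with d v₁ v₂ v₃
  refine k0sub_hom_ext fun M hM => ?_
  change pushMul hA _ (kcl M) = pushMul hA _ (kcl M) + pushMul hA _ (kcl M)
  have hf := fun {F : P.Modules} (h : FlatMod.IsFinLocFree F) => isFinLocFree_twB A (d : ℤ) h
  rw [pushMul_kcl hA (hf h₁) v₁ hM, pushMul_kcl hA (hf h₂) v₂ hM, pushMul_kcl hA (hf h₃) v₃ hM]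
  have hp := isFinLocFree_pullback π hM
  let S' := S.map ((DCoh.tensorBi (X := P)).obj (pw A (d : ℤ)))
  haveI : S'.X₁.IsQuasicoherent := KTheory.LocFree.isQCoh (hf h₁)
  haveI : S'.X₂.IsQuasicoherent := KTheory.LocFree.isQCoh (hf h₂)
  haveI : S'.X₃.IsQuasicoherent := KTheory.LocFree.isQCoh (hf h₃)
  have hT := shortExact_tensor hp (S := S') (shortExact_twB A (d : ℤ) hS (KTheory.LocFree.isQCoh h₁)
    (KTheory.LocFree.isQCoh h₂) (KTheory.LocFree.isQCoh h₃))
  exact kcl_rel (shortExact_push hA hT (van_pullback_tensor hA (hf h₁) hM (v₁ 1 le_rfl))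
    (KTheory.LocFree.isQCoh (isFinLocFree_tensorMod hp (hf h₂)))
    (KTheory.LocFree.isQCoh (isFinLocFree_tensorMod hp (hf h₃))))
    (isFinLocFree_push_tensor hA (hf h₁) hM v₁) (isFinLocFree_push_tensor hA (hf h₂) hM v₂)
    (isFinLocFree_push_tensor hA (hf h₃) hM v₃)

/-- The germ of the image of a generator. -/
theorem pushMul_gen {i : ℕ} (hi : i ≤ n) (d : ℕ) {N : T.Modules} (hN : FlatMod.IsFinLocFree N) :
    pushMul hA (twB A (d : ℤ) (twB A (-(i : ℤ)) ((Scheme.Modules.pullback π).obj N))) =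
      (pushTw hA ((d : ℤ) - i)).comp ((LambdaVb.mulHom (X := T)).flip (kcl N)) := by
  refine k0sub_hom_ext fun M hM => ?_
  change pushMul hA _ (kcl M) = pushTw hA _ (LambdaVb.mulHom (kcl M) (kcl N))
  have hP := isFinLocFree_pullback π hN
  have hF := isFinLocFree_twB A (d : ℤ) (isFinLocFree_twB A (-(i : ℤ)) hP)
  let e₁ := (nonempty_twB_twB A (d : ℤ) (-(i : ℤ)) ((d : ℤ) - i) (by ring)
    ((Scheme.Modules.pullback π).obj N)).some
  have hv : ∀ q, 1 ≤ q → Van π (twB A (d : ℤ) (twB A (-(i : ℤ)) ((Scheme.Modules.pullback π).obj N))) q :=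
    fun q hq => (van_twB_pullback hA (KTheory.LocFree.isQCoh hN) (Or.inl hq) (Or.inl (by omega))).of_iso e₁.symm
  rw [pushMul_kcl hA hF hv hM, mulHom_kcl hM hN,
    pushTw_kcl hA (by omega) (isFinLocFree_tensorMod hM hN)]
  refine kcl_iso ((Scheme.Modules.pushforward π).mapIso ?_) (isFinLocFree_push_tensor hA hF hM hv)
  exact PicGrp.tensorModIso (Iso.refl _) e₁ ≪≫ (exists_associator _ _ _).choose.symm ≪≫
    PicGrp.tensorModIso (exists_braiding _ _).choose (Iso.refl _) ≪≫ (exists_associator _ _ _).choose ≪≫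
    PicGrp.tensorModIso (Iso.refl _) (exists_pullback_tensorMod π M N).choose.symm

omit hA in
/-- The recursively defined pushed Koszul terms. -/
noncomputable def Cr (f : ℤ → SGA6.Kvb T →+ SGA6.Kvb T) (lam : ℕ → SGA6.Kvb T) (d : ℤ) :
    ℕ → (SGA6.Kvb T →+ SGA6.Kvb T)
  | 0 => f d
  | i + 1 => (f (d - (i + 1 : ℕ))).comp ((LambdaVb.mulHom (X := T)).flip (lam (i + 1))) - Cr f lam d i

theorem cr_kcl (Q : LineQuot π A n) {d : ℤ} (hd : 1 ≤ d) {N : T.Modules} (hN : FlatMod.IsFinLocFree N) :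
    ∀ i ≤ n + 1, Cr (pushTw hA) (fun k => kcl (extPow k Q.E)) d i (kcl N) =
      kcl ((Scheme.Modules.pushforward π).obj (Q.Z N (d - i) i)) := by
  have hZ : ∀ i : ℕ, FlatMod.IsFinLocFree ((Scheme.Modules.pushforward π).obj (Q.Z N (d - i) i)) := fun i =>
    isFinLocFree_push hA (Q.isFinLocFree_Z hN _ _) fun q hq => Q.van_Z' hA hN (by omega) hq
  intro i
  induction i with
  | zero =>
    intro _
    rw [Cr, pushTw_kcl hA (by omega) hN]
    rw [Nat.cast_zero, sub_zero]
    exact kcl_iso ((Scheme.Modules.pushforward π).mapIso (Q.nonempty_Z_zero d).some.symm)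
      (isFinLocFree_push_twB_pullback hA hN (by omega))
  | succ i ih =>
    intro hi
    have hM : FlatMod.IsFinLocFree (CohB1.tensorMod N (extPow (i + 1) Q.E)) :=
      isFinLocFree_tensorMod hN (isFinLocFree_extPow (isFinLocFree_of_rank Q.hE) _)
    rw [Cr, AddMonoidHom.sub_apply, ih (by omega)]
    change pushTw hA _ (LambdaVb.mulHom (kcl N) (kcl (extPow (i + 1) Q.E))) - _ = _
    rw [mulHom_kcl hN (isFinLocFree_extPow (isFinLocFree_of_rank Q.hE) _),
      pushTw_kcl hA (by omega) hM, sub_eq_iff_eq_add]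
    obtain ⟨f, g, w, hS⟩ := Q.exists_shortExact hN (d - (i + 1 : ℕ)) i
    have hlast : FlatMod.IsFinLocFree
        ((Scheme.Modules.pushforward π).obj (Q.Z N (d - (i + 1 : ℕ) + 1) i)) :=
      isFinLocFree_push hA (Q.isFinLocFree_Z hN _ _) fun q hq => Q.van_Z' hA hN (by push_cast; omega) hq
    refine (kcl_rel (shortExact_push hA hS (Q.van_Z' hA hN (by push_cast; omega) le_rfl)
      (isQCoh_twB A _ (KTheory.LocFree.isQCoh (isFinLocFree_pullback π hM)))
      (KTheory.LocFree.isQCoh (Q.isFinLocFree_Z hN _ _)))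
      (hZ (i + 1)) (isFinLocFree_push_twB_pullback hA hM (by omega)) hlast).trans ?_
    refine congrArg₂ (· + ·) rfl (congrArg (fun c => kcl ((Scheme.Modules.pushforward π).obj (Q.Z N c i))) ?_)
    push_cast
    ring

theorem cr_top (Q : LineQuot π A n) {d : ℤ} (hd : 1 ≤ d) :
    Cr (pushTw hA) (fun k => kcl (extPow k Q.E)) d (n + 1) = 0 :=
  k0sub_hom_ext fun N hN => by
    change Cr (pushTw hA) _ d (n + 1) (kcl N) = 0
    rw [cr_kcl hA Q hd hN (n + 1) le_rfl]
    exact KvbModel.kcl_zero ((Scheme.Modules.pushforward π).map_isZero (Q.isZero_Z_top _))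

/-- Only the zero combination pushes forward to zero in high degrees. -/
theorem eq_zero_of_eventually (Q : LineQuot π A n) (a : Fin (n + 1) → SGA6.Kvb T) (D : ℕ)
    (h : ∀ d : ℕ, D ≤ d → ∀ b, ∑ j : Fin (n + 1), pushTw hA ((d : ℤ) - (j : ℕ)) (LambdaVb.mulHom b (a j)) = 0) :
    a = 0 := by
  let lam := fun k => kcl (extPow k Q.E)
  obtain ⟨Dt, hDt, ⟨eDt⟩⟩ := exists_det_cancel Q
  have hone : LambdaVb.mulHom (kcl Dt) (lam (n + 1)) = kcl (Coh.structureModule T) := by
    have hΛ : FlatMod.IsFinLocFree (extPow (n + 1) Q.E) :=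
      isFinLocFree_extPow (isFinLocFree_of_rank Q.hE) _
    rw [mulHom_kcl hDt hΛ]
    exact kcl_iso eDt (isFinLocFree_tensorMod hDt hΛ)
  let u : ℤ → SGA6.Kvb T → SGA6.Kvb T := fun d b =>
    ∑ j : Fin (n + 1), pushTw hA (d - (j : ℕ)) (LambdaVb.mulHom b (a j))
  have all : ∀ m : ℕ, ∀ d : ℕ, D ≤ d + m → ∀ b, u (d : ℤ) b = 0 := by
    intro m
    induction m with
    | zero => exact fun d hd b => h d (by omega) b
    | succ m ih =>
      intro d hd b
      rcases Nat.lt_or_ge (d + m) D with hlt | hge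
      swap
      · exact ih d hge b
      let e : ℤ := (d : ℤ) + (n + 1 : ℕ)
      have hU : ∀ i ≤ n, ∑ j : Fin (n + 1), Cr (pushTw hA) lam (e - (j : ℕ)) i
          (LambdaVb.mulHom (LambdaVb.mulHom b (kcl Dt)) (a j)) = 0 := by
        intro i
        induction i with
        | zero =>
          intro _
          have := ih (d + (n + 1)) (by omega) (LambdaVb.mulHom b (kcl Dt))
          simpa [u, e, Cr] using this
        | succ i ih' =>
          intro hi
          simp only [Cr, AddMonoidHom.sub_apply]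
          rw [Finset.sum_sub_distrib, ih' (by omega), sub_zero]
          have h2 := ih (d + (n - i)) (by omega) (LambdaVb.mulHom (LambdaVb.mulHom b (kcl Dt)) (lam (i + 1)))
          refine Eq.trans (Finset.sum_congr rfl fun j _ => ?_) h2
          change pushTw hA _ (LambdaVb.mulHom (LambdaVb.mulHom (LambdaVb.mulHom b (kcl Dt)) (a j)) (lam (i + 1))) = _
          rw [mulHom_assoc, mulHom_comm (a j), ← mulHom_assoc]
          congr 1
          congr 1
          simp only [e]
          push_cast [Nat.cast_sub (show i ≤ n by omega)]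
          ring
      have htop : ∀ j : Fin (n + 1), Cr (pushTw hA) lam (e - (j : ℕ)) (n + 1)
          (LambdaVb.mulHom (LambdaVb.mulHom b (kcl Dt)) (a j)) = 0 := fun j => by
        rw [show Cr (pushTw hA) lam (e - (j : ℕ)) (n + 1) = 0 from
          cr_top hA Q (by simp only [e]; omega)]
        rfl
      have h3 := Finset.sum_eq_zero (s := Finset.univ) fun j _ => htop j
      simp only [Cr, AddMonoidHom.sub_apply] at h3
      rw [Finset.sum_sub_distrib, hU n le_rfl, sub_zero] at h3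
      refine Eq.trans (Finset.sum_congr rfl fun j _ => ?_) h3
      change _ = pushTw hA _ (LambdaVb.mulHom (LambdaVb.mulHom (LambdaVb.mulHom b (kcl Dt)) (a j)) (lam (n + 1)))
      rw [mulHom_assoc, mulHom_comm (a j), ← mulHom_assoc, mulHom_assoc b, hone,
        mulHom_comm b (kcl (Coh.structureModule T)), mulHom_one]
      congr 1
      congr 1
      simp only [e]
      push_cast
      ring
  have hz : ∀ d : ℕ, ∀ b, u (d : ℤ) b = 0 := fun d => all D d (Nat.le_add_left _ _)
  suffices H : ∀ k : ℕ, ∀ j : Fin (n + 1), (j : ℕ) < k → a j = 0 from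
    funext fun j => H (n + 1) j j.2
  intro k
  induction k with
  | zero => intro j hj; omega
  | succ k ih =>
    intro j hj
    rcases Nat.lt_or_ge (j : ℕ) k with hlt | hge
    · exact ih j hlt
    have h0 := hz (j : ℕ) (kcl (Coh.structureModule T))
    simp only [u, mulHom_one] at h0
    rw [Finset.sum_eq_single j] at h0
    · rwa [sub_self, pushTw_zero] at h0
    · intro i _ hij
      rcases Nat.lt_or_ge (i : ℕ) k with hik | hik
      · rw [ih i hik, map_zero]
      · have : (i : ℕ) ≠ (j : ℕ) := fun h => hij (Fin.ext h)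
        rw [pushTw_neg hA (by omega) (by omega)]
        rfl
    · exact fun h => absurd (Finset.mem_univ j) h

/-- `K₀(P)` is free over `K₀(T)` on `1, t, …, t^n`. -/
theorem bijective_sum [CompactSpace T] (Q : LineQuot π A n)
    (G : Fin (n + 1) → (SGA6.Kvb T →+ SGA6.Kvb P))
    (hG : ∀ (i : Fin (n + 1)) (N : T.Modules), FlatMod.IsFinLocFree N →
      G i (kcl N) = kcl (twB A (-((i : ℕ) : ℤ)) ((Scheme.Modules.pullback π).obj N))) :
    Function.Bijective (fun a : Fin (n + 1) → SGA6.Kvb T => ∑ i : Fin (n + 1), G i (a i)) := by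
  classical
  let Φ : (Fin (n + 1) → SGA6.Kvb T) →+ SGA6.Kvb P :=
    ∑ i : Fin (n + 1), (G i).comp (Pi.evalAddMonoidHom _ i)
  have hΦ : (fun a : Fin (n + 1) → SGA6.Kvb T => ∑ i : Fin (n + 1), G i (a i)) = ⇑Φ := by
    funext a
    simp [Φ]
  rw [hΦ]
  refine ⟨(injective_iff_map_eq_zero Φ).2 fun a ha => ?_, fun x => ?_⟩
  · obtain ⟨V, hV⟩ := exists_germ hA
    have hVG : ∀ (i : Fin (n + 1)) (c : SGA6.Kvb T), V (G i c) =
        ↑(fun d : ℕ => (pushTw hA ((d : ℤ) - (i : ℕ))).comp ((LambdaVb.mulHom (X := T)).flip c)) := by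
      intro i c
      induction c using k0sub_induction with
      | h0 =>
        simp only [map_zero, AddMonoidHom.comp_zero]
        rfl
      | hadd x y hx hy =>
        simp only [map_add, hx, hy, ← Filter.Germ.coe_add]
        exact congrArg _ (funext fun d => by simp [AddMonoidHom.comp_add])
      | hneg x hx =>
        simp only [map_neg, hx, ← Filter.Germ.coe_neg]
        exact congrArg _ (funext fun d => by ext; simp)
      | hcl N hN =>
        refine (congrArg V (hG i N hN)).trans ((hV _ (isFinLocFree_twB A _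
          (isFinLocFree_pullback π hN))).trans ?_)
        exact congrArg _ (funext fun d => pushMul_gen hA (by omega) d hN)
    have h := congrArg V ha
    rw [map_zero, ← congrFun hΦ a] at h
    simp only [map_sum, hVG] at h
    have hc : (∑ i : Fin (n + 1), (↑(fun d : ℕ => (pushTw hA ((d : ℤ) - (i : ℕ))).comp
        ((LambdaVb.mulHom (X := T)).flip (a i))) : (Filter.atTop : Filter ℕ).Germ (SGA6.Kvb T →+ SGA6.Kvb T))) =
      ↑(∑ i : Fin (n + 1), fun d : ℕ => (pushTw hA ((d : ℤ) - (i : ℕ))).comp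
        ((LambdaVb.mulHom (X := T)).flip (a i))) :=
      (map_sum (Filter.Germ.coeAddHom (Filter.atTop : Filter ℕ) :
        (ℕ → SGA6.Kvb T →+ SGA6.Kvb T) →+ (Filter.atTop : Filter ℕ).Germ (SGA6.Kvb T →+ SGA6.Kvb T)) _ _).symm
    rw [hc, show (0 : (Filter.atTop : Filter ℕ).Germ (SGA6.Kvb T →+ SGA6.Kvb T)) =
      ↑(0 : ℕ → SGA6.Kvb T →+ SGA6.Kvb T) from rfl, Filter.Germ.coe_eq] at h
    obtain ⟨D, hD⟩ := Filter.eventually_atTop.1 h
    refine eq_zero_of_eventually hA Q a D fun d hd b => ?_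
    simpa using congr($(hD d hd) b)
  · let H := Φ.range
    have hk : QuotientAddGroup.mk' H = 0 := kill_all hA Q _ fun N hN i hi => by
      rw [QuotientAddGroup.mk'_apply, QuotientAddGroup.eq_zero_iff]
      refine ⟨Pi.single (⟨i, by omega⟩ : Fin (n + 1)) (kcl N), ?_⟩
      rw [← congrFun hΦ]
      rw [Finset.sum_eq_single (⟨i, by omega⟩ : Fin (n + 1))]
      · rw [Pi.single_eq_same, hG _ N hN]
      · intro j _ hj
        rw [Pi.single_eq_of_ne hj, map_zero]
      · exact fun h => absurd (Finset.mem_univ _) h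
    have := congr($hk x)
    rwa [QuotientAddGroup.mk'_apply, AddMonoidHom.zero_apply, QuotientAddGroup.eq_zero_iff] at this

end Groth.KTheory.ProjBdl
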