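import Groth.Agent.KTheory.RegKoszulBC
import Groth.Agent.Limits.BC0.Vanish
import Groth.Agent.CohBase.HomNearFibre
import Groth.Agent.LocFree.Tensor
import Groth.Agent.PropsBasic.LocFree
import Groth.Agent.FlatStrata.ProjSpace

/-!
# Direct images of flat modules without higher cohomology, and base change
-/

universe u

open CategoryTheory CategoryTheory.Limits AlgebraicGeometry Opposite TopologicalSpace
open Groth.CohBase Groth.CohC3.BC
open scoped TensorProduct

namespace Groth.KTheory.RegKoszul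

variable {X S : Scheme.{u}} {f : X ⟶ S} {F : X.Modules}

section Model

variable {V : S.Opens} (M : CohC3.BC.Model (preimageToSpec f (V := V)) (F.restrict (f ⁻¹ᵁ V).ι))
  (i : ℕ) (h : ∀ q, i ≤ q → HV (f ⁻¹ᵁ V) F q)

include M h

theorem d_injective {p : ℕ} (hp : i ≤ p) : Function.Injective (M.d p) := by
  rw [← LinearMap.ker_eq_bot, ← Submodule.subsingleton_iff_eq_bot]
  have : Subsingleton (CohFin.HA (preimageToSpec f (V := V)) (F.restrict (f ⁻¹ᵁ V).ι) p) := by
    refine (subsingleton_H_iff _ p).2 ((hVanish_restrict_iff (f ⁻¹ᵁ V).ι F p ⊤).2 ?_)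
    rw [Scheme.Opens.ι_image_top]
    exact h p hp
  exact (M.e₀ p).toEquiv.subsingleton

theorem projective_Q {p : ℕ} (hp : i ≤ p) :
    Module.Projective Γ(S, V) (M.Q p) ∧
      ∃ l : M.P p →ₗ[Γ(S, V)] M.Q p, l ∘ₗ M.d p = LinearMap.id := by
  obtain ⟨b, hb⟩ := M.bdd
  suffices H : ∀ (e p : ℕ), b < p + e → i ≤ p → Module.Projective Γ(S, V) (M.Q p) ∧
      ∃ l : M.P p →ₗ[Γ(S, V)] M.Q p, l ∘ₗ M.d p = LinearMap.id from H (b + 1) p (by omega) hp
  intro e
  induction e with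
  | zero =>
    intro p hp _
    have := hb p (by omega)
    exact ⟨inferInstance, 0, Subsingleton.elim _ _⟩
  | succ e ih =>
    intro p hp hi
    have := (ih (p + 1) (by omega) (by omega)).1
    obtain ⟨s, hs⟩ := (M.π p).exists_rightInverse_of_surjective (LinearMap.range_eq_top.2 (M.surjective p))
    have := M.free p
    obtain ⟨l, hl⟩ := ((M.exact p).split_tfae (d_injective M i h hi) (M.surjective p)).out 0 1 |>.mp (⟨s, hs⟩ : ∃ l, M.π p ∘ₗ l = LinearMap.id)
    exact ⟨Module.Projective.of_split (M.d p) l hl, l, hl⟩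

theorem subsingleton_pullback {p : ℕ} (hp : i ≤ p) (B : Type u) [CommRing B] [Algebra Γ(S, V) B]
    {Y : Scheme.{u}} (qY : Y ⟶ Spec (CommRingCat.of B)) (u : Y ⟶ (f ⁻¹ᵁ V : X.Opens).toScheme)
    (hu : IsPullback u qY (preimageToSpec f (V := V))
      (Spec.map (CommRingCat.ofHom (algebraMap Γ(S, V) B)))) :
    Subsingleton (CohFin.HA qY ((Scheme.Modules.pullback u).obj (F.restrict (f ⁻¹ᵁ V).ι)) p) := by
  obtain ⟨e, -⟩ := M.exists_e B qY u hu p
  obtain ⟨-, l, hl⟩ := projective_Q M i h hp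
  have hinj : Function.Injective ((M.d p).baseChange B) :=
    Function.LeftInverse.injective (g := l.baseChange B) fun x => by
      rw [← LinearMap.comp_apply, ← LinearMap.baseChange_comp, hl, LinearMap.baseChange_id]
      rfl
  rw [← LinearMap.ker_eq_bot, ← Submodule.subsingleton_iff_eq_bot] at hinj
  exact e.symm.toEquiv.subsingleton

end Model

variable [IsProper f] [LocallyOfFinitePresentation f] [F.IsQuasicoherent]

/-- Without higher cohomology, every point is good. -/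
theorem goodAt_of_hv (hfp : CohB1.IsFP F) (hfl : FlatMod.IsFlatOver f F)
    (h : ∀ (V : S.Opens), IsAffineOpen V → ∀ q, 1 ≤ q → HV (f ⁻¹ᵁ V) F q) (s : S) :
    Limits.BC0.GoodAt f F s := by
  obtain ⟨V, hV, M, hs⟩ := exists_local hfp hfl s
  have := (projective_Q M 1 (h V hV) le_rfl).1
  have := M.finitePresentation 1
  obtain ⟨c, hc, hgood⟩ := Limits.BC0.exists_goodAway M hV hs
    (Module.freeLocus_eq_univ (R := Γ(S, V)) (M := M.Q 1) ▸ trivial)
  exact ⟨V, hV, M, c, hc, hgood⟩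

/-- Vanishing in degrees `≥ i` is stable under base change. -/
theorem hv_baseChange {X' S' : Scheme.{u}} {g' : X' ⟶ X} {f' : X' ⟶ S'} {g : S' ⟶ S}
    (H : IsPullback g' f' f g) (hfp : CohB1.IsFP F) (hfl : FlatMod.IsFlatOver f F) (i : ℕ)
    (h : ∀ (V : S.Opens), IsAffineOpen V → ∀ q, i ≤ q → HV (f ⁻¹ᵁ V) F q)
    {V : S.Opens} (hV : IsAffineOpen V) {W : S'.Opens} (hW : IsAffineOpen W) (e : W ≤ g ⁻¹ᵁ V)
    {p : ℕ} (hp : i ≤ p) :
    HV (f' ⁻¹ᵁ W) ((Scheme.Modules.pullback g').obj F) p := by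
  letI : Algebra Γ(S, V) Γ(S', W) := QCohMod.sectionsAlg g e
  letI : ((f ⁻¹ᵁ V : X.Opens) : Scheme.{u}).Over (Spec (CommRingCat.of Γ(S, V))) :=
    ⟨preimageToSpec f⟩
  letI : ((f' ⁻¹ᵁ W : X'.Opens) : Scheme.{u}).Over (Spec (CommRingCat.of Γ(S', W))) :=
    ⟨preimageToSpec f'⟩
  have e' : f' ⁻¹ᵁ W ≤ g' ⁻¹ᵁ (f ⁻¹ᵁ V) :=
    (f'.preimage_mono e).trans (CohCmp.sqLE f g f' g' H.w V)
  obtain ⟨M⟩ := exists_model_preimage f hV F hfp hfl
  have hs : Subsingleton (CohFin.HA (preimageToSpec f' (V := W)) ((Scheme.Modules.pullback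
      (g'.resLE (f ⁻¹ᵁ V) (f' ⁻¹ᵁ W) e')).obj (F.restrict (f ⁻¹ᵁ V).ι)) p) :=
    subsingleton_pullback M i (h V hV) hp _ _ _ (CohCmpLib.isBC_resLE H hV hW e e')
  have hv := HV.of_iso (CohPull.pullOnIso g' (f ⁻¹ᵁ V) (f' ⁻¹ᵁ W) e' F)
    ((subsingleton_H_iff _ p).1 hs)
  have := (hVanish_restrict_iff (f' ⁻¹ᵁ W).ι _ p ⊤).1 hv
  rwa [Scheme.Opens.ι_image_top] at this

end Groth.KTheory.RegKoszul

namespace Groth.KTheory.RegKoszul

variable {n : ℕ} {Y : Scheme.{u}}

theorem pr_facts (n : ℕ) (Y : Scheme.{u}) :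
    IsProper (KRR.pr n Y) ∧ Flat (KRR.pr n Y) ∧ LocallyOfFinitePresentation (KRR.pr n Y) := by
  haveI : Smooth (KRR.pr n Y) := Misc13.ProjFactor.smooth_projSpaceOver_toBase n Y
  exact ⟨Groth.Variety2.isProper_projSpaceOver_toBase n Y, inferInstance, inferInstance⟩

/-- The direct image of a regular finite locally free module has only good points. -/
theorem goodAt_of_regular {F : (KRR.PY n Y).Modules} (hF : FlatMod.IsFinLocFree F)
    (hreg : KRR.IsRegSheaf n Y F) (s : Y) : Limits.BC0.GoodAt (KRR.pr n Y) F s := by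
  obtain ⟨_, _, _⟩ := pr_facts n Y
  haveI := KTheory.LocFree.isQCoh hF
  exact goodAt_of_hv (PropsBasic.LocFree.isFP_of_isFinLocFree F hF)
    (CohBase.isFlatOver_of_isFinLocFree _ hF)
    (fun V hV q hq => HV.of_iso (RegSheaf.nonempty_twF_zero n Y F).some
      (van_of_regular (KTheory.LocFree.isQCoh hF) hreg hq (r := 0) (by omega) V hV)) s

end Groth.KTheory.RegKoszul
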