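import Groth.Agent.KTheory.RegKoszulK
import Groth.Agent.KTheory.RegKoszulRes
import Groth.Agent.KTheory.RegKoszulFlat
import Groth.Agent.DescentBase.El
import Groth.Agent.OmegaSheaf.IsoLocal
import Groth.Agent.Limits.BC0.Consequences
import Groth.Agent.KTheory.KvbModel
import Groth.Agent.S3582
import Mathlib.Algebra.Group.ForwardDiff

/-!
# The push-forward of classes along relative projective space
-/

universe u w

open CategoryTheory CategoryTheory.Limits AlgebraicGeometry Opposite TopologicalSpace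
open Groth.CohBase Groth.Variety2.Reg Groth.PicAux

namespace Groth.KTheory.RegKoszul

variable {n : ℕ} {T : Scheme.{u}}

theorem surjective_pr (n : ℕ) (T : Scheme.{u}) : Surjective (KRR.pr n T) :=
  Groth.Agent.S3582.result n T

/-- `E ⟶ pr_* pr^* E` is an isomorphism. -/
theorem isIso_unit_pr (E : T.Modules) (hE : Coh.IsQCoh E) :
    IsIso ((Scheme.Modules.pullbackPushforwardAdjunction (KRR.pr n T)).unit.app E) := by
  haveI : E.IsQuasicoherent := hE
  haveI : ((Scheme.Modules.pullback (KRR.pr n T)).obj E).IsQuasicoherent :=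
    Groth.QCohMod.isQCoh_pullback_obj _ _
  haveI : ((𝟭 T.Modules).obj E).IsQuasicoherent := hE
  haveI : ((Scheme.Modules.pullback (KRR.pr n T) ⋙ Scheme.Modules.pushforward (KRR.pr n T)).obj E).IsQuasicoherent :=
    Groth.QCohMod.isQCoh_pushforward ((Scheme.Modules.pullback (KRR.pr n T)).obj E) (KRR.pr n T)
  obtain ⟨-, hflat, -⟩ := pr_facts n T
  haveI := surjective_pr n T
  refine Groth.OmegaSheaf.isIso_of_affine_cover _ fun x => ?_
  obtain ⟨V, hV, hx⟩ := Groth.QCohMod.exists_affine_mem x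
  refine ⟨V, hV, hx, fun a b hab => ?_, surjSec_pr E hE hV⟩
  rw [← sub_eq_zero]
  refine Groth.DescentBase.eq_zero_of_pullSec (fun _ : PUnit.{1} => KRR.pr n T) (fun y _ => ?_) (a - b)
    fun _ => ?_
  · obtain ⟨z, hz⟩ := (KRR.pr n T).surjective y
    exact ⟨⟨⟩, z, hz⟩
  · exact (map_sub (((Scheme.Modules.pullbackPushforwardAdjunction (KRR.pr n T)).unit.app E).app V).hom a b).trans
      (sub_eq_zero.2 hab)

theorem nonempty_push_structure (n : ℕ) (T : Scheme.{u}) :
    Nonempty ((Scheme.Modules.pushforward (KRR.pr n T)).obj (Coh.structureModule (KRR.PY n T)) ≅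
      Coh.structureModule T) := by
  haveI := isIso_pullUnit (KRR.pr n T)
  haveI := isIso_unit_pr (n := n) (Coh.structureModule T)
    (LocFree.isQCoh (Groth.LocFree.isFinLocFree_unit T))
  exact ⟨((Scheme.Modules.pushforward (KRR.pr n T)).mapIso (asIso (pullUnit (KRR.pr n T)))).symm ≪≫
    (asIso ((Scheme.Modules.pullbackPushforwardAdjunction (KRR.pr n T)).unit.app _)).symm⟩

/-- Finite locally free modules without higher cohomology on the preimages of affine opens. -/
def AcyP (n : ℕ) (T : Scheme.{u}) : ObjectProperty (KRR.PY n T).Modules :=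
  fun M => FlatMod.IsFinLocFree M ∧ ∀ q, 1 ≤ q → RegSheaf.Van n T M q

theorem koszClosed_acyP (n : ℕ) (T : Scheme.{u}) : KoszClosed (AcyP n T) where
  finLocFree h := h.1
  zero h := ⟨LocFree.isFinLocFree_zero h, fun q _ V _ => HV.of_isZero h q⟩
  iso e h := ⟨LocFree.isFinLocFree_of_iso e h.1, fun q hq => (h.2 q hq).of_iso e⟩
  biprod hA hB := ⟨LocFree.isFinLocFree_biprod hA.1 hB.1,
    fun q hq V hV => HV.biprod (hA.2 q hq V hV) (hB.2 q hq V hV)⟩
  right hS h3 h1 h2 := ⟨h3, fun q hq V hV =>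
    hVanish_third (shortExact_toAb hS) (h1.2 (q + 1) (by omega) V hV) (h2.2 q hq V hV)⟩

theorem isFinLocFree_push {M : (KRR.PY n T).Modules} (hM : AcyP n T M) :
    FlatMod.IsFinLocFree ((Scheme.Modules.pushforward (KRR.pr n T)).obj M) := by
  obtain ⟨_, _, _⟩ := pr_facts n T
  haveI := LocFree.isQCoh hM.1
  exact Limits.BC0.isFinLocFree_of_good (goodAt_of_hv
    (PropsBasic.LocFree.isFP_of_isFinLocFree M hM.1) (CohBase.isFlatOver_of_isFinLocFree _ hM.1)
    fun V hV q hq => hM.2 q hq V hV)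

theorem shortExact_push {S : ShortComplex (KRR.PY n T).Modules} (hS : S.ShortExact)
    (h₁ : AcyP n T S.X₁) (h₂ : FlatMod.IsFinLocFree S.X₂) (h₃ : FlatMod.IsFinLocFree S.X₃) :
    (S.map (Scheme.Modules.pushforward (KRR.pr n T))).ShortExact := by
  haveI := hS.mono_f
  haveI := hS.epi_g
  haveI := LocFree.isQCoh h₂
  haveI := LocFree.isQCoh h₃
  haveI : ((Scheme.Modules.pushforward (KRR.pr n T)).obj S.X₂).IsQuasicoherent :=
    Groth.QCohMod.isQCoh_pushforward S.X₂ (KRR.pr n T)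
  haveI : ((Scheme.Modules.pushforward (KRR.pr n T)).obj S.X₃).IsQuasicoherent :=
    Groth.QCohMod.isQCoh_pushforward S.X₃ (KRR.pr n T)
  refine ShortComplex.ShortExact.mk' (hS.exact.map_of_mono_of_preservesKernel _ inferInstance inferInstance)
    (@Functor.map_mono _ _ _ _ (Scheme.Modules.pushforward (KRR.pr n T))
      (Functor.preservesMonomorphisms_of_adjunction (Scheme.Modules.pullbackPushforwardAdjunction (KRR.pr n T))) _ _ S.f hS.mono_f) ?_
  refine Groth.QCohMod.epi_of_affine_surjective _ fun V hV => ?_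
  intro z
  exact (mem_ker_deltaSec (shortExact_toAb hS) (KRR.pr n T ⁻¹ᵁ V) z).mp ((h₁.2 1 le_rfl V hV).elim _ _)

/-- The class of the direct image. -/
noncomputable def pushCl (n : ℕ) (T : Scheme.{u}) (M : (KRR.PY n T).Modules) : SGA6.Kvb T :=
  KRR.cl T ((Scheme.Modules.pushforward (KRR.pr n T)).obj M)

theorem pushCl_add (S : ShortComplex (KRR.PY n T).Modules) (hS : S.ShortExact) (h₁ : AcyP n T S.X₁)
    (h₂ : AcyP n T S.X₂) (h₃ : AcyP n T S.X₃) :
    pushCl n T S.X₂ = pushCl n T S.X₁ + pushCl n T S.X₃ :=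
  clSub_rel _ (shortExact_push hS h₁ h₂.1 h₃.1) (isFinLocFree_push h₁) (isFinLocFree_push h₂)
    (isFinLocFree_push h₃)

theorem nonempty_G_G (E : (KRR.PY n T).Modules) (a b : ℤ) : Nonempty (G (G E a) b ≅ G E (a + b)) :=
  ⟨(nonempty_G_iso_twF (G E a) b).some ≪≫
    ((DCoh.tensorBi (X := KRR.PY n T)).obj (Twist.twistOver n T b)).mapIso (nonempty_G_iso_twF E a).some ≪≫
    (RegSheaf.nonempty_twF_twF n T b a (a + b) (add_comm b a) E).some ≪≫ (nonempty_G_iso_twF E (a + b)).some.symm⟩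

/-- A push-forward map on classes gives the direct image for acyclic modules with acyclic twists. -/
theorem eq_pushCl [CompactSpace T] (h : SGA6.Kvb (KRR.PY n T) →+ SGA6.Kvb T)
    (hreg : ∀ F : (KRR.PY n T).Modules, FlatMod.IsFinLocFree F → KRR.IsRegSheaf n T F →
      h (KRR.cl (KRR.PY n T) F) = pushCl n T F)
    {E : (KRR.PY n T).Modules} (hE : ∀ a : ℤ, 0 ≤ a → AcyP n T (G E a)) :
    h (KRR.cl (KRR.PY n T) E) = pushCl n T E := by
  have e0 : ∀ M : (KRR.PY n T).Modules, Nonempty (G M 0 ≅ M) := fun M =>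
    ⟨(nonempty_G_iso_twF M 0).some ≪≫ (RegSheaf.nonempty_twF_zero n T M).some⟩
  obtain ⟨d, hd⟩ := exists_regAt (n := n) (T := T) (E := E)
    ((koszClosed_acyP n T).iso (e0 E).some (hE 0 le_rfl)).1
  induction d generalizing E with
  | zero => exact hreg E (regP_iff.1 hd).1 (regP_iff.1 hd).2
  | succ d ih =>
    rw [f_koszul_relation' (koszClosed_acyP n T) (pushCl n T) (fun S => pushCl_add S) hE]
    have e1 := f_koszul_relation (fun M => h (KRR.cl (KRR.PY n T) M)) (fun S hS h₁ h₂ h₃ => by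
      change h (KZero.clSub (KRR.vbP (KRR.PY n T)) S.X₂) = _
      rw [clSub_rel S hS h₁.1 h₂.1 h₃.1, map_add]) hd
    refine e1.trans ?_
    congr 1
    refine Finset.sum_congr rfl fun j hj => ?_
    have hj' : j ≤ n := Nat.lt_succ_iff.1 (Finset.mem_range.1 hj)
    congr 2
    refine ih (fun a ha => (koszClosed_acyP n T).iso (nonempty_G_G E _ a).some.symm (hE _ ?_))
      (regAt_G_pred hj' hd)
    push_cast
    omega

theorem acyP_twist (n : ℕ) (T : Scheme.{u}) {a : ℤ} (ha : -(n : ℤ) ≤ a) :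
    AcyP n T (G (Coh.structureModule (KRR.PY n T)) a) := by
  refine (koszClosed_acyP n T).iso (nonempty_G_iso_twF _ a).some.symm
    ⟨isFinLocFree_twF a (Groth.LocFree.isFinLocFree_unit _), fun q hq => ?_⟩
  haveI := isIso_pullUnit (KRR.pr n T)
  refine (van_twF_pullback (Coh.structureModule T) (LocFree.isQCoh (Groth.LocFree.isFinLocFree_unit T))
    hq (Or.inl ha)).of_iso ?_
  exact ((DCoh.tensorBi (X := KRR.PY n T)).obj (Twist.twistOver n T a)).mapIso
    (asIso (pullUnit (KRR.pr n T)))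

theorem acy_twists (n : ℕ) (T : Scheme.{u}) {b : ℤ} (hb : -(n : ℤ) ≤ b) (a : ℤ) (ha : 0 ≤ a) :
    AcyP n T (G (KRR.twF n T b (Coh.structureModule (KRR.PY n T))) a) := by
  refine (koszClosed_acyP n T).iso ?_ (acyP_twist n T (a := a + b) (by omega))
  exact (nonempty_G_iso_twF _ _).some ≪≫ (RegSheaf.nonempty_twF_twF n T a b _ rfl _).some.symm ≪≫
    (nonempty_G_iso_twF _ a).some.symm

theorem isZero_push_twist (n : ℕ) (T : Scheme.{u}) {i : ℕ} (hi : 1 ≤ i) (hin : i ≤ n) :
    IsZero ((Scheme.Modules.pushforward (KRR.pr n T)).obj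
      (KRR.twF n T (-(i : ℤ)) (Coh.structureModule (KRR.PY n T)))) := by
  have hq : Coh.IsQCoh (KRR.twF n T (-(i : ℤ)) (Coh.structureModule (KRR.PY n T))) :=
    RegSheaf.isQCoh_twF _ (LocFree.isQCoh (Groth.LocFree.isFinLocFree_unit _))
  haveI : (KRR.twF n T (-(i : ℤ)) (Coh.structureModule (KRR.PY n T))).IsQuasicoherent := hq
  haveI : ((Scheme.Modules.pushforward (KRR.pr n T)).obj
      (KRR.twF n T (-(i : ℤ)) (Coh.structureModule (KRR.PY n T)))).IsQuasicoherent :=
    Groth.QCohMod.isQCoh_pushforward _ (KRR.pr n T)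
  refine isZero_of_sections_cover _ (fun V : T.affineOpens => V.1) (fun V => V.2)
    (iSup_affineOpens_eq_top T) fun V => ?_
  haveI := isIso_pullUnit (KRR.pr n T)
  exact (hv_zero_iff (W := KRR.pr n T ⁻¹ᵁ V.1)
    (KRR.twF n T (-(i : ℤ)) (Coh.structureModule (KRR.PY n T)))).1 (HV.of_iso
    (((DCoh.tensorBi (X := KRR.PY n T)).obj (Twist.twistOver n T (-(i : ℤ)))).mapIso
      (asIso (pullUnit (KRR.pr n T))))
    (van_twF_pullback' (Coh.structureModule T) (LocFree.isQCoh (Groth.LocFree.isFinLocFree_unit T))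
      (i := 0) (Or.inr (by omega)) (Or.inl (by omega)) V.1 V.2))

theorem sum_alt_choose_eq_zero (n y : ℕ) :
    ∑ j ∈ Finset.range (n + 2), ((-1 : ℤ) ^ j * Nat.choose (n + 1) j) * ((y + (n + 1 - j)).choose n : ℤ) = 0 := by
  have h1 : (fwdDiff 1)^[n + 1] (fun x => x.choose n : ℕ → ℤ) y = 0 := by
    rw [Function.iterate_succ_apply', show (fun x => x.choose n : ℕ → ℤ) = fun x => x.choose (n + 0) from rfl,
      fwdDiff_iter_choose]
    simp [fwdDiff]
  rw [fwdDiff_iter_eq_sum_shift] at h1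
  rw [← Finset.sum_range_reflect]
  refine (Finset.sum_congr rfl fun j hj => ?_).trans h1
  have hj' : j ≤ n + 1 := Nat.lt_succ_iff.1 (Finset.mem_range.1 hj)
  rw [show n + 2 - 1 - j = n + 1 - j by omega, show n + 1 - (n + 1 - j) = j by omega,
    Nat.choose_symm hj']
  simp

/-- The classes of `pr_* O(a)`, computed by any push-forward map. -/
theorem eq_choose [IsNoetherian T] (h : SGA6.Kvb (KRR.PY n T) →+ SGA6.Kvb T)
    (hreg : ∀ F : (KRR.PY n T).Modules, FlatMod.IsFinLocFree F → KRR.IsRegSheaf n T F →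
      h (KRR.cl (KRR.PY n T) F) = pushCl n T F) (m : ℕ) :
    h (KRR.cl (KRR.PY n T) (KRR.twF n T ((m : ℤ) - n) (Coh.structureModule (KRR.PY n T)))) =
      (m.choose n : ℤ) • KRR.cl T (Coh.structureModule T) := by
  let O := Coh.structureModule (KRR.PY n T)
  let u : ℤ → SGA6.Kvb T := fun a => h (KRR.cl (KRR.PY n T) (KRR.twF n T a O))
  have hu : ∀ a : ℤ, -(n : ℤ) ≤ a → u a = pushCl n T (KRR.twF n T a O) := fun a ha =>
    eq_pushCl h hreg (acy_twists n T ha)
  change u ((m : ℤ) - n) = _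
  induction m using Nat.strong_induction_on with
  | _ m ih =>
  rcases Nat.lt_trichotomy m n with hm | rfl | hm
  · rw [Nat.choose_eq_zero_of_lt hm, hu _ (by omega)]
    have hz := isZero_push_twist n T (i := n - m) (by omega) (by omega)
    rw [show -((n - m : ℕ) : ℤ) = (m : ℤ) - n by omega] at hz
    simpa [pushCl] using clSub_zero (P := KRR.vbP T) hz (LocFree.isFinLocFree_zero hz)
  · rw [Nat.choose_self, sub_self, hu _ (by omega)]
    obtain ⟨e⟩ := nonempty_push_structure m T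
    refine Eq.trans ?_ (one_zsmul _).symm
    exact LambdaVb.kcl_iso ((Scheme.Modules.pushforward (KRR.pr m T)).mapIso
      (RegSheaf.nonempty_twF_zero m T O).some ≪≫ e)
      (isFinLocFree_push ((koszClosed_acyP m T).iso (nonempty_G_iso_twF O 0).some
        (acyP_twist m T (by omega))))
  · obtain ⟨y, rfl⟩ : ∃ y, m = y + (n + 1) := ⟨m - (n + 1), by omega⟩
    have hb : -(n : ℤ) ≤ (y : ℤ) - n := by omega
    have e1 := f_koszul_relation' (koszClosed_acyP n T) (pushCl n T) (fun S => pushCl_add S)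
      (acy_twists n T hb)
    rw [← hu _ hb] at e1
    have e2 : ∀ j ∈ Finset.range (n + 1), pushCl n T (G (KRR.twF n T ((y : ℤ) - n) O) (((n + 1 : ℕ) : ℤ) - j)) =
        u (((y + (n + 1 - j) : ℕ) : ℤ) - n) := fun j hj => by
      have hj' : j ≤ n := Nat.lt_succ_iff.1 (Finset.mem_range.1 hj)
      rw [hu _ (by omega)]
      refine LambdaVb.kcl_iso ((Scheme.Modules.pushforward (KRR.pr n T)).mapIso ?_)
        (isFinLocFree_push (acy_twists n T hb _ (by omega)))
      exact (nonempty_G_iso_twF _ _).some ≪≫ (RegSheaf.nonempty_twF_twF n T _ _ _ (by omega) O).some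
    rw [Finset.sum_congr rfl fun j hj => by rw [e2 j hj]] at e1
    have e3 := sum_alt_choose_eq_zero n y
    rw [Finset.sum_range_succ] at e3
    rw [Finset.sum_range_succ'] at e1
    rw [Finset.sum_range_succ'] at e3
    simp only [pow_zero, Nat.choose_zero_right, Nat.sub_zero, one_smul, Nat.cast_one, mul_one, one_mul] at e1 e3
    have e4 : ∀ j ∈ Finset.range n, (-1 : ℤ) ^ (j + 1) • (n + 1).choose (j + 1) •
        u (((y + (n + 1 - (j + 1)) : ℕ) : ℤ) - n) =
        ((-1 : ℤ) ^ (j + 1) * (n + 1).choose (j + 1) * ((y + (n + 1 - (j + 1))).choose n : ℤ)) •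
          KRR.cl T (Coh.structureModule T) := fun j _ => by
      rw [ih (y + (n + 1 - (j + 1))) (by omega), ← natCast_zsmul _ ((n + 1).choose (j + 1)), ← mul_smul,
        ← mul_smul, mul_assoc]
    rw [Finset.sum_congr rfl e4, ← Finset.sum_smul, ih y (by omega)] at e1
    have h1 : (-1 : ℤ) ^ n • (y.choose n : ℤ) • KRR.cl T (Coh.structureModule T) =
        (∑ j ∈ Finset.range n, (-1 : ℤ) ^ (j + 1) * ((n + 1).choose (j + 1) : ℤ) *
          ((y + (n + 1 - (j + 1))).choose n : ℤ)) • KRR.cl T (Coh.structureModule T) +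
          u (((y + (n + 1) : ℕ) : ℤ) - n) := by
      rw [e1, ← mul_smul, ← pow_add, Even.neg_one_pow ⟨n, rfl⟩, one_smul]
    simp only [pow_succ, mul_neg, mul_one, neg_mul, Nat.sub_self, Nat.choose_self, Nat.cast_one, add_zero,
      one_mul] at e3 h1
    rw [← sub_eq_iff_eq_add'] at h1
    rw [← h1, ← mul_smul, ← sub_smul]
    congr 1
    linarith

universe v v'

/-- A push-forward map on models as a map on `K₀`. -/
theorem exists_transfer {KP : Type v} {KY : Type v'} [CommRing KP] [CommRing KY]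
    (φP : SGA6.Kvb (KRR.PY n T) →+ KP) (φY : SGA6.Kvb T →+ KY) (hY : Function.Bijective φY) (g : KP →+ KY)
    (hg : KRR.IsPushPr n T φP φY g) :
    ∃ h : SGA6.Kvb (KRR.PY n T) →+ SGA6.Kvb T,
      (∀ x, g (φP x) = φY (h x)) ∧
      ∀ F : (KRR.PY n T).Modules, FlatMod.IsFinLocFree F → KRR.IsRegSheaf n T F →
        h (KRR.cl (KRR.PY n T) F) = pushCl n T F := by
  let e := AddEquiv.ofBijective φY hY
  refine ⟨e.symm.toAddMonoidHom.comp (g.comp φP), fun x => (e.apply_symm_apply _).symm, fun F hF hr => ?_⟩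
  exact e.symm_apply_eq.2 (hg F hF hr)

theorem g_twist [IsNoetherian T] {KP : Type v} {KY : Type v'} [CommRing KP] [CommRing KY]
    (φP : SGA6.Kvb (KRR.PY n T) →+ KP) (φY : SGA6.Kvb T →+ KY) (hY : Function.Bijective φY)
    (h1 : φY (KRR.cl T (Coh.structureModule T)) = 1) (g : KP →+ KY)
    (hg : KRR.IsPushPr n T φP φY g) (m : ℕ) (a : ℤ) (ha : a = (m : ℤ) - n) :
    g (φP (KRR.cl (KRR.PY n T) (KRR.twF n T a (Coh.structureModule (KRR.PY n T))))) =
      (m.choose n : KY) := by
  subst ha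
  obtain ⟨h, hh, hreg⟩ := exists_transfer φP φY hY g hg
  rw [hh, eq_choose h hreg m, map_zsmul, h1, zsmul_one, Int.cast_natCast]

end Groth.KTheory.RegKoszul
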