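import Groth.Agent.KTheory.RegKoszulBC
import Groth.Agent.KTheory.LambdaVb
import Groth.Agent.LocFree.SES
import Groth.Agent.LocFree.Tensor
import Groth.Agent.FlatStrata.ProjSpace
import Groth.Agent.Ega2Proj.SpansFinite
import Groth.Agent.Ega2Proj.TwistExtend
import Groth.Agent.PicAux.Powers
import Groth.Agent.ProjFormula.Derived
import Groth.Agent.PnCoh.AmpleVanishing
import Groth.Agent.Ega2Proj.TwistGen

/-!
# High twists of finite locally free modules are acyclic (no finiteness assumption on the base)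
-/

universe u

open CategoryTheory CategoryTheory.Limits AlgebraicGeometry Opposite TopologicalSpace
open Groth.CohBase Groth.Variety2.Reg Groth.PicAux

namespace Groth.KTheory.RegKoszul

section Ample

variable {U : Scheme.{u}}

theorem hv_tensor_freeMod {P : U.Modules} (hP : FlatMod.IsFinLocFree P) (r : ℕ) {q : ℕ}
    (h : HV (⊤ : U.Opens) P q) : HV (⊤ : U.Opens) (CohB1.tensorMod P (FlatMod.freeMod U r)) q := by
  haveI := Abelian.hasFiniteBiproducts (C := U.Modules)
  let τ := Groth.CohTwo.SheafHomIso.tF P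
  haveI := Groth.ProjFormula.additive_tF P
  refine HV.of_iso ((τ.mapBiproduct fun _ : Fin r => Coh.structureModule U).symm ≪≫
    τ.mapIso (biproduct.isoCoproduct _)) ?_
  exact hv_biproduct _ fun _ => HV.of_iso (SecTwist.unitorR P).symm h

/-- On a scheme with an ample module whose powers are acyclic, high twists of bundles are acyclic. -/
theorem exists_hv_twist {n : ℕ} {L : U.Modules} (hL : CohB1.IsAmple L)
    (hO : ∀ k q : ℕ, 1 ≤ q → HV (⊤ : U.Opens) (CohB1.tensorPow L k) q)
    (htop : ∀ (M : U.Modules), M.IsQuasicoherent → ∀ q, n < q → HV (⊤ : U.Opens) M q) :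
    ∀ (e q : ℕ), 1 ≤ q → n < q + e → ∀ E : U.Modules, FlatMod.IsFinLocFree E →
      ∃ N, ∀ k, N ≤ k → HV (⊤ : U.Opens) (CohB1.tensorMod E (CohB1.tensorPow L k)) q := by
  have hLp : ∀ k, FlatMod.IsFinLocFree (CohB1.tensorPow L k) := fun k => by
    induction k with
    | zero => exact Groth.LocFree.isFinLocFree_unit U
    | succ k ih =>
      exact Groth.LocFree.isFinLocFree_tensorMod ih (Groth.LocFree.isFinLocFree_of_rank
        (Groth.LocFree.isInvertible_iff_ofRank_one.1 hL.1))
  intro e
  induction e with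
  | zero =>
    intro q _ hq E hE
    exact ⟨0, fun k _ => htop _ (LocFree.isQCoh (Groth.LocFree.isFinLocFree_tensorMod hE (hLp k))) q hq⟩
  | succ e ih =>
    intro q hq hqe E hE
    haveI := hL.2.1
    haveI := LocFree.isQCoh hE
    have hEft : CohB1.IsFT E :=
      (LocFree.isCoh hE).2
    obtain ⟨a, ha⟩ := Groth.Ega2Proj.exists_spans_twist hL E hEft
    have hEa := Groth.LocFree.isFinLocFree_tensorMod hE (hLp a)
    haveI := LocFree.isQCoh hEa
    obtain ⟨r, p, hp⟩ := Groth.Ega2Proj.exists_epi_freeMod_of_spans _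
      (LocFree.isCoh hEa).2 (ha a le_rfl)
    haveI := hp
    have hfree := Groth.LocFree.isFinLocFree_freeMod U r
    have hK := Groth.LocFree.isFinLocFree_left (kernel_shortExact p) hfree hEa
    obtain ⟨N, hN⟩ := ih (q + 1) (by omega) (by omega) _ hK
    refine ⟨N + a, fun j hj => ?_⟩
    obtain ⟨k, rfl⟩ : ∃ k, j = a + k := ⟨j - a, by omega⟩
    let S := ShortComplex.mk (kernel.ι p) p (kernel.condition p)
    haveI : S.X₁.IsQuasicoherent := LocFree.isQCoh hK
    haveI : S.X₂.IsQuasicoherent := LocFree.isQCoh hfree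
    haveI : S.X₃.IsQuasicoherent := LocFree.isQCoh hEa
    have hS := LambdaVb.shortExact_tensor (hLp k) (S := S) (kernel_shortExact p)
    have h3 : HV (⊤ : U.Opens) (CohB1.tensorMod (CohB1.tensorPow L k)
        (CohB1.tensorMod E (CohB1.tensorPow L a))) q :=
      hVanish_third (shortExact_toAb hS)
        (HV.of_iso (exists_braiding _ _).choose (hN k (by omega)))
        (hv_tensor_freeMod (hLp k) r (hO k q hq))
    refine HV.of_iso ?_ h3
    exact (exists_braiding _ _).choose ≪≫ (exists_associator _ _ _).choose ≪≫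
      PicGrp.tensorModIso (Iso.refl E) (Groth.PicAux.tensorPow_add L a k).some.symm

end Ample

section Proj

theorem poly_span (n : ℕ) (R : Type u) [CommRing R] :
    (HomogeneousIdeal.irrelevant (CohB1.polyGrading n R)).toIdeal ≤
      Ideal.span (CohB1.polyGrading n R 1 : Set _) :=
  (PnCoh.irrelevant_le_span_X n R).trans (Ideal.span_mono (by
    rintro _ ⟨i, rfl⟩
    exact (MvPolynomial.mem_homogeneousSubmodule _ _).mpr (MvPolynomial.isHomogeneous_X R _)))

theorem isAmple_twistProjSpace_one (n : ℕ) (R : Type u) [CommRing R] :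
    CohB1.IsAmple (Twist.twistProjSpace n R 1) := by
  classical
  refine Groth.Ega2Proj.isAmple_twist_one
    ((Set.finite_range (fun i => (MvPolynomial.X i : MvPolynomial (Fin (n + 1)) R))).toFinset)
    (fun f hf => ?_) ?_
  · obtain ⟨i, rfl⟩ := (Set.Finite.mem_toFinset _).1 hf
    exact (MvPolynomial.mem_homogeneousSubmodule _ _).mpr (MvPolynomial.isHomogeneous_X R _)
  · rw [Set.Finite.coe_toFinset]
    refine (PnCoh.irrelevant_le_span_X n R).trans (Ideal.span_mono ?_)
    rintro _ ⟨i, rfl⟩
    exact ⟨i.down, rfl⟩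

variable {n : ℕ} {T : Scheme.{u}}

/-- High twists of a bundle have no higher cohomology over an affine open of the base. -/
theorem exists_hv_twF {V : T.Opens} (hV : IsAffineOpen V) {E : (KRR.PY n T).Modules}
    (hE : FlatMod.IsFinLocFree E) {q : ℕ} (hq : 1 ≤ q) :
    ∃ N : ℕ, ∀ k, N ≤ k → HV (KRR.pr n T ⁻¹ᵁ V) (KRR.twF n T (k : ℤ) E) q := by
  let R := Γ(T, V)
  obtain ⟨ι, _, hι1, -, hr⟩ := exists_chart (n := n) hV
  let L := Twist.twistProjSpace n R 1
  obtain hpow := PnCoh.nonempty_twist_pow (CohB1.polyGrading n R) (poly_span n R)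
  obtain ⟨N, hN⟩ := exists_hv_twist (n := n) (isAmple_twistProjSpace_one n R)
    (fun k j hj => HV.of_iso (hpow k).some.symm ((subsingleton_H_iff _ j).1
      (PnCoh.subsingleton_HH_twist (n := n) (R := R) (k : ℤ) j (by omega) (by omega))))
    (fun M hM j hj => by
      haveI := hM
      exact (subsingleton_H_iff _ j).1 (PnCoh.subsingleton_HH_of_lt n R M hj))
    (n + 1) q hq (by omega) _ (Groth.LocFree.isFinLocFree_pullback ι hE)
  refine ⟨N, fun k hk => ?_⟩
  rw [← hr]
  refine (hVanish_restrict_iff ι _ q ⊤).1 ?_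
  refine HV.of_iso ?_ (hN k hk)
  let eO : (Scheme.Modules.pullback ι).obj (Twist.twistOver n T (k : ℤ)) ≅
      Twist.twistProjSpace n R (k : ℤ) :=
    (Scheme.Modules.pullbackComp ι (prZ n T)).app _ ≪≫
      (Scheme.Modules.pullbackCongr (hι1.trans (PnCoh.overIso_hom_fst n R).symm)).app _ ≪≫
      ((Scheme.Modules.pullbackComp _ _).app _).symm ≪≫
      (PnCoh.nonempty_pullback_overIso_twist n R (k : ℤ)).some
  exact PicGrp.tensorModIso (Iso.refl _) ((hpow k).some ≪≫ eO.symm) ≪≫
    (exists_braiding _ _).choose ≪≫ (exists_pullback_tensorMod ι _ _).choose.symm ≪≫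
    ((Scheme.Modules.restrictFunctorIsoPullback ι).app _).symm

end Proj

end Groth.KTheory.RegKoszul
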