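import Groth.Agent.KTheory.ProjBdlTwist
import Groth.Agent.KTheory.RegKoszulPush
import Groth.Agent.KTheory.RegKoszulSerre
import Groth.Agent.CohBase.RelAmpleVanish
import Groth.Agent.ProjBundleCoh.Vanish

/-!
# Charts of a projective bundle, and transfer of vanishing to relative projective space
-/

set_option autoImplicit false
set_option linter.style.haveILetI false
universe u

open CategoryTheory CategoryTheory.Limits AlgebraicGeometry Opposite TopologicalSpace
open Groth.CohBase Groth.PicAux Groth.Variety2.Reg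

namespace Groth.KTheory.ProjBdl

open Groth.KTheory.RegKoszul

variable {T P : Scheme.{u}} {n : ℕ} {π : P ⟶ T} {A : LPair P}

/-- `π⁻¹V` is projective space over `V`, `L` being `O(1)`. -/
structure Chart (n : ℕ) (π : P ⟶ T) (A : LPair P) (V : T.Opens) where
  hV : IsAffineOpen V
  ψ : KRR.PY n (Spec Γ(T, V)) ⟶ P
  isOpenImmersion : IsOpenImmersion ψ
  comp : ψ ≫ π = KRR.pr n (Spec Γ(T, V)) ≫ hV.fromSpec
  range : ψ ''ᵁ ⊤ = π ⁻¹ᵁ V
  tw : Nonempty ((Scheme.Modules.pullback ψ).obj A.L ≅ Twist.twistOver n (Spec Γ(T, V)) 1)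

attribute [instance] Chart.isOpenImmersion

/-- The base is covered by charts. -/
def HasCharts (n : ℕ) (π : P ⟶ T) (A : LPair P) : Prop :=
  ∀ x : T, ∃ V : T.Opens, x ∈ V ∧ Nonempty (Chart n π A V)

namespace Chart

variable {V : T.Opens} (C : Chart n π A V)

theorem hv_iff (M : P.Modules) (q : ℕ) :
    HV (π ⁻¹ᵁ V) M q ↔
      HV (KRR.pr n (Spec Γ(T, V)) ⁻¹ᵁ ⊤) ((Scheme.Modules.pullback C.ψ).obj M) q := by
  rw [← C.range]
  exact ⟨fun h => HV.of_iso ((Scheme.Modules.restrictFunctorIsoPullback C.ψ).app M)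
      ((hVanish_restrict_iff C.ψ M q ⊤).2 h),
    fun h => (hVanish_restrict_iff C.ψ M q ⊤).1
      (HV.of_iso ((Scheme.Modules.restrictFunctorIsoPullback C.ψ).app M).symm h)⟩

theorem pullback_natPow (m : ℕ) : Nonempty ((Scheme.Modules.pullback C.ψ).obj (pw A (m : ℤ)) ≅
    Twist.twistOver n (Spec Γ(T, V)) (m : ℤ)) := by
  obtain ⟨a⟩ := pullback_tensorPow C.ψ A.L m
  obtain ⟨b⟩ := nonempty_tensorPow_iso C.tw.some (n := m)
  obtain ⟨c⟩ := Agent.S2427.nonempty_tensorPow_twistOver n (Spec Γ(T, V)) m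
  exact ⟨a ≪≫ b ≪≫ c⟩

theorem pullback_pw : ∀ a : ℤ, Nonempty ((Scheme.Modules.pullback C.ψ).obj (pw A a) ≅
    Twist.twistOver n (Spec Γ(T, V)) a)
  | Int.ofNat m => C.pullback_natPow m
  | Int.negSucc m => by
    obtain ⟨e⟩ := C.pullback_natPow (m + 1)
    have h : ClSub.IsInverseOf (pw A ((m + 1 : ℕ) : ℤ)) (pw A (Int.negSucc m)) := by
      obtain ⟨s⟩ := pw_add A ((m + 1 : ℕ) : ℤ) (Int.negSucc m)
      rw [show ((m + 1 : ℕ) : ℤ) + Int.negSucc m = 0 by omega] at s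
      exact ⟨s ≪≫ (pw_zero A).some⟩
    obtain ⟨w⟩ := isInverseOf_pullback C.ψ h
    obtain ⟨t⟩ := RegSheaf.nonempty_twistOver_add n (Spec Γ(T, V)) ((m + 1 : ℕ) : ℤ) (Int.negSucc m)
    obtain ⟨z⟩ := RegSheaf.nonempty_structure_of_idem (RegSheaf.isInvertible_twistOver n (Spec Γ(T, V)) 0)
      (by simpa using RegSheaf.nonempty_twistOver_add n (Spec Γ(T, V)) 0 0)
    refine isInverseOf_unique (L := Twist.twistOver n (Spec Γ(T, V)) ((m + 1 : ℕ) : ℤ))
      ⟨PicGrp.tensorModIso e.symm (Iso.refl _) ≪≫ w⟩ ⟨t ≪≫ ?_⟩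
    rw [show ((m + 1 : ℕ) : ℤ) + Int.negSucc m = 0 by omega]
    exact z

theorem pullback_twB (a : ℤ) (M : P.Modules) : Nonempty ((Scheme.Modules.pullback C.ψ).obj (twB A a M) ≅
    KRR.twF n (Spec Γ(T, V)) a ((Scheme.Modules.pullback C.ψ).obj M)) :=
  ⟨(exists_pullback_tensorMod C.ψ (pw A a) M).choose ≪≫
    PicGrp.tensorModIso (C.pullback_pw a).some (Iso.refl _)⟩

theorem pullback_pull (N : T.Modules) :
    Nonempty ((Scheme.Modules.pullback C.ψ).obj ((Scheme.Modules.pullback π).obj N) ≅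
      (Scheme.Modules.pullback (KRR.pr n (Spec Γ(T, V)))).obj
        ((Scheme.Modules.pullback C.hV.fromSpec).obj N)) :=
  ⟨(Scheme.Modules.pullbackComp C.ψ π).app N ≪≫ (Scheme.Modules.pullbackCongr C.comp).app N ≪≫
    ((Scheme.Modules.pullbackComp (KRR.pr n (Spec Γ(T, V))) C.hV.fromSpec).app N).symm⟩

/-- The isomorphism of projective space with the preimage. -/
theorem exists_resMap : ∃ e : KRR.PY n (Spec Γ(T, V)) ≅ (π ⁻¹ᵁ V : P.Opens).toScheme,
    π ∣_ V = e.inv ≫ KRR.pr n (Spec Γ(T, V)) ≫ C.hV.isoSpec.inv := by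
  have hr : Set.range C.ψ = Set.range (π ⁻¹ᵁ V).ι := by
    rw [Scheme.Opens.range_ι, ← C.range, Scheme.Hom.image_top_eq_opensRange]
    rfl
  refine ⟨IsOpenImmersion.isoOfRangeEq C.ψ (π ⁻¹ᵁ V).ι hr, ?_⟩
  rw [← cancel_mono V.ι, morphismRestrict_ι, Category.assoc, Category.assoc,
    IsAffineOpen.isoSpec_inv_ι, ← C.comp, IsOpenImmersion.isoOfRangeEq_inv_fac_assoc]

end Chart

theorem facts (hA : HasCharts n π A) :
    IsProper π ∧ Flat π ∧ LocallyOfFinitePresentation π := by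
  choose V hx C using hA
  have hU : ⨆ x, V x = ⊤ := eq_top_iff.2 fun y _ => Opens.mem_iSup.2 ⟨y, hx y⟩
  refine ⟨(IsZariskiLocalAtTarget.iff_of_iSup_eq_top (P := @IsProper) V hU).2 fun x => ?_,
    (IsZariskiLocalAtTarget.iff_of_iSup_eq_top (P := @Flat) V hU).2 fun x => ?_,
    (IsZariskiLocalAtTarget.iff_of_iSup_eq_top (P := @LocallyOfFinitePresentation) V hU).2 fun x => ?_⟩
  all_goals
    obtain ⟨e, he⟩ := (C x).some.exists_resMap
    obtain ⟨_, _, _⟩ := pr_facts n (Spec Γ(T, V x))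
    rw [he]
    infer_instance

/-- Vanishing over the preimages of all affine opens. -/
def Van (π : P ⟶ T) (M : P.Modules) (q : ℕ) : Prop :=
  ∀ V : T.Opens, IsAffineOpen V → HV (π ⁻¹ᵁ V) M q

theorem Van.of_iso {M N : P.Modules} (e : M ≅ N) {q : ℕ} (h : Van π M q) : Van π N q :=
  fun V hV => HV.of_iso e (h V hV)

/-- Vanishing is local on the base. -/
theorem van_of_local [QuasiCompact π] [QuasiSeparated π] {M : P.Modules} [M.IsQuasicoherent] {q : ℕ}
    (h : ∀ x : T, ∃ V : T.Opens, IsAffineOpen V ∧ x ∈ V ∧ HV (π ⁻¹ᵁ V) M q) : Van π M q := by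
  intro U hU
  let J := injectiveResolution M
  obtain ⟨a⟩ := nonempty_RpushAb_iso_homology π J q
  haveI : (toAbF T).Additive := inferInstanceAs (SheafOfModules.toSheaf.{u} T.ringCatSheaf).Additive
  have hz : IsZero ((Coh.RpushAb π q).obj (Coh.toAb M)) :=
    ((toAbF T).map_isZero (isZero_homology_pushCx π J q h)).of_iso a
  obtain ⟨e⟩ := nonempty_RpushAb_sections π q (M := M) hU
  have := AddCommGrpCat.subsingleton_of_isZero
    (((sheafToPresheaf _ _ ⋙ (evaluation _ _).obj (op U))).map_isZero hz)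
  exact @Equiv.subsingleton _ _ e.symm.toEquiv this

theorem van_of_charts (hA : HasCharts n π A) {M : P.Modules} (hM : Coh.IsQCoh M) {q : ℕ}
    (h : ∀ (V : T.Opens) (C : Chart n π A V),
      RegSheaf.Van n (Spec Γ(T, V)) ((Scheme.Modules.pullback C.ψ).obj M) q) : Van π M q := by
  obtain ⟨_, _, _⟩ := facts hA
  haveI : M.IsQuasicoherent := hM
  refine van_of_local fun x => ?_
  obtain ⟨V, hx, ⟨C⟩⟩ := hA x
  exact ⟨V, C.hV, hx, (C.hv_iff M q).2 (h V C ⊤ (isAffineOpen_top _))⟩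

theorem van_above (hA : HasCharts n π A) {M : P.Modules} (hM : Coh.IsQCoh M) {q : ℕ} (hq : n < q) :
    Van π M q := by
  haveI : M.IsQuasicoherent := hM
  exact van_of_charts hA hM fun V C =>
    RegKoszul.van_above (Groth.QCohMod.isQCoh_pullback_obj C.ψ M) hq

/-- `π^* N (d)` is acyclic in the degree `i`. -/
theorem van_twB_pullback (hA : HasCharts n π A) {N : T.Modules} (hN : Coh.IsQCoh N) {i : ℕ} {d : ℤ}
    (hi : 1 ≤ i ∨ d < 0) (hd : -(n : ℤ) ≤ d ∨ n < i) :
    Van π (twB A d ((Scheme.Modules.pullback π).obj N)) i := by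
  haveI : N.IsQuasicoherent := hN
  exact van_of_charts hA (isQCoh_twB A d (Groth.QCohMod.isQCoh_pullback_obj π N)) fun V C =>
    (van_twF_pullback' _ (Groth.QCohMod.isQCoh_pullback_obj C.hV.fromSpec N) hi hd).of_iso
      ((twF_iso d (C.pullback_pull N).some.symm).some ≪≫ (C.pullback_twB d _).some.symm)

/-- The chart of a projective bundle over an affine open with a basis. -/
theorem exists_chart_of_basis {E : T.Modules} {O1 : P.Modules}
    {q : (Scheme.Modules.pullback π).obj E ⟶ O1} (hPB : KRR.IsProjBundle π E O1 q)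
    (hA : A.L = O1) {V : T.Opens} (hV : IsAffineOpen V) {e : Fin (n + 1) → Γ(E, V)}
    (he : Basis' E V e) : Nonempty (Chart n π A V) := by
  obtain ⟨r, hr, hrπ, ⟨τ⟩⟩ := Groth.ProjBundleCoh.exists_iso_projSpace he hPB hV
  let W : P.Opens := π ⁻¹ᵁ V
  let o := PnCoh.overIso n Γ(T, V)
  let g : KRR.PY n (Spec Γ(T, V)) ⟶ W.toScheme := o.inv ≫ inv r
  haveI : IsIso g := by
    haveI := hr
    exact IsIso.comp_isIso
  refine ⟨⟨hV, g ≫ W.ι, inferInstance, ?_, ?_, ?_⟩⟩
  · rw [Category.assoc, ← hrπ]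
    simp only [g, Category.assoc, IsIso.inv_hom_id_assoc]
    rw [← Category.assoc]
    congr 1
    rw [Iso.inv_comp_eq]
    exact (PnCoh.overIso_hom_toBase n Γ(T, V)).symm
  · rw [Scheme.Hom.image_top_eq_opensRange, Scheme.Hom.opensRange_comp_of_isIso,
      Scheme.Opens.opensRange_ι]
  · rw [hA]
    obtain ⟨t⟩ := PnCoh.nonempty_pullback_overIso_twist n Γ(T, V) 1
    exact ⟨((Scheme.Modules.pullbackComp g W.ι).app O1).symm ≪≫
      (Scheme.Modules.pullback g).mapIso (((Scheme.Modules.restrictFunctorIsoPullback W.ι).app O1).symm ≪≫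
        τ.symm ≪≫ (Scheme.Modules.pullback r).mapIso t.symm ≪≫ (Scheme.Modules.pullbackComp r o.hom).app _) ≪≫
      (Scheme.Modules.pullbackComp g (r ≫ o.hom)).app _ ≪≫
      (Scheme.Modules.pullbackCongr (show g ≫ r ≫ o.hom = 𝟙 _ by simp [g])).app _ ≪≫
      (Scheme.Modules.pullbackId _).app _⟩

theorem hasCharts_of_isProjBundle {E : T.Modules} (hE : FlatMod.IsFinLocFreeOfRank (n + 1) E)
    {O1 : P.Modules} {q : (Scheme.Modules.pullback π).obj E ⟶ O1}
    (hPB : KRR.IsProjBundle π E O1 q) (hA : A.L = O1) : HasCharts n π A := fun x => by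
  obtain ⟨V, e, hV, hx, he⟩ := Groth.LocFree.exists_affine_basis_ofRank hE x
  exact ⟨V, hx, exists_chart_of_basis hPB hA hV he⟩

end Groth.KTheory.ProjBdl
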