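import Groth.Agent.KTheory.ProjBdlTwist
import Groth.Agent.KTheory.KvbModel

/-!
# The projective bundle of a bundle of rank zero
-/

set_option autoImplicit false
set_option linter.style.haveILetI false
universe u

open CategoryTheory CategoryTheory.Limits AlgebraicGeometry

namespace Groth.KTheory.ProjBdl

open Groth.LocFree LambdaVb

variable {T P : Scheme.{u}}

theorem isEmpty_of_rank_zero {π : P ⟶ T} {E : T.Modules} (hE : FlatMod.IsFinLocFreeOfRank 0 E)
    {O1 : P.Modules} (hO : FlatMod.IsFinLocFreeOfRank 1 O1)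
    (q : (Scheme.Modules.pullback π).obj E ⟶ O1) (hq : Epi q) : IsEmpty P := by
  haveI := hq
  have hz : IsZero O1 := IsZero.of_epi q ((Scheme.Modules.pullback π).map_isZero (KvbModel.isZero_of_rank_zero hE))
  refine ⟨fun x => ?_⟩
  haveI : Subsingleton (O1.presheaf.stalk x) :=
    AddCommGrpCat.subsingleton_of_isZero ((QCohMod.stalk x).map_isZero hz)
  exact zero_ne_one ((Module.finrank_zero_of_subsingleton).symm.trans (finrank_stalk hO x))

theorem isZero_of_isEmpty [IsEmpty P] (M : P.Modules) : IsZero M := by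
  refine KvbModel.isZero_of_rank_zero ?_
  rw [isFinLocFreeOfRank_iff]
  exact fun x => isEmptyElim x

theorem kvb_eq_zero [IsEmpty P] (x : SGA6.Kvb P) : x = 0 := by
  suffices h : AddMonoidHom.id (SGA6.Kvb P) = 0 from congr($h x)
  exact k0sub_hom_ext fun M _ => KvbModel.kcl_zero (isZero_of_isEmpty M)

end Groth.KTheory.ProjBdl
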