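import Groth.Agent.KTheory.ProjBdlKoszul
import Groth.Agent.KTheory.KvbPull

/-!
# Generation of `K₀` of a projective bundle
-/

set_option autoImplicit false
set_option linter.style.haveILetI false
universe u w

open CategoryTheory CategoryTheory.Limits AlgebraicGeometry Opposite TopologicalSpace
open Groth.CohBase Groth.PicAux Groth.Variety2.Reg

namespace Groth.KTheory.ProjBdl

open Groth.KTheory.RegKoszul Groth.LocFree LambdaVb

variable {T P : Scheme.{u}} {π : P ⟶ T} {A : LPair P} {n : ℕ}

/-- `kcl` is additive on short exact sequences. -/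
theorem kcl_rel {X : Scheme.{u}} {S : ShortComplex X.Modules} (hS : S.ShortExact)
    (h₁ : FlatMod.IsFinLocFree S.X₁) (h₂ : FlatMod.IsFinLocFree S.X₂) (h₃ : FlatMod.IsFinLocFree S.X₃) :
    kcl S.X₂ = kcl S.X₁ + kcl S.X₃ :=
  clSub_rel (P := fun M : X.Modules => FlatMod.IsFinLocFree M) S hS h₁ h₂ h₃

/-- The inverse of the determinant cancels. -/
theorem exists_det_cancel (Q : LineQuot π A n) : ∃ D : T.Modules, FlatMod.IsFinLocFree D ∧
    Nonempty (CohB1.tensorMod D (extPow (n + 1) Q.E) ≅ Coh.structureModule T) := by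
  haveI := KTheory.LocFree.isQCoh (isFinLocFree_of_rank Q.hE)
  obtain ⟨D, hD, h⟩ := exists_isInverseOf (isInvertible_det Q.hE (isExtPow_extPow (n + 1) Q.E))
  exact ⟨D, isFinLocFree_of_rank (isInvertible_iff_ofRank_one.1 hD), isInverseOf_symm h⟩

theorem rel_Z (Q : LineQuot π A n) {N : T.Modules} (hN : FlatMod.IsFinLocFree N) (a : ℤ) (i : ℕ) :
    kcl (twB A a ((Scheme.Modules.pullback π).obj (CohB1.tensorMod N (extPow (i + 1) Q.E)))) =
      kcl (Q.Z N a (i + 1)) + kcl (Q.Z N (a + 1) i) := by
  obtain ⟨f, g, w, h⟩ := Q.exists_shortExact hN a i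
  exact kcl_rel h (Q.isFinLocFree_Z hN _ _) (isFinLocFree_twB A a (isFinLocFree_pullback π
    (isFinLocFree_tensorMod hN (isFinLocFree_extPow (isFinLocFree_of_rank Q.hE) _))))
    (Q.isFinLocFree_Z hN _ _)

theorem kcl_Z_top (Q : LineQuot π A n) (N : T.Modules) (a : ℤ) : kcl (Q.Z N a (n + 1)) = 0 :=
  KvbModel.kcl_zero (Q.isZero_Z_top a)

theorem kcl_Z_zero (Q : LineQuot π A n) {N : T.Modules} (hN : FlatMod.IsFinLocFree N) (a : ℤ) :
    kcl (Q.Z N a 0) = kcl (twB A a ((Scheme.Modules.pullback π).obj N)) :=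
  kcl_iso (Q.nonempty_Z_zero a).some (Q.isFinLocFree_Z hN a 0)

/-- A homomorphism killing the `n + 1` consecutive twists kills all twists. -/
theorem kill_twists (Q : LineQuot π A n) {X : Type w} [AddCommGroup X] (D : SGA6.Kvb P →+ X)
    (h : ∀ (N : T.Modules), FlatMod.IsFinLocFree N → ∀ i ≤ n,
      D (kcl (twB A (-(i : ℤ)) ((Scheme.Modules.pullback π).obj N))) = 0)
    {N : T.Modules} (hN : FlatMod.IsFinLocFree N) (a : ℤ) :
    D (kcl (twB A a ((Scheme.Modules.pullback π).obj N))) = 0 := by
  obtain ⟨Dt, hDt, ⟨eDt⟩⟩ := exists_det_cancel Q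
  have hΛ : ∀ i, FlatMod.IsFinLocFree (extPow i Q.E) := fun i =>
    isFinLocFree_extPow (isFinLocFree_of_rank Q.hE) i
  let ok : ℤ → Prop := fun a => ∀ N : T.Modules, FlatMod.IsFinLocFree N →
    D (kcl (twB A a ((Scheme.Modules.pullback π).obj N))) = 0
  have down : ∀ a, (∀ j : ℕ, j ≤ n → ok (a + 1 + j)) → ok a := by
    intro a ha N hN
    have hM : FlatMod.IsFinLocFree (CohB1.tensorMod N Dt) := isFinLocFree_tensorMod hN hDt
    have chain : ∀ i ≤ n, D (kcl (Q.Z (CohB1.tensorMod N Dt) (a + 1 + ((n : ℤ) - i)) i)) = 0 := by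
      intro i
      induction i with
      | zero =>
        intro _
        rw [kcl_Z_zero Q hM]
        simpa using ha n le_rfl _ hM
      | succ i ih =>
        intro hi
        have hr := congrArg D (rel_Z Q hM (a + 1 + ((n : ℤ) - (i + 1 : ℕ))) i)
        have h2 := ha (n - (i + 1)) (by omega) _ (isFinLocFree_tensorMod hM (hΛ (i + 1)))
        rw [show ((n - (i + 1) : ℕ) : ℤ) = (n : ℤ) - (i + 1 : ℕ) by omega] at h2
        rw [h2, map_add, show a + 1 + ((n : ℤ) - (i + 1 : ℕ)) + 1 = a + 1 + ((n : ℤ) - i) by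
          push_cast; ring, ih (by omega), add_zero] at hr
        exact hr.symm
    have hr := congrArg D (rel_Z Q hM a n)
    have hc := chain n le_rfl
    rw [sub_self, add_zero] at hc
    rw [kcl_Z_top, map_add, map_zero, hc, add_zero] at hr
    rw [← hr]
    refine congrArg D (kcl_iso (twB_iso A a ((Scheme.Modules.pullback π).mapIso ?_)).some
      (isFinLocFree_twB A a (isFinLocFree_pullback π hN)))
    exact (SecTwist.unitorR N).symm ≪≫ PicGrp.tensorModIso (Iso.refl N) eDt.symm ≪≫
      (exists_associator N Dt _).choose.symm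
  have up : ∀ a, (∀ j : ℕ, j ≤ n → ok (a - 1 - j)) → ok a := by
    intro a ha N hN
    have chain : ∀ (k i : ℕ), i + k = n + 1 → D (kcl (Q.Z N (a - i) i)) = 0 := by
      intro k
      induction k with
      | zero =>
        intro i hi
        obtain rfl : i = n + 1 := hi
        rw [kcl_Z_top, map_zero]
      | succ k ih =>
        intro i hi
        have hr := congrArg D (rel_Z Q hN (a - (i + 1 : ℕ)) i)
        have h2 := ha i (by omega) _ (isFinLocFree_tensorMod hN (hΛ (i + 1)))
        rw [show a - 1 - (i : ℤ) = a - (i + 1 : ℕ) by push_cast; ring] at h2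
        rw [h2, map_add, ih (i + 1) (by omega), zero_add,
          show a - ((i + 1 : ℕ) : ℤ) + 1 = a - i by push_cast; ring] at hr
        exact hr.symm
    have h0 := chain (n + 1) 0 (by omega)
    rw [Nat.cast_zero, sub_zero, kcl_Z_zero Q hN] at h0
    exact h0
  have all : ∀ m : ℕ, ∀ a : ℤ, -(n : ℤ) - m ≤ a → a ≤ m → ok a := by
    intro m
    induction m with
    | zero =>
      intro a h1 h2 N hN
      obtain ⟨i, rfl⟩ : ∃ i : ℕ, a = -(i : ℤ) := ⟨(-a).toNat, by omega⟩
      exact h N hN i (by omega)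
    | succ m ih =>
      intro a h1 h2
      rcases lt_trichotomy a (-(n : ℤ) - m) with hlt | heq | hgt
      · exact down a fun j hj => ih _ (by omega) (by omega)
      · exact ih a (by omega) (by omega)
      · rcases le_or_gt a (m : ℤ) with hle | hgt'
        · exact ih a (by omega) hle
        · exact up a fun j hj => ih _ (by omega) (by omega)
  exact all a.natAbs a (by omega) (by omega) N hN

/-- The classes of `π^* N (-i)`, `i ≤ n`, generate. -/
theorem kill_all [CompactSpace T] (hA : HasCharts n π A) (Q : LineQuot π A n) {X : Type w}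
    [AddCommGroup X] (D : SGA6.Kvb P →+ X)
    (h : ∀ (N : T.Modules), FlatMod.IsFinLocFree N → ∀ i ≤ n,
      D (kcl (twB A (-(i : ℤ)) ((Scheme.Modules.pullback π).obj N))) = 0) : D = 0 := by
  refine k0sub_hom_ext fun M hM => ?_
  obtain ⟨d, hd⟩ := exists_regB_twB hA hM
  have hF := isFinLocFree_twB A (d : ℤ) hM
  have key : ∀ (m k : ℕ), n + 1 ≤ k + m → ∀ a : ℤ,
      D (kcl (twB A a (seqB π A (twB A (d : ℤ) M) k))) = 0 := by
    intro m
    induction m with
    | zero =>
      intro k hk a
      have hz : ∀ k, n + 1 ≤ k → IsZero (seqB π A (twB A (d : ℤ) M) k) := by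
        intro k hk
        induction k, hk using Nat.le_induction with
        | base => exact isZero_seqB_succ hA hF hd
        | succ k hk ih =>
          rw [seqB]
          exact ((DCoh.tensorBi (X := P)).obj (pw A 1)).map_isZero (IsZero.of_mono (kernel.ι _)
            ((Scheme.Modules.pullback π).map_isZero ((Scheme.Modules.pushforward π).map_isZero ih)))
      have hz' : IsZero (twB A a (seqB π A (twB A (d : ℤ) M) k)) :=
        ((DCoh.tensorBi (X := P)).obj (pw A a)).map_isZero (hz k hk)
      rw [KvbModel.kcl_zero hz', map_zero]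
    | succ m ih =>
      intro k hk a
      have hK := isFinLocFree_kerB hA hF hd k
      have hN := isFinLocFree_push_seqB hA hF hd k
      have hP := isFinLocFree_pullback π hN
      have hS := isFinLocFree_seqB hA hF hd k
      have hr := congrArg D (kcl_rel (shortExact_twB A a (shortExact_seqB hA hF hd k)
        (KTheory.LocFree.isQCoh hK) (KTheory.LocFree.isQCoh hP) (KTheory.LocFree.isQCoh hS))
        (isFinLocFree_twB A a hK) (isFinLocFree_twB A a hP) (isFinLocFree_twB A a hS))
      have h1 : D (kcl (twB A a (kernel (couB π (seqB π A (twB A (d : ℤ) M) k))))) = 0 := by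
        refine Eq.trans ?_ (ih (k + 1) (by omega) (a - 1))
        refine congrArg D (kcl_iso ?_ (isFinLocFree_twB A a hK))
        rw [seqB]
        exact (nonempty_twB_twB A (a - 1) 1 a (by ring) _).some.symm
      exact ((add_zero _).symm.trans ((congrArg₂ (· + ·) rfl h1.symm).trans ((add_comm _ _).trans
        ((map_add D _ _).symm.trans hr.symm)))).trans (kill_twists Q D h hN a)
  refine Eq.trans ?_ (key (n + 1) 0 (by omega) (-(d : ℤ)))
  refine congrArg D (kcl_iso ?_ hM)
  rw [seqB]
  exact (nonempty_twB_zero A M).some.symm ≪≫ (nonempty_twB_twB A (-(d : ℤ)) d 0 (by ring) M).some.symm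

end Groth.KTheory.ProjBdl
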