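import Groth.Agent.KTheory.ProjBdlReg

/-!
# The canonical resolution of a regular bundle on a projective bundle
-/

set_option autoImplicit false
set_option linter.style.haveILetI false
universe u

open CategoryTheory CategoryTheory.Limits AlgebraicGeometry Opposite TopologicalSpace
open Groth.CohBase Groth.PicAux Groth.Variety2.Reg

namespace Groth.KTheory.ProjBdl

open Groth.KTheory.RegKoszul

variable {T P : Scheme.{u}} {n : ℕ} (π : P ⟶ T) (A : LPair P)

/-- `G_0 = F`, `G_{k+1} = ker(π^* π_* G_k → G_k)(1)`. -/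
noncomputable def seqB (F : P.Modules) : ℕ → P.Modules
  | 0 => F
  | k + 1 => twB A 1 (kernel (couB π (seqB F k)))

variable {π A} (hA : HasCharts n π A) {F : P.Modules} (hF : FlatMod.IsFinLocFree F)
  (hreg : RegB π A F)

include hA hF hreg

theorem seqB_props : ∀ k, FlatMod.IsFinLocFree (seqB π A F k) ∧ RegB π A (seqB π A F k)
  | 0 => by rw [seqB]; exact ⟨hF, hreg⟩
  | k + 1 => by
    obtain ⟨h1, h2⟩ := seqB_props k
    haveI := epi_couB hA (LocFree.isQCoh h1) h2
    rw [seqB]
    exact ⟨isFinLocFree_twB A 1 (Groth.LocFree.isFinLocFree_left (kernel_shortExact (couB π (seqB π A F k)))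
      (Groth.LocFree.isFinLocFree_pullback π
        (isFinLocFree_push hA h1 fun q hq => van_of_regB' hA (LocFree.isQCoh h1) h2 hq)) h1),
      regB_kernel hA (LocFree.isQCoh h1) h2⟩

theorem isFinLocFree_seqB (k : ℕ) : FlatMod.IsFinLocFree (seqB π A F k) :=
  (seqB_props hA hF hreg k).1

theorem isFinLocFree_push_seqB (k : ℕ) :
    FlatMod.IsFinLocFree ((Scheme.Modules.pushforward π).obj (seqB π A F k)) :=
  isFinLocFree_push hA (isFinLocFree_seqB hA hF hreg k) fun _ hq =>
    van_of_regB' hA (LocFree.isQCoh (isFinLocFree_seqB hA hF hreg k)) (seqB_props hA hF hreg k).2 hq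

theorem shortExact_seqB (k : ℕ) :
    (ShortComplex.mk _ _ (kernel.condition (couB π (seqB π A F k)))).ShortExact :=
  haveI := epi_couB hA (LocFree.isQCoh (isFinLocFree_seqB hA hF hreg k)) (seqB_props hA hF hreg k).2
  kernel_shortExact (couB π (seqB π A F k))

theorem isFinLocFree_kerB (k : ℕ) : FlatMod.IsFinLocFree (kernel (couB π (seqB π A F k))) :=
  Groth.LocFree.isFinLocFree_left (shortExact_seqB hA hF hreg k)
    (Groth.LocFree.isFinLocFree_pullback π (isFinLocFree_push_seqB hA hF hreg k))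
    (isFinLocFree_seqB hA hF hreg k)

theorem hv_seqB_one (k : ℕ) {V : T.Opens} (C : Chart n π A V) (q : ℕ) :
    HV (π ⁻¹ᵁ V) (twB A (-1) (seqB π A F (k + 1))) q := by
  obtain ⟨_, _, _⟩ := facts hA
  obtain ⟨h1, -⟩ := seqB_props hA hF hreg k
  obtain ⟨h1', h2'⟩ := seqB_props hA hF hreg (k + 1)
  haveI := LocFree.isQCoh h1
  rcases Nat.eq_zero_or_pos q with rfl | hq
  · refine HV.of_iso (M := kernel (couB π (seqB π A F k))) ?_ ?_
    · rw [seqB]
      exact (nonempty_twB_zero A _).some.symm ≪≫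
        (nonempty_twB_twB A (-1) 1 0 (by omega) _).some.symm
    rw [hv_zero_iff]
    refine subsingleton_of_forall_eq 0 fun z => ?_
    obtain ⟨t, ht⟩ := (C.bijective_pullSec ((Scheme.Modules.pushforward π).obj (seqB π A F k))
      (Groth.QCohMod.isQCoh_pushforward (seqB π A F k) π)).2
      ((kernel.ι (couB π (seqB π A F k))).app (π ⁻¹ᵁ V) z)
    have e1 : (couB π (seqB π A F k)).app (π ⁻¹ᵁ V)
        ((kernel.ι (couB π (seqB π A F k))).app (π ⁻¹ᵁ V) z) = 0 :=
      congr(($(kernel.condition (couB π (seqB π A F k)))).app (π ⁻¹ᵁ V) z)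
    have e2 : (couB π (seqB π A F k)).app (π ⁻¹ᵁ V) (pullSec π _ t) =
        (show Γ(seqB π A F k, π ⁻¹ᵁ V) from t) :=
      congr(($((Scheme.Modules.pullbackPushforwardAdjunction π).right_triangle_components (seqB π A F k))).app V t)
    have ht' : pullSec π _ t = (kernel.ι (couB π (seqB π A F k))).app (π ⁻¹ᵁ V) z := ht
    rw [ht', e1] at e2
    refine Groth.QCohMod.app_injective_of_mono (kernel.ι (couB π (seqB π A F k))) _ ?_
    rw [map_zero, ← ht', show t = 0 from e2.symm]
    exact map_zero (((Scheme.Modules.pullbackPushforwardAdjunction π).unit.app _).app V).hom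
  · exact van_of_regB hA (LocFree.isQCoh h1') h2' hq (by omega) V C.hV

theorem hv_seqB {V : T.Opens} (C : Chart n π A V) : ∀ (j k q : ℕ), j ≤ n → j < k →
    HV (π ⁻¹ᵁ V) (twB A (-((j + 1 : ℕ) : ℤ)) (seqB π A F k)) q
  | 0, k + 1, q, _, _ => by
    simpa using hv_seqB_one hA hF hreg k C q
  | j + 1, k + 1, q, hj, hk => by
    have h1 := LocFree.isQCoh (isFinLocFree_seqB hA hF hreg k)
    have hK := LocFree.isQCoh (isFinLocFree_kerB hA hF hreg k)
    have hN := isFinLocFree_push_seqB hA hF hreg k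
    have hM := LocFree.isQCoh (Groth.LocFree.isFinLocFree_pullback π hN)
    have hT := shortExact_twB A (-((j + 1 : ℕ) : ℤ)) (shortExact_seqB hA hF hreg k) hK hM h1
    have hP : ∀ p, HV (π ⁻¹ᵁ V) (twB A (-((j + 1 : ℕ) : ℤ))
        ((Scheme.Modules.pullback π).obj ((Scheme.Modules.pushforward π).obj (seqB π A F k)))) p :=
      fun p => van_twB_pullback hA (LocFree.isQCoh hN) (Or.inr (by omega)) (Or.inl (by omega)) V C.hV
    refine HV.of_iso (M := twB A (-((j + 1 : ℕ) : ℤ)) (kernel (couB π (seqB π A F k)))) ?_ ?_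
    · rw [seqB]
      exact (nonempty_twB_twB A _ 1 _ (by push_cast; ring) _).some.symm
    cases q with
    | succ q =>
      exact hVanish_first (shortExact_toAb hT) (hP (q + 1)) (hv_seqB C j k q (by omega) (by omega))
    | zero =>
      rw [hv_zero_iff]
      haveI : Mono (((DCoh.tensorBi (X := P)).obj (pw A (-((j + 1 : ℕ) : ℤ)))).map
          (kernel.ι (couB π (seqB π A F k)))) := hT.mono_f
      exact @Function.Injective.subsingleton _ _ _ (Groth.QCohMod.app_injective_of_mono
        (((DCoh.tensorBi (X := P)).obj (pw A (-((j + 1 : ℕ) : ℤ)))).map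
          (kernel.ι (couB π (seqB π A F k)))) _) ((hv_zero_iff _).mp (hP 0))

theorem isZero_seqB_succ : IsZero (seqB π A F (n + 1)) := by
  obtain ⟨_, _, _⟩ := facts hA
  obtain ⟨h1, h2⟩ := seqB_props hA hF hreg (n + 1)
  haveI := LocFree.isQCoh h1
  haveI := Groth.QCohMod.isQCoh_pushforward (seqB π A F (n + 1)) π
  haveI := epi_couB hA (LocFree.isQCoh h1) h2
  refine IsZero.of_epi (couB π (seqB π A F (n + 1))) ((Scheme.Modules.pullback π).map_isZero ?_)
  choose V hx C using hA
  refine isZero_of_sections_cover _ V (fun x => (C x).some.hV)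
    (eq_top_iff.2 fun y _ => Opens.mem_iSup.2 ⟨y, hx y⟩) fun x => ?_
  change Subsingleton Γ(seqB π A F (n + 1), π ⁻¹ᵁ V x)
  have hA' : HasCharts n π A := fun x => ⟨V x, hx x, C x⟩
  rw [← hv_zero_iff, (C x).some.hv_iff]
  let M := (Scheme.Modules.pullback (C x).some.ψ).obj (seqB π A F (n + 1))
  change HV _ M 0
  refine HV.of_iso ((nonempty_G_iso_twF M 0).some ≪≫ (RegSheaf.nonempty_twF_zero n _ _).some)
    (hv_cycles' (G := G M) (op M) (n + 1) (op_comm _) (op_stalk_bijective _) 0 0 fun j hj => ?_)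
  have h := HV.of_iso ((C x).some.pullback_twB _ _).some (((C x).some.hv_iff _ _).1
    (hv_seqB hA' hF hreg (C x).some j (n + 1) (0 + j) (by omega) hj))
  rw [show (0 : ℤ) - 1 - (j : ℤ) = -((j + 1 : ℕ) : ℤ) by omega]
  exact HV.of_iso (nonempty_G_iso_twF M _).some.symm h

end Groth.KTheory.ProjBdl
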