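import Groth.Agent.KTheory.ExtFiltLine
import Groth.Agent.KTheory.ProjBdlRes
import Groth.Agent.LocFree.ExtPullback

/-!
# The Koszul sequences of a projective bundle
-/

set_option autoImplicit false
set_option linter.style.haveILetI false
universe u

open CategoryTheory CategoryTheory.Limits AlgebraicGeometry Opposite TopologicalSpace
open Groth.CohBase Groth.PicAux Groth.Variety2.Reg

namespace Groth.KTheory.ProjBdl

open Groth.KTheory.RegKoszul Groth.LocFree

variable {T P : Scheme.{u}} (π : P ⟶ T) (A : LPair P)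

/-- A surjection `π^* E ⟶ L` from a bundle of rank `n + 1`. -/
structure LineQuot (n : ℕ) where
  E : T.Modules
  hE : FlatMod.IsFinLocFreeOfRank (n + 1) E
  q : (Scheme.Modules.pullback π).obj E ⟶ A.L
  epi : Epi q

variable {π A} {n : ℕ} (Q : LineQuot π A n)

namespace LineQuot

/-- `(π^* N ⊗ ⋀ⁱ ker q)(a)`. -/
noncomputable def Z (N : T.Modules) (a : ℤ) (i : ℕ) : P.Modules :=
  twB A a (CohB1.tensorMod ((Scheme.Modules.pullback π).obj N) (extPow i (kernel Q.q)))

theorem isFinLocFreeOfRank_kernel : FlatMod.IsFinLocFreeOfRank n (kernel Q.q) :=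
  haveI := Q.epi
  isFinLocFreeOfRank_left (S := ShortComplex.mk (kernel.ι Q.q) Q.q (kernel.condition Q.q))
    (kernel_shortExact Q.q) (isFinLocFreeOfRank_pullback π Q.hE) (isInvertible_iff_ofRank_one.1 A.inv)

theorem isFinLocFree_Z {N : T.Modules} (hN : FlatMod.IsFinLocFree N) (a : ℤ) (i : ℕ) :
    FlatMod.IsFinLocFree (Q.Z N a i) :=
  isFinLocFree_twB A a (isFinLocFree_tensorMod (isFinLocFree_pullback π hN)
    (isFinLocFree_extPow (isFinLocFree_of_rank Q.isFinLocFreeOfRank_kernel) i))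

theorem nonempty_Z_zero {N : T.Modules} (a : ℤ) :
    Nonempty (Q.Z N a 0 ≅ twB A a ((Scheme.Modules.pullback π).obj N)) := by
  haveI := KTheory.LocFree.isQCoh (isFinLocFree_of_rank Q.isFinLocFreeOfRank_kernel)
  exact twB_iso A a (PicGrp.tensorModIso (Iso.refl _) (LambdaVb.nonempty_extPow_zero (kernel Q.q)).some ≪≫
    SecTwist.unitorR _)

theorem isZero_Z_top {N : T.Modules} (a : ℤ) : IsZero (Q.Z N a (n + 1)) := by
  have h := isFinLocFreeOfRank_extPow Q.isFinLocFreeOfRank_kernel (n + 1)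
  rw [Nat.choose_eq_zero_of_lt (by omega)] at h
  exact ((DCoh.tensorBi (X := P)).obj (pw A a)).map_isZero
    (((DCoh.tensorBi (X := P)).obj ((Scheme.Modules.pullback π).obj N)).map_isZero
      (KvbModel.isZero_of_rank_zero h))

/-- The Koszul sequences. -/
theorem exists_shortExact {N : T.Modules} (hN : FlatMod.IsFinLocFree N) (a : ℤ) (i : ℕ) :
    ∃ (f : Q.Z N a (i + 1) ⟶ twB A a ((Scheme.Modules.pullback π).obj
        (CohB1.tensorMod N (extPow (i + 1) Q.E))))
      (g : twB A a ((Scheme.Modules.pullback π).obj (CohB1.tensorMod N (extPow (i + 1) Q.E))) ⟶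
        Q.Z N (a + 1) i) (w : f ≫ g = 0), (ShortComplex.mk f g w).ShortExact := by
  have hE := isFinLocFree_of_rank Q.hE
  have hE' := isFinLocFree_pullback π hE
  have hL := isInvertible_iff_ofRank_one.1 A.inv
  have hK := isFinLocFree_of_rank Q.isFinLocFreeOfRank_kernel
  haveI := Q.epi
  haveI := KTheory.LocFree.isQCoh hE
  let S := ShortComplex.mk (kernel.ι Q.q) Q.q (kernel.condition Q.q)
  obtain ⟨f₀, g₀, w₀, h₀⟩ := ExtFilt.exists_shortExact_line S (kernel_shortExact Q.q) hK hE' hL i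
  let S₀ := ShortComplex.mk f₀ g₀ w₀
  have hN' := isFinLocFree_pullback π hN
  have hX₁ : FlatMod.IsFinLocFree (extPow (i + 1) (kernel Q.q)) := isFinLocFree_extPow hK _
  have hX₂ : FlatMod.IsFinLocFree (extPow (i + 1) ((Scheme.Modules.pullback π).obj Q.E)) :=
    isFinLocFree_extPow hE' _
  have hX₃ : FlatMod.IsFinLocFree (CohB1.tensorMod (extPow i (kernel Q.q)) A.L) :=
    isFinLocFree_tensorMod (isFinLocFree_extPow hK _) (isFinLocFree_of_rank hL)
  haveI : S₀.X₁.IsQuasicoherent := KTheory.LocFree.isQCoh hX₁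
  haveI : S₀.X₂.IsQuasicoherent := KTheory.LocFree.isQCoh hX₂
  haveI : S₀.X₃.IsQuasicoherent := KTheory.LocFree.isQCoh hX₃
  have h₁ := LambdaVb.shortExact_tensor (S := S₀) hN' h₀
  have h₂ := shortExact_twB A a h₁ (KTheory.LocFree.isQCoh (isFinLocFree_tensorMod hN' hX₁))
    (KTheory.LocFree.isQCoh (isFinLocFree_tensorMod hN' hX₂))
    (KTheory.LocFree.isQCoh (isFinLocFree_tensorMod hN' hX₃))
  let eB := (twB_iso A a ((exists_pullback_tensorMod π N (extPow (i + 1) Q.E)).choose ≪≫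
    PicGrp.tensorModIso (Iso.refl _) (asIso (pullExtHom π (i + 1) Q.E)))).some
  let X := CohB1.tensorMod ((Scheme.Modules.pullback π).obj N) (extPow i (kernel Q.q))
  let eC : Q.Z N (a + 1) i ≅ twB A a
      (CohB1.tensorMod ((Scheme.Modules.pullback π).obj N) (CohB1.tensorMod (extPow i (kernel Q.q)) A.L)) :=
    (PicGrp.tensorModIso (pw_succ A a).some (Iso.refl X) ≪≫ (exists_associator _ _ _).choose ≪≫
      PicGrp.tensorModIso (Iso.refl _) ((exists_braiding A.L X).choose ≪≫ (exists_associator _ _ _).choose) :)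
  exact exists_shortExact_of_iso h₂ (Iso.refl _) eB eC

theorem van_Z (hA : HasCharts n π A) {N : T.Modules} (hN : FlatMod.IsFinLocFree N) :
    ∀ (k i : ℕ), n + 1 ≤ i + k → ∀ b : ℤ, 1 - (i : ℤ) ≤ b → ∀ q, 1 ≤ q → Van π (Q.Z N b i) q
  | 0, i, hi, b, _, q, _ => fun V _ => by
    refine HV.of_isZero ?_ q
    obtain rfl | h := Nat.lt_or_eq_of_le hi |>.symm
    · simpa using Q.isZero_Z_top b
    · have h' := isFinLocFreeOfRank_extPow Q.isFinLocFreeOfRank_kernel i
      rw [Nat.choose_eq_zero_of_lt (by omega)] at h'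
      exact ((DCoh.tensorBi (X := P)).obj (pw A b)).map_isZero
        (((DCoh.tensorBi (X := P)).obj ((Scheme.Modules.pullback π).obj N)).map_isZero
          (KvbModel.isZero_of_rank_zero h'))
  | k + 1, i, hi, b, hb, q, hq => fun V hV => by
    rcases Nat.lt_or_ge n i with h | h
    · exact van_Z hA hN 0 i (by omega) b hb q hq V hV
    obtain ⟨f, g, w, hS⟩ := Q.exists_shortExact hN (b - 1) i
    have hM := KTheory.LocFree.isQCoh (isFinLocFree_tensorMod hN
      (isFinLocFree_extPow (isFinLocFree_of_rank Q.hE) (i + 1)))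
    refine HV.of_iso (eqToIso (congrArg (fun c => Q.Z N c i) (sub_add_cancel b 1))) (hVanish_third (shortExact_toAb hS)
      (van_Z hA hN k (i + 1) (by omega) (b - 1) (by push_cast; omega) (q + 1) (by omega) V hV)
      (van_twB_pullback hA hM (Or.inl hq) (Or.inl (by omega)) V hV))

theorem van_Z' (hA : HasCharts n π A) {N : T.Modules} (hN : FlatMod.IsFinLocFree N) {i : ℕ} {b : ℤ}
    (hb : 1 - (i : ℤ) ≤ b) {q : ℕ} (hq : 1 ≤ q) : Van π (Q.Z N b i) q :=
  Q.van_Z hA hN (n + 1) i (by omega) b hb q hq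

end LineQuot

end Groth.KTheory.ProjBdl
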