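import Groth.Agent.KTheory.ProjPushBasic
import Groth.Agent.PicAux.PullTensor
import Groth.Agent.CohBase.RelAmpleVanish

/-!
# Local criteria along open immersions
-/

set_option autoImplicit false
set_option linter.style.haveILetI false
universe u

open CategoryTheory CategoryTheory.Limits AlgebraicGeometry TopologicalSpace
open Groth.CohBase Groth.PicAux

namespace Groth.KTheory.ProjBdl

variable {X : Scheme.{u}}

theorem nonempty_pullback_freeMod {Y : Scheme.{u}} (e : Y ⟶ X) (r : ℕ) :
    Nonempty ((Scheme.Modules.pullback e).obj (FlatMod.freeMod X r) ≅ FlatMod.freeMod Y r) := by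
  haveI : PreservesColimitsOfSize.{0, 0} (Scheme.Modules.pullback e) :=
    (Scheme.Modules.pullbackPushforwardAdjunction e).leftAdjoint_preservesColimits
  exact ⟨PreservesCoproduct.iso (Scheme.Modules.pullback e) _ ≪≫
    Sigma.mapIso fun _ => (pullback_structure_iso e).some⟩

/-- Finite local freeness is local for open immersions. -/
theorem isFinLocFree_of_local {M : X.Modules}
    (h : ∀ x : X, ∃ (W : Scheme.{u}) (j : W ⟶ X) (_ : IsOpenImmersion j) (w : W), j w = x ∧
      FlatMod.IsFinLocFree ((Scheme.Modules.pullback j).obj M)) : FlatMod.IsFinLocFree M := by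
  intro x
  obtain ⟨W, j, _, w, rfl, hM⟩ := h x
  obtain ⟨U, r, hw, ⟨e⟩⟩ := hM w
  let U' : X.Opens := j ''ᵁ U
  have hr : Set.range (U.ι ≫ j).base = Set.range U'.ι.base := by
    rw [Scheme.Hom.comp_base, TopCat.coe_comp, Set.range_comp, Scheme.Opens.range_ι, Scheme.Opens.range_ι]
    rfl
  let g := (IsOpenImmersion.isoOfRangeEq (U.ι ≫ j) U'.ι hr).inv
  have hg : g ≫ U.ι ≫ j = U'.ι := IsOpenImmersion.isoOfRangeEq_inv_fac _ _ hr
  exact ⟨U', r, ⟨w, hw, rfl⟩, ⟨(Scheme.Modules.restrictFunctorIsoPullback U'.ι).app M ≪≫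
    (Scheme.Modules.pullbackCongr hg.symm).app M ≪≫ ((Scheme.Modules.pullbackComp g (U.ι ≫ j)).app M).symm ≪≫
    (Scheme.Modules.pullback g).mapIso (((Scheme.Modules.pullbackComp U.ι j).app M).symm ≪≫
      ((Scheme.Modules.restrictFunctorIsoPullback U.ι).app _).symm ≪≫ e) ≪≫
    (nonempty_pullback_freeMod g r).some⟩⟩

/-- A quasi-coherent module vanishing on the members of an open cover vanishes. -/
theorem isZero_of_local {M : X.Modules} [M.IsQuasicoherent]
    (h : ∀ x : X, ∃ (W : Scheme.{u}) (j : W ⟶ X) (_ : IsOpenImmersion j) (w : W), j w = x ∧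
      IsZero ((Scheme.Modules.pullback j).obj M)) : IsZero M := by
  choose W j hj w hw hz using h
  choose U hU hxU hle using fun x : X =>
    haveI := hj x
    exists_isAffineOpen_mem_and_subset (x := x) (U := (j x).opensRange) ⟨w x, hw x⟩
  refine isZero_of_sections_cover _ U hU (top_le_iff.1 fun x _ => Opens.mem_iSup.2 ⟨x, hxU x⟩) fun x => ?_
  haveI := hj x
  have hz' : IsZero ((Scheme.Modules.restrictFunctor (j x)).obj M) :=
    IsZero.of_iso (hz x) ((Scheme.Modules.restrictFunctorIsoPullback (j x)).app M)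
  have hs : Subsingleton Γ(M, (j x) ''ᵁ ((j x) ⁻¹ᵁ U x)) := by
    refine subsingleton_of_forall_eq 0 fun z => ?_
    have h0 := congr(($(hz'.eq_of_src (𝟙 _) 0)).app ((j x) ⁻¹ᵁ U x) z)
    exact h0
  rwa [(j x).image_preimage_eq_opensRange_inf, inf_eq_right.2 (show U x ≤ (j x).opensRange from hle x)] at hs

/-- A morphism of quasi-coherent modules which is an epimorphism on the members of an open cover. -/
theorem epi_of_local {M N : X.Modules} [M.IsQuasicoherent] [N.IsQuasicoherent] (φ : M ⟶ N)
    (h : ∀ x : X, ∃ (W : Scheme.{u}) (j : W ⟶ X) (_ : IsOpenImmersion j) (w : W), j w = x ∧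
      Epi ((Scheme.Modules.pullback j).map φ)) : Epi φ := by
  refine Preadditive.epi_of_isZero_cokernel _ (isZero_of_local fun x => ?_)
  obtain ⟨W, j, hj, w, hw, he⟩ := h x
  haveI : PreservesColimitsOfSize.{0, 0} (Scheme.Modules.pullback j) :=
    (Scheme.Modules.pullbackPushforwardAdjunction j).leftAdjoint_preservesColimits
  refine ⟨W, j, hj, w, hw, IsZero.of_iso ?_ (PreservesCokernel.iso (Scheme.Modules.pullback j) φ)⟩
  exact isZero_cokernel_of_epi _

end Groth.KTheory.ProjBdl
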