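import Groth.Agent.KTheory.ProjBdlBasis
import Groth.Agent.KTheory.ProjBdlEmpty

/-!
# `K₀` of a projective bundle
-/

set_option autoImplicit false
set_option linter.style.haveILetI false
universe u

open CategoryTheory CategoryTheory.Limits AlgebraicGeometry

namespace Groth.KTheory.ProjBdl

open Groth.LocFree LambdaVb Groth.PicAux

variable {T P : Scheme.{u}}

/-- The pair `O(1), O(-1)`. -/
def bundlePair {π : P ⟶ T} {E : T.Modules} {O1 : P.Modules}
    {q : (Scheme.Modules.pullback π).obj E ⟶ O1} (hPB : KRR.IsProjBundle π E O1 q)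
    {Oinv : P.Modules} (hinv : ClSub.IsInverseOf Oinv O1) : LPair P :=
  ⟨O1, Oinv, isInvertible_iff_ofRank_one.2 hPB.invertible, hinv⟩

theorem nonempty_pw_neg (A : LPair P) : ∀ i : ℕ, Nonempty (pw A (-(i : ℤ)) ≅ CohB1.tensorPow A.L' i)
  | 0 => ⟨Iso.refl _⟩
  | _ + 1 => ⟨Iso.refl _⟩

theorem bijective_of_isProjBundle [CompactSpace T] {r : ℕ} {E : T.Modules}
    (hE : FlatMod.IsFinLocFreeOfRank r E) {π : P ⟶ T} {O1 : P.Modules}
    {q : (Scheme.Modules.pullback π).obj E ⟶ O1} (hPB : KRR.IsProjBundle π E O1 q)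
    {Oinv : P.Modules} (hinv : ClSub.IsInverseOf Oinv O1)
    (G : Fin r → (SGA6.Kvb T →+ SGA6.Kvb P))
    (hG : ∀ (i : Fin r) (N : T.Modules), FlatMod.IsFinLocFree N →
      G i (kcl N) = kcl (CohB1.tensorMod (CohB1.tensorPow Oinv (i : ℕ)) ((Scheme.Modules.pullback π).obj N))) :
    Function.Bijective (fun a : Fin r → SGA6.Kvb T => ∑ i : Fin r, G i (a i)) := by
  rcases r with _ | n
  · haveI := isEmpty_of_rank_zero hE hPB.invertible q hPB.epi
    exact ⟨fun _ _ _ => Subsingleton.elim _ _, fun x => ⟨isEmptyElim, by rw [kvb_eq_zero x]; simp⟩⟩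
  let A := bundlePair hPB hinv
  refine bijective_sum (A := A) (hasCharts_of_isProjBundle hE hPB rfl) ⟨E, hE, q, hPB.epi⟩ G fun i N hN => ?_
  rw [hG i N hN]
  refine (kcl_iso ?_ (isFinLocFree_twB A _ (isFinLocFree_pullback π hN))).symm
  exact PicGrp.tensorModIso (nonempty_pw_neg A i).some (Iso.refl _)

end Groth.KTheory.ProjBdl
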