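import Groth.Agent.KTheory.ProjBdlMain
import Groth.Agent.KTheory.PullLambda

/-!
# `K(P(E))` in terms of models
-/

set_option autoImplicit false
set_option linter.style.haveILetI false
universe v u

open CategoryTheory CategoryTheory.Limits AlgebraicGeometry

namespace Groth.KTheory.ProjBdl

open Groth.LocFree LambdaVb Groth.PicAux

variable {X P : Scheme.{u}} {KX : Type v} [CommRing KX] [LambdaRing.LambdaOps KX]
  {PX : LambdaRing.PosStructure KX} {φX : SGA6.Kvb X →+ KX}
  {KP : Type v} [CommRing KP] [LambdaRing.LambdaOps KP] {PP : LambdaRing.PosStructure KP}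
  {φP : SGA6.Kvb P →+ KP}

theorem model_tensorPow (hKP : KRR.IsModel P KP PP φP) {L : P.Modules} (hL : FlatMod.IsFinLocFree L) :
    ∀ i : ℕ, FlatMod.IsFinLocFree (CohB1.tensorPow L i) ∧
      φP (kcl (CohB1.tensorPow L i)) = φP (kcl L) ^ i
  | 0 => ⟨isFinLocFree_unit P, by rw [pow_zero]; exact hKP.map_one⟩
  | i + 1 => by
    obtain ⟨h1, h2⟩ := model_tensorPow hKP hL i
    refine ⟨isFinLocFree_tensorMod h1 hL, ?_⟩
    rw [pow_succ, ← h2]
    exact (hKP.map_mul _ _ h1 hL).symm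

theorem bijective_model [CompactSpace X] {r : ℕ} {E : X.Modules} (hE : FlatMod.IsFinLocFreeOfRank (r + 1) E)
    {π : P ⟶ X} {O1 : P.Modules} {q : (Scheme.Modules.pullback π).obj E ⟶ O1}
    (hPB : KRR.IsProjBundle π E O1 q) (hKX : KRR.IsModel X KX PX φX) (hKP : KRR.IsModel P KP PP φP)
    (g : KX →+ KP) (hg : KRR.IsPull π φX φP g) :
    Function.Bijective (fun a : Fin (r + 1) → KX =>
      ∑ i : Fin (r + 1), g (a i) * φP (KRR.cl P O1) ^ (i : ℕ)) := by
  have hO := isFinLocFree_of_rank hPB.invertible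
  obtain ⟨M, hM, hM'⟩ := exists_isInverseOf (isInvertible_iff_ofRank_one.2 hPB.invertible)
  have hMf : FlatMod.IsFinLocFree M := isFinLocFree_of_rank (isInvertible_iff_ofRank_one.1 hM)
  let G : Fin (r + 1) → (SGA6.Kvb X →+ SGA6.Kvb P) := fun i =>
    (LambdaVb.mulHom (kcl (CohB1.tensorPow M (i : ℕ)))).comp (KvbPull.pullHom π)
  have hB := bijective_of_isProjBundle hE hPB (isInverseOf_symm hM') G fun i N hN => by
    change LambdaVb.mulHom _ (KvbPull.pullHom π (kcl N)) = _
    rw [KvbPull.pullHom_kcl π hN, mulHom_kcl (model_tensorPow hKP hMf _).1 (isFinLocFree_pullback π hN)]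
  let ℓ := φP (KRR.cl P O1)
  let t := φP (kcl M)
  have hu : ℓ * t = 1 := by
    change φP (KRR.cl P O1) * φP (KRR.cl P M) = 1
    rw [hKP.map_mul _ _ hO hMf, ← hKP.map_one]
    exact congrArg φP (kcl_iso hM'.some (isFinLocFree_tensorMod hO hMf))
  have hGi : ∀ (i : Fin (r + 1)) (x : SGA6.Kvb X), φP (G i x) = g (φX x) * t ^ (i : ℕ) := by
    intro i x
    induction x using k0sub_induction with
    | h0 => simp
    | hadd a b ha hb => simp only [map_add, ha, hb, add_mul]
    | hneg a ha => simp only [map_neg, ha, neg_mul]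
    | hcl N hN =>
      change φP (LambdaVb.mulHom _ (KvbPull.pullHom π (kcl N))) = g (φX (kcl N)) * _
      rw [KvbPull.pullHom_kcl π hN, mulHom_kcl (model_tensorPow hKP hMf _).1 (isFinLocFree_pullback π hN),
        ← (model_tensorPow hKP hMf i).2, mul_comm]
      refine (hKP.map_mul _ _ (model_tensorPow hKP hMf _).1 (isFinLocFree_pullback π hN)).symm.trans ?_
      exact congrArg (φP (KRR.cl P (CohB1.tensorPow M (i : ℕ))) * ·) (hg N hN).symm
  let eX := AddEquiv.ofBijective φX hKX.bijective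
  let e1 : (Fin (r + 1) → KX) ≃ (Fin (r + 1) → SGA6.Kvb X) :=
    (Equiv.arrowCongr Fin.revPerm eX.symm.toEquiv)
  have hu' : IsUnit (ℓ ^ r) := (IsUnit.of_mul_eq_one t hu).pow r
  have hbij := (hu'.unit.mulLeft.bijective.comp hKP.bijective).comp (hB.comp e1.bijective)
  convert hbij using 1
  funext a
  change _ = (hu'.unit : KP) * φP (∑ i : Fin (r + 1), G i (e1 a i))
  rw [map_sum, Finset.mul_sum, IsUnit.unit_spec]
  refine Fintype.sum_equiv Fin.revPerm _ _ fun i => ?_
  rw [hGi]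
  have h1 : φX (e1 a (Fin.revPerm i)) = a i := by
    simp only [e1, Equiv.arrowCongr_apply, Function.comp_apply, Equiv.symm_apply_apply]
    exact eX.apply_symm_apply (a i)
  rw [h1, Fin.revPerm_apply, Fin.val_rev, show r + 1 - ((i : ℕ) + 1) = r - i by omega]
  obtain ⟨k, hk⟩ : ∃ k, r = (i : ℕ) + k := ⟨r - i, by omega⟩
  rw [show r - (i : ℕ) = k by omega, show ℓ ^ r = ℓ ^ (i : ℕ) * ℓ ^ k by rw [← pow_add, ← hk]]
  calc g (a i) * ℓ ^ (i : ℕ) = g (a i) * ℓ ^ (i : ℕ) * (ℓ * t) ^ k := by rw [hu, one_pow, mul_one]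
    _ = _ := by rw [mul_pow]; ring

end Groth.KTheory.ProjBdl
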