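import Groth.Agent.KTheory.RegKoszulBC
import Groth.Agent.KTheory.RegKoszulSerre
import Groth.Agent.KTheory.LambdaVb
import Groth.Agent.LocFree.SES
import Groth.Agent.LocFree.Tensor
import Groth.Agent.FlatStrata.ProjSpace
import Groth.Agent.PnCoh.AmpleVanishing
import Groth.Agent.Ega2Proj.RelAmple

/-!
# `K₀` of regular finite locally free modules on relative projective space
-/

universe u w

open CategoryTheory CategoryTheory.Limits AlgebraicGeometry Opposite TopologicalSpace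
open Groth.CohBase Groth.Variety2.Reg

namespace Groth.KTheory.RegKoszul

variable {n : ℕ} {T : Scheme.{u}}

/-- A qcoh module on `P^n_T` has no cohomology above `n` on `pr⁻¹V`. -/
theorem van_above {M : (KRR.PY n T).Modules} (hM : Coh.IsQCoh M) {q : ℕ} (hq : n < q) :
    RegSheaf.Van n T M q := by
  intro V hV
  haveI : M.IsQuasicoherent := hM
  obtain ⟨ι, _, -, -, hr⟩ := exists_chart (n := n) hV
  rw [← hr]
  refine (hVanish_restrict_iff ι _ q ⊤).1 ?_
  refine HV.of_iso ((Scheme.Modules.restrictFunctorIsoPullback ι).app M).symm ?_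
  exact (subsingleton_H_iff _ q).1 (PnCoh.subsingleton_HH_of_lt n Γ(T, V) _ hq)

/-- Regularity only needs an affine open around each point. -/
theorem isRegSheaf_of_local {F : (KRR.PY n T).Modules} (hF : Coh.IsQCoh F)
    (h : ∀ i : ℕ, 1 ≤ i → ∀ x : T, ∃ V : T.Opens, IsAffineOpen V ∧ x ∈ V ∧
      HV (KRR.pr n T ⁻¹ᵁ V) (KRR.twF n T (-(i : ℤ)) F) i) : KRR.IsRegSheaf n T F := by
  intro i hi
  haveI : (KRR.twF n T (-(i : ℤ)) F).IsQuasicoherent := RegSheaf.isQCoh_twF _ hF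
  let J := injectiveResolution (KRR.twF n T (-(i : ℤ)) F)
  obtain ⟨a⟩ := nonempty_RpushAb_iso_homology (KRR.pr n T) J i
  exact ((toAbF T).map_isZero (isZero_homology_pushCx (KRR.pr n T) J i (h i hi))).of_iso a

theorem isRegSheaf_iso {F G : (KRR.PY n T).Modules} (e : F ≅ G) (hF : Coh.IsQCoh F)
    (h : KRR.IsRegSheaf n T F) : KRR.IsRegSheaf n T G :=
  RegSheaf.isRegSheaf_of_van
    ((SheafOfModules.isQuasicoherent (KRR.PY n T).ringCatSheaf).prop_of_iso e hF) fun i hi =>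
    (RegSheaf.van_of_isRegSheaf hF h i hi).of_iso
      (((DCoh.tensorBi (X := KRR.PY n T)).obj (Twist.twistOver n T (-(i : ℤ)))).mapIso e)

theorem isRegSheaf_isZero {Z : (KRR.PY n T).Modules} (hZ : IsZero Z) (hZq : Coh.IsQCoh Z) :
    KRR.IsRegSheaf n T Z :=
  RegSheaf.isRegSheaf_of_van hZq fun i _ V _ => HV.of_isZero
    (((DCoh.tensorBi (X := KRR.PY n T)).obj (Twist.twistOver n T (-(i : ℤ)))).map_isZero hZ) i

/-- High twists of a coherent module are regular. -/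
theorem exists_isRegSheaf_twF [IsNoetherian T] {E : (KRR.PY n T).Modules} (hE : Coh.IsCoh E) :
    ∃ d : ℕ, KRR.IsRegSheaf n T (KRR.twF n T (d : ℤ) E) := by
  classical
  haveI := hE.1
  let p : CohB1.ProjSpaceOver n T ⟶ T := KRR.pr n T
  haveI : IsProper p := Groth.Variety2.isProper_projSpaceOver_toBase n T
  haveI : IsLocallyNoetherian (KRR.PY n T) := LocallyOfFiniteType.isLocallyNoetherian p
  let L := Twist.twistOver n T 1
  have hVan : ∀ V : T.affineOpens, ∃ N : ℕ, ∀ m : ℕ, N ≤ m → ∀ q : ℕ, 0 < q →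
      HV (p ⁻¹ᵁ V.1) (KRR.twF n T (m : ℤ) E) q := by
    intro V
    let U := p ⁻¹ᵁ V.1
    let q' := CohBase.preimageToSpec p (V := V.1)
    have : IsNoetherianRing Γ(T, V.1) := IsLocallyNoetherian.component_noetherian V
    have : IsProper q' :=
      MorphismProperty.of_isPullback (CohBase.isPullback_preimageToSpec p V.2) ‹IsProper p›
    obtain ⟨N, hN⟩ := PnCoh.exists_subsingleton_of_isAmple q'
      ((FlatStrata.isRelAmple_twistOne n T).2 V) (E.restrict U.ι) (CohFin.isCoh_restrict hE U)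
    refine ⟨N, fun m hm q hq => ?_⟩
    obtain ⟨e₂⟩ := Ega2Proj.exists_tensorPow_restrict (L := L) U.ι m
    obtain ⟨e₃⟩ := Ega2Proj.exists_tensorMod_restrict (L := E) (M := CohB1.tensorPow L m) U.ι
    obtain ⟨eT⟩ := Agent.S2427.nonempty_tensorPow_twistOver n T m
    have h1 : HV (⊤ : (U : Scheme.{u}).Opens) ((KRR.twF n T (m : ℤ) E).restrict U.ι) q :=
      HV.of_iso ((PicGrp.tensorModIso (Iso.refl _) e₂.symm) ≪≫ e₃.symm ≪≫
        (Scheme.Modules.restrictFunctor U.ι).mapIso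
          (PicGrp.tensorModIso (Iso.refl E) eT ≪≫
            (PicAux.exists_braiding E (Twist.twistOver n T (m : ℤ))).choose))
        ((subsingleton_H_iff _ q).1 (hN m hm q hq))
    have := (hVanish_restrict_iff U.ι _ q ⊤).1 h1
    rwa [Scheme.Opens.ι_image_top] at this
  choose N hN using hVan
  choose B hB hyB _ using fun y : T =>
    exists_isAffineOpen_mem_and_subset (x := y) (U := (⊤ : T.Opens)) trivial
  obtain ⟨t, ht⟩ := isCompact_univ.elim_finite_subcover (fun y => (B y : Set T))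
    (fun y => (B y).2) (fun y _ => Set.mem_iUnion.2 ⟨y, hyB y⟩)
  refine ⟨n + t.sup fun y => N ⟨B y, hB y⟩, isRegSheaf_of_local (RegSheaf.isQCoh_twF _ hE.1)
    fun i hi x => ?_⟩
  obtain ⟨z, hz, hxz⟩ := Set.mem_iUnion₂.1 (ht (Set.mem_univ x))
  refine ⟨B z, hB z, hxz, ?_⟩
  rcases Nat.lt_or_ge n i with h | h
  · exact van_above (RegSheaf.isQCoh_twF _ (RegSheaf.isQCoh_twF _ hE.1)) h (B z) (hB z)
  · refine HV.of_iso (RegSheaf.nonempty_twF_twF n T _ _ _ ?_ E).some.symm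
      (hN ⟨B z, hB z⟩ ((n + t.sup fun y => N ⟨B y, hB y⟩) - i) ?_ i hi)
    · omega
    · have := Finset.le_sup (f := fun y => N ⟨B y, hB y⟩) hz
      omega

/-- High twists of a finite locally free module are regular; any quasi-compact base. -/
theorem exists_isRegSheaf_twF_locFree [CompactSpace T] {E : (KRR.PY n T).Modules}
    (hE : FlatMod.IsFinLocFree E) : ∃ d : ℕ, KRR.IsRegSheaf n T (KRR.twF n T (d : ℤ) E) := by
  classical
  have hq := LocFree.isQCoh hE
  choose B hB hyB _ using fun y : T =>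
    exists_isAffineOpen_mem_and_subset (x := y) (U := (⊤ : T.Opens)) trivial
  choose N hN using fun (p : T × Fin n) =>
    exists_hv_twF (n := n) (hB p.1) hE (q := (p.2 : ℕ) + 1) (by omega)
  obtain ⟨t, ht⟩ := isCompact_univ.elim_finite_subcover (fun y => (B y : Set T))
    (fun y => (B y).2) (fun y _ => Set.mem_iUnion.2 ⟨y, hyB y⟩)
  refine ⟨n + (t ×ˢ Finset.univ).sup N, isRegSheaf_of_local (RegSheaf.isQCoh_twF _ hq) fun i hi x => ?_⟩
  obtain ⟨z, hz, hxz⟩ := Set.mem_iUnion₂.1 (ht (Set.mem_univ x))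
  refine ⟨B z, hB z, hxz, ?_⟩
  rcases Nat.lt_or_ge n i with h | h
  · exact van_above (RegSheaf.isQCoh_twF _ (RegSheaf.isQCoh_twF _ hq)) h (B z) (hB z)
  · obtain ⟨j, rfl⟩ : ∃ j, i = j + 1 := ⟨i - 1, by omega⟩
    have hmem : (z, (⟨j, by omega⟩ : Fin n)) ∈ t ×ˢ (Finset.univ : Finset (Fin n)) :=
      Finset.mem_product.2 ⟨hz, Finset.mem_univ _⟩
    have hle := Finset.le_sup (f := N) hmem
    refine HV.of_iso (RegSheaf.nonempty_twF_twF n T _ _ _ ?_ E).some.symm
      (hN (z, ⟨j, by omega⟩) ((n + (t ×ˢ Finset.univ).sup N) - (j + 1)) ?_)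
    · omega
    · omega

/-! ## The Koszul relation -/

/-- `E(d)` is regular, and `E` is finite locally free. -/
def RegAt (n : ℕ) (T : Scheme.{u}) (d : ℕ) : ObjectProperty (KRR.PY n T).Modules :=
  fun E => FlatMod.IsFinLocFree E ∧ KRR.IsRegSheaf n T (KRR.twF n T (d : ℤ) E)

theorem regAt_iso {d : ℕ} {E E' : (KRR.PY n T).Modules} (e : E ≅ E') (h : RegAt n T d E) :
    RegAt n T d E' :=
  ⟨LocFree.isFinLocFree_of_iso e h.1, isRegSheaf_iso
    (((DCoh.tensorBi (X := KRR.PY n T)).obj (Twist.twistOver n T (d : ℤ))).mapIso e)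
    (RegSheaf.isQCoh_twF _ (LocFree.isQCoh h.1)) h.2⟩

theorem regAt_isZero {d : ℕ} {Z : (KRR.PY n T).Modules} (hZ : IsZero Z) : RegAt n T d Z :=
  ⟨LocFree.isFinLocFree_zero hZ, isRegSheaf_isZero
    (((DCoh.tensorBi (X := KRR.PY n T)).obj (Twist.twistOver n T (d : ℤ))).map_isZero hZ)
    (RegSheaf.isQCoh_twF _ (LocFree.isQCoh (LocFree.isFinLocFree_zero hZ)))⟩

theorem isFinLocFree_twF (a : ℤ) {E : (KRR.PY n T).Modules} (h : FlatMod.IsFinLocFree E) :
    FlatMod.IsFinLocFree (KRR.twF n T a E) :=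
  Groth.LocFree.isFinLocFree_tensorMod (RegSheaf.isFinLocFree_twistOver n T _) h

theorem regAt_twF {d d' : ℕ} {a : ℤ} {E : (KRR.PY n T).Modules} (h : RegAt n T d E)
    (hle : (d : ℤ) ≤ d' + a) : RegAt n T d' (KRR.twF n T a E) := by
  obtain ⟨m, hm⟩ : ∃ m : ℕ, (d' : ℤ) + a = m + d := ⟨((d' : ℤ) + a - d).toNat, by omega⟩
  have hq := RegSheaf.isQCoh_twF (d : ℤ) (LocFree.isQCoh h.1)
  refine ⟨isFinLocFree_twF a h.1, isRegSheaf_iso ?_ (RegSheaf.isQCoh_twF _ hq) (isRegSheaf_twF hq h.2 m)⟩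
  exact (RegSheaf.nonempty_twF_twF n T _ _ _ hm.symm E).some ≪≫
    (RegSheaf.nonempty_twF_twF n T _ _ _ rfl E).some.symm

theorem regAt_G {d : ℕ} {a : ℤ} (ha : 0 ≤ a) {E : (KRR.PY n T).Modules} (h : RegAt n T d E) :
    RegAt n T d (G E a) :=
  regAt_iso (nonempty_G_iso_twF E a).some.symm (regAt_twF h (by omega))

theorem regAt_mid {d : ℕ} {S : ShortComplex (KRR.PY n T).Modules} (hS : S.ShortExact)
    (h2 : FlatMod.IsFinLocFree S.X₂) (h₁ : RegAt n T d S.X₁) (h₃ : RegAt n T d S.X₃) :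
    RegAt n T d S.X₂ :=
  ⟨h2, RegSheaf.isRegSheaf_middle (S := RegSheaf.tw S (d : ℤ))
    (RegSheaf.shortExact_tw S hS (LocFree.isQCoh h₁.1) (LocFree.isQCoh h2) (LocFree.isQCoh h₃.1) _)
    (RegSheaf.isQCoh_twF _ (LocFree.isQCoh h₁.1)) (RegSheaf.isQCoh_twF _ (LocFree.isQCoh h2))
    (RegSheaf.isQCoh_twF _ (LocFree.isQCoh h₃.1)) h₁.2 h₃.2⟩

theorem regAt_right {d : ℕ} {S : ShortComplex (KRR.PY n T).Modules} (hS : S.ShortExact)
    (h3 : FlatMod.IsFinLocFree S.X₃) (h₁ : RegAt n T d S.X₁) (h₂ : RegAt n T d S.X₂) :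
    RegAt n T d S.X₃ :=
  ⟨h3, RegSheaf.isRegSheaf_right (S := RegSheaf.tw S (d : ℤ))
    (RegSheaf.shortExact_tw S hS (LocFree.isQCoh h₁.1) (LocFree.isQCoh h₂.1) (LocFree.isQCoh h3) _)
    (RegSheaf.isQCoh_twF _ (LocFree.isQCoh h₁.1)) (RegSheaf.isQCoh_twF _ (LocFree.isQCoh h₂.1))
    (RegSheaf.isQCoh_twF _ (LocFree.isQCoh h3)) h₂.2
    (isRegSheaf_twF (RegSheaf.isQCoh_twF _ (LocFree.isQCoh h₁.1)) h₁.2 1)⟩

theorem regAt_biprod {d : ℕ} {A B : (KRR.PY n T).Modules} (hA : RegAt n T d A) (hB : RegAt n T d B)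
    (h : FlatMod.IsFinLocFree (A ⊞ B)) : RegAt n T d (A ⊞ B) :=
  regAt_mid (S := ShortComplex.mk (biprod.inl : A ⟶ A ⊞ B) biprod.snd biprod.inl_snd)
    (ShortComplex.Splitting.ofHasBinaryBiproduct A B).shortExact h hA hB

section Kosz

variable {E : (KRR.PY n T).Modules}

theorem isFinLocFree_kosz (hE : FlatMod.IsFinLocFree E) :
    ∀ (s j : ℕ) (a : ℤ), FlatMod.IsFinLocFree (Kosz.obj (G E) s j a)
  | 0, 0, a => LocFree.isFinLocFree_of_iso (nonempty_G_iso_twF E a).some.symm (isFinLocFree_twF a hE)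
  | 0, _ + 1, _ => LocFree.isFinLocFree_zero (isZero_zero _)
  | s + 1, 0, a => isFinLocFree_kosz hE s 0 a
  | s + 1, j + 1, a => LocFree.isFinLocFree_biprod (isFinLocFree_kosz hE s (j + 1) a)
      (isFinLocFree_kosz hE s j (a - 1))

variable {P : ObjectProperty (KRR.PY n T).Modules}

/-- Closure conditions used in the Koszul relation. -/
structure KoszClosed (P : ObjectProperty (KRR.PY n T).Modules) : Prop where
  finLocFree : ∀ {M : (KRR.PY n T).Modules}, P M → FlatMod.IsFinLocFree M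
  zero : ∀ {Z : (KRR.PY n T).Modules}, IsZero Z → P Z
  iso : ∀ {M N : (KRR.PY n T).Modules}, (M ≅ N) → P M → P N
  biprod : ∀ {M N : (KRR.PY n T).Modules}, P M → P N → P (M ⊞ N)
  right : ∀ {S : ShortComplex (KRR.PY n T).Modules}, S.ShortExact → FlatMod.IsFinLocFree S.X₃ →
    P S.X₁ → P S.X₂ → P S.X₃

variable (hP : KoszClosed P)
include hP

theorem mem_kosz (hE : ∀ a : ℤ, 0 ≤ a → P (G E a)) :
    ∀ (s j : ℕ) (a : ℤ), (s : ℤ) ≤ a → P (Kosz.obj (G E) s j a)
  | 0, 0, a, ha => hE a (by simpa using ha)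
  | 0, _ + 1, _, _ => hP.zero (isZero_zero _)
  | s + 1, 0, a, ha => mem_kosz hE s 0 a (by omega)
  | s + 1, j + 1, a, ha => hP.biprod (mem_kosz hE s (j + 1) a (by omega))
      (mem_kosz hE s j (a - 1) (by omega))

variable {A : Type w} [AddCommGroup A] (f : (KRR.PY n T).Modules → A)
  (hf : ∀ S : ShortComplex (KRR.PY n T).Modules, S.ShortExact → P S.X₁ → P S.X₂ →
    P S.X₃ → f S.X₂ = f S.X₁ + f S.X₃)

include hf

theorem f_isZero {Z : (KRR.PY n T).Modules} (hZ : IsZero Z) : f Z = 0 := by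
  have h := hf (ShortComplex.mk (0 : Z ⟶ Z) (0 : Z ⟶ Z) comp_zero)
    { exact := ShortComplex.exact_of_isZero_X₂ _ hZ
      mono_f := ⟨fun _ _ _ => hZ.eq_of_tgt _ _⟩
      epi_g := ⟨fun _ _ _ => hZ.eq_of_src _ _⟩ } (hP.zero hZ) (hP.zero hZ) (hP.zero hZ)
  simpa using h

theorem f_biprod {M N : (KRR.PY n T).Modules} (hM : P M) (hN : P N) :
    f (M ⊞ N) = f M + f N :=
  hf (ShortComplex.mk (biprod.inl : M ⟶ M ⊞ N) biprod.snd biprod.inl_snd)
    (ShortComplex.Splitting.ofHasBinaryBiproduct M N).shortExact hM (hP.biprod hM hN) hN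

theorem f_iso {M N : (KRR.PY n T).Modules} (e : M ≅ N) (hM : P M) : f N = f M := by
  obtain ⟨Z, hZ⟩ : ∃ Z : (KRR.PY n T).Modules, IsZero Z := ⟨_, isZero_zero _⟩
  have h := hf (ShortComplex.mk e.hom (0 : N ⟶ Z) comp_zero) (shortExact_id_left e hZ) hM
    (hP.iso e hM) (hP.zero hZ)
  simpa [f_isZero hP f hf hZ] using h

theorem f_kosz (hE : ∀ a : ℤ, 0 ≤ a → P (G E a)) : ∀ (s j : ℕ) (a : ℤ), (s : ℤ) ≤ a →
    f (Kosz.obj (G E) s j a) = Nat.choose s j • f (G E (a - j))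
  | 0, 0, a, _ => by rw [Kosz.obj]; simp
  | 0, j + 1, a, _ => by rw [Kosz.obj]; simp [f_isZero hP f hf (isZero_zero _)]
  | s + 1, 0, a, ha => by
    rw [Kosz.obj, f_kosz hE s 0 a (by omega)]; simp
  | s + 1, j + 1, a, ha => by
    rw [Kosz.obj, f_biprod hP f hf (mem_kosz hP hE s (j + 1) a (by omega)) (mem_kosz hP hE s j (a - 1) (by omega)),
      f_kosz hE s (j + 1) a (by omega), f_kosz hE s j (a - 1) (by omega), Nat.choose_succ_succ, add_smul,
      show a - 1 - (j : ℤ) = a - ((j + 1 : ℕ) : ℤ) by omega, add_comm]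

/-- The Koszul relation for additive functions. -/
theorem f_koszul_relation' (hE : ∀ a : ℤ, 0 ≤ a → P (G E a)) :
    f E = (-1 : ℤ) ^ n • ∑ j ∈ Finset.range (n + 1),
      (-1 : ℤ) ^ j • (Nat.choose (n + 1) j • f (G E (((n + 1 : ℕ) : ℤ) - j))) := by
  let s := n + 1
  let a : ℤ := ((n + 1 : ℕ) : ℤ)
  let O : ℕ → (KRR.PY n T).Modules := fun j => Kosz.obj (G E) s j a
  let Z : ℕ → (KRR.PY n T).Modules := fun j => kernel (Kosz.d (op E) s j a)
  have hO : ∀ j, P (O j) := fun j => mem_kosz hP hE s j a le_rfl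
  haveI := epi_kosz (op E) s (op_comm E) (op_stalk_bijective E) a
  have hseq := fun j => shortExact_cycles (op E) s (op_comm E) (op_stalk_bijective E) j a
  choose w hw using hseq
  have hZf : ∀ j : ℕ, FlatMod.IsFinLocFree (Z j) := fun j => by
    induction j with
    | zero =>
      exact Groth.LocFree.isFinLocFree_left (kernel_shortExact (Kosz.d (op E) s 0 a))
        (hP.finLocFree (hO 1)) (hP.finLocFree (hO 0))
    | succ j ih => exact Groth.LocFree.isFinLocFree_left (hw j) (hP.finLocFree (hO (j + 2))) ih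
  have hZ : ∀ (k j : ℕ), s ≤ j + k → P (Z j) := by
    intro k
    induction k with
    | zero =>
      exact fun j hj => hP.zero
        (IsZero.of_mono (kernel.ι (Kosz.d (op E) s j a)) (isZero_kosz s (j + 1) a (by omega)))
    | succ k ih => exact fun j hj => hP.right (hw j) (hZf j) (ih (j + 1) (by omega)) (hO (j + 2))
  have hZ' : ∀ j, P (Z j) := fun j => hZ s j (by omega)
  have r0 : f (O 1) = f (Z 0) + f (O 0) :=
    hf _ (kernel_shortExact (Kosz.d (op E) s 0 a)) (hZ' 0) (hO 1) (hO 0)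
  have r : ∀ j, f (O (j + 2)) = f (Z (j + 1)) + f (Z j) := fun j =>
    hf _ (hw j) (hZ' (j + 1)) (hO (j + 2)) (hZ' j)
  have hsum : ∀ m : ℕ, ∑ j ∈ Finset.range (m + 2), (-1 : ℤ) ^ j • f (O j) = (-1 : ℤ) ^ (m + 1) • f (Z m) := by
    intro m
    induction m with
    | zero => simp [Finset.sum_range_succ, r0]
    | succ m ih =>
      rw [Finset.sum_range_succ, ih, r m]
      simp only [pow_succ, mul_neg, mul_one, neg_neg, neg_smul, smul_add]
      abel
  have hz : f (Z (n + 1)) = 0 := f_isZero hP f hf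
    (IsZero.of_mono (kernel.ι (Kosz.d (op E) s (n + 1) a)) (isZero_kosz s (n + 1 + 1) a (by omega)))
  have hzn : f (Z n) = 0 := by
    have := r n
    rwa [hz, f_isZero hP f hf (isZero_kosz s (n + 2) a (by omega) : IsZero (O (n + 2))), zero_add, eq_comm] at this
  have h0 := hsum n
  rw [hzn, smul_zero, Finset.sum_range_succ] at h0
  have hlast : f (O (n + 1)) = f E := by
    change f (Kosz.obj (G E) s (n + 1) a) = _
    rw [f_kosz hP f hf hE s (n + 1) a le_rfl, Nat.choose_self, one_smul]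
    obtain ⟨e⟩ : Nonempty (E ≅ G E (a - ((n + 1 : ℕ) : ℤ))) := by
      rw [show a - ((n + 1 : ℕ) : ℤ) = 0 by simp [a]]
      exact ⟨(RegSheaf.nonempty_twF_zero n T E).some.symm ≪≫ (nonempty_G_iso_twF E 0).some.symm⟩
    exact f_iso hP f hf e (hP.iso ((nonempty_G_iso_twF E 0).some ≪≫
      (RegSheaf.nonempty_twF_zero n T E).some) (hE 0 le_rfl))
  have hj : ∑ j ∈ Finset.range (n + 1), (-1 : ℤ) ^ j •
      (Nat.choose (n + 1) j • f (G E (((n + 1 : ℕ) : ℤ) - j))) =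
      ∑ j ∈ Finset.range (n + 1), (-1 : ℤ) ^ j • f (O j) :=
    Finset.sum_congr rfl fun j _ => by rw [← f_kosz hP f hf hE s j a le_rfl]
  rw [hj, eq_neg_of_add_eq_zero_left h0, hlast, pow_succ, mul_neg, mul_one, neg_smul, neg_neg,
    ← mul_smul, ← pow_add, Even.neg_one_pow ⟨n, rfl⟩, one_smul]

end Kosz

theorem koszClosed_regAt (n : ℕ) (T : Scheme.{u}) (d : ℕ) : KoszClosed (RegAt n T d) where
  finLocFree h := h.1
  zero h := regAt_isZero h
  iso e h := regAt_iso e h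
  biprod hA hB := regAt_biprod hA hB (LocFree.isFinLocFree_biprod hA.1 hB.1)
  right hS h3 h1 h2 := regAt_right hS h3 h1 h2

/-- The Koszul relation for additive functions on `RegAt d`. -/
theorem f_koszul_relation {A : Type w} [AddCommGroup A] {d : ℕ} (f : (KRR.PY n T).Modules → A)
    (hf : ∀ S : ShortComplex (KRR.PY n T).Modules, S.ShortExact → RegAt n T d S.X₁ → RegAt n T d S.X₂ →
      RegAt n T d S.X₃ → f S.X₂ = f S.X₁ + f S.X₃)
    {E : (KRR.PY n T).Modules} (hE : RegAt n T d E) :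
    f E = (-1 : ℤ) ^ n • ∑ j ∈ Finset.range (n + 1),
      (-1 : ℤ) ^ j • (Nat.choose (n + 1) j • f (G E (((n + 1 : ℕ) : ℤ) - j))) :=
  f_koszul_relation' (koszClosed_regAt n T d) f hf fun _ ha => regAt_G ha hE

/-- The property of being finite locally free and regular. -/
abbrev RegP (n : ℕ) (T : Scheme.{u}) : ObjectProperty (KRR.PY n T).Modules :=
  fun M => FlatMod.IsFinLocFree M ∧ KRR.IsRegSheaf n T M

/-- The class in `K₀` of regular sheaves of `E` with `E(d)` regular. -/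
noncomputable def chi (n : ℕ) (T : Scheme.{u}) :
    ℕ → (KRR.PY n T).Modules → KZero.K0sub (RegP n T)
  | 0, E => KZero.clSub (RegP n T) E
  | d + 1, E => (-1 : ℤ) ^ n • ∑ j ∈ Finset.range (n + 1),
      (-1 : ℤ) ^ j • (Nat.choose (n + 1) j • chi n T d (G E (((n + 1 : ℕ) : ℤ) - j)))

theorem regP_iff {E : (KRR.PY n T).Modules} : RegAt n T 0 E ↔ RegP n T E := by
  obtain ⟨e⟩ := RegSheaf.nonempty_twF_zero n T E
  refine ⟨fun h => ⟨h.1, isRegSheaf_iso e (RegSheaf.isQCoh_twF _ (LocFree.isQCoh h.1)) h.2⟩,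
    fun h => ⟨h.1, ?_⟩⟩
  exact isRegSheaf_iso e.symm (LocFree.isQCoh h.1) h.2

theorem regAt_G_pred {d j : ℕ} (hj : j ≤ n) {E : (KRR.PY n T).Modules} (h : RegAt n T (d + 1) E) :
    RegAt n T d (G E (((n + 1 : ℕ) : ℤ) - j)) :=
  regAt_iso (nonempty_G_iso_twF E _).some.symm (regAt_twF h (by push_cast; omega))

theorem exists_shortExact_of_iso {X : Scheme.{u}} {S : ShortComplex X.Modules} (hS : S.ShortExact)
    {A B C : X.Modules} (eA : A ≅ S.X₁) (eB : B ≅ S.X₂) (eC : C ≅ S.X₃) :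
    ∃ (f : A ⟶ B) (g : B ⟶ C) (w : f ≫ g = 0), (ShortComplex.mk f g w).ShortExact :=
  ⟨eA.hom ≫ S.f ≫ eB.inv, eB.hom ≫ S.g ≫ eC.inv, by simp, ShortComplex.shortExact_of_iso
    (ShortComplex.isoMk eA.symm eB.symm eC.symm (by simp) (by simp)) hS⟩

theorem shortExact_G {S : ShortComplex (KRR.PY n T).Modules} (hS : S.ShortExact)
    (h₁ : FlatMod.IsFinLocFree S.X₁) (h₂ : FlatMod.IsFinLocFree S.X₂) (h₃ : FlatMod.IsFinLocFree S.X₃)
    (a : ℤ) : ∃ (f : G S.X₁ a ⟶ G S.X₂ a) (g : G S.X₂ a ⟶ G S.X₃ a) (w : f ≫ g = 0),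
      (ShortComplex.mk f g w).ShortExact :=
  exists_shortExact_of_iso
    (RegSheaf.shortExact_tw S hS (LocFree.isQCoh h₁) (LocFree.isQCoh h₂) (LocFree.isQCoh h₃) a)
    (nonempty_G_iso_twF S.X₁ a).some (nonempty_G_iso_twF S.X₂ a).some (nonempty_G_iso_twF S.X₃ a).some

theorem chi_add : ∀ (d : ℕ) (S : ShortComplex (KRR.PY n T).Modules), S.ShortExact →
    RegAt n T d S.X₁ → RegAt n T d S.X₂ → RegAt n T d S.X₃ →
      chi n T d S.X₂ = chi n T d S.X₁ + chi n T d S.X₃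
  | 0, S, hS, h₁, h₂, h₃ => clSub_rel S hS (regP_iff.1 h₁) (regP_iff.1 h₂) (regP_iff.1 h₃)
  | d + 1, S, hS, h₁, h₂, h₃ => by
    simp only [chi, ← smul_add, ← Finset.sum_add_distrib]
    congr 1
    refine Finset.sum_congr rfl fun j hj => ?_
    congr 2
    have hj' : j ≤ n := Nat.lt_succ_iff.1 (Finset.mem_range.1 hj)
    obtain ⟨f, g, w, h⟩ := shortExact_G hS h₁.1 h₂.1 h₃.1 (((n + 1 : ℕ) : ℤ) - j)
    exact chi_add d _ h (regAt_G_pred hj' h₁) (regAt_G_pred hj' h₂) (regAt_G_pred hj' h₃)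

theorem chi_succ {d : ℕ} {E : (KRR.PY n T).Modules} (hE : RegAt n T d E) :
    chi n T (d + 1) E = chi n T d E :=
  (f_koszul_relation (chi n T d) (chi_add d) hE).symm

theorem regAt_mono {d d' : ℕ} (h : d ≤ d') {E : (KRR.PY n T).Modules} (hE : RegAt n T d E) :
    RegAt n T d' E :=
  regAt_iso (RegSheaf.nonempty_twF_zero n T E).some (regAt_twF hE (a := 0) (by omega))

theorem chi_mono {d d' : ℕ} (h : d ≤ d') {E : (KRR.PY n T).Modules} (hE : RegAt n T d E) :
    chi n T d' E = chi n T d E := by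
  induction h with
  | refl => rfl
  | @step m h ih => exact (chi_succ (regAt_mono h hE)).trans ih

theorem exists_regAt [CompactSpace T] {E : (KRR.PY n T).Modules} (hE : FlatMod.IsFinLocFree E) :
    ∃ d, RegAt n T d E :=
  let ⟨d, hd⟩ := exists_isRegSheaf_twF_locFree hE
  ⟨d, hE, hd⟩

/-- `K₀` of regular finite locally free modules is `K₀` of finite locally free modules. -/
theorem bijective_mapSub_regP [CompactSpace T]
    (h : ∀ M : (KRR.PY n T).Modules, RegP n T M → FlatMod.IsFinLocFree M) :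
    Function.Bijective (SGA6.mapSub (𝟭 (KRR.PY n T).Modules) (RegP n T) (KRR.vbP (KRR.PY n T)) h) := by
  classical
  let Φ : (KRR.PY n T).Modules → KZero.K0sub (RegP n T) := fun E =>
    if hE : ∃ d, RegAt n T d E then chi n T (Nat.find hE) E else 0
  have hΦ : ∀ {d : ℕ} {E : (KRR.PY n T).Modules}, RegAt n T d E → Φ E = chi n T d E := by
    intro d E hE
    have hex : ∃ d, RegAt n T d E := ⟨d, hE⟩
    simp only [Φ, dif_pos hex]
    exact (chi_mono (Nat.find_min' hex hE) (Nat.find_spec hex)).symm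
  let ψ : KZero.K0sub (KRR.vbP (KRR.PY n T)) →+ KZero.K0sub (RegP n T) :=
    liftSub (KRR.vbP (KRR.PY n T)) Φ fun S hS h₁ h₂ h₃ => by
      obtain ⟨d₁, e₁⟩ := exists_regAt h₁
      obtain ⟨d₂, e₂⟩ := exists_regAt h₂
      obtain ⟨d₃, e₃⟩ := exists_regAt h₃
      have g₁ := regAt_mono (show d₁ ≤ d₁ + d₂ + d₃ by omega) e₁
      have g₂ := regAt_mono (show d₂ ≤ d₁ + d₂ + d₃ by omega) e₂
      have g₃ := regAt_mono (show d₃ ≤ d₁ + d₂ + d₃ by omega) e₃
      rw [hΦ g₁, hΦ g₂, hΦ g₃]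
      exact chi_add _ S hS g₁ g₂ g₃
  let μ := SGA6.mapSub (𝟭 (KRR.PY n T).Modules) (RegP n T) (KRR.vbP (KRR.PY n T)) h
  have hμ : ∀ {E}, RegP n T E → μ (KZero.clSub (RegP n T) E) = KZero.clSub (KRR.vbP (KRR.PY n T)) E := by
    intro E hE
    rw [clSub_of hE, clSub_of (h E hE)]
    rfl
  have hchi : ∀ (d : ℕ) (E : (KRR.PY n T).Modules), RegAt n T d E →
      μ (chi n T d E) = KZero.clSub (KRR.vbP (KRR.PY n T)) E := by
    intro d
    induction d with
    | zero => exact fun E hE => hμ (regP_iff.1 hE)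
    | succ d ih =>
      intro E hE
      simp only [chi, map_zsmul, map_sum, map_nsmul]
      rw [Finset.sum_congr rfl fun j hj => by
        rw [ih _ (regAt_G_pred (Nat.lt_succ_iff.1 (Finset.mem_range.1 hj)) hE)]]
      exact (f_koszul_relation (fun M => KZero.clSub (KRR.vbP (KRR.PY n T)) M)
        (fun S hS h₁ h₂ h₃ => clSub_rel S hS h₁.1 h₂.1 h₃.1) hE).symm
  refine Function.bijective_iff_has_inverse.mpr ⟨ψ, fun x => ?_, fun x => ?_⟩
  · have : ψ.comp μ = AddMonoidHom.id _ := k0sub_hom_ext fun E hE => by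
      rw [AddMonoidHom.comp_apply, hμ hE, liftSub_clSub _ _ hE.1, hΦ (regP_iff.2 hE)]
      rfl
    exact DFunLike.congr_fun this x
  · have : μ.comp ψ = AddMonoidHom.id _ := k0sub_hom_ext fun E hE => by
      obtain ⟨d, hd⟩ := exists_regAt hE
      rw [AddMonoidHom.comp_apply, liftSub_clSub _ _ hE, hΦ hd, hchi d E hd]
      rfl
    exact DFunLike.congr_fun this x

end Groth.KTheory.RegKoszul
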