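import Groth.Agent.KTheory.ProjBdlChart
import Groth.Agent.KTheory.RegKoszulK
import Groth.Agent.KTheory.ProjBdlLocal

/-!
# Regular modules on a projective bundle
-/

set_option autoImplicit false
set_option linter.style.haveILetI false
universe u

open CategoryTheory CategoryTheory.Limits AlgebraicGeometry Opposite TopologicalSpace
open Groth.CohBase Groth.PicAux Groth.Variety2.Reg

namespace Groth.KTheory.ProjBdl

open Groth.KTheory.RegKoszul

variable {T P : Scheme.{u}} {n : ℕ} {π : P ⟶ T} {A : LPair P}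

/-- Regularity relative to `π`. -/
def RegB (π : P ⟶ T) (A : LPair P) (M : P.Modules) : Prop :=
  ∀ i : ℕ, 1 ≤ i → Van π (twB A (-(i : ℤ)) M) i

/-- The counit of `π^* ⊣ π_*`. -/
noncomputable abbrev couB (π : P ⟶ T) (M : P.Modules) :
    (Scheme.Modules.pullback π).obj ((Scheme.Modules.pushforward π).obj M) ⟶ M :=
  (Scheme.Modules.pullbackPushforwardAdjunction π).counit.app M

namespace Chart

variable {V : T.Opens} (C : Chart n π A V)
include C

theorem isQCoh_pull {M : P.Modules} (hM : Coh.IsQCoh M) :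
    Coh.IsQCoh ((Scheme.Modules.pullback C.ψ).obj M) :=
  haveI : M.IsQuasicoherent := hM
  Groth.QCohMod.isQCoh_pullback_obj C.ψ M

theorem isRegSheaf {M : P.Modules} (hM : Coh.IsQCoh M) (h : RegB π A M) :
    KRR.IsRegSheaf n (Spec Γ(T, V)) ((Scheme.Modules.pullback C.ψ).obj M) :=
  isRegSheaf_of_local (C.isQCoh_pull hM) fun i hi x => ⟨⊤, isAffineOpen_top _, trivial,
    HV.of_iso (C.pullback_twB _ M).some ((C.hv_iff _ i).1 (h i hi V C.hV))⟩

theorem hv_twB {M : P.Modules} {a : ℤ} {q : ℕ}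
    (h : HV (KRR.pr n (Spec Γ(T, V)) ⁻¹ᵁ ⊤)
      (KRR.twF n (Spec Γ(T, V)) a ((Scheme.Modules.pullback C.ψ).obj M)) q) :
    HV (π ⁻¹ᵁ V) (twB A a M) q :=
  (C.hv_iff _ q).2 (HV.of_iso (C.pullback_twB a M).some.symm h)

/-- Pulling back sections to the chart, `π^* N` over `π⁻¹V` and `N` over `V`. -/
theorem bijective_pullSec (N : T.Modules) (hN : Coh.IsQCoh N) :
    Function.Bijective (fun m : Γ(N, V) => pullSec π N m) := by
  haveI : N.IsQuasicoherent := hN
  let j := C.hV.fromSpec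
  have hj : Function.Bijective (fun m : Γ(N, V) => pullSec j N m) :=
    pullSec_bijective_of_le_range j N C.hV.opensRange_fromSpec.ge
  have hq : Coh.IsQCoh ((Scheme.Modules.pullback j).obj N) := Groth.QCohMod.isQCoh_pullback_obj j N
  haveI := isIso_unit_pr (n := n) _ hq
  have hp : Function.Bijective (fun m : Γ((Scheme.Modules.pullback j).obj N, j ⁻¹ᵁ V) =>
      pullSec (KRR.pr n (Spec Γ(T, V))) _ m) := by
    let η := (Scheme.Modules.pullbackPushforwardAdjunction (KRR.pr n (Spec Γ(T, V)))).unit.app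
      ((Scheme.Modules.pullback j).obj N)
    exact Function.bijective_iff_has_inverse.mpr ⟨(inv η).app (j ⁻¹ᵁ V),
      fun a => congr(($(IsIso.hom_inv_id η)).app (j ⁻¹ᵁ V) a),
      fun a => congr(($(IsIso.inv_hom_id η)).app (j ⁻¹ᵁ V) a)⟩
  have hle : π ⁻¹ᵁ V ≤ C.ψ.opensRange := by rw [← Scheme.Hom.image_top_eq_opensRange, C.range]
  refine ⟨?_, ?_⟩
  · intro a b hab
    refine hj.1 (hp.1 ?_)
    let E := (Scheme.Modules.pullbackComp (KRR.pr n (Spec Γ(T, V))) j).app N
    refine Function.LeftInverse.injective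
      (g := E.inv.app (KRR.pr n (Spec Γ(T, V)) ⁻¹ᵁ j ⁻¹ᵁ V))
      (fun x => congr(($(E.hom_inv_id)).app (KRR.pr n (Spec Γ(T, V)) ⁻¹ᵁ j ⁻¹ᵁ V) x)) ?_
    refine (pullSec_comp _ j N a).trans (Eq.trans ?_ (pullSec_comp _ j N b).symm)
    have e := C.comp
    change pullSec (KRR.pr n (Spec Γ(T, V)) ≫ j) N a = pullSec (KRR.pr n (Spec Γ(T, V)) ≫ j) N b
    revert e
    generalize KRR.pr n (Spec Γ(T, V)) ≫ j = g
    rintro rfl
    rw [← pullSec_comp C.ψ π N a, ← pullSec_comp C.ψ π N b]
    exact congrArg (fun s => ((Scheme.Modules.pullbackComp C.ψ π).hom.app N).app _ (pullSec C.ψ _ s)) hab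
  · exact ((SurjSec.comp (f := KRR.pr n (Spec Γ(T, V))) (g := j) hj.2 hp.2).congr_hom C.comp.symm).of_comp
      (pullSec_bijective_of_le_range C.ψ _ hle).1

theorem app_eq_zero {F Q : P.Modules} (k : F ⟶ Q) (hF : Coh.IsQCoh F) (hreg : RegB π A F)
    (h : ∀ t : Γ(F, π ⁻¹ᵁ V), k.app (π ⁻¹ᵁ V) t = 0) :
    (Scheme.Modules.pullback C.ψ).map k = 0 := by
  let pr := KRR.pr n (Spec Γ(T, V))
  let κ := (Scheme.Modules.pullback C.ψ).map k
  have hG := C.isQCoh_pull hF
  haveI : ((Scheme.Modules.pullback C.ψ).obj F).IsQuasicoherent := hG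
  haveI : ((Scheme.Modules.pushforward pr).obj ((Scheme.Modules.pullback C.ψ).obj F)).IsQuasicoherent :=
    Groth.QCohMod.isQCoh_pushforward _ pr
  haveI : Epi (cou ((Scheme.Modules.pullback C.ψ).obj F)) := epi_counit _ hG (C.isRegSheaf hF hreg)
  have hs : ∀ s : Γ((Scheme.Modules.pullback C.ψ).obj F, pr ⁻¹ᵁ ⊤), κ.app (pr ⁻¹ᵁ ⊤) s = 0 := by
    intro s
    let E := (Scheme.Modules.restrictFunctorIsoPullback C.ψ).app F
    obtain ⟨x, rfl⟩ : ∃ x, E.hom.app ⊤ x = (s : Γ((Scheme.Modules.pullback C.ψ).obj F, ⊤)) :=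
      ⟨E.inv.app ⊤ s, congr(($(E.inv_hom_id)).app ⊤ s)⟩
    have hn := congr(($((Scheme.Modules.restrictFunctorIsoPullback C.ψ).hom.naturality k)).app ⊤ x)
    refine hn.symm.trans ?_
    have hx : ((Scheme.Modules.restrictFunctor C.ψ).map k).app ⊤ x = 0 := by
      have key : ∀ (U : P.Opens) (_ : U = π ⁻¹ᵁ V) (y : Γ(F, U)), k.app U y = 0 := by
        rintro U rfl y
        exact h y
      exact key _ C.range x
    exact (congrArg (((Scheme.Modules.restrictFunctorIsoPullback C.ψ).hom.app Q).app ⊤) hx).trans (map_zero _)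
  have hpush : (Scheme.Modules.pushforward pr).map κ = 0 := by
    obtain ⟨I, p, hp⟩ := exists_free_epi ((Scheme.Modules.pushforward pr).obj ((Scheme.Modules.pullback C.ψ).obj F))
    haveI := hp
    refine (cancel_epi p).1 (Eq.trans ?_ comp_zero.symm)
    refine Limits.Sigma.hom_ext _ _ fun i => ?_
    refine (hom_structure_ext ?_).trans comp_zero.symm
    exact hs ((Limits.Sigma.ι (fun _ : I => Coh.structureModule (Spec Γ(T, V))) i ≫ p).app ⊤ (oneSec _ ⊤))
  rw [← cancel_epi (cou ((Scheme.Modules.pullback C.ψ).obj F)), comp_zero]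
  refine ((Scheme.Modules.pullbackPushforwardAdjunction pr).counit.naturality κ).symm.trans ?_
  change (Scheme.Modules.pullback pr).map ((Scheme.Modules.pushforward pr).map κ) ≫ _ = 0
  rw [hpush, Functor.map_zero, zero_comp]

end Chart

variable (hA : HasCharts n π A)

include hA

theorem van_of_regB {M : P.Modules} (hM : Coh.IsQCoh M) (h : RegB π A M) {q : ℕ} (hq : 1 ≤ q)
    {a : ℤ} (ha : -(q : ℤ) ≤ a) : Van π (twB A a M) q :=
  van_of_charts hA (isQCoh_twB A a hM) fun V C =>
    (RegKoszul.van_of_regular (C.isQCoh_pull hM) (C.isRegSheaf hM h) hq ha).of_iso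
      (C.pullback_twB a M).some.symm

theorem van_of_regB' {M : P.Modules} (hM : Coh.IsQCoh M) (h : RegB π A M) {q : ℕ} (hq : 1 ≤ q) :
    Van π M q :=
  (van_of_regB hA hM h hq (a := 0) (by omega)).of_iso (nonempty_twB_zero A M).some

theorem regB_twB {M : P.Modules} (hM : Coh.IsQCoh M) (h : RegB π A M) (m : ℕ) :
    RegB π A (twB A (m : ℤ) M) := fun i hi =>
  (van_of_regB hA hM h hi (a := -(i : ℤ) + m) (by omega)).of_iso
    (nonempty_twB_twB A (-(i : ℤ)) m _ rfl M).some.symm

theorem exists_regB_twB [CompactSpace T] {M : P.Modules} (hM : FlatMod.IsFinLocFree M) :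
    ∃ d : ℕ, RegB π A (twB A (d : ℤ) M) := by
  classical
  obtain ⟨_, _, _⟩ := facts hA
  choose V hx C using hA
  choose d hd using fun x : T =>
    haveI : CompactSpace (Spec Γ(T, V x)) := inferInstance
    exists_isRegSheaf_twF_locFree (Groth.LocFree.isFinLocFree_pullback (C x).some.ψ hM)
  obtain ⟨t, ht⟩ := isCompact_univ.elim_finite_subcover (fun y => (V y : Set T))
    (fun y => (V y).2) (fun y _ => Set.mem_iUnion.2 ⟨y, hx y⟩)
  refine ⟨t.sup d, fun i hi => ?_⟩
  have hq := LocFree.isQCoh hM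
  haveI : (twB A (-(i : ℤ)) (twB A ((t.sup d : ℕ) : ℤ) M)).IsQuasicoherent :=
    isQCoh_twB A _ (isQCoh_twB A _ hq)
  refine van_of_local fun x => ?_
  obtain ⟨z, hz, hxz⟩ := Set.mem_iUnion₂.1 (ht (Set.mem_univ x))
  refine ⟨V z, (C z).some.hV, hxz, (C z).some.hv_twB ?_⟩
  obtain ⟨m, hm⟩ : ∃ m : ℕ, t.sup d = m + d z :=
    ⟨t.sup d - d z, (Nat.sub_add_cancel (Finset.le_sup (f := d) hz)).symm⟩
  have hr := isRegSheaf_twF (RegSheaf.isQCoh_twF _ ((C z).some.isQCoh_pull hq)) (hd z) m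
  refine HV.of_iso ?_ (RegSheaf.van_of_isRegSheaf
    (RegSheaf.isQCoh_twF _ (RegSheaf.isQCoh_twF _ ((C z).some.isQCoh_pull hq))) hr i hi ⊤ (isAffineOpen_top _))
  exact (twF_iso _ ((RegSheaf.nonempty_twF_twF n _ (m : ℤ) (d z) _ (by rw [hm]; push_cast; ring) _).some ≪≫
    ((C z).some.pullback_twB _ M).some.symm)).some

/-- `N ≅ π_* π^* N`. -/
theorem isIso_unit {N : T.Modules} (hN : Coh.IsQCoh N) :
    IsIso ((Scheme.Modules.pullbackPushforwardAdjunction π).unit.app N) := by
  obtain ⟨_, _, _⟩ := facts hA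
  haveI : N.IsQuasicoherent := hN
  haveI : ((𝟭 T.Modules).obj N).IsQuasicoherent := hN
  haveI : ((Scheme.Modules.pullback π).obj N).IsQuasicoherent := Groth.QCohMod.isQCoh_pullback_obj π N
  haveI : ((Scheme.Modules.pullback π ⋙ Scheme.Modules.pushforward π).obj N).IsQuasicoherent :=
    Groth.QCohMod.isQCoh_pushforward ((Scheme.Modules.pullback π).obj N) π
  refine Groth.OmegaSheaf.isIso_of_affine_cover _ fun x => ?_
  obtain ⟨V, hx, ⟨C⟩⟩ := hA x
  exact ⟨V, C.hV, hx, C.bijective_pullSec N hN⟩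

theorem isZero_push_pullback {N : T.Modules} (hN : Coh.IsQCoh N) {a : ℤ} (h1 : -(n : ℤ) ≤ a)
    (h2 : a < 0) :
    IsZero ((Scheme.Modules.pushforward π).obj (twB A a ((Scheme.Modules.pullback π).obj N))) := by
  obtain ⟨_, _, _⟩ := facts hA
  haveI : N.IsQuasicoherent := hN
  have hM := isQCoh_twB A a (Groth.QCohMod.isQCoh_pullback_obj π N)
  haveI : (twB A a ((Scheme.Modules.pullback π).obj N)).IsQuasicoherent := hM
  haveI := Groth.QCohMod.isQCoh_pushforward (twB A a ((Scheme.Modules.pullback π).obj N)) π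
  exact isZero_of_sections_cover _ (fun V : T.affineOpens => V.1) (fun V => V.2)
    (iSup_affineOpens_eq_top T) fun V =>
      (hv_zero_iff (twB A a ((Scheme.Modules.pullback π).obj N))).1 (van_twB_pullback hA hN (Or.inr h2) (Or.inl h1) V.1 V.2)

/-- Push-forward keeps short exact sequences with acyclic first term. -/
theorem shortExact_push {S : ShortComplex P.Modules} (hS : S.ShortExact) (h₁ : Van π S.X₁ 1)
    (h₂ : Coh.IsQCoh S.X₂) (h₃ : Coh.IsQCoh S.X₃) :
    (S.map (Scheme.Modules.pushforward π)).ShortExact := by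
  obtain ⟨_, _, _⟩ := facts hA
  haveI := hS.mono_f
  haveI := hS.epi_g
  haveI : S.X₂.IsQuasicoherent := h₂
  haveI : S.X₃.IsQuasicoherent := h₃
  haveI : ((Scheme.Modules.pushforward π).obj S.X₂).IsQuasicoherent :=
    Groth.QCohMod.isQCoh_pushforward S.X₂ π
  haveI : ((Scheme.Modules.pushforward π).obj S.X₃).IsQuasicoherent :=
    Groth.QCohMod.isQCoh_pushforward S.X₃ π
  refine ShortComplex.ShortExact.mk' (hS.exact.map_of_mono_of_preservesKernel _ inferInstance inferInstance)
    (@Functor.map_mono _ _ _ _ (Scheme.Modules.pushforward π)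
      (Functor.preservesMonomorphisms_of_adjunction (Scheme.Modules.pullbackPushforwardAdjunction π)) _ _ S.f hS.mono_f) ?_
  refine Groth.QCohMod.epi_of_affine_surjective _ fun V hV => ?_
  intro z
  exact (mem_ker_deltaSec (shortExact_toAb hS) (π ⁻¹ᵁ V) z).mp ((h₁ V hV).elim _ _)

theorem isFinLocFree_push {M : P.Modules} (hM : FlatMod.IsFinLocFree M)
    (h : ∀ q, 1 ≤ q → Van π M q) :
    FlatMod.IsFinLocFree ((Scheme.Modules.pushforward π).obj M) := by
  obtain ⟨_, _, _⟩ := facts hA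
  haveI := LocFree.isQCoh hM
  exact Limits.BC0.isFinLocFree_of_good (goodAt_of_hv
    (PropsBasic.LocFree.isFP_of_isFinLocFree M hM) (CohBase.isFlatOver_of_isFinLocFree _ hM)
    fun V hV q hq => h q hq V hV)

/-- A regular module is generated by its direct image. -/
theorem epi_couB {F : P.Modules} (hF : Coh.IsQCoh F) (hreg : RegB π A F) : Epi (couB π F) := by
  refine (Preadditive.epi_iff_cancel_zero _).2 fun Q k hk => ?_
  have hk0 : ∀ (V : T.Opens) (t : Γ(F, π ⁻¹ᵁ V)), k.app (π ⁻¹ᵁ V) t = 0 := fun V t => by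
    have e2 : (couB π F).app (π ⁻¹ᵁ V) (pullSec π ((Scheme.Modules.pushforward π).obj F)
        (t : Γ((Scheme.Modules.pushforward π).obj F, V))) = t :=
      congr(($((Scheme.Modules.pullbackPushforwardAdjunction π).right_triangle_components F)).app V t)
    have e3 := congr(($hk).app (π ⁻¹ᵁ V) (pullSec π ((Scheme.Modules.pushforward π).obj F)
        (t : Γ((Scheme.Modules.pushforward π).obj F, V))))
    rw [← e2]
    exact e3
  ext U x
  change k.app U x = 0
  refine res_ext (fun z : {p : (y : T) × {V : T.Opens // y ∈ V} // Nonempty (Chart n π A p.2.1)} =>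
      z.2.some.ψ ''ᵁ (z.2.some.ψ ⁻¹ᵁ U)) (fun z => z.2.some.ψ.image_preimage_le U) ?_ fun z => ?_
  · intro p hp
    obtain ⟨V, hV, hC⟩ := hA (π p)
    refine Opens.mem_iSup.2 ⟨⟨⟨π p, V, hV⟩, hC⟩, ?_⟩
    rw [Scheme.Hom.image_preimage_eq_opensRange_inf, ← Scheme.Hom.image_top_eq_opensRange, hC.some.range]
    exact ⟨hV, hp⟩
  · rw [← PicAux.app_res, PicAux.res_zero]
    obtain ⟨⟨y, V, hy⟩, hC⟩ := z
    let ψ := hC.some.ψ
    have h0 := hC.some.app_eq_zero k hF hreg (hk0 V)
    have h1 : (Scheme.Modules.restrictFunctor ψ).map k = 0 := by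
      rw [← cancel_mono ((Scheme.Modules.restrictFunctorIsoPullback ψ).hom.app Q), zero_comp,
        (Scheme.Modules.restrictFunctorIsoPullback ψ).hom.naturality k, h0, comp_zero]
    exact congr(($h1).app (ψ ⁻¹ᵁ U) (res F (ψ.image_preimage_le U) x))

/-- The twisted kernel of the counit of a regular module is regular. -/
theorem regB_kernel {F : P.Modules} (hF : Coh.IsQCoh F) (hreg : RegB π A F) :
    RegB π A (twB A 1 (kernel (couB π F))) := by
  obtain ⟨_, _, _⟩ := facts hA
  haveI : F.IsQuasicoherent := hF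
  haveI hN : ((Scheme.Modules.pushforward π).obj F).IsQuasicoherent :=
    Groth.QCohMod.isQCoh_pushforward F π
  haveI := epi_couB hA hF hreg
  let N := (Scheme.Modules.pushforward π).obj F
  have hP : Coh.IsQCoh ((Scheme.Modules.pullback π).obj N) := Groth.QCohMod.isQCoh_pullback_obj π N
  haveI : ((Scheme.Modules.pullback π).obj N).IsQuasicoherent := hP
  have hK : Coh.IsQCoh (kernel (couB π F)) := (inferInstance : (kernel (couB π F)).IsQuasicoherent)
  have hS := kernel_shortExact (couB π F)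
  intro i hi
  obtain ⟨j, rfl⟩ : ∃ j, i = j + 1 := ⟨i - 1, by omega⟩
  refine Van.of_iso (nonempty_twB_twB A _ 1 (-(j : ℤ)) (by push_cast; ring) _).some.symm ?_
  have hb : Van π (twB A (-(j : ℤ)) ((Scheme.Modules.pullback π).obj N)) (j + 1) :=
    van_twB_pullback hA hN (Or.inl (by omega)) (by omega)
  rcases j with _ | j
  · refine Van.of_iso (nonempty_twB_zero A (kernel (couB π F))).some.symm fun V hV => ?_
    refine hVanish_one_of_hVanish (shortExact_toAb hS)
      ((hb.of_iso (nonempty_twB_zero A _).some) V hV) fun t => ?_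
    exact ⟨pullSec π N (t : Γ(N, V)),
      congr(($((Scheme.Modules.pullbackPushforwardAdjunction π).right_triangle_components F)).app V t)⟩
  · intro V hV
    exact hVanish_first (shortExact_toAb (shortExact_twB A _ hS hK hP hF)) (hb V hV)
      (hreg (j + 1) (by omega) V hV)

end Groth.KTheory.ProjBdl
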