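import Groth.Agent.KTheory.ProjPushLift
import Groth.Agent.PicAux.Powers

/-!
# Integral powers of an invertible module
-/

set_option autoImplicit false
set_option linter.style.haveILetI false
universe u

open CategoryTheory CategoryTheory.Limits AlgebraicGeometry
open Groth.CohBase Groth.PicAux

namespace Groth.KTheory.ProjBdl

/-- An invertible module with an inverse. -/
structure LPair (P : Scheme.{u}) where
  L : P.Modules
  L' : P.Modules
  inv : PicF.IsInvertible L
  hinv : ClSub.IsInverseOf L' L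

variable {P : Scheme.{u}} (A : LPair P)

theorem isInvertible_inv : PicF.IsInvertible A.L' :=
  isInvertible_of_isInverseOf A.inv (isInverseOf_symm A.hinv)

/-- `L^a` for an integer `a`. -/
noncomputable def pw : ℤ → P.Modules
  | Int.ofNat m => CohB1.tensorPow A.L m
  | Int.negSucc m => CohB1.tensorPow A.L' (m + 1)

theorem isInvertible_pw : ∀ a : ℤ, PicF.IsInvertible (pw A a)
  | Int.ofNat m => PicAux.isInvertible_tensorPow A.inv m
  | Int.negSucc m => PicAux.isInvertible_tensorPow (isInvertible_inv A) (m + 1)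

theorem isFinLocFree_pw (a : ℤ) : FlatMod.IsFinLocFree (pw A a) :=
  Groth.LocFree.isFinLocFree_of_rank (Groth.LocFree.isInvertible_iff_ofRank_one.1 (isInvertible_pw A a))

theorem pw_succ : ∀ a : ℤ, Nonempty (pw A (a + 1) ≅ CohB1.tensorMod (pw A a) A.L)
  | Int.ofNat m => ⟨Iso.refl _⟩
  | Int.negSucc 0 => by
    refine ⟨?_⟩
    change CohB1.tensorPow A.L 0 ≅ CohB1.tensorMod (CohB1.tensorPow A.L' (0 + 1)) A.L
    exact A.hinv.some.symm ≪≫ PicGrp.tensorModIso (Groth.PicAux.tensorPow_one A.L').some.symm (Iso.refl _)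
  | Int.negSucc (m + 1) => by
    refine ⟨?_⟩
    rw [show Int.negSucc (m + 1) + 1 = Int.negSucc m by omega]
    change CohB1.tensorPow A.L' (m + 1) ≅ CohB1.tensorMod (CohB1.tensorMod (CohB1.tensorPow A.L' (m + 1)) A.L') A.L
    exact (SecTwist.unitorR _).symm ≪≫ PicGrp.tensorModIso (Iso.refl _) A.hinv.some.symm ≪≫
      (exists_associator _ _ _).choose.symm

theorem pw_zero : Nonempty (pw A 0 ≅ Coh.structureModule P) := ⟨Iso.refl _⟩

theorem pw_add (a b : ℤ) : Nonempty (CohB1.tensorMod (pw A a) (pw A b) ≅ pw A (a + b)) := by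
  induction b using Int.induction_on with
  | zero =>
    rw [add_zero]
    exact ⟨SecTwist.unitorR (pw A a)⟩
  | succ i ih =>
    obtain ⟨e⟩ := ih
    rw [← add_assoc]
    exact ⟨PicGrp.tensorModIso (Iso.refl _) (pw_succ A i).some ≪≫
      (exists_associator _ _ _).choose.symm ≪≫ PicGrp.tensorModIso e (Iso.refl _) ≪≫
      (pw_succ A (a + i)).some.symm⟩
  | pred i ih =>
    obtain ⟨e⟩ := ih
    have e₁ : pw A (-(i : ℤ) - 1) ≅ CohB1.tensorMod (pw A (-(i : ℤ))) A.L' := by
      have s := (pw_succ A (-(i : ℤ) - 1)).some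
      rw [sub_add_cancel] at s
      exact (SecTwist.unitorR _).symm ≪≫ PicGrp.tensorModIso (Iso.refl _) (isInverseOf_symm A.hinv).some.symm ≪≫
        (exists_associator _ _ _).choose.symm ≪≫ PicGrp.tensorModIso s.symm (Iso.refl _)
    have e₂ : pw A (a + (-(i : ℤ) - 1)) ≅ CohB1.tensorMod (pw A (a + -(i : ℤ))) A.L' := by
      have s := (pw_succ A (a + (-(i : ℤ) - 1))).some
      rw [show a + (-(i : ℤ) - 1) + 1 = a + -(i : ℤ) by omega] at s
      exact (SecTwist.unitorR _).symm ≪≫ PicGrp.tensorModIso (Iso.refl _) (isInverseOf_symm A.hinv).some.symm ≪≫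
        (exists_associator _ _ _).choose.symm ≪≫ PicGrp.tensorModIso s.symm (Iso.refl _)
    exact ⟨PicGrp.tensorModIso (Iso.refl _) e₁ ≪≫ (exists_associator _ _ _).choose.symm ≪≫
      PicGrp.tensorModIso e (Iso.refl _) ≪≫ e₂.symm⟩

/-- `F(a)`. -/
noncomputable def twB (a : ℤ) (F : P.Modules) : P.Modules :=
  ((DCoh.tensorBi (X := P)).obj (pw A a)).obj F

theorem isQCoh_twB (a : ℤ) {F : P.Modules} (hF : Coh.IsQCoh F) : Coh.IsQCoh (twB A a F) :=
  haveI : F.IsQuasicoherent := hF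
  haveI := LocFree.isQCoh (isFinLocFree_pw A a)
  Groth.QCohMod.isQCoh_tensorMod (M := pw A a) (N := F)

theorem isFinLocFree_twB (a : ℤ) {F : P.Modules} (hF : FlatMod.IsFinLocFree F) :
    FlatMod.IsFinLocFree (twB A a F) :=
  Groth.LocFree.isFinLocFree_tensorMod (isFinLocFree_pw A a) hF

theorem nonempty_twB_twB (a b c : ℤ) (h : a + b = c) (F : P.Modules) :
    Nonempty (twB A a (twB A b F) ≅ twB A c F) := by
  subst h
  exact ⟨((exists_associator _ _ F).choose).symm ≪≫ PicGrp.tensorModIso (pw_add A a b).some (Iso.refl F)⟩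

theorem nonempty_twB_zero (F : P.Modules) : Nonempty (twB A 0 F ≅ F) :=
  ⟨PicGrp.tensorModIso (pw_zero A).some (Iso.refl F) ≪≫ (exists_leftUnitor F).choose⟩

theorem twB_iso (a : ℤ) {F F' : P.Modules} (e : F ≅ F') : Nonempty (twB A a F ≅ twB A a F') :=
  ⟨((DCoh.tensorBi (X := P)).obj (pw A a)).mapIso e⟩

theorem shortExact_twB (a : ℤ) {S : ShortComplex P.Modules} (hS : S.ShortExact)
    (h₁ : Coh.IsQCoh S.X₁) (h₂ : Coh.IsQCoh S.X₂) (h₃ : Coh.IsQCoh S.X₃) :
    (S.map ((DCoh.tensorBi (X := P)).obj (pw A a))).ShortExact :=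
  haveI : S.X₁.IsQuasicoherent := h₁
  haveI : S.X₂.IsQuasicoherent := h₂
  haveI : S.X₃.IsQuasicoherent := h₃
  LambdaVb.shortExact_tensor (isFinLocFree_pw A a) hS

end Groth.KTheory.ProjBdl
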