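import Mathlib.Algebra.Homology.DerivedCategory.KProjective
import Mathlib.Algebra.Homology.DerivedCategory.HomologySequence
import Mathlib.Algebra.Homology.DerivedCategory.TStructure

/-!
# Maps out of bounded complexes of projective objects
-/

set_option autoImplicit false
universe w v u
open CategoryTheory CategoryTheory.Limits CategoryTheory.Pretriangulated

namespace Groth.Agent.ProjHom

variable {A : Type u} [Category.{v} A] [Abelian A] [HasDerivedCategory.{w} A]

lemma Q_map_surjective (P L : CochainComplex A ℤ) [P.IsKProjective]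
    (φ : DerivedCategory.Q.obj P ⟶ DerivedCategory.Q.obj L) :
    ∃ f : P ⟶ L, DerivedCategory.Q.map f = φ := by
  let e := DerivedCategory.quotientCompQhIso A
  obtain ⟨g, hg⟩ := (CochainComplex.IsKProjective.Qh_map_bijective P
    ((HomotopyCategory.quotient _ _).obj L)).2 (e.hom.app P ≫ φ ≫ e.inv.app L)
  obtain ⟨f, rfl⟩ := (HomotopyCategory.quotient _ _).map_surjective g
  refine ⟨f, ?_⟩
  rw [← cancel_epi (e.hom.app P), ← cancel_mono (e.inv.app L), Category.assoc, Category.assoc, ← hg,
    ← e.hom.naturality_assoc]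
  simp

lemma quotient_map_eq {P L : CochainComplex A ℤ} [P.IsKProjective] (f g : P ⟶ L)
    (h : DerivedCategory.Q.map f = DerivedCategory.Q.map g) :
    (HomotopyCategory.quotient A (ComplexShape.up ℤ)).map f = (HomotopyCategory.quotient _ _).map g := by
  let e := DerivedCategory.quotientCompQhIso A
  refine (CochainComplex.IsKProjective.Qh_map_bijective P ((HomotopyCategory.quotient _ _).obj L)).1 ?_
  have hn := e.hom.naturality f
  rw [h, ← e.hom.naturality g] at hn
  exact (cancel_mono (e.hom.app L)).1 hn

/-- Projective complexes in degrees `≥ n` see nothing of complexes acyclic in degrees `≥ n`. -/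
lemma hom_eq_zero (P K : CochainComplex A ℤ) (n b : ℤ) [P.IsStrictlyGE n] [P.IsStrictlyLE b]
    (hP : ∀ i : ℤ, Projective (P.X i)) {X : DerivedCategory A} (e : DerivedCategory.Q.obj K ≅ X)
    (hK : ∀ i : ℤ, n ≤ i → IsZero ((DerivedCategory.homologyFunctor A i).obj X))
    (φ : DerivedCategory.Q.obj P ⟶ X) : φ = 0 := by
  have := CochainComplex.isKProjective_of_projective P b
  have : X.IsLE (n - 1) := (DerivedCategory.isLE_iff X (n - 1)).2 (fun i hi => hK i (by omega))
  obtain ⟨L, _, ⟨eL⟩⟩ := DerivedCategory.exists_iso_Q_obj_of_isLE X (n - 1)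
  obtain ⟨f, hf⟩ := Q_map_surjective P L (φ ≫ eL.hom)
  have : f = 0 := by
    ext i
    by_cases hi : i < n
    · exact (P.isZero_of_isStrictlyGE n i hi).eq_of_src _ _
    · exact (L.isZero_of_isStrictlyLE (n - 1) i (by omega)).eq_of_tgt _ _
  rw [this, Functor.map_zero] at hf
  rw [← cancel_mono eL.hom, zero_comp, ← hf]

lemma isZero_homology_obj₃ {T : Triangle (DerivedCategory A)} (hT : T ∈ distTriang _) (i : ℤ)
    (h₁ : Epi ((DerivedCategory.homologyFunctor A i).map T.mor₁))
    (h₂ : Mono ((DerivedCategory.homologyFunctor A (i + 1)).map T.mor₁)) :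
    IsZero ((DerivedCategory.homologyFunctor A i).obj T.obj₃) := by
  have hπ : (DerivedCategory.homologyFunctor A i).map T.mor₂ = 0 :=
    (DerivedCategory.HomologySequence.epi_homologyMap_mor₁_iff T hT i).1 h₁
  have hδ : DerivedCategory.HomologySequence.δ T i (i + 1) = 0 :=
    (DerivedCategory.HomologySequence.mono_homologyMap_mor₁_iff T hT i (i + 1)).1 h₂
  have : Mono (DerivedCategory.HomologySequence.δ T i (i + 1)) :=
    (DerivedCategory.HomologySequence.exact₃ T hT i (i + 1)).mono_g hπ
  exact IsZero.of_mono_eq_zero _ hδ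

end Groth.Agent.ProjHom
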