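import Groth.Agent.KTheory.PushRes
import Groth.Agent.KTheory.LambdaVb
import Groth.Agent.RefRank.Divisor
import Groth.Agent.ProjFormula.Natural

/-!
# Projection formula, composition and disjointness for push-forwards along closed immersions
-/

set_option autoImplicit false
set_option linter.style.haveILetI false
universe v u

open CategoryTheory CategoryTheory.Limits AlgebraicGeometry

namespace Groth.KTheory.PushProps

open Groth.KTheory.Resolution LFRes PushRes LambdaVb

variable {X Y Z : Scheme.{u}}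

theorem shortExact_push (i : X ⟶ Y) [IsClosedImmersion i] {S : ShortComplex X.Modules}
    (hS : S.ShortExact) [S.X₁.IsQuasicoherent] [S.X₂.IsQuasicoherent] [S.X₃.IsQuasicoherent] :
    (S.map (Scheme.Modules.pushforward i)).ShortExact := by
  have q₁ : ((Scheme.Modules.pushforward i).obj S.X₁).IsQuasicoherent :=
    Groth.QCohMod.isQCoh_pushforward _ i
  have q₂ : ((Scheme.Modules.pushforward i).obj S.X₂).IsQuasicoherent :=
    Groth.QCohMod.isQCoh_pushforward _ i
  have q₃ : ((Scheme.Modules.pushforward i).obj S.X₃).IsQuasicoherent :=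
    Groth.QCohMod.isQCoh_pushforward _ i
  let T := S.map (Scheme.Modules.pushforward i)
  have : T.X₁.IsQuasicoherent := q₁
  have : T.X₂.IsQuasicoherent := q₂
  have : T.X₃.IsQuasicoherent := q₃
  have hsec : ∀ U (hU : IsAffineOpen U), Function.Injective (T.f.app U) ∧
      Function.Exact (T.f.app U) (T.g.app U) ∧ Function.Surjective (T.g.app U) :=
    fun U hU => ExtFilt.sections_exact hS (hU.preimage i)
  refine { exact := ?_, mono_f := ?_, epi_g := ?_ }
  · refine Groth.OmegaSheaf.exact_of_affine_cover T fun x => ?_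
    obtain ⟨U, hU, hx⟩ := Groth.QCohMod.exists_affine_mem x
    exact ⟨U, hU, hx, fun m hm => ((hsec U hU).2.1 m).1 hm⟩
  · refine Groth.OmegaSheaf.mono_of_affine_cover T.f fun x => ?_
    obtain ⟨U, hU, hx⟩ := Groth.QCohMod.exists_affine_mem x
    exact ⟨U, hU, hx, (hsec U hU).1⟩
  · exact Groth.QCohMod.epi_of_affine_surjective T.g fun U hU => (hsec U hU).2.2

section Restrict

variable [IsLocallyNoetherian Y] (hY : KRR.HasEnoughLocFree Y)

/-- Restriction to an open over which the module is a bundle. -/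
theorem pullHom_eul_of_bundle (U : Y.Opens) : ∀ {n : ℕ} {A : Y.Modules},
    Res (KRR.vbP Y) (cohProp Y) n A →
    FlatMod.IsFinLocFree ((Scheme.Modules.pullback U.ι).obj A) →
    KvbPull.pullHom U.ι (eul hY A) = kcl ((Scheme.Modules.pullback U.ι).obj A) := by
  intro n
  induction n with
  | zero => intro A hA _; rw [eul_bundle hY hA, KvbPull.pullHom_kcl _ hA]
  | succ n ih =>
    rintro A ⟨hA1, K, L₀, i, p, w, hS, hL₀, hK⟩ hA
    let e := (Scheme.Modules.restrictFunctorIsoPullback U.ι)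
    have : PreservesFiniteColimits (Scheme.Modules.pullback U.ι) :=
      preservesFiniteColimits_of_natIso e
    have : PreservesFiniteLimits (Scheme.Modules.pullback U.ι) :=
      preservesFiniteLimits_of_natIso e
    have hS' : ((ShortComplex.mk i p w).map (Scheme.Modules.pullback U.ι)).ShortExact :=
      hS.map_of_exact _
    have hL' := Groth.LocFree.isFinLocFree_pullback U.ι hL₀
    have hK' : FlatMod.IsFinLocFree ((Scheme.Modules.pullback U.ι).obj K) :=
      Groth.LocFree.isFinLocFree_left hS' hL' hA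
    have h := eul_rel hY hS ⟨n, hK⟩ ⟨0, hL₀⟩ ⟨n + 1, hA1, K, L₀, i, p, w, hS, hL₀, hK⟩
    rw [eul_bundle hY hL₀] at h
    have h' := congrArg (KvbPull.pullHom U.ι) h
    rw [map_add, KvbPull.pullHom_kcl _ hL₀, ih hK hK'] at h'
    exact add_left_cancel (h'.symm.trans (clSub_rel _ hS' hK' hL' hA))

/-- Tensoring with a bundle. -/
theorem finRes_tensor {G : Y.Modules} (hG : FlatMod.IsFinLocFree G) : ∀ {n : ℕ} {A : Y.Modules},
    Res (KRR.vbP Y) (cohProp Y) n A →
    Res (KRR.vbP Y) (cohProp Y) n (CohB1.tensorMod G A) ∧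
      eul hY (CohB1.tensorMod G A) = mulHom (kcl G) (eul hY A) := by
  intro n
  induction n with
  | zero =>
    intro A hA
    have h := Groth.LocFree.isFinLocFree_tensorMod hG hA
    exact ⟨h, by rw [eul_bundle hY h, eul_bundle hY hA, mulHom_kcl hG hA]⟩
  | succ n ih =>
    rintro A ⟨hA1, K, L₀, i, p, w, hS, hL₀, hK⟩
    obtain ⟨hK', eK⟩ := ih hK
    have := ((setup hY).res_le hK).1
    have := LocFree.isQCoh hL₀
    have := hA1.1
    have hS' := LambdaVb.shortExact_tensor hG hS
    have hL' := Groth.LocFree.isFinLocFree_tensorMod hG hL₀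
    have hA' : Coh.IsCoh (CohB1.tensorMod G A) :=
      RefRank.isCoh_tensorMod (LocFree.isCoh hG) hA1
    have hres : Res (KRR.vbP Y) (cohProp Y) (n + 1) (CohB1.tensorMod G A) :=
      ⟨hA', _, _, _, _, _, hS', hL', hK'⟩
    refine ⟨hres, ?_⟩
    have h := eul_rel hY hS ⟨n, hK⟩ ⟨0, hL₀⟩ ⟨n + 1, hA1, K, L₀, i, p, w, hS, hL₀, hK⟩
    have h' : eul hY (CohB1.tensorMod G L₀) =
        eul hY (CohB1.tensorMod G K) + eul hY (CohB1.tensorMod G A) :=
      eul_rel hY hS' ⟨n, hK'⟩ ⟨0, hL'⟩ ⟨n + 1, hres⟩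
    rw [eul_bundle hY hL₀] at h
    rw [eul_bundle hY hL', ← mulHom_kcl hG hL₀, h, map_add, eK] at h'
    exact (add_left_cancel h').symm

end Restrict

section Comp

variable [IsLocallyNoetherian Y] [IsNoetherian Z] (hY : KRR.HasEnoughLocFree Y)
  (hZ : KRR.HasEnoughLocFree Z)

theorem finRes_push_of_res (g : Y ⟶ Z) (hg : Mor2.IsRegularClosedImmersion g)
    (ψ : SGA6.Kvb Y →+ SGA6.Kvb Z)
    (hψ : ∀ L, FlatMod.IsFinLocFree L → ψ (kcl L) = eul hZ ((Scheme.Modules.pushforward g).obj L)) :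
    ∀ {n : ℕ} {A : Y.Modules}, Res (KRR.vbP Y) (cohProp Y) n A →
      FinRes (KRR.vbP Z) (cohProp Z) ((Scheme.Modules.pushforward g).obj A) ∧
        eul hZ ((Scheme.Modules.pushforward g).obj A) = ψ (eul hY A) := by
  haveI := hg.1
  intro n
  induction n with
  | zero =>
    intro A hA
    exact ⟨finRes_push g hg hZ hA, by rw [eul_bundle hY hA, hψ A hA]⟩
  | succ n ih =>
    rintro A ⟨hA1, K, L₀, i, p, w, hS, hL₀, hK⟩
    obtain ⟨hK', eK⟩ := ih hK
    have := ((setup hY).res_le hK).1
    have := LocFree.isQCoh hL₀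
    have := hA1.1
    have hS' := shortExact_push g hS
    have hA' : FinRes (KRR.vbP Z) (cohProp Z) ((Scheme.Modules.pushforward g).obj A) :=
      (setup hZ).finRes_X₃ hS' hK' (finRes_push g hg hZ hL₀) (CohTwo.isCoh_push g hA1)
    refine ⟨hA', ?_⟩
    have h := eul_rel hY hS ⟨n, hK⟩ ⟨0, hL₀⟩ ⟨n + 1, hA1, K, L₀, i, p, w, hS, hL₀, hK⟩
    have h' : eul hZ ((Scheme.Modules.pushforward g).obj L₀) =
        eul hZ ((Scheme.Modules.pushforward g).obj K) +
          eul hZ ((Scheme.Modules.pushforward g).obj A) :=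
      eul_rel hZ hS' hK' (finRes_push g hg hZ hL₀) hA'
    rw [eul_bundle hY hL₀] at h
    rw [← hψ L₀ hL₀, h, map_add, eK] at h'
    exact (add_left_cancel h').symm

end Comp

theorem k_hom_ext {KX : Type v} [CommRing KX] [LambdaRing.LambdaOps KX]
    {PX : LambdaRing.PosStructure KX} {φX : SGA6.Kvb X →+ KX} (hKX : KRR.IsModel X KX PX φX)
    {G : Type*} [AddCommGroup G] {a b : KX →+ G}
    (h : ∀ F, FlatMod.IsFinLocFree F → a (φX (kcl F)) = b (φX (kcl F))) : a = b := by
  ext x
  obtain ⟨y, rfl⟩ := hKX.bijective.2 x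
  exact congr($(k0sub_hom_ext (f := a.comp φX) (g := b.comp φX) h) y)

end Groth.KTheory.PushProps
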