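import Groth.Agent.KTheory.RegKoszulLF
import Groth.Agent.KTheory.PushProps
import Groth.Agent.Inter.PushProper
import Groth.Agent.SpectralTopology.ConsModLocus

/-!
# Push-forward of classes along relative projective space: basic properties
-/

set_option autoImplicit false
set_option linter.style.haveILetI false
universe v u

open CategoryTheory CategoryTheory.Limits AlgebraicGeometry
open Groth.CohBase Groth.PicAux Groth.Variety2.Reg

namespace Groth.KTheory.ProjPush

open Groth.KTheory.RegKoszul Groth.KTheory.Resolution LFRes PushRes LambdaVb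

theorem isNoetherian_PY (n : ℕ) (T : Scheme.{u}) [IsNoetherian T] : IsNoetherian (KRR.PY n T) := by
  haveI := (pr_facts n T).1
  haveI := isLocallyNoetherian_PY n T
  haveI : CompactSpace (KRR.PY n T) := QuasiCompact.compactSpace_of_compactSpace (KRR.pr n T)
  exact ⟨⟩

theorem isCoh_twF {n : ℕ} {T : Scheme.{u}} [IsNoetherian T] (d : ℤ) {F : (KRR.PY n T).Modules}
    (hF : Coh.IsCoh F) : Coh.IsCoh (KRR.twF n T d F) :=
  haveI := isLocallyNoetherian_PY n T
  RefRank.isCoh_tensorMod (LocFree.isCoh (RegSheaf.isFinLocFree_twistOver n T d)) hF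

/-- Projective space over a scheme with enough locally free modules has enough of them. -/
theorem hasEnoughLocFree_PY (n : ℕ) {T : Scheme.{u}} [IsNoetherian T] (hT : KRR.HasEnoughLocFree T) :
    KRR.HasEnoughLocFree (KRR.PY n T) := by
  intro F hF
  obtain ⟨_, _, _⟩ := pr_facts n T
  haveI := isLocallyNoetherian_PY n T
  haveI := hF.1
  obtain ⟨d, hd⟩ := exists_isRegSheaf_twF hF
  let G := KRR.twF n T (d : ℤ) F
  have hG : Coh.IsCoh G := isCoh_twF _ hF
  haveI : G.IsQuasicoherent := hG.1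
  obtain ⟨E, p, hE, hp⟩ := hT _ (Inter.isCoh_push_proper (KRR.pr n T) hG)
  haveI := hp
  haveI : Epi (cou G) := epi_counit _ hG.1 hd
  haveI : PreservesColimitsOfSize.{0, 0} (Scheme.Modules.pullback (KRR.pr n T)) :=
    (Scheme.Modules.pullbackPushforwardAdjunction (KRR.pr n T)).leftAdjoint_preservesColimits
  haveI : Epi ((Scheme.Modules.pullback (KRR.pr n T)).map p) := inferInstance
  let a := (Scheme.Modules.pullback (KRR.pr n T)).map p ≫ cou G
  haveI : Epi a := epi_comp _ _
  let τ := (DCoh.tensorBi (X := KRR.PY n T)).obj (Twist.twistOver n T (-(d : ℤ)))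
  have hτ : Epi (τ.map a) := by
    exact @Functor.map_epi _ _ _ _ τ (by
      haveI : PreservesFiniteColimits τ :=
        (Groth.ProjFormula.preservesFinite_tF (RegSheaf.isFinLocFree_twistOver n T (-(d : ℤ)))).2
      infer_instance) _ _ a inferInstance
  refine ⟨KRR.twF n T (-(d : ℤ)) ((Scheme.Modules.pullback (KRR.pr n T)).obj E),
    τ.map a ≫ ((RegSheaf.nonempty_twF_twF n T (-(d : ℤ)) d 0 (by omega) F).some ≪≫
      (RegSheaf.nonempty_twF_zero n T F).some).hom,
    isFinLocFree_twF _ (Groth.LocFree.isFinLocFree_pullback _ hE), ?_⟩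
  refine @epi_comp _ _ _ _ _ (τ.map a) hτ _ ?_
  infer_instance

section EulMap

variable {Y Z : Scheme.{u}} [IsLocallyNoetherian Y] [IsLocallyNoetherian Z]

/-- An exact functor preserving bundles and coherence commutes with the class of a resolvable module. -/
theorem eul_map (hY : KRR.HasEnoughLocFree Y) (hZ : KRR.HasEnoughLocFree Z) (G : Y.Modules ⥤ Z.Modules)
    [G.Additive] [PreservesFiniteLimits G] [PreservesFiniteColimits G]
    (hG : ∀ M, FlatMod.IsFinLocFree M → FlatMod.IsFinLocFree (G.obj M))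
    (hGc : ∀ M, Coh.IsCoh M → Coh.IsCoh (G.obj M)) :
    ∀ {n : ℕ} {A : Y.Modules}, Res (KRR.vbP Y) (cohProp Y) n A →
      Res (KRR.vbP Z) (cohProp Z) n (G.obj A) ∧
        eul hZ (G.obj A) = SGA6.mapSub G (KRR.vbP Y) (KRR.vbP Z) hG (eul hY A) := by
  have hcl : ∀ L, FlatMod.IsFinLocFree L →
      SGA6.mapSub G (KRR.vbP Y) (KRR.vbP Z) hG (kcl L) = kcl (G.obj L) := fun L hL => by
    change SGA6.mapSub _ _ _ _ (KZero.clSub (KRR.vbP Y) L) = KZero.clSub (KRR.vbP Z) _
    rw [clSub_of hL, clSub_of (P := KRR.vbP Z) (hG L hL)]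
    rfl
  intro n
  induction n with
  | zero =>
    intro A hA
    exact ⟨hG A hA, by rw [eul_bundle hY hA, eul_bundle hZ (hG A hA), hcl A hA]⟩
  | succ n ih =>
    rintro A ⟨hA1, K, L₀, i, p, w, hS, hL₀, hK⟩
    obtain ⟨hK', eK⟩ := ih hK
    have hS' := hS.map_of_exact G
    have hres : Res (KRR.vbP Z) (cohProp Z) (n + 1) (G.obj A) :=
      ⟨hGc A hA1, _, _, _, _, _, hS', hG L₀ hL₀, hK'⟩
    refine ⟨hres, ?_⟩
    have h := eul_rel hY hS ⟨n, hK⟩ ⟨0, hL₀⟩ ⟨n + 1, hA1, K, L₀, i, p, w, hS, hL₀, hK⟩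
    have h' : eul hZ (G.obj L₀) = eul hZ (G.obj K) + eul hZ (G.obj A) :=
      eul_rel hZ hS' ⟨n, hK'⟩ ⟨0, hG L₀ hL₀⟩ ⟨n + 1, hres⟩
    rw [eul_bundle hY hL₀] at h
    rw [eul_bundle hZ (hG L₀ hL₀), ← hcl L₀ hL₀, h, map_add, eK] at h'
    exact (add_left_cancel h').symm

end EulMap

section PushHom

variable {n : ℕ} {T : Scheme.{u}}

/-- `h` is the push-forward of classes along `P^n_T ⟶ T`. -/
def IsPushHom (n : ℕ) (T : Scheme.{u}) (h : SGA6.Kvb (KRR.PY n T) →+ SGA6.Kvb T) : Prop :=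
  ∀ F : (KRR.PY n T).Modules, FlatMod.IsFinLocFree F → KRR.IsRegSheaf n T F →
    h (KRR.cl (KRR.PY n T) F) = RegKoszul.pushCl n T F

theorem exists_pushHom_pr (n : ℕ) (T : Scheme.{u}) [CompactSpace T] :
    ∃ h, IsPushHom n T h := by
  obtain ⟨_, _, _⟩ := pr_facts n T
  have hacy : ∀ F, RegP n T F → AcyP n T F := fun F hF =>
    ⟨hF.1, fun q hq => (van_of_regular (LocFree.isQCoh hF.1) hF.2 hq (r := 0) (by omega)).of_iso
      (RegSheaf.nonempty_twF_zero n T F).some⟩
  let f := liftSub (RegP n T) (RegKoszul.pushCl n T) fun S hS h₁ h₂ h₃ =>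
    pushCl_add S hS (hacy _ h₁) (hacy _ h₂) (hacy _ h₃)
  let e := AddEquiv.ofBijective _ (bijective_mapSub_regP (n := n) (T := T) (fun _ h => h.1))
  refine ⟨f.comp e.symm.toAddMonoidHom, fun F hF hreg => ?_⟩
  have hR : RegP n T F := ⟨hF, hreg⟩
  have : e (KZero.clSub (RegP n T) F) = KRR.cl (KRR.PY n T) F := by
    change SGA6.mapSub _ _ _ _ _ = _
    rw [clSub_of hR, KRR.cl, clSub_of hR.1]
    rfl
  rw [AddMonoidHom.comp_apply, ← this]
  change f (e.symm (e _)) = _
  rw [e.symm_apply_apply]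
  exact liftSub_clSub _ _ hR

/-- The push-forward of the class of `pr^* E (-i)`. -/
theorem IsPushHom.twist_pullback [CompactSpace T] {h : SGA6.Kvb (KRR.PY n T) →+ SGA6.Kvb T}
    (hh : IsPushHom n T h) {E : T.Modules} (hE : FlatMod.IsFinLocFree E) {i : ℕ} (hi : i ≤ n) :
    h (KRR.cl (KRR.PY n T) (KRR.twF n T (-(i : ℤ)) ((Scheme.Modules.pullback (KRR.pr n T)).obj E))) =
      if i = 0 then KRR.cl T E else 0 := by
  have hEq : Coh.IsQCoh E := LocFree.isQCoh hE
  haveI : E.IsQuasicoherent := hEq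
  have hP := Groth.LocFree.isFinLocFree_pullback (KRR.pr n T) hE
  let M := (Scheme.Modules.pullback (KRR.pr n T)).obj E
  have hacy : ∀ a : ℤ, 0 ≤ a → AcyP n T (G (KRR.twF n T (-(i : ℤ)) M) a) := fun a ha =>
    (koszClosed_acyP n T).iso ((RegSheaf.nonempty_twF_twF n T a (-(i : ℤ)) _ rfl M).some.symm ≪≫
      (nonempty_G_iso_twF _ a).some.symm)
      ⟨isFinLocFree_twF _ hP, fun q hq => van_twF_pullback E hEq hq (Or.inl (by omega))⟩
  rw [eq_pushCl h hh hacy]
  split_ifs with h0
  · subst h0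
    haveI := isIso_unit_pr (n := n) E hEq
    exact (LambdaVb.kcl_iso ((asIso ((Scheme.Modules.pullbackPushforwardAdjunction
      (KRR.pr n T)).unit.app E)) ≪≫ (Scheme.Modules.pushforward (KRR.pr n T)).mapIso
        (RegSheaf.nonempty_twF_zero n T M).some.symm) hE).symm
  · have hq : Coh.IsQCoh (KRR.twF n T (-(i : ℤ)) M) := RegSheaf.isQCoh_twF _ (LocFree.isQCoh hP)
    haveI : (KRR.twF n T (-(i : ℤ)) M).IsQuasicoherent := hq
    haveI : ((Scheme.Modules.pushforward (KRR.pr n T)).obj (KRR.twF n T (-(i : ℤ)) M)).IsQuasicoherent :=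
      Groth.QCohMod.isQCoh_pushforward _ (KRR.pr n T)
    have hz : IsZero ((Scheme.Modules.pushforward (KRR.pr n T)).obj (KRR.twF n T (-(i : ℤ)) M)) :=
      isZero_of_sections_cover _ (fun V : T.affineOpens => V.1) (fun V => V.2)
        (iSup_affineOpens_eq_top T) fun V => (hv_zero_iff (W := KRR.pr n T ⁻¹ᵁ V.1) _).1
          (van_twF_pullback' E hEq (i := 0) (Or.inr (by omega)) (Or.inl (by omega)) V.1 V.2)
    exact clSub_zero (P := KRR.vbP T) hz (LocFree.isFinLocFree_zero hz)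

/-- The bundles `pr^* E (-k)`, `k ≤ n`, generate. -/
theorem gen_ext [CompactSpace T] {A : Type*} [AddCommGroup A]
    {f₁ f₂ : SGA6.Kvb (KRR.PY n T) →+ A}
    (h : ∀ (E : T.Modules), FlatMod.IsFinLocFree E → ∀ k ≤ n,
      f₁ (KRR.cl (KRR.PY n T) (KRR.twF n T (-(k : ℤ)) ((Scheme.Modules.pullback (KRR.pr n T)).obj E))) =
      f₂ (KRR.cl (KRR.PY n T) (KRR.twF n T (-(k : ℤ)) ((Scheme.Modules.pullback (KRR.pr n T)).obj E)))) :
    f₁ = f₂ := by
  obtain ⟨_, _, _⟩ := pr_facts n T
  refine AddMonoidHom.ext fun x => ?_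
  obtain ⟨z, rfl⟩ := (bijective_mapSub_regP (n := n) (T := T) (fun _ h => h.1)).2 x
  induction z using k0sub_induction with
  | h0 => simp
  | hadd a b ha hb => simp only [map_add, ha, hb]
  | hneg a ha => simp only [map_neg, ha]
  | hcl F hF =>
    have eF : SGA6.mapSub (𝟭 (KRR.PY n T).Modules) (RegP n T)
        (KRR.vbP (KRR.PY n T)) (fun _ h => h.1) (KZero.clSub (RegP n T) F) =
        KRR.cl (KRR.PY n T) F := by
      rw [clSub_of hF, KRR.cl, clSub_of hF.1]
      rfl
    rw [eF]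
    have hq := LocFree.isQCoh hF.1
    have hpush : ∀ k, FlatMod.IsFinLocFree (seqG F k) →
        FlatMod.IsFinLocFree ((Scheme.Modules.pushforward (KRR.pr n T)).obj (seqG F k)) := fun k hk => by
      haveI := LocFree.isQCoh hk
      exact Limits.BC0.isFinLocFree_of_good fun s => goodAt_of_regular hk (seqG_reg hq hF.2 k).2 s
    have hG : ∀ k, FlatMod.IsFinLocFree (seqG F k) := fun k => by
      induction k with
      | zero => rw [seqG]; exact hF.1
      | succ k ih =>
        haveI : Epi (cou (seqG F k)) := epi_counit _ (seqG_reg hq hF.2 k).1 (seqG_reg hq hF.2 k).2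
        rw [seqG]
        exact isFinLocFree_twF 1 (Groth.LocFree.isFinLocFree_left (kernel_shortExact (cou (seqG F k)))
          (Groth.LocFree.isFinLocFree_pullback (KRR.pr n T) (hpush k ih)) ih)
    have hT : ∀ k, FlatMod.IsFinLocFree ((Scheme.Modules.pushforward (KRR.pr n T)).obj (seqG F k)) :=
      fun k => hpush k (hG k)
    have key : ∀ (m k : ℕ), n + 1 ≤ k + m →
        f₁ (KRR.cl (KRR.PY n T) (KRR.twF n T (-(k : ℤ)) (seqG F k))) =
        f₂ (KRR.cl (KRR.PY n T) (KRR.twF n T (-(k : ℤ)) (seqG F k))) := by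
      intro m
      induction m with
      | zero =>
        intro k hk
        have hz := ((DCoh.tensorBi (X := KRR.PY n T)).obj (Twist.twistOver n T (-(k : ℤ)))).map_isZero
          (isZero_seqG hq hF.2 k (by omega))
        rw [show KRR.cl (KRR.PY n T) (KRR.twF n T (-(k : ℤ)) (seqG F k)) = 0 from
          clSub_zero (P := KRR.vbP (KRR.PY n T)) hz (LocFree.isFinLocFree_zero hz), map_zero, map_zero]
      | succ m ih =>
        intro k hk
        rcases Nat.lt_or_ge n k with hnk | hnk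
        · exact ih k (by omega)
        haveI : Epi (cou (seqG F k)) := epi_counit _ (seqG_reg hq hF.2 k).1 (seqG_reg hq hF.2 k).2
        have hP := Groth.LocFree.isFinLocFree_pullback (KRR.pr n T) (hT k)
        have hK := Groth.LocFree.isFinLocFree_left (kernel_shortExact (cou (seqG F k))) hP (hG k)
        have hrel := clSub_rel (P := KRR.vbP (KRR.PY n T)) _
          (RegSheaf.shortExact_tw (ShortComplex.mk _ _ (kernel.condition (cou (seqG F k))))
            (kernel_shortExact (cou (seqG F k))) (LocFree.isQCoh hK) (LocFree.isQCoh hP)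
            (LocFree.isQCoh (hG k)) (-(k : ℤ)))
          (isFinLocFree_twF _ hK) (isFinLocFree_twF _ hP) (isFinLocFree_twF _ (hG k))
        have e1 : KRR.cl (KRR.PY n T) (KRR.twF n T (-((k + 1 : ℕ) : ℤ)) (seqG F (k + 1))) =
            KRR.cl (KRR.PY n T) (KRR.twF n T (-(k : ℤ)) (kernel (cou (seqG F k)))) := by
          refine LambdaVb.kcl_iso ?_ (isFinLocFree_twF _ (hG (k + 1)))
          rw [seqG]
          exact (RegSheaf.nonempty_twF_twF n T _ 1 _ (by push_cast; ring) _).some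
        have e2 : KRR.cl (KRR.PY n T) (KRR.twF n T (-(k : ℤ)) (seqG F k)) =
            KRR.cl (KRR.PY n T) (KRR.twF n T (-(k : ℤ)) ((Scheme.Modules.pullback (KRR.pr n T)).obj
              ((Scheme.Modules.pushforward (KRR.pr n T)).obj (seqG F k)))) -
            KRR.cl (KRR.PY n T) (KRR.twF n T (-((k + 1 : ℕ) : ℤ)) (seqG F (k + 1))) := by
          rw [e1]
          exact eq_sub_of_add_eq' hrel.symm
        rw [e2, map_sub, map_sub, h _ (hT k) k hnk, ih (k + 1) (by omega)]
    have h0 := key (n + 1) 0 (by omega)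
    rwa [show KRR.cl (KRR.PY n T) (KRR.twF n T (-((0 : ℕ) : ℤ)) (seqG F 0)) = KRR.cl (KRR.PY n T) F from
      LambdaVb.kcl_iso ((RegSheaf.nonempty_twF_zero n T F).some) (isFinLocFree_twF _ (hG 0))] at h0

end PushHom

end Groth.KTheory.ProjPush
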