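import Groth.Agent.KTheory.RegKoszulPush
import Groth.Agent.Quot.Regular
import Groth.Agent.CohC3.BC.Descent
import Groth.Agent.QCohMod.Coherent
import Groth.Agent.FlatTwist.Relative
import Groth.Agent.RefRank.Divisor
import Groth.Agent.CohBase.InvNearFibre
import Groth.Agent.ProjFormula.Derived

/-!
# Flat regular sheaves have finite locally free resolutions by twisted inverse images
-/

universe u v w

open CategoryTheory CategoryTheory.Limits AlgebraicGeometry Opposite TopologicalSpace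
open Groth.CohBase Groth.Variety2.Reg Groth.PicAux

namespace Groth.KTheory.RegKoszul

variable {n : ℕ} {T : Scheme.{u}} [IsNoetherian T] {F : (KRR.PY n T).Modules}

theorem isLocallyNoetherian_PY (n : ℕ) (T : Scheme.{u}) [IsNoetherian T] :
    IsLocallyNoetherian (KRR.PY n T) :=
  haveI := (pr_facts n T).1
  LocallyOfFiniteType.isLocallyNoetherian (KRR.pr n T)

theorem isFinLocFree_push_regular (hF : Coh.IsCoh F) (hfl : FlatMod.IsFlatOver (KRR.pr n T) F)
    (hreg : KRR.IsRegSheaf n T F) :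
    FlatMod.IsFinLocFree ((Scheme.Modules.pushforward (KRR.pr n T)).obj F) := by
  obtain ⟨_, _, _⟩ := pr_facts n T
  haveI := isLocallyNoetherian_PY n T
  haveI := hF.1
  exact Limits.BC0.isFinLocFree_of_good (goodAt_of_hv (CohC3.BC.isFP_of_isCoh F hF) hfl
    fun V hV q hq => HV.of_iso (RegSheaf.nonempty_twF_zero n T F).some
      (van_of_regular hF.1 hreg hq (r := 0) (by omega) V hV))

theorem seqG_coh_flat (hF : Coh.IsCoh F) (hfl : FlatMod.IsFlatOver (KRR.pr n T) F)
    (hreg : KRR.IsRegSheaf n T F) :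
    ∀ k, Coh.IsCoh (seqG F k) ∧ FlatMod.IsFlatOver (KRR.pr n T) (seqG F k)
  | 0 => by rw [seqG]; exact ⟨hF, hfl⟩
  | k + 1 => by
    obtain ⟨_, _, _⟩ := pr_facts n T
    haveI := isLocallyNoetherian_PY n T
    obtain ⟨h1, h2⟩ := seqG_coh_flat hF hfl hreg k
    obtain ⟨hq, hr⟩ := seqG_reg hF.1 hreg k
    haveI : (seqG F k).IsQuasicoherent := hq
    have hP := Groth.LocFree.isFinLocFree_pullback (KRR.pr n T) (isFinLocFree_push_regular h1 h2 hr)
    haveI := LocFree.isQCoh hP
    haveI : Epi (cou (seqG F k)) := epi_counit _ hq hr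
    have hKc : Coh.IsCoh (kernel (cou (seqG F k))) :=
      Groth.QCohMod.isCoh_kernel _ (LocFree.isCoh hP)
    haveI := hKc.1
    have hKf : FlatMod.IsFlatOver (KRR.pr n T) (kernel (cou (seqG F k))) :=
      Quot.isFlatOver_of_shortExact (KRR.pr n T)
        (ShortComplex.mk _ _ (kernel.condition (cou (seqG F k)))) (kernel_shortExact (cou (seqG F k)))
        (CohBase.isFlatOver_of_isFinLocFree _ hP) h2
    rw [seqG]
    refine ⟨RefRank.isCoh_tensorMod (LocFree.isCoh (RegSheaf.isFinLocFree_twistOver n T 1)) hKc, ?_⟩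
    exact CohBase.isFlatOver_of_iso _ (exists_braiding _ _).choose
      (FlatTwist.isFlatOver_tensorMod (RegSheaf.isInvertible_twistOver n T 1) hKf)

theorem isFinLocFree_push_seqG (hF : Coh.IsCoh F) (hfl : FlatMod.IsFlatOver (KRR.pr n T) F)
    (hreg : KRR.IsRegSheaf n T F) (k : ℕ) :
    FlatMod.IsFinLocFree ((Scheme.Modules.pushforward (KRR.pr n T)).obj (seqG F k)) :=
  isFinLocFree_push_regular (seqG_coh_flat hF hfl hreg k).1 (seqG_coh_flat hF hfl hreg k).2
    (seqG_reg hF.1 hreg k).2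

theorem exists_lfRes (hF : Coh.IsCoh F) (hfl : FlatMod.IsFlatOver (KRR.pr n T) F)
    (hreg : KRR.IsRegSheaf n T F) :
    ∃ (L : ChainComplex (KRR.PY n T).Modules ℕ)
      (π : L ⟶ (ChainComplex.single₀ (KRR.PY n T).Modules).obj F),
      KRR.IsLFRes F n L π ∧
      ∀ i, Nonempty (L.X i ≅ KRR.twF n T (-(i : ℤ)) ((Scheme.Modules.pullback (KRR.pr n T)).obj
        ((Scheme.Modules.pushforward (KRR.pr n T)).obj (seqG F i)))) := by
  obtain ⟨L, π, hL, hπ⟩ := exists_resolution hF.1 hreg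
  refine ⟨L, π, ⟨fun i => ?_, fun i hi => ?_, hπ⟩, hL⟩
  · exact LocFree.isFinLocFree_of_iso (hL i).some.symm (isFinLocFree_twF _
      (Groth.LocFree.isFinLocFree_pullback (KRR.pr n T) (isFinLocFree_push_seqG hF hfl hreg i)))
  · exact IsZero.of_iso (((DCoh.tensorBi (X := KRR.PY n T)).obj (Twist.twistOver n T (-(i : ℤ)))).map_isZero
      ((Scheme.Modules.pullback (KRR.pr n T)).map_isZero
        ((Scheme.Modules.pushforward (KRR.pr n T)).map_isZero (isZero_seqG hF.1 hreg i hi)))) (hL i).some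

section Model

variable {KP : Type v} {KY : Type w} [CommRing KP] [CommRing KY]
  (φP : SGA6.Kvb (KRR.PY n T) →+ KP) (φY : SGA6.Kvb T →+ KY)

/-- The push-forward of `pr^* E (a)`. -/
theorem g_twist_pullback (hY : Function.Bijective φY)
    (g : KP →+ KY) (hg : KRR.IsPushPr n T φP φY g)
    {E : T.Modules} (hE : FlatMod.IsFinLocFree E) {i : ℕ} (hi : i ≤ n) :
    g (φP (KRR.cl (KRR.PY n T) (KRR.twF n T (-(i : ℤ)) ((Scheme.Modules.pullback (KRR.pr n T)).obj E)))) =
      if i = 0 then φY (KRR.cl T E) else 0 := by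
  obtain ⟨h, hh, hreg⟩ := exists_transfer φP φY hY g hg
  have hEq : Coh.IsQCoh E := LocFree.isQCoh hE
  haveI : E.IsQuasicoherent := hEq
  have hP := Groth.LocFree.isFinLocFree_pullback (KRR.pr n T) hE
  let M := (Scheme.Modules.pullback (KRR.pr n T)).obj E
  have hacy : ∀ a : ℤ, 0 ≤ a → AcyP n T (G (KRR.twF n T (-(i : ℤ)) M) a) := fun a ha =>
    (koszClosed_acyP n T).iso ((RegSheaf.nonempty_twF_twF n T a (-(i : ℤ)) _ rfl M).some.symm ≪≫
      (nonempty_G_iso_twF _ a).some.symm)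
      ⟨isFinLocFree_twF _ hP, fun q hq => van_twF_pullback E hEq hq (Or.inl (by omega))⟩
  rw [hh, eq_pushCl h hreg hacy]
  split_ifs with h0
  · subst h0
    haveI := isIso_unit_pr (n := n) E hEq
    refine congrArg φY (LambdaVb.kcl_iso ((asIso ((Scheme.Modules.pullbackPushforwardAdjunction
      (KRR.pr n T)).unit.app E)) ≪≫ (Scheme.Modules.pushforward (KRR.pr n T)).mapIso
        (RegSheaf.nonempty_twF_zero n T M).some.symm) hE).symm
  · have hq : Coh.IsQCoh (KRR.twF n T (-(i : ℤ)) M) := RegSheaf.isQCoh_twF _ (LocFree.isQCoh hP)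
    haveI : (KRR.twF n T (-(i : ℤ)) M).IsQuasicoherent := hq
    haveI : ((Scheme.Modules.pushforward (KRR.pr n T)).obj (KRR.twF n T (-(i : ℤ)) M)).IsQuasicoherent :=
      Groth.QCohMod.isQCoh_pushforward _ (KRR.pr n T)
    have hz : IsZero ((Scheme.Modules.pushforward (KRR.pr n T)).obj (KRR.twF n T (-(i : ℤ)) M)) :=
      isZero_of_sections_cover _ (fun V : T.affineOpens => V.1) (fun V => V.2)
        (iSup_affineOpens_eq_top T) fun V => (hv_zero_iff (W := KRR.pr n T ⁻¹ᵁ V.1) _).1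
          (van_twF_pullback' E hEq (i := 0) (Or.inr (by omega)) (Or.inl (by omega)) V.1 V.2)
    rw [pushCl, show KRR.cl T _ = 0 from clSub_zero (P := KRR.vbP T) hz (LocFree.isFinLocFree_zero hz),
      map_zero]

/-- `p_K` of the alternating sum of the canonical resolution is `[p_* F]`. -/
theorem g_lfRes (hY : Function.Bijective φY)
    (g : KP →+ KY) (hg : KRR.IsPushPr n T φP φY g)
    (hF : Coh.IsCoh F) (hfl : FlatMod.IsFlatOver (KRR.pr n T) F) (hreg : KRR.IsRegSheaf n T F)
    {L : ChainComplex (KRR.PY n T).Modules ℕ}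
    (hL : ∀ i, Nonempty (L.X i ≅ KRR.twF n T (-(i : ℤ)) ((Scheme.Modules.pullback (KRR.pr n T)).obj
        ((Scheme.Modules.pushforward (KRR.pr n T)).obj (seqG F i))))) :
    g (∑ k ∈ Finset.range (n + 1), (-1 : ℤ) ^ k • φP (KRR.cl (KRR.PY n T) (L.X k))) =
      φY (KRR.cl T ((Scheme.Modules.pushforward (KRR.pr n T)).obj F)) := by
  have hT := isFinLocFree_push_seqG hF hfl hreg
  have e : ∀ k ≤ n, g (φP (KRR.cl (KRR.PY n T) (L.X k))) =
      if k = 0 then φY (KRR.cl T ((Scheme.Modules.pushforward (KRR.pr n T)).obj (seqG F k))) else 0 :=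
    fun k hk => by
    rw [show KRR.cl (KRR.PY n T) (L.X k) = _ from LambdaVb.kcl_iso (hL k).some
      (LocFree.isFinLocFree_of_iso (hL k).some.symm (isFinLocFree_twF _
        (Groth.LocFree.isFinLocFree_pullback (KRR.pr n T) (hT k))))]
    exact g_twist_pullback φP φY hY g hg (hT k) hk
  rw [map_sum, Finset.sum_eq_single_of_mem 0 (by simp) fun k hk hk0 => by
    rw [map_zsmul, e k (Nat.lt_succ_iff.1 (Finset.mem_range.1 hk)), if_neg hk0, smul_zero]]
  rw [pow_zero, one_smul, e 0 (Nat.zero_le n), if_pos rfl, seqG]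

end Model

end Groth.KTheory.RegKoszul
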