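import Groth.Agent.KTheory.ProjPushBasic
import Groth.Agent.CohBase.AffineBC
import Groth.Agent.FlatStrata.ProjSpace
import Groth.Agent.KoszulLCI.Kinds
import Groth.Agent.S3765

/-!
# Push-forward along projective space and push-forward along closed immersions
-/

set_option autoImplicit false
set_option linter.style.haveILetI false
universe v u

open CategoryTheory CategoryTheory.Limits AlgebraicGeometry
open Groth.CohBase Groth.PicAux Groth.Variety2.Reg

namespace Groth.KTheory.ProjPush

open Groth.KTheory.RegKoszul Groth.KTheory.Resolution LFRes PushRes LambdaVb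

/-- The functor `M ↦ pr^* M (-k)`. -/
noncomputable def twPull (n : ℕ) (T : Scheme.{u}) (k : ℕ) : T.Modules ⥤ (KRR.PY n T).Modules :=
  Scheme.Modules.pullback (KRR.pr n T) ⋙ Groth.CohTwo.SheafHomIso.tF (Twist.twistOver n T (-(k : ℤ)))

instance twPull_additive (n : ℕ) (T : Scheme.{u}) (k : ℕ) : (twPull n T k).Additive :=
  haveI := Groth.ProjFormula.additive_tF (Twist.twistOver n T (-(k : ℤ)))
  inferInstanceAs (_ ⋙ _ : T.Modules ⥤ (KRR.PY n T).Modules).Additive

instance twPull_preservesFiniteLimits (n : ℕ) (T : Scheme.{u}) (k : ℕ) :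
    PreservesFiniteLimits (twPull n T k) := by
  haveI := (Groth.ProjFormula.preservesFinite_tF
    (RegSheaf.isFinLocFree_twistOver n T (-(k : ℤ)))).1
  obtain ⟨_, _, _⟩ := pr_facts n T
  haveI := Groth.PrinPartsAux.preservesFiniteLimits_pullback (KRR.pr n T)
  exact comp_preservesFiniteLimits _ _

instance twPull_preservesFiniteColimits (n : ℕ) (T : Scheme.{u}) (k : ℕ) :
    PreservesFiniteColimits (twPull n T k) := by
  haveI := (Groth.ProjFormula.preservesFinite_tF
    (RegSheaf.isFinLocFree_twistOver n T (-(k : ℤ)))).2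
  haveI : PreservesColimitsOfSize.{0, 0} (Scheme.Modules.pullback (KRR.pr n T)) :=
    (Scheme.Modules.pullbackPushforwardAdjunction (KRR.pr n T)).leftAdjoint_preservesColimits
  haveI : PreservesFiniteColimits (Scheme.Modules.pullback (KRR.pr n T)) :=
    PreservesColimitsOfSize.preservesFiniteColimits _
  exact comp_preservesFiniteColimits _ _

variable {n : ℕ} {X T : Scheme.{u}}

theorem isFinLocFree_twPull (k : ℕ) (M : T.Modules) (hM : FlatMod.IsFinLocFree M) :
    FlatMod.IsFinLocFree ((twPull n T k).obj M) :=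
  isFinLocFree_twF _ (Groth.LocFree.isFinLocFree_pullback (KRR.pr n T) hM)

theorem isCoh_twPull [IsNoetherian T] (k : ℕ) (M : T.Modules) (hM : Coh.IsCoh M) :
    Coh.IsCoh ((twPull n T k).obj M) :=
  isCoh_twF _ (Groth.SpectralTopology.ConsModLocus.isCoh_pullback_obj (KRR.pr n T) hM)

theorem IsPushHom.comp_twPull [IsNoetherian T] {h : SGA6.Kvb (KRR.PY n T) →+ SGA6.Kvb T}
    (hh : IsPushHom n T h) {k : ℕ} (hk : k ≤ n) (x : SGA6.Kvb T) :
    h (SGA6.mapSub (twPull n T k) (KRR.vbP T) (KRR.vbP (KRR.PY n T)) (isFinLocFree_twPull k) x) =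
      if k = 0 then x else 0 := by
  induction x using k0sub_induction with
  | h0 => simp
  | hadd a b ha hb => rw [map_add, map_add, ha, hb]; split_ifs <;> simp
  | hneg a ha => rw [map_neg, map_neg, ha]; split_ifs <;> simp
  | hcl E hE =>
    refine Eq.trans ?_ (hh.twist_pullback hE hk)
    congr 1
    change SGA6.mapSub _ _ _ _ (KZero.clSub (KRR.vbP T) E) = _
    rw [clSub_of hE, KRR.cl, clSub_of (P := KRR.vbP (KRR.PY n T)) (isFinLocFree_twF _
      (Groth.LocFree.isFinLocFree_pullback (KRR.pr n T) hE))]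
    rfl

theorem isPullback_map (i : X ⟶ T) :
    IsPullback (KRR.projSpaceMap n i) (KRR.pr n X) (KRR.pr n T) i :=
  Groth.FlatStrata.isPullback_projMap n i

theorem isClosedImmersion_map (i : X ⟶ T) [IsClosedImmersion i] :
    IsClosedImmersion (KRR.projSpaceMap n i) :=
  MorphismProperty.of_isPullback (P := @IsClosedImmersion) (isPullback_map i).flip inferInstance

theorem isRegularClosedImmersion_map (i : X ⟶ T) (hi : Mor2.IsRegularClosedImmersion i) :
    Mor2.IsRegularClosedImmersion (KRR.projSpaceMap n i) := by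
  obtain ⟨_, hflat, _⟩ := pr_facts n T
  have hsq := isPullback_map (n := n) i
  haveI : IsClosedImmersion i := hi.1
  haveI := isClosedImmersion_map (n := n) i
  refine ⟨inferInstance, fun z => ?_⟩
  have h1 : RegImm.IsRegularImmersionAt .regular i (KRR.pr n X z) := by
    obtain ⟨U, hU, hz, rs, hrs, hker⟩ := hi.2 (KRR.pr n X z)
    exact ⟨⟨U, hU⟩, hz, IsZariskiLocalAtTarget.restrict hi.1 U, rs, hrs,
      (Scheme.Hom.ker_apply i ⟨U, hU⟩).symm.trans hker⟩
  obtain ⟨U, hz, -, rs, hrs, hker⟩ := Groth.KoszulLCI.isRegularImmersionAt_baseChange_kind .regular i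
    (KRR.pr n T) (KRR.projSpaceMap n i) (KRR.pr n X) hsq.flip z h1
  exact ⟨U.1, U.2, hz, rs, hrs, (Scheme.Hom.ker_apply _ U).trans hker⟩

theorem nonempty_twPull_push (i : X ⟶ T) [IsClosedImmersion i] (k : ℕ) (E : X.Modules)
    [E.IsQuasicoherent] :
    Nonempty ((twPull n T k).obj ((Scheme.Modules.pushforward i).obj E) ≅
      (Scheme.Modules.pushforward (KRR.projSpaceMap n i)).obj ((twPull n X k).obj E)) := by
  obtain ⟨_, hflat, _⟩ := pr_facts n T
  have hsq := isPullback_map (n := n) i
  let j := KRR.projSpaceMap n i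
  let O := Twist.twistOver n T (-(k : ℤ))
  have hO : FlatMod.IsFinLocFree O := RegSheaf.isFinLocFree_twistOver n T _
  exact ⟨(Groth.CohTwo.SheafHomIso.tF O).mapIso
        (Groth.CohBase.AffineBC.nonempty_affine_bc hsq.flip E).some ≪≫
      (Groth.ProjFormula.pfIso j O hO).app _ ≪≫
      (Scheme.Modules.pushforward j).mapIso (PicGrp.tensorModIso
        ((Scheme.Modules.pullbackComp _ _).app _ ≪≫
          (Scheme.Modules.pullbackCongr ((pullback.lift_fst _ _ _).trans (Category.comp_id _))).app _)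
        (Iso.refl _))⟩

section Lift

variable [IsNoetherian T] (hT : KRR.HasEnoughLocFree T)

/-- If `i` lifts to `w : X ⟶ P^n_T`, then `pr_K` carries the class of `w_* E` to the class of `i_* E`. -/
theorem eul_push_lift (hP : KRR.HasEnoughLocFree (KRR.PY n T)) [IsLocallyNoetherian (KRR.PY n T)]
    (i : X ⟶ T) [IsClosedImmersion i]
    (hfin : ∀ F : X.Modules, FlatMod.IsFinLocFree F →
      FinRes (KRR.vbP T) (cohProp T) ((Scheme.Modules.pushforward i).obj F))
    (w : X ⟶ KRR.PY n T) (hw : w ≫ KRR.pr n T = i)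
    {h : SGA6.Kvb (KRR.PY n T) →+ SGA6.Kvb T} (hh : IsPushHom n T h)
    {E : X.Modules} (hE : FlatMod.IsFinLocFree E) :
    FinRes (KRR.vbP (KRR.PY n T)) (cohProp (KRR.PY n T)) ((Scheme.Modules.pushforward w).obj E) ∧
      h (eul hP ((Scheme.Modules.pushforward w).obj E)) =
        eul hT ((Scheme.Modules.pushforward i).obj E) := by
  haveI : IsLocallyNoetherian X := LocallyOfFiniteType.isLocallyNoetherian i
  haveI : CompactSpace X := QuasiCompact.compactSpace_of_compactSpace i
  haveI : IsNoetherian X := ⟨⟩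
  obtain ⟨_, _, _⟩ := pr_facts n X
  haveI := isLocallyNoetherian_PY n X
  let j := KRR.projSpaceMap n i
  haveI : IsClosedImmersion j := isClosedImmersion_map i
  have hsq := isPullback_map (n := n) i
  let s : X ⟶ KRR.PY n X := hsq.lift w (𝟙 X) (by rw [hw, Category.id_comp])
  have hs : s ≫ KRR.pr n X = 𝟙 X := hsq.lift_snd _ _ _
  have hsj : s ≫ j = w := hsq.lift_fst _ _ _
  haveI : IsClosedImmersion (s ≫ KRR.pr n X) := hs ▸ inferInstance
  haveI : IsClosedImmersion s := IsClosedImmersion.of_comp s (KRR.pr n X)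
  haveI := LocFree.isQCoh hE
  let F := (Scheme.Modules.pushforward s).obj E
  have hF : Coh.IsCoh F := Groth.CohTwo.isCoh_push s (LocFree.isCoh hE)
  have hfl : FlatMod.IsFlatOver (KRR.pr n X) F := by
    refine (Groth.Flatmor4.isFlatOver_push_iff E s (KRR.pr n X)).1 ?_
    rw [hs]
    exact CohBase.isFlatOver_of_isFinLocFree _ hE
  have hreg : KRR.IsRegSheaf n X F := Groth.Agent.S3765.isRegSheaf_push_section s hs hE
  have hq := hF.1
  have hTk := isFinLocFree_push_seqG hF hfl hreg
  let c := eul hT ((Scheme.Modules.pushforward i).obj E)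
  have hc : eul hT ((Scheme.Modules.pushforward i).obj
      ((Scheme.Modules.pushforward (KRR.pr n X)).obj (seqG F 0))) = c := by
    have e : (Scheme.Modules.pushforward i).obj E ≅ (Scheme.Modules.pushforward i).obj
        ((Scheme.Modules.pushforward (KRR.pr n X)).obj (seqG F 0)) :=
      (Scheme.Modules.pushforward i).mapIso
        ((Groth.Agent.S3765.pushSectionIso s hs E).symm ≪≫ eqToIso (by rw [seqG]))
    exact (eul_iso hT e (hfin E hE)).symm
  have key : ∀ (m k : ℕ), n + 1 ≤ k + m →
      FinRes (KRR.vbP (KRR.PY n T)) (cohProp (KRR.PY n T))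
        ((Scheme.Modules.pushforward j).obj (KRR.twF n X (-(k : ℤ)) (seqG F k))) ∧
      h (eul hP ((Scheme.Modules.pushforward j).obj (KRR.twF n X (-(k : ℤ)) (seqG F k)))) =
        if k = 0 then c else 0 := by
    intro m
    induction m with
    | zero =>
      intro k hk
      have hz := (Scheme.Modules.pushforward j).map_isZero
        (((DCoh.tensorBi (X := KRR.PY n X)).obj (Twist.twistOver n X (-(k : ℤ)))).map_isZero
          (isZero_seqG hq hreg k (by omega)))
      have hz' := LocFree.isFinLocFree_zero hz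
      refine ⟨⟨0, hz'⟩, ?_⟩
      rw [if_neg (by omega)]
      refine (congrArg h ((eul_bundle hP hz').trans (KvbModel.kcl_zero hz))).trans (map_zero h)
    | succ m ih =>
      intro k hk
      rcases Nat.lt_or_ge n k with hnk | hnk
      · exact ih k (by omega)
      obtain ⟨hG1, hr⟩ := seqG_reg hq hreg k
      obtain ⟨hGc, -⟩ := seqG_coh_flat hF hfl hreg k
      haveI : (seqG F k).IsQuasicoherent := hG1
      haveI : Epi (cou (seqG F k)) := epi_counit _ hG1 hr
      have hPk := Groth.LocFree.isFinLocFree_pullback (KRR.pr n X) (hTk k)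
      have hKc : Coh.IsCoh (kernel (cou (seqG F k))) :=
        Groth.QCohMod.isCoh_kernel _ (LocFree.isCoh hPk)
      have hS := RegSheaf.shortExact_tw (ShortComplex.mk _ _ (kernel.condition (cou (seqG F k))))
        (kernel_shortExact (cou (seqG F k))) hKc.1 (LocFree.isQCoh hPk) hG1 (-(k : ℤ))
      haveI : (RegSheaf.tw (ShortComplex.mk _ _ (kernel.condition (cou (seqG F k)))) (-(k : ℤ))).X₁.IsQuasicoherent :=
        RegSheaf.isQCoh_twF _ hKc.1
      haveI : (RegSheaf.tw (ShortComplex.mk _ _ (kernel.condition (cou (seqG F k)))) (-(k : ℤ))).X₂.IsQuasicoherent :=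
        RegSheaf.isQCoh_twF _ (LocFree.isQCoh hPk)
      haveI : (RegSheaf.tw (ShortComplex.mk _ _ (kernel.condition (cou (seqG F k)))) (-(k : ℤ))).X₃.IsQuasicoherent :=
        RegSheaf.isQCoh_twF _ hG1
      have hS' := PushProps.shortExact_push j hS
      let Tk := (Scheme.Modules.pushforward (KRR.pr n X)).obj (seqG F k)
      haveI : Tk.IsQuasicoherent := LocFree.isQCoh (hTk k)
      obtain ⟨e₂⟩ := nonempty_twPull_push (n := n) i k Tk
      obtain ⟨d, hd⟩ := hfin Tk (hTk k)
      obtain ⟨hres2, he2⟩ := eul_map hT hP (twPull n T k) (isFinLocFree_twPull k) (isCoh_twPull k) hd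
      have hfin2 := finRes_iso hP e₂ ⟨d, hres2⟩
      have h2 : h (eul hP ((Scheme.Modules.pushforward j).obj ((twPull n X k).obj Tk))) =
          if k = 0 then c else 0 := by
        rw [← eul_iso hP e₂ ⟨d, hres2⟩, he2, hh.comp_twPull hnk]
        split_ifs with h0
        · subst h0; exact hc
        · rfl
      obtain ⟨hK, eK⟩ := ih (k + 1) (by omega)
      rw [if_neg (Nat.succ_ne_zero k)] at eK
      have e₁ : (Scheme.Modules.pushforward j).obj (KRR.twF n X (-((k + 1 : ℕ) : ℤ)) (seqG F (k + 1))) ≅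
          (Scheme.Modules.pushforward j).obj (KRR.twF n X (-(k : ℤ)) (kernel (cou (seqG F k)))) :=
        (Scheme.Modules.pushforward j).mapIso (eqToIso (by rw [seqG]) ≪≫
          (RegSheaf.nonempty_twF_twF n X _ 1 _ (by push_cast; ring) _).some)
      have hK' := finRes_iso hP e₁ hK
      have hA : FinRes (KRR.vbP (KRR.PY n T)) (cohProp (KRR.PY n T))
          ((Scheme.Modules.pushforward j).obj (KRR.twF n X (-(k : ℤ)) (seqG F k))) :=
        (setup hP).finRes_X₃ hS' hK' hfin2 (CohTwo.isCoh_push j (isCoh_twF _ hGc))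
      refine ⟨hA, ?_⟩
      have hrel : eul hP ((Scheme.Modules.pushforward j).obj ((twPull n X k).obj Tk)) =
          eul hP ((Scheme.Modules.pushforward j).obj (KRR.twF n X (-(k : ℤ)) (kernel (cou (seqG F k))))) +
            eul hP ((Scheme.Modules.pushforward j).obj (KRR.twF n X (-(k : ℤ)) (seqG F k))) :=
        eul_rel hP hS' hK' hfin2 hA
      have := congrArg h hrel
      rw [map_add, h2, ← eul_iso hP e₁ hK, eK, zero_add] at this
      exact this.symm
  obtain ⟨h0, e0⟩ := key (n + 1) 0 (by omega)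
  have e : (Scheme.Modules.pushforward j).obj (KRR.twF n X (-((0 : ℕ) : ℤ)) (seqG F 0)) ≅
      (Scheme.Modules.pushforward w).obj E :=
    (Scheme.Modules.pushforward j).mapIso ((RegSheaf.nonempty_twF_zero n X _).some ≪≫
      eqToIso (show seqG F 0 = F by rw [seqG])) ≪≫
      (Scheme.Modules.pushforwardComp s j).app E ≪≫ (Scheme.Modules.pushforwardCongr hsj).app E
  exact ⟨finRes_iso hP e h0, by rw [← eul_iso hP e h0, e0, if_pos rfl]⟩

end Lift

end Groth.KTheory.ProjPush
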