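import Groth.Agent.KTheory.ProjPushLift
import Groth.Agent.PicAux.PullTensor

/-!
# Iterated projective spaces: exchanging the factors, and independence of the factorization
-/

set_option autoImplicit false
set_option linter.style.haveILetI false
universe v u

open CategoryTheory CategoryTheory.Limits AlgebraicGeometry
open Groth.CohBase Groth.PicAux Groth.Variety2.Reg

namespace Groth.KTheory.ProjPush

open Groth.KTheory.RegKoszul Groth.KTheory.Resolution LFRes PushRes LambdaVb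

/-- The projection `P^n_T ⟶ P^n_ℤ`. -/
noncomputable abbrev pZ (n : ℕ) (T : Scheme.{u}) : KRR.PY n T ⟶ CohB1.ProjSpace n (ULift.{u} ℤ) :=
  pullback.fst _ _

theorem pY_hom_ext {n : ℕ} {T S : Scheme.{u}} {f g : S ⟶ KRR.PY n T}
    (h₁ : f ≫ pZ n T = g ≫ pZ n T) (h₂ : f ≫ KRR.pr n T = g ≫ KRR.pr n T) : f = g :=
  pullback.hom_ext h₁ h₂

noncomputable def pYLift {n : ℕ} {T S : Scheme.{u}} (a : S ⟶ CohB1.ProjSpace n (ULift.{u} ℤ))
    (b : S ⟶ T) : S ⟶ KRR.PY n T :=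
  pullback.lift a b (specULiftZIsTerminal.hom_ext _ _)

@[simp] theorem pYLift_pZ {n : ℕ} {T S : Scheme.{u}} (a : S ⟶ CohB1.ProjSpace n (ULift.{u} ℤ))
    (b : S ⟶ T) : pYLift a b ≫ pZ n T = a :=
  pullback.lift_fst _ _ _

@[simp] theorem pYLift_pr {n : ℕ} {T S : Scheme.{u}} (a : S ⟶ CohB1.ProjSpace n (ULift.{u} ℤ))
    (b : S ⟶ T) : pYLift a b ≫ KRR.pr n T = b :=
  pullback.lift_snd _ _ _

@[simp] theorem pYLift_pZ_assoc {n : ℕ} {T S W : Scheme.{u}} (a : S ⟶ CohB1.ProjSpace n (ULift.{u} ℤ))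
    (b : S ⟶ T) (c : CohB1.ProjSpace n (ULift.{u} ℤ) ⟶ W) : pYLift a b ≫ pZ n T ≫ c = a ≫ c := by
  rw [← Category.assoc, pYLift_pZ]

@[simp] theorem pYLift_pr_assoc {n : ℕ} {T S W : Scheme.{u}} (a : S ⟶ CohB1.ProjSpace n (ULift.{u} ℤ))
    (b : S ⟶ T) (c : T ⟶ W) : pYLift a b ≫ KRR.pr n T ≫ c = b ≫ c := by
  rw [← Category.assoc, pYLift_pr]

/-- Exchanging the factors of `P^m ×_Y P^n`. -/
noncomputable def swap (n m : ℕ) (Y : Scheme.{u}) :
    KRR.PY m (KRR.PY n Y) ⟶ KRR.PY n (KRR.PY m Y) :=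
  pYLift (KRR.pr m (KRR.PY n Y) ≫ pZ n Y)
    (pYLift (pZ m (KRR.PY n Y)) (KRR.pr m (KRR.PY n Y) ≫ KRR.pr n Y))

theorem swap_swap (n m : ℕ) (Y : Scheme.{u}) : swap n m Y ≫ swap m n Y = 𝟙 _ := by
  refine pY_hom_ext ?_ (pY_hom_ext ?_ ?_) <;> simp [swap]

instance isIso_swap (n m : ℕ) (Y : Scheme.{u}) : IsIso (swap n m Y) :=
  ⟨swap m n Y, swap_swap n m Y, swap_swap m n Y⟩

section Swap

variable (n m : ℕ) (Y : Scheme.{u})

theorem nonempty_swap_twist (a b : ℕ) (E : Y.Modules) :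
    Nonempty ((Scheme.Modules.pullback (swap n m Y)).obj
        ((twPull n (KRR.PY m Y) a).obj ((twPull m Y b).obj E)) ≅
      (twPull m (KRR.PY n Y) b).obj ((twPull n Y a).obj E)) := by
  let τ := swap n m Y
  let q := KRR.pr n (KRR.PY m Y)
  let q' := KRR.pr m (KRR.PY n Y)
  let p := KRR.pr m Y
  let p' := KRR.pr n Y
  let A := Twist.twistOver n (KRR.PY m Y) (-(a : ℤ))
  let B := Twist.twistOver m Y (-(b : ℤ))
  let A' := Twist.twistOver n Y (-(a : ℤ))
  let B' := Twist.twistOver m (KRR.PY n Y) (-(b : ℤ))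
  have h1 : τ ≫ pZ n (KRR.PY m Y) = q' ≫ pZ n Y := by simp [τ, swap, q']
  have h2 : (τ ≫ q) ≫ pZ m Y = pZ m (KRR.PY n Y) := by simp [τ, swap, q]
  have h3 : (τ ≫ q) ≫ p = q' ≫ p' := by simp [τ, swap, q, q', p, p']
  let eA : (Scheme.Modules.pullback τ).obj A ≅ (Scheme.Modules.pullback q').obj A' :=
    (Scheme.Modules.pullbackComp τ (pZ n (KRR.PY m Y))).app _ ≪≫
      (Scheme.Modules.pullbackCongr h1).app _ ≪≫
      ((Scheme.Modules.pullbackComp q' (pZ n Y)).app _).symm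
  let eB : (Scheme.Modules.pullback τ).obj ((Scheme.Modules.pullback q).obj B) ≅ B' :=
    (Scheme.Modules.pullbackComp τ q).app _ ≪≫
      (Scheme.Modules.pullbackComp (τ ≫ q) (pZ m Y)).app _ ≪≫
      (Scheme.Modules.pullbackCongr h2).app _
  let eE : (Scheme.Modules.pullback τ).obj ((Scheme.Modules.pullback q).obj
      ((Scheme.Modules.pullback p).obj E)) ≅
      (Scheme.Modules.pullback q').obj ((Scheme.Modules.pullback p').obj E) :=
    (Scheme.Modules.pullbackComp τ q).app _ ≪≫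
      (Scheme.Modules.pullbackComp (τ ≫ q) p).app _ ≪≫
      (Scheme.Modules.pullbackCongr h3).app _ ≪≫
      ((Scheme.Modules.pullbackComp q' p').app _).symm
  let Q := (Scheme.Modules.pullback p).obj E
  let Q' := (Scheme.Modules.pullback p').obj E
  exact ⟨((Scheme.Modules.pullback τ).mapIso (PicGrp.tensorModIso (Iso.refl A)
      (exists_pullback_tensorMod q B Q).choose) ≪≫
    (exists_pullback_tensorMod τ A _).choose ≪≫
    PicGrp.tensorModIso eA ((exists_pullback_tensorMod τ _ _).choose ≪≫ PicGrp.tensorModIso eB eE) ≪≫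
    (exists_associator _ B' _).choose.symm ≪≫
    PicGrp.tensorModIso (exists_braiding _ B').choose (Iso.refl _) ≪≫
    (exists_associator B' _ _).choose ≪≫
    PicGrp.tensorModIso (Iso.refl B') (exists_pullback_tensorMod q' A' Q').choose.symm :)⟩

instance swap_preservesFiniteLimits : PreservesFiniteLimits (Scheme.Modules.pullback (swap n m Y)) :=
  Groth.PrinPartsAux.preservesFiniteLimits_pullback (swap n m Y)

instance swap_preservesFiniteColimits : PreservesFiniteColimits (Scheme.Modules.pullback (swap n m Y)) :=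
  haveI : PreservesColimitsOfSize.{0, 0} (Scheme.Modules.pullback (swap n m Y)) :=
    (Scheme.Modules.pullbackPushforwardAdjunction (swap n m Y)).leftAdjoint_preservesColimits
  PreservesColimitsOfSize.preservesFiniteColimits _

/-- The map induced on classes by exchanging the factors. -/
noncomputable def swapHom : SGA6.Kvb (KRR.PY n (KRR.PY m Y)) →+ SGA6.Kvb (KRR.PY m (KRR.PY n Y)) :=
  SGA6.mapSub (Scheme.Modules.pullback (swap n m Y)) (KRR.vbP (KRR.PY n (KRR.PY m Y)))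
    (KRR.vbP (KRR.PY m (KRR.PY n Y))) fun _ h => Groth.LocFree.isFinLocFree_pullback _ h

theorem mapSub_cl {A B : Scheme.{u}} (G : A.Modules ⥤ B.Modules) [G.Additive] [PreservesFiniteLimits G]
    [PreservesFiniteColimits G] (hG : ∀ M, FlatMod.IsFinLocFree M → FlatMod.IsFinLocFree (G.obj M))
    {L : A.Modules} (hL : FlatMod.IsFinLocFree L) :
    SGA6.mapSub G (KRR.vbP A) (KRR.vbP B) hG (KRR.cl A L) = KRR.cl B (G.obj L) := by
  rw [KRR.cl, KRR.cl, clSub_of hL, clSub_of (P := KRR.vbP B) (hG L hL)]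
  rfl

/-- Iterated push-forward does not depend on the order of the factors. -/
theorem pushHom_swap [IsNoetherian Y]
    {h₁ : SGA6.Kvb (KRR.PY n Y) →+ SGA6.Kvb Y} (hh₁ : IsPushHom n Y h₁)
    {h₂ : SGA6.Kvb (KRR.PY m Y) →+ SGA6.Kvb Y} (hh₂ : IsPushHom m Y h₂)
    {h₁' : SGA6.Kvb (KRR.PY m (KRR.PY n Y)) →+ SGA6.Kvb (KRR.PY n Y)}
    (hh₁' : IsPushHom m (KRR.PY n Y) h₁')
    {h₂' : SGA6.Kvb (KRR.PY n (KRR.PY m Y)) →+ SGA6.Kvb (KRR.PY m Y)}
    (hh₂' : IsPushHom n (KRR.PY m Y) h₂') :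
    h₁.comp (h₁'.comp (swapHom n m Y)) = h₂.comp h₂' := by
  haveI := isNoetherian_PY n Y
  haveI := isNoetherian_PY m Y
  refine gen_ext fun F hF a ha => ?_
  let μ := SGA6.mapSub (twPull n (KRR.PY m Y) a) (KRR.vbP (KRR.PY m Y))
    (KRR.vbP (KRR.PY n (KRR.PY m Y))) (isFinLocFree_twPull a)
  have hμ : ∀ L, FlatMod.IsFinLocFree L →
      μ (KRR.cl (KRR.PY m Y) L) = KRR.cl (KRR.PY n (KRR.PY m Y)) ((twPull n (KRR.PY m Y) a).obj L) :=
    fun L hL => mapSub_cl _ _ hL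
  suffices key : (h₁.comp (h₁'.comp (swapHom n m Y))).comp μ = (h₂.comp h₂').comp μ by
    have := congr($key (KRR.cl (KRR.PY m Y) F))
    rw [AddMonoidHom.comp_apply, AddMonoidHom.comp_apply (h₂.comp h₂') μ, hμ F hF] at this
    exact this
  refine gen_ext fun E hE b hb => ?_
  let L := (twPull m Y b).obj E
  have hL : FlatMod.IsFinLocFree L := isFinLocFree_twPull b E hE
  change h₁ (h₁' (swapHom n m Y (μ (KRR.cl (KRR.PY m Y) L)))) = h₂ (h₂' (μ (KRR.cl (KRR.PY m Y) L)))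
  rw [hμ L hL]
  have hM := isFinLocFree_twPull (n := n) a L hL
  obtain ⟨e⟩ := nonempty_swap_twist n m Y a b E
  have h3 : swapHom n m Y (KRR.cl _ ((twPull n (KRR.PY m Y) a).obj L)) =
      KRR.cl _ ((twPull m (KRR.PY n Y) b).obj ((twPull n Y a).obj E)) :=
    (mapSub_cl _ _ hM).trans (LambdaVb.kcl_iso e (Groth.LocFree.isFinLocFree_pullback _ hM))
  rw [h3]
  refine Eq.trans (congrArg h₁ (hh₁'.twist_pullback (isFinLocFree_twPull a E hE) hb)) ?_
  refine Eq.trans ?_ (congrArg h₂ (hh₂'.twist_pullback hL ha)).symm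
  rw [apply_ite h₁, apply_ite h₂, map_zero, map_zero]
  change (if b = 0 then h₁ (KRR.cl _ (KRR.twF n Y (-(a : ℤ)) _)) else 0) =
    if a = 0 then h₂ (KRR.cl _ (KRR.twF m Y (-(b : ℤ)) _)) else 0
  rw [hh₁.twist_pullback hE ha, hh₂.twist_pullback hE hb]
  split_ifs <;> rfl

end Swap

section Indep

variable {n m : ℕ} {X Y : Scheme.{u}}

theorem isClosedImmersion_of_pr (w : X ⟶ KRR.PY n Y) (i : X ⟶ Y) [IsClosedImmersion i]
    (h : w ≫ KRR.pr n Y = i) : IsClosedImmersion w := by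
  obtain ⟨_, _, _⟩ := pr_facts n Y
  haveI : IsClosedImmersion (w ≫ KRR.pr n Y) := h ▸ inferInstance
  exact IsClosedImmersion.of_comp w (KRR.pr n Y)

theorem swapHom_eul [IsNoetherian Y] (hP : KRR.HasEnoughLocFree (KRR.PY n (KRR.PY m Y)))
    (hP' : KRR.HasEnoughLocFree (KRR.PY m (KRR.PY n Y)))
    [IsLocallyNoetherian (KRR.PY n (KRR.PY m Y))] [IsLocallyNoetherian (KRR.PY m (KRR.PY n Y))]
    (w : X ⟶ KRR.PY n (KRR.PY m Y)) [IsClosedImmersion w]
    (w' : X ⟶ KRR.PY m (KRR.PY n Y)) (hw : w' ≫ swap n m Y = w)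
    (E : X.Modules) [E.IsQuasicoherent]
    (hfin : FinRes (KRR.vbP (KRR.PY n (KRR.PY m Y))) (cohProp (KRR.PY n (KRR.PY m Y)))
      ((Scheme.Modules.pushforward w).obj E)) :
    FinRes (KRR.vbP (KRR.PY m (KRR.PY n Y))) (cohProp (KRR.PY m (KRR.PY n Y)))
        ((Scheme.Modules.pushforward w').obj E) ∧
      swapHom n m Y (eul hP ((Scheme.Modules.pushforward w).obj E)) =
        eul hP' ((Scheme.Modules.pushforward w').obj E) := by
  obtain ⟨d, hd⟩ := hfin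
  obtain ⟨hres, he⟩ := eul_map hP hP' (Scheme.Modules.pullback (swap n m Y))
    (fun M h => Groth.LocFree.isFinLocFree_pullback _ h)
    (fun M h => Groth.SpectralTopology.ConsModLocus.isCoh_pullback_obj _ h) hd
  have hsq : IsPullback (𝟙 X) w' w (swap n m Y) :=
    IsPullback.of_horiz_isIso ⟨by rw [Category.id_comp, hw]⟩
  let e : (Scheme.Modules.pullback (swap n m Y)).obj ((Scheme.Modules.pushforward w).obj E) ≅
      (Scheme.Modules.pushforward w').obj E :=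
    (Groth.CohBase.AffineBC.nonempty_affine_bc hsq E).some ≪≫
      (Scheme.Modules.pushforward w').mapIso ((Scheme.Modules.pullbackId X).app E)
  exact ⟨finRes_iso hP' e ⟨d, hres⟩, he.symm.trans (eul_iso hP' e ⟨d, hres⟩)⟩

/-- The class `p_K i_K` does not depend on the factorization. -/
theorem push_indep [IsNoetherian Y]
    (hY₁ : KRR.HasEnoughLocFree (KRR.PY n Y)) (hY₂ : KRR.HasEnoughLocFree (KRR.PY m Y))
    [IsLocallyNoetherian (KRR.PY n Y)] [IsLocallyNoetherian (KRR.PY m Y)]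
    (i₁ : X ⟶ KRR.PY n Y) [IsClosedImmersion i₁] (i₂ : X ⟶ KRR.PY m Y) [IsClosedImmersion i₂]
    (hf₁ : ∀ F : X.Modules, FlatMod.IsFinLocFree F →
      FinRes (KRR.vbP (KRR.PY n Y)) (cohProp (KRR.PY n Y)) ((Scheme.Modules.pushforward i₁).obj F))
    (hf₂ : ∀ F : X.Modules, FlatMod.IsFinLocFree F →
      FinRes (KRR.vbP (KRR.PY m Y)) (cohProp (KRR.PY m Y)) ((Scheme.Modules.pushforward i₂).obj F))
    (hi : i₁ ≫ KRR.pr n Y = i₂ ≫ KRR.pr m Y)
    {h₁ : SGA6.Kvb (KRR.PY n Y) →+ SGA6.Kvb Y} (hh₁ : IsPushHom n Y h₁)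
    {h₂ : SGA6.Kvb (KRR.PY m Y) →+ SGA6.Kvb Y} (hh₂ : IsPushHom m Y h₂)
    {E : X.Modules} (hE : FlatMod.IsFinLocFree E) :
    h₁ (eul hY₁ ((Scheme.Modules.pushforward i₁).obj E)) =
      h₂ (eul hY₂ ((Scheme.Modules.pushforward i₂).obj E)) := by
  haveI := isNoetherian_PY n Y
  haveI := isNoetherian_PY m Y
  have hP := hasEnoughLocFree_PY n hY₂
  have hP' := hasEnoughLocFree_PY m hY₁
  haveI := isLocallyNoetherian_PY n (KRR.PY m Y)
  haveI := isLocallyNoetherian_PY m (KRR.PY n Y)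
  let w : X ⟶ KRR.PY n (KRR.PY m Y) := pYLift (i₁ ≫ pZ n Y) i₂
  let w' : X ⟶ KRR.PY m (KRR.PY n Y) := pYLift (i₂ ≫ pZ m Y) i₁
  have hw : w' ≫ swap n m Y = w := by
    refine pY_hom_ext ?_ (pY_hom_ext ?_ ?_) <;> simp [w, w', swap, hi]
  haveI : IsClosedImmersion w := isClosedImmersion_of_pr w i₂ (pYLift_pr _ _)
  haveI := LocFree.isQCoh hE
  obtain ⟨h₁', hh₁'⟩ := exists_pushHom_pr m (KRR.PY n Y)
  obtain ⟨h₂', hh₂'⟩ := exists_pushHom_pr n (KRR.PY m Y)
  obtain ⟨hfw, ew⟩ := eul_push_lift hY₂ hP i₂ hf₂ w (pYLift_pr _ _) hh₂' hE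
  obtain ⟨-, ew'⟩ := eul_push_lift hY₁ hP' i₁ hf₁ w' (pYLift_pr _ _) hh₁' hE
  obtain ⟨-, es⟩ := swapHom_eul hP hP' w w' hw E hfw
  rw [← ew, ← ew', ← es]
  exact congr($(pushHom_swap n m Y hh₁ hh₂ hh₁' hh₂') _)

end Indep

section Closed

variable {X Y : Scheme.{u}}

/-- The push-forward of classes along a regular closed immersion. -/
theorem exists_pushHom_cl (i : X ⟶ Y) (hi : Mor2.IsRegularClosedImmersion i) [IsNoetherian Y]
    (hY : KRR.HasEnoughLocFree Y) :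
    ∃ ψ : SGA6.Kvb X →+ SGA6.Kvb Y, ∀ L, FlatMod.IsFinLocFree L →
      ψ (kcl L) = eul hY ((Scheme.Modules.pushforward i).obj L) := by
  haveI := hi.1
  exact ⟨liftSub (KRR.vbP X) (fun L => eul hY ((Scheme.Modules.pushforward i).obj L))
    fun S hS h₁ h₂ h₃ => by
      haveI := LocFree.isQCoh h₁
      haveI := LocFree.isQCoh h₂
      haveI := LocFree.isQCoh h₃
      exact eul_rel hY (PushProps.shortExact_push i hS) (finRes_push i hi hY h₁) (finRes_push i hi hY h₂)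
        (finRes_push i hi hY h₃),
    fun L hL => liftSub_clSub _ _ hL⟩

/-- Base change of `pr_K` along a regular closed immersion. -/
theorem pushHom_map {n : ℕ} [IsNoetherian X] [IsNoetherian Y] (i : X ⟶ Y)
    (hi : Mor2.IsRegularClosedImmersion i)
    (hY : KRR.HasEnoughLocFree Y) (hP : KRR.HasEnoughLocFree (KRR.PY n Y))
    [IsLocallyNoetherian (KRR.PY n Y)]
    {h : SGA6.Kvb (KRR.PY n Y) →+ SGA6.Kvb Y} (hh : IsPushHom n Y h)
    {h' : SGA6.Kvb (KRR.PY n X) →+ SGA6.Kvb X} (hh' : IsPushHom n X h')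
    (ψ : SGA6.Kvb X →+ SGA6.Kvb Y)
    (hψ : ∀ L, FlatMod.IsFinLocFree L → ψ (kcl L) = eul hY ((Scheme.Modules.pushforward i).obj L))
    (Ψ : SGA6.Kvb (KRR.PY n X) →+ SGA6.Kvb (KRR.PY n Y))
    (hΨ : ∀ L, FlatMod.IsFinLocFree L → Ψ (kcl L) =
      eul hP ((Scheme.Modules.pushforward (KRR.projSpaceMap n i)).obj L)) :
    h.comp Ψ = ψ.comp h' := by
  haveI := hi.1
  refine gen_ext fun E hE k hk => ?_
  change h (Ψ (kcl ((twPull n X k).obj E))) = ψ (h' (kcl ((twPull n X k).obj E)))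
  haveI := LocFree.isQCoh hE
  obtain ⟨e⟩ := nonempty_twPull_push (n := n) i k E
  obtain ⟨d, hd⟩ := finRes_push i hi hY hE
  obtain ⟨hres, he⟩ := eul_map hY hP (twPull n Y k) (isFinLocFree_twPull k) (isCoh_twPull k) hd
  rw [hΨ _ (isFinLocFree_twPull k E hE), ← eul_iso hP e ⟨d, hres⟩, he, hh.comp_twPull hk,
    show h' (kcl ((twPull n X k).obj E)) = if k = 0 then KRR.cl X E else 0 from hh'.twist_pullback hE hk,
    apply_ite ψ, map_zero]
  split_ifs
  · exact (hψ E hE).symm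
  · rfl

end Closed

end Groth.KTheory.ProjPush
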