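import Groth.Agent.KTheory.InjResSES
import Mathlib.Algebra.Homology.CochainComplexOpposite
import Mathlib.CategoryTheory.Abelian.Opposite
import Mathlib.CategoryTheory.Abelian.Exact

/-!
# Projective resolutions of short exact sequences of bounded above complexes
-/

set_option autoImplicit false
universe v u
open CategoryTheory CategoryTheory.Limits HomologicalComplex Opposite

namespace Groth.Agent.InjResSES

variable {A : Type u} [Category.{v} A] [Abelian A]

/-- back from cochain complexes in the opposite category -/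
noncomputable abbrev back (A : Type u) [Category.{v} A] [Abelian A] :
    CochainComplex Aᵒᵖ ℤ ⥤ (CochainComplex A ℤ)ᵒᵖ :=
  (CochainComplex.opEquivalence A).inverse

lemma quasiIso_back {K L : CochainComplex Aᵒᵖ ℤ} (f : K ⟶ L) [QuasiIso f] :
    QuasiIso ((back A).map f).unop := by
  rw [quasiIso_iff]
  intro n
  rw [quasiIsoAt_iff' _ (n - 1) n (n + 1) (by simp) (by simp)]
  have h : ShortComplex.QuasiIso
      ((shortComplexFunctor' Aᵒᵖ (ComplexShape.up ℤ) (-(n + 1)) (-n) (-(n - 1))).map f) := by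
    rw [← quasiIsoAt_iff' _ _ _ _ (by simp; lia) (by simp; lia)]
    infer_instance
  have := h
  exact ShortComplex.quasiIso_unopMap
    ((shortComplexFunctor' Aᵒᵖ (ComplexShape.up ℤ) (-(n + 1)) (-n) (-(n - 1))).map f)

lemma quasiIso_comp_iso {K L M : CochainComplex A ℤ} (f : K ⟶ L) (g : L ⟶ M) (hf : QuasiIso f)
    (hg : IsIso g) : QuasiIso (f ≫ g) := inferInstance

theorem exists_proj_resolution [EnoughProjectives A]
    (S : ShortComplex (CochainComplex A ℤ)) (hS : S.ShortExact) (n : ℤ)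
    [S.X₁.IsStrictlyLE n] [S.X₂.IsStrictlyLE n] [S.X₃.IsStrictlyLE n] :
    ∃ (T : ShortComplex (CochainComplex A ℤ)) (φ : T ⟶ S), T.ShortExact ∧
      T.X₁.IsStrictlyLE n ∧ T.X₂.IsStrictlyLE n ∧ T.X₃.IsStrictlyLE n ∧
      (∀ k : ℤ, Projective (T.X₁.X k) ∧ Projective (T.X₂.X k) ∧ Projective (T.X₃.X k)) ∧
      QuasiIso φ.τ₁ ∧ QuasiIso φ.τ₂ ∧ QuasiIso φ.τ₃ := by
  let F := (CochainComplex.opEquivalence A).functor
  let u := (CochainComplex.opEquivalence A).unitIso
  let S' : ShortComplex (CochainComplex Aᵒᵖ ℤ) := S.op.map F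
  have hS' : S'.ShortExact := hS.op.map_of_exact F
  have hge : ∀ (K : CochainComplex A ℤ), K.IsStrictlyLE n →
      (F.obj (op K)).IsStrictlyGE (-n) := by
    intro K hK
    rw [CochainComplex.isStrictlyGE_iff]
    intro i hi
    exact (K.isZero_of_isStrictlyLE n (-i) (by lia)).op
  have : S'.X₁.IsStrictlyGE (-n) := hge S.X₃ inferInstance
  have : S'.X₂.IsStrictlyGE (-n) := hge S.X₂ inferInstance
  have : S'.X₃.IsStrictlyGE (-n) := hge S.X₁ inferInstance
  obtain ⟨T', φ', hT', h1, h2, h3, hinj, q1, q2, q3⟩ := exists_resolution S' hS' (-n)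
  have hle : ∀ (K : CochainComplex Aᵒᵖ ℤ), K.IsStrictlyGE (-n) →
      ((back A).obj K).unop.IsStrictlyLE n := by
    intro K hK
    rw [CochainComplex.isStrictlyLE_iff]
    intro i hi
    exact (K.isZero_of_isStrictlyGE (-n) (-i) (by lia)).unop
  have hproj : ∀ (K : CochainComplex Aᵒᵖ ℤ) (k : ℤ), Injective (K.X (-k)) →
      Projective (((back A).obj K).unop.X k) :=
    fun K k hK => Injective.projective_iff_injective_op.2 hK
  let T : ShortComplex (CochainComplex A ℤ) := (T'.map (back A)).unop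
  let φ : T ⟶ S :=
    { τ₁ := ((back A).map φ'.τ₃).unop ≫ (u.hom.app (op S.X₁)).unop
      τ₂ := ((back A).map φ'.τ₂).unop ≫ (u.hom.app (op S.X₂)).unop
      τ₃ := ((back A).map φ'.τ₁).unop ≫ (u.hom.app (op S.X₃)).unop
      comm₁₂ := by
        apply Quiver.Hom.op_inj
        have h := u.hom.naturality S.f.op
        dsimp at h
        change (S.f.op ≫ u.hom.app (op S.X₁) ≫ (back A).map φ'.τ₃) =
          (u.hom.app (op S.X₂) ≫ (back A).map φ'.τ₂) ≫ (back A).map T'.g
        rw [Category.assoc, ← Functor.map_comp]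
        erw [φ'.comm₂₃, Functor.map_comp]
        exact (reassoc_of% h) _
      comm₂₃ := by
        apply Quiver.Hom.op_inj
        have h := u.hom.naturality S.g.op
        dsimp at h
        change (S.g.op ≫ u.hom.app (op S.X₂) ≫ (back A).map φ'.τ₂) =
          (u.hom.app (op S.X₃) ≫ (back A).map φ'.τ₁) ≫ (back A).map T'.f
        rw [Category.assoc, ← Functor.map_comp]
        erw [φ'.comm₁₂, Functor.map_comp]
        exact (reassoc_of% h) _ }
  have hu : ∀ (K : CochainComplex A ℤ), IsIso (u.hom.app (op K)).unop := fun K => inferInstance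
  refine ⟨T, φ, (hT'.map_of_exact (back A)).unop, hle _ h3, hle _ h2, hle _ h1,
    fun k => ⟨hproj _ k (hinj _).2.2, hproj _ k (hinj _).2.1, hproj _ k (hinj _).1⟩, ?_, ?_, ?_⟩
  · exact quasiIso_comp_iso _ _ (quasiIso_back φ'.τ₃) (hu S.X₁)
  · exact quasiIso_comp_iso _ _ (quasiIso_back φ'.τ₂) (hu S.X₂)
  · exact quasiIso_comp_iso _ _ (quasiIso_back φ'.τ₁) (hu S.X₃)

end Groth.Agent.InjResSES
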