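import Groth.Agent.KTheory.PushRes
import Groth.Agent.KTheory.PushProps

/-!
# Existence of the push-forward along a regular closed immersion on `K₀` of bundles
-/

set_option autoImplicit false
universe u v

open CategoryTheory CategoryTheory.Limits AlgebraicGeometry

namespace Groth.KTheory.PushClExist

open Groth.KTheory Groth.KTheory.LFRes Groth.KTheory.PushRes Groth.KTheory.PushProps Groth.KTheory.Resolution

variable {X Y : Scheme.{u}}

/-- The alternating sum of any resolution is the class of the module. -/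
theorem sum_eq_eul [IsLocallyNoetherian Y] (hY : KRR.HasEnoughLocFree Y) {A : Y.Modules} (hA : Coh.IsCoh A)
    {n : ℕ} {L : ChainComplex Y.Modules ℕ} {φ : L ⟶ (ChainComplex.single₀ Y.Modules).obj A}
    (h : KRR.IsLFRes A n L φ) :
    ∑ k ∈ Finset.range (n + 1), (-1 : ℤ) ^ k • LambdaVb.kcl (L.X k) = eul hY A := by
  obtain ⟨hfree, hzero, hq⟩ := h
  have S := setup hY
  have hcohL : ∀ i, (cohProp Y) (L.X i) := fun i => S.le _ (hfree i)
  have hseq : ∀ i, (ShortComplex.mk (L.d (i + 2) (i + 1)) (L.d (i + 1) i) (L.d_comp_d _ _ _)).Exact := fun i => by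
    have hex : L.ExactAt (i + 1) :=
      (quasiIsoAt_iff_exactAt' φ (i + 1) (ChainComplex.exactAt_succ_single_obj _ _)).mp (hq.quasiIsoAt _)
    rw [L.exactAt_iff' (i + 2) (i + 1) i (by simp) (by simp)] at hex
    exact hex
  have key : ∀ d i, n ≤ i + d → FinRes (KRR.vbP Y) (cohProp Y) (kernel (L.d (i + 1) i)) := by
    intro d
    induction d with
    | zero =>
      intro i hi
      exact ⟨0, LocFree.isFinLocFree_zero (Groth.KTheory.isZero_kernel (hzero (i + 1) (by omega)) _)⟩
    | succ d ih =>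
      intro i hi
      exact S.finRes_X₃ (Groth.KTheory.shortExact_kernel_of_exact _ _ _ (hseq i)) (ih (i + 1) (by omega))
        ⟨0, hfree (i + 2)⟩ ((cohProp Y).prop_kernel _ (hcohL _) (hcohL _))
  have hK : ∀ i, FinRes (KRR.vbP Y) (cohProp Y) (kernel (L.d (i + 1) i)) := fun i => key n i (by omega)
  obtain ⟨hex0, hepi⟩ := (quasiIso_zero_iff φ).mp (hq.quasiIsoAt 0)
  let π : L.X 0 ⟶ A := φ.f 0
  have : Epi π := hepi
  have hs1 := Groth.KTheory.shortExact_kernel_of_exact _ _ _ hex0
  have hs0 := Groth.KTheory.Resolution.shortExact_kernel π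
  have hP : FinRes (KRR.vbP Y) (cohProp Y) (kernel π) :=
    S.finRes_X₃ hs1 (hK 0) ⟨0, hfree 1⟩ ((cohProp Y).prop_kernel _ (hcohL 0) hA)
  have hA' : FinRes (KRR.vbP Y) (cohProp Y) A := S.finRes_X₃ hs0 hP ⟨0, hfree 0⟩ hA
  have e0 : LambdaVb.kcl (L.X 0) = eul hY (kernel π) + eul hY A :=
    (eul_bundle hY (hfree 0)).symm.trans (eul_rel hY hs0 hP ⟨0, hfree 0⟩ hA')
  have e1 : LambdaVb.kcl (L.X 1) = eul hY (kernel (L.d 1 0)) + eul hY (kernel π) :=
    (eul_bundle hY (hfree 1)).symm.trans (eul_rel hY hs1 (hK 0) ⟨0, hfree 1⟩ hP)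
  have er : ∀ i, LambdaVb.kcl (L.X (i + 2)) =
      eul hY (kernel (L.d (i + 2) (i + 1))) + eul hY (kernel (L.d (i + 1) i)) := fun i =>
    (eul_bundle hY (hfree (i + 2))).symm.trans
      (eul_rel hY (Groth.KTheory.shortExact_kernel_of_exact _ _ _ (hseq i)) (hK (i + 1)) ⟨0, hfree (i + 2)⟩ (hK i))
  have hsum : ∀ m : ℕ, ∑ k ∈ Finset.range (m + 2), (-1 : ℤ) ^ k • LambdaVb.kcl (L.X k) =
      eul hY A + (-1 : ℤ) ^ (m + 1) • eul hY (kernel (L.d (m + 1) m)) := by
    intro m
    induction m with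
    | zero =>
      rw [Finset.sum_range_succ, Finset.sum_range_one, e0, e1]
      simp only [pow_zero, one_smul, pow_one, neg_smul, zero_add]
      abel
    | succ m ih =>
      rw [Finset.sum_range_succ, ih, er m]
      simp only [pow_succ, mul_neg, mul_one, neg_neg, neg_smul, smul_add]
      abel
  have h := hsum n
  have hz : IsZero (kernel (L.d (n + 1) n)) := Groth.KTheory.isZero_kernel (hzero (n + 1) (by omega)) _
  rw [eul_bundle hY (LocFree.isFinLocFree_zero hz), KvbModel.kcl_zero hz, smul_zero, add_zero,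
    Finset.sum_range_succ, KvbModel.kcl_zero (hzero (n + 1) (by omega)), smul_zero, add_zero] at h
  exact h

/-- The push-forward on `K₀` of bundles exists and is unique. -/
theorem existsUnique_isPushCl (i : X ⟶ Y) (hi : Mor2.IsRegularClosedImmersion i) [IsNoetherian Y]
    (hY : KRR.HasEnoughLocFree Y) {KX : Type v} [CommRing KX] [LambdaRing.LambdaOps KX]
    {PX : LambdaRing.PosStructure KX} {φX : SGA6.Kvb X →+ KX} (hKX : KRR.IsModel X KX PX φX)
    {KY : Type v} [CommRing KY] (φY : SGA6.Kvb Y →+ KY) :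
    ∃! h : KX →+ KY, KRR.IsPushCl i φX φY h := by
  haveI := hi.1
  let p : SGA6.Kvb X →+ SGA6.Kvb Y :=
    liftSub (fun M : X.Modules => FlatMod.IsFinLocFree M)
      (fun M => eul hY ((Scheme.Modules.pushforward i).obj M)) fun S hS h₁ h₂ h₃ => by
      haveI := Groth.KTheory.LocFree.isQCoh h₁
      haveI := Groth.KTheory.LocFree.isQCoh h₂
      haveI := Groth.KTheory.LocFree.isQCoh h₃
      exact eul_rel hY (shortExact_push i hS) (finRes_push i hi hY h₁) (finRes_push i hi hY h₂)
        (finRes_push i hi hY h₃)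
  let e := AddEquiv.ofBijective φX hKX.bijective
  refine ⟨φY.comp (p.comp e.symm.toAddMonoidHom), fun F hF n L π hL => ?_, fun g hg => ?_⟩
  · change φY (p (e.symm (e (KRR.cl X F)))) = _
    rw [e.symm_apply_apply]
    change φY (p (KZero.clSub _ F)) = _
    rw [liftSub_clSub _ _ hF, ← sum_eq_eul hY (CohTwo.isCoh_push i (Groth.KTheory.LocFree.isCoh hF)) hL, map_sum]
    exact Finset.sum_congr rfl fun k _ => map_zsmul φY _ _
  · refine k_hom_ext hKX fun F hF => ?_
    change g (φX (KRR.cl X F)) = φY (p (e.symm (e (KRR.cl X F))))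
    rw [pushCl_eq hY i hg hi hF, e.symm_apply_apply]
    change _ = φY (p (KZero.clSub _ F))
    rw [liftSub_clSub _ _ hF]

end Groth.KTheory.PushClExist
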