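import Groth.Agent.KTheory.RegKoszulPush
import Groth.Agent.KTheory.PullLambda
import Groth.Agent.LambdaCore.TwistGamma
import Groth.Agent.S15827
import Groth.Agent.S3762

/-!
# The push-forward along `Pⁿ_Y ⟶ Y` and the γ-filtrations
-/

set_option autoImplicit false
universe v u

open CategoryTheory CategoryTheory.Limits AlgebraicGeometry

namespace Groth.KTheory.PushGamma

open LambdaRing Groth.LambdaCore Groth.KTheory Groth.KTheory.RegKoszul Groth.KTheory.LambdaVb

variable {n : ℕ} {Y : Scheme.{u}}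
  {KP : Type v} [CommRing KP] [LambdaOps KP] {PP : PosStructure KP} {φP : SGA6.Kvb (KRR.PY n Y) →+ KP}
  {KY : Type v} [CommRing KY] [LambdaOps KY] {PY : PosStructure KY} {φY : SGA6.Kvb Y →+ KY}
  (hKP : KRR.IsModel (KRR.PY n Y) KP PP φP) (hKY : KRR.IsModel Y KY PY φY)

/-- The class of `O(a)`. -/
noncomputable abbrev tw (φP : SGA6.Kvb (KRR.PY n Y) →+ KP) (a : ℤ) : KP :=
  φP (KRR.cl (KRR.PY n Y) (Twist.twistOver n Y a))

theorem rank_twistOver (a : ℤ) : FlatMod.IsFinLocFreeOfRank 1 (Twist.twistOver n Y a) :=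
  Groth.LocFree.isInvertible_iff_ofRank_one.1 (RegSheaf.isInvertible_twistOver n Y a)

theorem vb_twistOver (a : ℤ) : FlatMod.IsFinLocFree (Twist.twistOver n Y a) :=
  Groth.LocFree.isFinLocFree_of_rank (rank_twistOver a)

include hKP

theorem cl_tensor {A B : (KRR.PY n Y).Modules} (hA : FlatMod.IsFinLocFree A) (hB : FlatMod.IsFinLocFree B) :
    φP (KRR.cl _ A) * φP (KRR.cl _ B) = φP (KRR.cl _ (CohB1.tensorMod A B)) :=
  hKP.map_mul A B hA hB

theorem tw_mul (a b : ℤ) : tw φP a * tw φP b = tw φP (a + b) := by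
  rw [tw, tw, tw, cl_tensor hKP (vb_twistOver a) (vb_twistOver b)]
  exact congrArg φP (kcl_iso (RegSheaf.nonempty_twistOver_add n Y a b).some
    (Groth.LocFree.isFinLocFree_tensorMod (vb_twistOver a) (vb_twistOver b)))

theorem tw_twF (a : ℤ) {F : (KRR.PY n Y).Modules} (hF : FlatMod.IsFinLocFree F) :
    φP (KRR.cl _ (KRR.twF n Y a F)) = tw φP a * φP (KRR.cl _ F) :=
  (cl_tensor hKP (vb_twistOver a) hF).symm

theorem tw_zero : tw φP 0 = 1 := by
  have hO := Groth.LocFree.isFinLocFree_unit (KRR.PY n Y)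
  rw [← hKP.map_one, show tw φP 0 = tw φP 0 * φP (KRR.cl _ (Coh.structureModule (KRR.PY n Y))) by
    rw [hKP.map_one, mul_one], ← tw_twF hKP 0 hO]
  exact congrArg φP (kcl_iso (RegSheaf.nonempty_twF_zero n Y _).some (isFinLocFree_twF 0 hO))

theorem tw_natCast (a : ℕ) : tw φP (a : ℤ) = tw φP 1 ^ a := by
  induction a with
  | zero => rw [Nat.cast_zero, tw_zero hKP, pow_zero]
  | succ a ih => rw [pow_succ, ← ih, tw_mul hKP, Nat.cast_succ]

theorem isLine_tw (a : ℤ) : PP.IsLine (tw φP a) :=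
  ⟨(hKP.mem_pos_iff _).2 ⟨1, _, le_rfl, rank_twistOver a, rfl⟩, by
    rw [tw, hKP.aug_cl 1 _ (rank_twistOver a), Nat.cast_one]⟩

theorem tw_pow_cl (a : ℤ) (j : ℕ) :
    tw φP a ^ j = φP (KRR.cl _ (CohB1.tensorPow (Twist.twistOver n Y a) j)) ∧
      FlatMod.IsFinLocFree (CohB1.tensorPow (Twist.twistOver n Y a) j) := by
  induction j with
  | zero => exact ⟨by rw [pow_zero, ← hKP.map_one]; rfl, Groth.LocFree.isFinLocFree_unit _⟩
  | succ j ih =>
    refine ⟨?_, Groth.LocFree.isFinLocFree_tensorMod ih.2 (vb_twistOver a)⟩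
    rw [pow_succ, ih.1]
    exact cl_tensor hKP ih.2 (vb_twistOver a)

theorem lam_mul_tw {e : KP} (he : e ∈ PP.pos) (a : ℤ) (j : ℕ) :
    LambdaOps.lam j (e * tw φP a) = LambdaOps.lam j e * tw φP a ^ j := by
  obtain ⟨r, E, hr, hE, rfl⟩ := (hKP.mem_pos_iff e).1 he
  have hv := Groth.LocFree.isFinLocFree_of_rank hE
  have hEL := Groth.LocFree.isFinLocFree_tensorMod hv (vb_twistOver (n := n) (Y := Y) a)
  have := KTheory.LocFree.isQCoh hv
  have := KTheory.LocFree.isQCoh hEL
  rw [cl_tensor hKP hv (vb_twistOver a),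
    hKP.map_lam j _ _ hEL (Groth.LocFree.isFinLocFree_extPow hEL j) (Groth.LocFree.isExtPow_extPow j _),
    hKP.map_lam j _ _ hv (Groth.LocFree.isFinLocFree_extPow hv j) (Groth.LocFree.isExtPow_extPow j _),
    (tw_pow_cl hKP a j).1, cl_tensor hKP (Groth.LocFree.isFinLocFree_extPow hv j) (tw_pow_cl hKP a j).2]
  exact congrArg φP (kcl_iso (Groth.Agent.S15827.result E (Twist.twistOver n Y a) hv (rank_twistOver a) j _ _
    (Groth.LocFree.isExtPow_extPow j _) (Groth.LocFree.isExtPow_extPow j _)).some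
    (Groth.LocFree.isFinLocFree_extPow hEL j))

section Gen

variable [IsNoetherian Y] {Q : KY →+* KP}
  (hQ : ∀ E : Y.Modules, FlatMod.IsFinLocFree E →
    Q (φY (KRR.cl Y E)) = φP (KRR.cl _ ((Scheme.Modules.pullback (KRR.pr n Y)).obj E)))

/-- The span of the `q(b) · l^a`. -/
def genSpan (Q : KY →+* KP) (l : KP) : AddSubgroup KP :=
  AddSubgroup.closure {z | ∃ (b : KY) (a : ℕ), z = Q b * l ^ a}

include hQ

theorem regular_mem_genSpan {F : (KRR.PY n Y).Modules} (hF : RegP n Y F) :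
    tw φP n * φP (KRR.cl _ F) ∈ genSpan Q (tw φP 1) := by
  have hFq := KTheory.LocFree.isQCoh hF.1
  have aux : ∀ k, FlatMod.IsFinLocFree (seqG F k) →
      FlatMod.IsFinLocFree ((Scheme.Modules.pushforward (KRR.pr n Y)).obj (seqG F k)) ∧
        FlatMod.IsFinLocFree (kernel (cou (seqG F k))) := fun k hk => by
    obtain ⟨h1, h2⟩ := seqG_reg hFq hF.2 k
    have hacy : AcyP n Y (seqG F k) := ⟨hk, fun q hq =>
      (van_of_regular h1 h2 hq (r := 0) (by omega)).of_iso (RegSheaf.nonempty_twF_zero n Y _).some⟩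
    haveI : Epi (cou (seqG F k)) := epi_counit _ h1 h2
    exact ⟨isFinLocFree_push hacy, Groth.LocFree.isFinLocFree_left
      (Groth.KTheory.Resolution.shortExact_kernel (cou (seqG F k)))
      (Groth.LocFree.isFinLocFree_pullback _ (isFinLocFree_push hacy)) hk⟩
  have hseq : ∀ k, FlatMod.IsFinLocFree (seqG F k) := by
    intro k
    induction k with
    | zero => rw [seqG]; exact hF.1
    | succ k ih => rw [seqG]; exact isFinLocFree_twF 1 (aux k ih).2
  have key : ∀ d k : ℕ, k + d = n + 1 → tw φP ((n : ℤ) - k) * φP (KRR.cl _ (seqG F k)) ∈ genSpan Q (tw φP 1) := by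
    intro d
    induction d with
    | zero =>
      intro k hk
      rw [show φP (KRR.cl _ (seqG F k)) = 0 by
        rw [show KRR.cl _ (seqG F k) = (0 : SGA6.Kvb (KRR.PY n Y)) from
          KvbModel.kcl_zero (isZero_seqG hFq hF.2 k (by omega)), map_zero], mul_zero]
      exact zero_mem _
    | succ d ih =>
      intro k hk
      obtain ⟨h1, h2⟩ := seqG_reg hFq hF.2 k
      have hk0 := hseq k
      obtain ⟨hpush, hker⟩ := aux k hk0
      haveI : Epi (cou (seqG F k)) := epi_counit _ h1 h2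
      have hrel : φP (KRR.cl _ ((Scheme.Modules.pullback (KRR.pr n Y)).obj
          ((Scheme.Modules.pushforward (KRR.pr n Y)).obj (seqG F k)))) =
          φP (KRR.cl _ (kernel (cou (seqG F k)))) + φP (KRR.cl _ (seqG F k)) :=
        (congrArg φP (clSub_rel (P := KRR.vbP (KRR.PY n Y)) _
          (Groth.KTheory.Resolution.shortExact_kernel (cou (seqG F k))) hker
          (Groth.LocFree.isFinLocFree_pullback _ hpush) hk0)).trans (map_add φP _ _)
      have hsucc : φP (KRR.cl _ (seqG F (k + 1))) = tw φP 1 * φP (KRR.cl _ (kernel (cou (seqG F k)))) := by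
        rw [seqG]
        exact tw_twF hKP 1 hker
      have h3 := ih (k + 1) (by omega)
      rw [hsucc, ← mul_assoc, tw_mul hKP, show ((n : ℤ) - ((k + 1 : ℕ) : ℤ)) + 1 = (n : ℤ) - k by
        push_cast; ring] at h3
      rw [show φP (KRR.cl _ (seqG F k)) = φP (KRR.cl _ ((Scheme.Modules.pullback (KRR.pr n Y)).obj
          ((Scheme.Modules.pushforward (KRR.pr n Y)).obj (seqG F k)))) -
            φP (KRR.cl _ (kernel (cou (seqG F k)))) by rw [hrel]; abel, mul_sub]
      refine sub_mem ?_ h3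
      rw [← hQ _ hpush, show (n : ℤ) - k = ((n - k : ℕ) : ℤ) by omega, tw_natCast hKP, mul_comm]
      exact AddSubgroup.subset_closure ⟨_, _, rfl⟩
  simpa [seqG] using key (n + 1) 0 (zero_add _)

theorem mem_genSpan (z : KP) : z ∈ genSpan Q (tw φP 1) := by
  have h : ∀ z, tw φP n * z ∈ genSpan Q (tw φP 1) := fun z => by
    obtain ⟨x, rfl⟩ := hKP.bijective.2 z
    obtain ⟨z₀, rfl⟩ := (bijective_mapSub_regP (n := n) (T := Y) (fun _ h => h.1)).2 x
    induction z₀ using k0sub_induction with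
    | h0 => rw [map_zero, map_zero, mul_zero]; exact zero_mem _
    | hadd a b ha hb => rw [map_add, map_add, mul_add]; exact add_mem ha hb
    | hneg a ha => rw [map_neg, map_neg, mul_neg]; exact neg_mem ha
    | hcl F hF =>
      have eF : SGA6.mapSub (𝟭 (KRR.PY n Y).Modules) (RegP n Y) (KRR.vbP (KRR.PY n Y)) (fun _ h => h.1)
          (KZero.clSub (RegP n Y) F) = KRR.cl (KRR.PY n Y) F := by
        rw [clSub_of hF, KRR.cl, clSub_of hF.1]
        rfl
      rw [eF]
      exact regular_mem_genSpan hKP hQ hF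
  have h1 := h (tw φP (-(n : ℤ)) * z)
  rwa [← mul_assoc, tw_mul hKP, add_neg_cancel, tw_zero hKP, one_mul] at h1

end Gen

/-- The filtration spanned by `q(F^{k-j}) η^j`. -/
def Fil (PY : PosStructure KY) (Q : KY →+* KP) (η : KP) (k : ℕ) : AddSubgroup KP :=
  AddSubgroup.closure {z | ∃ (j : ℕ) (y : KY), y ∈ gammaFiltration PY (k - j) ∧ z = Q y * η ^ j}

omit hKP in
theorem mem_Fil {Q : KY →+* KP} {η : KP} {k j : ℕ} {y : KY} (hy : y ∈ gammaFiltration PY (k - j)) :
    Q y * η ^ j ∈ Fil PY Q η k := AddSubgroup.subset_closure ⟨j, y, hy, rfl⟩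

omit hKP in
theorem Fil_antitone (Q : KY →+* KP) (η : KP) : Antitone (Fil PY Q η) := fun a b hab => by
  refine AddSubgroup.closure_mono ?_
  rintro z ⟨j, y, hy, rfl⟩
  exact ⟨j, y, gammaFiltration_antitone (by omega) hy, rfl⟩

omit hKP in
theorem sub_aug_mem {Q : KY →+* KP} {l : KP} {G : ℕ → AddSubgroup KP} (hG : IsGraded G)
    (h : ∀ (b : KY) (a : ℕ), Q b * l ^ a - (PP.aug (Q b * l ^ a) : KP) ∈ gammaGradedSet (RingHom.id KP) G hG)
    {z : KP} (hz : z ∈ genSpan Q l) : z - (PP.aug z : KP) ∈ gammaGradedSet (RingHom.id KP) G hG := by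
  induction hz using AddSubgroup.closure_induction with
  | zero => rw [map_zero, Int.cast_zero, sub_zero]; exact zero_mem _
  | add p q _ _ hp hq =>
    rw [map_add, Int.cast_add, show p + q - ((PP.aug p : KP) + (PP.aug q : KP)) =
      (p - (PP.aug p : KP)) + (q - (PP.aug q : KP)) by ring]
    exact add_mem hp hq
  | neg p _ hp =>
    rw [map_neg, Int.cast_neg, show -p - -(PP.aug p : KP) = -(p - (PP.aug p : KP)) by ring]
    exact neg_mem hp
  | mem p hp =>
    obtain ⟨b, a, rfl⟩ := hp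
    exact h b a

theorem gen_aug_mem {Q : KY →+* KP} (hQl : IsLambdaHom Q) (hQa : ∀ y, PP.aug (Q y) = PY.aug y)
    {G : ℕ → AddSubgroup KP} (hG : IsGraded G) {a : ℕ} (hl0 : tw φP 1 ^ a ∈ G 0)
    (hl : tw φP 1 ^ a - 1 ∈ G 1) (hQG : ∀ (i : ℕ) (y : KY), y ∈ gammaFiltration PY i → Q y ∈ G i)
    (hQpos : ∀ e ∈ PY.pos, Q e ∈ PP.pos) (b : KY) :
    Q b * tw φP 1 ^ a - (PP.aug (Q b * tw φP 1 ^ a) : KP) ∈ gammaGradedSet (RingHom.id KP) G hG := by
  have hla : PP.aug (tw φP 1 ^ a) = 1 := by rw [map_pow, (isLine_tw hKP 1).2, one_pow]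
  have hpos : ∀ e ∈ PY.pos, Q e * tw φP 1 ^ a - (PY.aug e : KP) ∈ gammaGradedSet (RingHom.id KP) G hG := by
    intro e he
    obtain ⟨r, hr⟩ : ∃ r : ℕ, PY.aug e = r := ⟨_, (aug_toNat he).symm⟩
    rw [hr, Int.cast_natCast]
    refine mem_gammaGradedSet.2 ?_
    simp only [PowerSeries.map_id, RingHom.id_apply, id_eq]
    refine TwistGamma.gradedSeries_twist PP hG hl0 hl (e := Q e) ?_ r ⟨by simp, fun i => ?_⟩
    · ext i
      rw [PowerSeries.coeff_rescale, lamSeries, lamSeries, PowerSeries.coeff_mk, PowerSeries.coeff_mk,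
        ← tw_natCast hKP, lam_mul_tw hKP (hQpos e he) (a : ℤ) i, mul_comm]
    · rw [coeff_gammaSeries, ← map_natCast Q r, ← map_sub, ← map_gamma hQl]
      exact hQG i _ (gamma_mem_gammaFiltration (P := PY) (by simp [hr]) i)
  obtain ⟨e, e', he, he', rfl⟩ := PY.exists_sub b
  rw [map_mul, hla, mul_one, hQa, map_sub Q, map_sub PY.aug, Int.cast_sub,
    show (Q e - Q e') * tw φP 1 ^ a - ((PY.aug e : KP) - (PY.aug e' : KP)) =
      (Q e * tw φP 1 ^ a - (PY.aug e : KP)) - (Q e' * tw φP 1 ^ a - (PY.aug e' : KP)) by ring]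
  exact sub_mem (hpos e he) (hpos e' he')

include hKY

theorem push_mem [IsNoetherian Y] [ConnectedSpace ↥Y] {g : KP →+ KY} (hg : KRR.IsPushPr n Y φP φY g)
    {k : ℕ} {x : KP} (hx : x ∈ gammaFiltration PP k) : g x ∈ gammaFiltration PY (k - n) := by
  obtain ⟨q, hq, -⟩ := KvbPull.existsUnique_isPull (KRR.pr n Y) φP φY hKY.bijective
  obtain ⟨Q, hQl, hQa, hQq⟩ := PullLambda.exists_lambdaHom (KRR.pr n Y) hKP hKY hq
  have hQE : ∀ E : Y.Modules, FlatMod.IsFinLocFree E →
      Q (φY (KRR.cl Y E)) = φP (KRR.cl _ ((Scheme.Modules.pullback (KRR.pr n Y)).obj E)) := fun E hE => by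
    rw [hQq]; exact hq E hE
  have hproj : ∀ (z : KP) (y : KY), g (z * Q y) = g z * y := fun z y => by
    rw [hQq]
    exact Groth.Agent.S3762.result n Y KP PP φP hKP KY PY φY hKY g hg q hq z y
  set l := tw φP 1 with hl
  set η := l - 1 with hη
  have hg_l : ∀ i : ℕ, g (l ^ i) = ((i + n).choose n : KY) := fun i => by
    rw [hl, ← tw_natCast hKP, show tw φP (i : ℤ) = tw φP (i : ℤ) * φP (KRR.cl _ (Coh.structureModule (KRR.PY n Y))) by
      rw [hKP.map_one, mul_one], ← tw_twF hKP _ (Groth.LocFree.isFinLocFree_unit _)]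
    exact g_twist φP φY hKY.bijective hKY.map_one g hg (i + n) _ (by push_cast; ring)
  have hg_η : ∀ j i : ℕ, g (l ^ i * η ^ j) = if j ≤ n then ((i + n).choose (n - j) : KY) else 0 := by
    intro j
    induction j with
    | zero => intro i; rw [pow_zero, mul_one, hg_l, if_pos (Nat.zero_le n), Nat.sub_zero]
    | succ j ih =>
      intro i
      rw [show l ^ i * η ^ (j + 1) = l ^ (i + 1) * η ^ j - l ^ i * η ^ j by rw [hη]; ring, map_sub, ih, ih]
      rcases Nat.lt_or_ge j n with h | h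
      · rw [if_pos h.le, if_pos h.le, if_pos (show j + 1 ≤ n by omega), show i + 1 + n = (i + n) + 1 by omega,
          show n - j = (n - (j + 1)) + 1 by omega, Nat.choose_succ_succ, Nat.cast_add]
        simp
      · rw [if_neg (Nat.not_le.2 (Nat.lt_succ_of_le h))]
        split_ifs with h'
        · obtain rfl : j = n := le_antisymm h' h
          simp
        · simp
  have hG0 : ∀ z, z ∈ Fil PY Q η 0 := fun z => by
    have hgen := mem_genSpan hKP hQE z
    refine (AddSubgroup.closure_le _).2 ?_ hgen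
    rintro _ ⟨b, a, rfl⟩
    rw [← hl, show l = η + 1 by rw [hη]; ring, add_pow, Finset.mul_sum, SetLike.mem_coe]
    refine AddSubgroup.sum_mem _ fun i _ => ?_
    rw [one_pow, mul_one, show Q b * (η ^ i * (a.choose i : KP)) = Q (b * (a.choose i : KY)) * η ^ i by
      rw [map_mul, map_natCast]; ring]
    exact mem_Fil (by simp [gammaFiltration])
  have hGr : IsGraded (Fil PY Q η) := by
    refine ⟨hG0 1, Fil_antitone Q η, fun {a b x y} hx hy => ?_⟩
    induction hx using AddSubgroup.closure_induction with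
    | zero => rw [zero_mul]; exact zero_mem _
    | add p q _ _ hp hq' => rw [add_mul]; exact add_mem hp hq'
    | neg p _ hp => rw [neg_mul]; exact neg_mem hp
    | mem p hp =>
      obtain ⟨j, s, hs, rfl⟩ := hp
      induction hy using AddSubgroup.closure_induction with
      | zero => rw [mul_zero]; exact zero_mem _
      | add p q _ _ hp hq' => rw [mul_add]; exact add_mem hp hq'
      | neg p _ hp => rw [mul_neg]; exact neg_mem hp
      | mem p hp =>
        obtain ⟨j', s', hs', rfl⟩ := hp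
        rw [show Q s * η ^ j * (Q s' * η ^ j') = Q (s * s') * η ^ (j + j') by rw [map_mul]; ring]
        exact mem_Fil (gammaFiltration_antitone (by omega) (mul_mem_gammaFiltration' hs hs'))
  have hη1 : η ∈ Fil PY Q η 1 := by
    have h := mem_Fil (PY := PY) (Q := Q) (η := η) (k := 1) (j := 1) (y := 1) (by simp [gammaFiltration])
    simpa using h
  have hpow : ∀ a : ℕ, l ^ a - 1 ∈ Fil PY Q η 1 := fun a => by
    induction a with
    | zero => simp
    | succ a ih =>
      rw [show l ^ (a + 1) - 1 = (l ^ a - 1) * l + η by rw [hη]; ring]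
      have h1 := hGr.mul_mem ih (hG0 l)
      rw [Nat.add_zero] at h1
      exact add_mem h1 hη1
  have hA : ∀ z : KP, z - (PP.aug z : KP) ∈ gammaGradedSet (RingHom.id KP) (Fil PY Q η) hGr := fun z => by
    refine sub_aug_mem hGr (fun b a => ?_) (mem_genSpan hKP hQE z)
    refine gen_aug_mem hKP hQl hQa hGr (hG0 _) (hpow a) ?_ (fun e he => ?_) b
    · intro i y hy
      have h := mem_Fil (Q := Q) (η := η) (k := i) (j := 0) (y := y) hy
      simpa using h
    · obtain ⟨m, E, hm, hE, rfl⟩ := (hKY.mem_pos_iff e).1 he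
      exact (hKP.mem_pos_iff _).2 ⟨m, _, hm, Groth.LocFree.isFinLocFreeOfRank_pullback _ hE,
        (hQE E (Groth.LocFree.isFinLocFree_of_rank hE)).symm⟩
  have hmem : x ∈ Fil PY Q η k := by
    refine map_mem_of_gammaGraded (RingHom.id KP) hGr hG0 (fun z hz => ?_) hx
    have h := hA z
    rw [hz, Int.cast_zero, sub_zero] at h
    exact mem_gammaGradedSet.1 h
  clear hx
  induction hmem using AddSubgroup.closure_induction with
  | zero => rw [map_zero]; exact zero_mem _
  | add p q _ _ hp hq' => rw [map_add]; exact add_mem hp hq'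
  | neg p _ hp => rw [map_neg]; exact neg_mem hp
  | mem p hp =>
    obtain ⟨j, y, hy, rfl⟩ := hp
    rw [mul_comm, hproj, show g (η ^ j) = g (l ^ 0 * η ^ j) by rw [pow_zero, one_mul], hg_η]
    split_ifs with h
    · rw [mul_comm, ← nsmul_eq_mul']
      exact gammaFiltration_antitone (by omega) ((gammaFiltration PY (k - j)).nsmul_mem hy _)
    · rw [zero_mul]; exact zero_mem _

end Groth.KTheory.PushGamma
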