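import Groth.Agent.KTheory.LFResRegular
import Groth.Agent.KTheory.KvbPull
import Groth.Agent.KTheory.KvbModel
import Groth.Agent.Ega4Algebra2.RegularImmersion
import Groth.Agent.CohTwo.PushClosed
import Mathlib.RingTheory.Regular.ProjectiveDimension

/-!
# Finite resolutions of direct images along regular closed immersions
-/

set_option autoImplicit false
set_option linter.style.haveILetI false
universe u

open CategoryTheory CategoryTheory.Limits AlgebraicGeometry
open scoped ZeroObject

namespace Groth.KTheory.PushRes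

open Groth.KTheory.Resolution LFRes

/-- Modules over a quotient by a regular sequence which are free there have finite projective
dimension. -/
theorem pdLT_of_free_quotient {R S M : Type u} [CommRing R] [IsLocalRing R] [IsNoetherianRing R]
    [CommRing S] (ψ : R →+* S) (hψ : Function.Surjective ψ) (rs : List R)
    (hreg : RingTheory.Sequence.IsRegular R rs) (hker : RingHom.ker ψ = Ideal.ofList rs)
    [AddCommGroup M] [Module R M] (n : ℕ) (e : (Fin n → S) ≃+ M)
    (he : ∀ (a : R) (c : Fin n → S), e (fun i => ψ a * c i) = a • e c) :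
    HasProjectiveDimensionLT (ModuleCat.of R M) (rs.length + 1) := by
  classical
  rcases Nat.eq_zero_or_pos n with rfl | hn
  · have : Subsingleton M := e.symm.toEquiv.subsingleton
    have hz : IsZero (ModuleCat.of R M) := ModuleCat.isZero_of_subsingleton _
    have := (hasProjectiveDimensionLT_zero_iff_isZero _).2 hz
    exact hasProjectiveDimensionLT_of_ge _ 0 _ (Nat.zero_le _)
  have : Nonempty (Fin n) := ⟨⟨0, hn⟩⟩
  have hmem : ∀ x ∈ rs, x ∈ IsLocalRing.maximalIdeal R := fun x hx => by
    refine IsLocalRing.le_maximalIdeal hreg.2.symm ?_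
    simpa using (Ideal.mem_span x).mpr fun p a ↦ a hx
  let L : (Fin n → R) →ₗ[R] M :=
    { toFun := fun a => e fun i => ψ (a i)
      map_add' := fun a b => by rw [← map_add]; congr 1; funext i; exact map_add ψ _ _
      map_smul' := fun a c => by
        simp only [Pi.smul_apply, smul_eq_mul, map_mul, RingHom.id_apply]
        exact he a _ }
  have hsurj : Function.Surjective L := fun m => by
    choose a ha using fun i => hψ (e.symm m i)
    exact ⟨a, (congrArg e (funext ha)).trans (e.apply_symm_apply m)⟩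
  have hkerL : LinearMap.ker L = Ideal.ofList rs • (⊤ : Submodule R (Fin n → R)) := by
    refine le_antisymm (fun a ha => ?_) (Submodule.smul_le.2 fun r hr a _ => ?_)
    · rw [show a = ∑ i, a i • (Pi.single i 1 : Fin n → R) by
        funext j; simp [Finset.sum_apply, Pi.single_apply]]
      refine Submodule.sum_mem _ fun i _ => Submodule.smul_mem_smul ?_ trivial
      rw [← hker, RingHom.mem_ker]
      exact congrFun (e.injective (ha.trans (map_zero e).symm)) i
    · rw [← hker, RingHom.mem_ker] at hr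
      refine LinearMap.mem_ker.2 ?_
      change e (fun i => ψ ((r • a) i)) = 0
      simp only [Pi.smul_apply, smul_eq_mul, map_mul, hr, zero_mul]
      exact map_zero e
  have hw : RingTheory.Sequence.IsWeaklyRegular (ModuleCat.of R (Fin n → R)) rs :=
    ((TensorProduct.rid R (Fin n → R)).isWeaklyRegular_congr rs).1
      (hreg.toIsWeaklyRegular.isWeaklyRegular_lTensor (M₂ := Fin n → R))
  have hp := ModuleCat.projectiveDimension_quotient_eq_add_length_of_isWeaklyRegular
    (ModuleCat.of R (Fin n → R)) rs hw hmem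
  have h0 : projectiveDimension (ModuleCat.of R (Fin n → R)) = 0 :=
    ModuleCat.projectiveDimension_eq_zero_of_projective _
  rw [h0, zero_add] at hp
  have h1 : HasProjectiveDimensionLE (ModuleCat.of R
      ((Fin n → R) ⧸ Ideal.ofList rs • (⊤ : Submodule R (Fin n → R)))) rs.length :=
    (projectiveDimension_le_iff _ _).1 hp.le
  exact @hasProjectiveDimensionLT_of_iso _ _ _ _ _
    (((Submodule.quotEquivOfEq _ _ hkerL.symm).trans (L.quotKerEquivOfSurjective hsurj)).toModuleIso)
    _ h1

variable {X Y : Scheme.{u}}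

theorem pushStalk_smul (i : X ⟶ Y) (M : X.Modules) (z : X) (a : Y.presheaf.stalk (i z))
    (t : ((Scheme.Modules.pushforward i).obj M).presheaf.stalk (i z)) :
    CohTwo.pushStalk i M z (a • t) = (i.stalkMap z).hom a • CohTwo.pushStalk i M z t := by
  obtain ⟨U, hxU, m, rfl⟩ := Groth.QCohMod.exists_germ _ (i z) t
  obtain ⟨V, hxV, q, rfl⟩ := TopCat.Presheaf.exists_germ_eq Y.presheaf a
  have hxW : i z ∈ V ⊓ U := ⟨hxV, hxU⟩
  rw [← Groth.QCohMod.germ_res _ (inf_le_right : V ⊓ U ≤ U) (i z) hxW m,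
    ← Y.presheaf.germ_res_apply (homOfLE (inf_le_left : V ⊓ U ≤ V)) (i z) hxW q,
    ← Groth.QCohMod.germ_smul]
  refine (CohTwo.pushStalk_germ i M z hxW _).trans ?_
  refine Eq.trans ?_ (congrArg₂ (· • ·) (Scheme.Hom.germ_stalkMap_apply i (V ⊓ U) z hxW _).symm
    (CohTwo.pushStalk_germ i M z hxW _).symm)
  exact Groth.QCohMod.germ_smul M z hxW _ _

theorem exists_pdLT_push (i : X ⟶ Y) (hi : Mor2.IsRegularClosedImmersion i) [IsLocallyNoetherian Y]
    {F : X.Modules} (hF : FlatMod.IsFinLocFree F) (y : Y) :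
    ∃ d : ℕ, HasProjectiveDimensionLT (ModuleCat.of (Y.presheaf.stalk y)
      (((Scheme.Modules.pushforward i).obj F).presheaf.stalk y)) (d + 1) := by
  obtain ⟨_, hreg⟩ := hi
  by_cases hy : y ∈ Set.range i
  · obtain ⟨z, rfl⟩ := hy
    obtain ⟨U, hU, hzU, rs, hrs, hk⟩ := hreg z
    obtain ⟨rs', hrs', hk'⟩ := Ega4b.isRegularIdeal_of_affine i hU z hzU rs hrs.toIsWeaklyRegular hk
    have := LocFree.isQCoh hF
    obtain ⟨V, m, s, hzV, hs⟩ := LocFree.isFinLocFree_iff.1 hF z
    obtain ⟨b⟩ := Groth.LocFree.nonempty_stalk_basis (M := F) (hs := hs) hzV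
    let e₁ : (Fin m → X.presheaf.stalk z) ≃+ F.presheaf.stalk z := b.equivFun.symm.toAddEquiv
    let e₂ := AddEquiv.ofBijective _ (CohTwo.bijective_pushStalk i F z)
    refine ⟨rs'.length, pdLT_of_free_quotient (i.stalkMap z).hom (i.stalkMap_surjective z) rs' hrs'
      hk'.symm m (e₁.trans e₂.symm) fun a c => ?_⟩
    refine e₂.injective ((e₂.apply_symm_apply _).trans ?_)
    refine Eq.trans ?_ (pushStalk_smul i F z a _).symm
    rw [show CohTwo.pushStalk i F z ((e₁.trans e₂.symm) c) = e₁ c from e₂.apply_symm_apply _]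
    exact b.equivFun.symm.map_smul _ c
  · refine ⟨0, ?_⟩
    have : Subsingleton (((Scheme.Modules.pushforward i).obj F).presheaf.stalk y) :=
      not_not.1 fun h => hy (CohTwo.support_push_subset i F h)
    have hz : IsZero (ModuleCat.of (Y.presheaf.stalk y)
        (((Scheme.Modules.pushforward i).obj F).presheaf.stalk y)) := ModuleCat.isZero_of_subsingleton _
    have := (hasProjectiveDimensionLT_zero_iff_isZero _).2 hz
    exact hasProjectiveDimensionLT_of_ge _ 0 _ (Nat.zero_le _)

/-- Coherent modules of finite projective dimension at every point have finite resolutions. -/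
theorem finRes_of_pdLT [IsNoetherian X] (hX : KRR.HasEnoughLocFree X) (A : X.Modules)
    (hA : Coh.IsCoh A) (hpd : ∀ x : X, ∃ d : ℕ,
      HasProjectiveDimensionLT (ModuleCat.of (X.presheaf.stalk x) (A.presheaf.stalk x)) (d + 1)) :
    FinRes (KRR.vbP X) (cohProp X) A := by
  have S := setup hX
  have hcov : ∀ B : Subtype (cohProp X), ∃ (L : X.Modules) (p : L ⟶ B.1), FlatMod.IsFinLocFree L ∧ Epi p :=
    fun B => hX B.1 B.2
  choose cov π hcov₀ hπ using hcov
  let next : Subtype (cohProp X) → Subtype (cohProp X) := fun B =>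
    ⟨kernel (π B), S.ker₁ _ (haveI := hπ B; Resolution.shortExact_kernel (π B)) (S.le _ (hcov₀ B)) B.2⟩
  let K : ℕ → Subtype (cohProp X) := fun n => Nat.rec ⟨A, hA⟩ (fun _ B => next B) n
  have hses : ∀ n, (ShortComplex.mk (kernel.ι (π (K n))) (π (K n)) (kernel.condition _)).ShortExact :=
    fun n => haveI := hπ (K n); Resolution.shortExact_kernel (π (K n))
  let F : ℕ → Set X := fun n => {x | Module.Free (X.presheaf.stalk x) ((K n).1.presheaf.stalk x)}
  have hopen : ∀ n, IsOpen (F n) := by
    intro n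
    refine isOpen_iff_forall_mem_open.mpr fun x hx => ?_
    obtain ⟨U, m, s, hxU, hs⟩ := @LocFree.exists_basis_of_free_stalk _ _ _ (K n).2 x hx
    exact ⟨U, fun y hy => LocFree.free_stalk_of_basis hy hs, U.2, hxU⟩
  have hmono : Monotone F := by
    refine monotone_nat_of_le_succ fun n x hx => ?_
    have := LocFree.free_stalk (hcov₀ (K n)) x
    have : Module.Free (X.presheaf.stalk x) ((K n).1.presheaf.stalk x) := hx
    exact LocFree.free_stalk_left (hses n) x (K (n + 1)).2
  have hcover : Set.univ ⊆ ⋃ n, F n := by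
    intro x _
    obtain ⟨d, hd⟩ := hpd x
    have key : ∀ j, j ≤ d → HasProjectiveDimensionLT
        (ModuleCat.of (X.presheaf.stalk x) ((K j).1.presheaf.stalk x)) (d - j + 1) := by
      intro j
      induction j with
      | zero => exact fun _ => hd
      | succ j ih =>
        intro hj
        have := LocFree.free_stalk (hcov₀ (K j)) x
        refine pdLT_stalk_X₁ (hses j) x _ (by omega) ?_
        rw [show d - (j + 1) + 1 + 1 = d - j + 1 by omega]
        exact ih (by omega)
    refine Set.mem_iUnion.2 ⟨d, ?_⟩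
    have h1 := key d le_rfl
    rw [Nat.sub_self, zero_add] at h1
    have : Module.Projective (X.presheaf.stalk x) ((K d).1.presheaf.stalk x) :=
      (IsProjective.iff_projective _).mpr (projective_iff_hasProjectiveDimensionLT_one.mpr h1)
    have := (K d).2.1
    have := Groth.QCohMod.finite_stalk (K d).1 (K d).2.2 x
    exact Module.free_of_flat_of_isLocalRing
  obtain ⟨N, hN⟩ := (isCompact_univ (X := X)).elim_directed_cover F hopen hcover hmono.directed_le
  refine ⟨N, ?_⟩
  have key : ∀ j n, n + j = N → Res (KRR.vbP X) (cohProp X) j (K n).1 := by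
    intro j
    induction j with
    | zero =>
      intro n hn
      obtain rfl : n = N := by omega
      exact LocFree.isFinLocFree_of_free_stalks (K n).2 fun x => hN (Set.mem_univ x)
    | succ j ih =>
      intro n hn
      exact ⟨(K n).2, _, _, _, _, _, hses n, hcov₀ _, ih (n + 1) (by omega)⟩
  exact key N 0 (by omega)

theorem finRes_push (i : X ⟶ Y) (hi : Mor2.IsRegularClosedImmersion i) [IsNoetherian Y]
    (hY : KRR.HasEnoughLocFree Y) {F : X.Modules} (hF : FlatMod.IsFinLocFree F) :
    FinRes (KRR.vbP Y) (cohProp Y) ((Scheme.Modules.pushforward i).obj F) :=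
  haveI := hi.1
  finRes_of_pdLT hY _ (CohTwo.isCoh_push i (LocFree.isCoh hF)) (exists_pdLT_push i hi hF)

/-- The class in `K₀` of bundles of a module with a finite resolution. -/
noncomputable def eul [IsLocallyNoetherian Y] (hY : KRR.HasEnoughLocFree Y) (A : Y.Modules) :
    SGA6.Kvb Y :=
  (Equiv.ofBijective _ (setup hY).mapSub_finRes_bijective).symm
    (KZero.clSub (FinRes (KRR.vbP Y) (cohProp Y)) A)

section Eul

variable [IsLocallyNoetherian Y] (hY : KRR.HasEnoughLocFree Y)

theorem mapSub_eul (A : Y.Modules) :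
    SGA6.mapSub (𝟭 Y.Modules) (KRR.vbP Y) (FinRes (KRR.vbP Y) (cohProp Y))
      (setup hY).setup_finRes.le (eul hY A) = KZero.clSub (FinRes (KRR.vbP Y) (cohProp Y)) A :=
  (Equiv.ofBijective _ (setup hY).mapSub_finRes_bijective).apply_symm_apply _

theorem mapSub_kcl {L : Y.Modules} (hL : FlatMod.IsFinLocFree L) :
    SGA6.mapSub (𝟭 Y.Modules) (KRR.vbP Y) (FinRes (KRR.vbP Y) (cohProp Y))
      (setup hY).setup_finRes.le (LambdaVb.kcl L) =
      KZero.clSub (FinRes (KRR.vbP Y) (cohProp Y)) L := by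
  change SGA6.mapSub _ _ _ _ (KZero.clSub (KRR.vbP Y) L) = _
  rw [clSub_of hL, clSub_of (P := FinRes (KRR.vbP Y) (cohProp Y)) ⟨0, hL⟩]
  simp [SGA6.mapSub]
  rfl

theorem eul_bundle {L : Y.Modules} (hL : FlatMod.IsFinLocFree L) :
    eul hY L = LambdaVb.kcl L :=
  (setup hY).mapSub_finRes_bijective.1 ((mapSub_eul hY L).trans (mapSub_kcl hY hL).symm)

theorem eul_rel {S : ShortComplex Y.Modules} (hS : S.ShortExact)
    (h₁ : FinRes (KRR.vbP Y) (cohProp Y) S.X₁) (h₂ : FinRes (KRR.vbP Y) (cohProp Y) S.X₂)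
    (h₃ : FinRes (KRR.vbP Y) (cohProp Y) S.X₃) :
    eul hY S.X₂ = eul hY S.X₁ + eul hY S.X₃ :=
  (setup hY).mapSub_finRes_bijective.1 (by
    rw [map_add, mapSub_eul, mapSub_eul, mapSub_eul]
    exact clSub_rel S hS h₁ h₂ h₃)

include hY in
theorem finRes_iso {A B : Y.Modules} (e : A ≅ B) (hA : FinRes (KRR.vbP Y) (cohProp Y) A) :
    FinRes (KRR.vbP Y) (cohProp Y) B :=
  let ⟨n, hn⟩ := hA
  ⟨n, (setup hY).res_iso e hn (LocFree.isFinLocFree_zero (isZero_zero _))⟩

theorem eul_iso {A B : Y.Modules} (e : A ≅ B) (hA : FinRes (KRR.vbP Y) (cohProp Y) A) :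
    eul hY A = eul hY B := by
  have hz : FlatMod.IsFinLocFree (0 : Y.Modules) := LocFree.isFinLocFree_zero (isZero_zero _)
  have h := eul_rel hY (shortExact_id_left e (isZero_zero Y.Modules)) hA (finRes_iso hY e hA) ⟨0, hz⟩
  rw [eul_bundle hY hz, KvbModel.kcl_zero (isZero_zero _), add_zero] at h
  exact h.symm

theorem exists_complex_eul {n : ℕ} : ∀ {A : Y.Modules}, Res (KRR.vbP Y) (cohProp Y) n A →
    ∃ (L : ChainComplex Y.Modules ℕ) (φ : L ⟶ (ChainComplex.single₀ Y.Modules).obj A),
      KRR.IsLFRes A n L φ ∧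
        ∑ k ∈ Finset.range (n + 1), (-1 : ℤ) ^ k • LambdaVb.kcl (L.X k) = eul hY A := by
  suffices key : ∀ {A : Y.Modules}, Res (KRR.vbP Y) (cohProp Y) n A →
      ∃ (L : ChainComplex Y.Modules ℕ) (π : L.X 0 ⟶ A) (w : L.d 1 0 ≫ π = 0),
        (∀ i, FlatMod.IsFinLocFree (L.X i)) ∧ (∀ i, n < i → IsZero (L.X i)) ∧
        (∀ i, 1 ≤ i → L.ExactAt i) ∧ (ShortComplex.mk _ π w).Exact ∧ Epi π ∧
        ∑ k ∈ Finset.range (n + 1), (-1 : ℤ) ^ k • LambdaVb.kcl (L.X k) = eul hY A by
    intro A hA
    obtain ⟨L, π, w, hfree, hzero, hex, hex0, hπ, hsum⟩ := key hA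
    refine ⟨L, (ChainComplex.toSingle₀Equiv L A).symm ⟨π, w⟩,
      ⟨hfree, hzero, ⟨fun i => ?_⟩⟩, hsum⟩
    rcases i with _ | i
    · rw [quasiIso_zero_iff]
      have e : ((ChainComplex.toSingle₀Equiv L A).symm ⟨π, w⟩).f 0 = π :=
        ChainComplex.toSingle₀Equiv_symm_apply_f_zero π w
      refine ⟨(ShortComplex.exact_iff_of_iso (ShortComplex.isoMk (Iso.refl _) (Iso.refl _) (Iso.refl _)
        (by simp) (by simp [e]))).mp hex0, ?_⟩
      rw [e]
      exact hπ
    · rw [quasiIsoAt_iff_exactAt' _ _ (ChainComplex.exactAt_succ_single_obj _ _)]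
      exact hex _ (by omega)
  induction n with
  | zero =>
    intro A hA
    refine ⟨(ChainComplex.single₀ Y.Modules).obj A, (HomologicalComplex.singleObjXSelf _ 0 A).hom,
      by simp; rfl, fun i => ?_, fun i hi => HomologicalComplex.isZero_single_obj_X _ _ _ _ (by omega),
      fun i hi => HomologicalComplex.exactAt_single_obj _ _ _ _ (by omega), ?_, inferInstance, ?_⟩
    · rcases eq_or_ne i 0 with rfl | hi
      · exact LocFree.isFinLocFree_of_iso (HomologicalComplex.singleObjXSelf _ 0 A).symm hA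
      · exact LocFree.isFinLocFree_zero (HomologicalComplex.isZero_single_obj_X _ _ _ _ hi)
    · rw [ShortComplex.exact_iff_mono]
      · infer_instance
      · simp
    · rw [Finset.sum_range_one, pow_zero, one_smul, eul_bundle hY hA]
      exact (LambdaVb.kcl_iso (HomologicalComplex.singleObjXSelf _ 0 A).symm hA).symm
  | succ n ih =>
    rintro A ⟨hA1, K, L₀, i, p, w, hS, hL₀, hK⟩
    obtain ⟨L, π, wπ, hfree, hzero, hex, hex0, hπ, hsum⟩ := ih hK
    let L' := ChainComplex.augment L (π ≫ i) (by rw [← Category.assoc, wπ, zero_comp])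
    have w' : L'.d 1 0 ≫ p = 0 := by
      change (π ≫ i) ≫ p = 0
      rw [Category.assoc, w, comp_zero]
    refine ⟨L', p, w', ?_, ?_, ?_, ?_, hS.epi_g, ?_⟩
    · rintro (_ | j)
      · exact hL₀
      · exact hfree j
    · rintro (_ | j) hj
      · omega
      · exact hzero j (by omega)
    · rintro (_ | _ | j) hj
      · omega
      · rw [L'.exactAt_iff' 2 1 0 (by simp) (by simp)]
        have hmono := hS.mono_f
        let φ : ShortComplex.mk (L.d 1 0) π wπ ⟶ L'.sc' 2 1 0 :=
          { τ₁ := 𝟙 _, τ₂ := 𝟙 _, τ₃ := i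
            comm₁₂ := (Category.id_comp _).trans (Category.comp_id _).symm
            comm₂₃ := Category.id_comp _ }
        have : Epi φ.τ₁ := inferInstanceAs (Epi (𝟙 _))
        have : IsIso φ.τ₂ := inferInstanceAs (IsIso (𝟙 _))
        have : Mono φ.τ₃ := hmono
        exact (ShortComplex.exact_iff_of_epi_of_isIso_of_mono φ).mp hex0
      · rw [L'.exactAt_iff' (j + 3) (j + 2) (j + 1) (by simp) (by simp)]
        have h := hex (j + 1) (by omega)
        rw [L.exactAt_iff' (j + 2) (j + 1) j (by simp) (by simp)] at h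
        exact (ShortComplex.exact_iff_of_iso (ShortComplex.isoMk (Iso.refl _) (Iso.refl _) (Iso.refl _)
          ((Category.id_comp _).trans (Category.comp_id _).symm)
          ((Category.id_comp _).trans (Category.comp_id _).symm))).mp h
    · have := hπ
      let φ : ShortComplex.mk _ p w' ⟶ ShortComplex.mk i p w :=
        { τ₁ := π, τ₂ := 𝟙 _, τ₃ := 𝟙 _
          comm₁₂ := (Category.comp_id _).symm
          comm₂₃ := (Category.id_comp _).trans (Category.comp_id _).symm }
      have : Epi φ.τ₁ := hπ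
      have : IsIso φ.τ₂ := inferInstanceAs (IsIso (𝟙 _))
      have : Mono φ.τ₃ := inferInstanceAs (Mono (𝟙 _))
      exact (ShortComplex.exact_iff_of_epi_of_isIso_of_mono φ).mpr hS.exact
    · rw [Finset.sum_range_succ', pow_zero, one_smul]
      have h := eul_rel hY hS ⟨n, hK⟩ ⟨0, hL₀⟩ ⟨n + 1, hA1, K, L₀, i, p, w, hS, hL₀, hK⟩
      rw [eul_bundle hY hL₀, ← hsum] at h
      refine Eq.trans ?_ (eq_sub_of_add_eq' h.symm).symm
      rw [sub_eq_add_neg, add_comm (LambdaVb.kcl L₀), ← Finset.sum_neg_distrib]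
      refine congrArg (· + _) (Finset.sum_congr rfl fun k _ => ?_)
      rw [pow_succ, mul_neg_one, neg_smul]
      rfl

end Eul

variable {KX KY : Type*} [CommRing KX] [CommRing KY]

theorem pushCl_eq [IsNoetherian Y] (hY : KRR.HasEnoughLocFree Y) (i : X ⟶ Y)
    {φX : SGA6.Kvb X →+ KX} {φY : SGA6.Kvb Y →+ KY} {g : KX →+ KY}
    (hg : KRR.IsPushCl i φX φY g) (hi : Mor2.IsRegularClosedImmersion i)
    {F : X.Modules} (hF : FlatMod.IsFinLocFree F) :
    g (φX (KRR.cl X F)) = φY (eul hY ((Scheme.Modules.pushforward i).obj F)) := by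
  obtain ⟨n, hn⟩ := finRes_push i hi hY hF
  obtain ⟨L, π, hL, hsum⟩ := exists_complex_eul hY hn
  rw [hg F hF n L π hL, ← hsum, map_sum]
  exact Finset.sum_congr rfl fun k _ => (map_zsmul φY _ _).symm

end Groth.KTheory.PushRes
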