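import Groth.Agent.RDerLib.LES
import Mathlib.CategoryTheory.Abelian.RightDerived
import Mathlib.Algebra.Homology.ShortComplex.ExactFunctor

/-!
# Adapted classes and left exactness of `R⁰F`
-/

set_option autoImplicit false
universe v v' u u'
open CategoryTheory CategoryTheory.Limits HomologicalComplex

namespace Groth.Agent.RPlusAdapted

variable {A : Type u} [Category.{v} A] [Abelian A] [EnoughInjectives A]
  {B : Type u'} [Category.{v'} B] [Abelian B] (F : A ⥤ B) [F.Additive]

lemma exact_and_mono_rightDerived_zero (S : ShortComplex A) (hS : S.ShortExact) :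
    (S.map (F.rightDerived 0)).Exact ∧ Mono ((F.rightDerived 0).map S.f) := by
  obtain ⟨L⟩ := Groth.RDerLib.exists_derivedLES F
  refine ⟨L.exact₂ S hS 0, ?_⟩
  let T := Groth.RDerLib.res S hS
  have h := Groth.RDerLib.f_comp F S T 0
  have hT := T.map_shortExact F
  have := hT.mono_f
  have hm : Mono (homologyMap ((F.mapHomologicalComplex (ComplexShape.up ℕ)).map T.f) 0) :=
    mono_homologyMap_of_mono_of_not_rel (T.cx.map (F.mapHomologicalComplex (ComplexShape.up ℕ))).f 0
      (fun j => by simp)
  have : Mono ((F.rightDerived 0).map S.f ≫ (T.I₂.isoRightDerivedObj F 0).hom) := by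
    rw [h]; exact @mono_comp _ _ _ _ _ _ inferInstance _ hm
  exact mono_of_mono _ (T.I₂.isoRightDerivedObj F 0).hom

theorem preservesFiniteLimits_rightDerived_zero : PreservesFiniteLimits (F.rightDerived 0) :=
  (Functor.preservesFiniteLimits_iff_forall_exact_map_and_mono _).2
    (exact_and_mono_rightDerived_zero F)

variable (I : ObjectProperty A)
  (h1 : ∀ X : A, ∃ (Y : A) (ι : X ⟶ Y), I Y ∧ Mono ι)
  (h2 : ∀ S : ShortComplex A, S.ShortExact → I S.X₁ → I S.X₂ → I S.X₃ ∧ (S.map F).ShortExact)

include h1 h2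

lemma exists_seq (X : A) (hX : I X) : ∃ (Y : A) (j : Injective.under X ⟶ Y) (R : A) (g : Y ⟶ R)
    (w : (Injective.ι X ≫ j) ≫ g = 0), I Y ∧ I R ∧ Mono j ∧
      (ShortComplex.mk (Injective.ι X ≫ j) g w).ShortExact ∧
      ((ShortComplex.mk (Injective.ι X ≫ j) g w).map F).ShortExact := by
  obtain ⟨Y, j, hY, hj⟩ := h1 (Injective.under X)
  let S : ShortComplex A :=
    ShortComplex.mk (Injective.ι X ≫ j) (cokernel.π (Injective.ι X ≫ j)) (cokernel.condition _)
  have hS : S.ShortExact :=
    { exact := ShortComplex.exact_of_g_is_cokernel _ (cokernelIsCokernel _)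
      mono_f := mono_comp _ _
      epi_g := inferInstanceAs (Epi (cokernel.π _)) }
  exact ⟨Y, j, _, _, cokernel.condition _, hY, (h2 S hS hX hY).1, hj, hS, (h2 S hS hX hY).2⟩

lemma mono_toRightDerivedZero (X : A) (hX : I X) : Mono (F.toRightDerivedZero.app X) := by
  obtain ⟨Y, j, R, g, w, -, -, -, -, hF⟩ := exists_seq F I h1 h2 X hX
  have h : Mono (F.map (Injective.ι X ≫ j)) := hF.mono_f
  rw [Functor.map_comp] at h
  have : Mono (F.map (Injective.ι X)) := mono_of_mono _ (F.map j)
  have : Mono (F.toRightDerivedZero.app X ≫ (F.rightDerived 0).map (Injective.ι X)) := by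
    rw [← F.toRightDerivedZero.naturality]; infer_instance
  exact mono_of_mono _ ((F.rightDerived 0).map (Injective.ι X))

lemma isIso_toRightDerivedZero (X : A) (hX : I X) : IsIso (F.toRightDerivedZero.app X) := by
  obtain ⟨Y, j, R, g, w, hY, hR, -, hS, hF⟩ := exists_seq F I h1 h2 X hX
  let t := F.toRightDerivedZero
  let a := Injective.ι X ≫ j
  let J := Injective.under X
  have : Mono (t.app R) := mono_toRightDerivedZero F I h1 h2 R hR
  have hm : Mono ((F.rightDerived 0).map a) := (exact_and_mono_rightDerived_zero F _ hS).2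
  let z : (F.rightDerived 0).obj X ⟶ F.obj Y :=
    (F.rightDerived 0).map (Injective.ι X) ≫ inv (t.app J) ≫ F.map j
  have hz : z ≫ t.app Y = (F.rightDerived 0).map a := by
    simp only [z, a, t, Category.assoc, F.toRightDerivedZero.naturality, IsIso.inv_hom_id_assoc,
      Functor.map_comp]
  have hzg : z ≫ F.map g = 0 := by
    rw [← cancel_mono (t.app R), Category.assoc, F.toRightDerivedZero.naturality,
      reassoc_of% hz, zero_comp, ← Functor.map_comp, w, Functor.map_zero]
  obtain ⟨q, hq⟩ := KernelFork.IsLimit.lift' hF.fIsKernel z hzg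
  change q ≫ F.map a = z at hq
  have hid : q ≫ t.app X = 𝟙 _ := by
    rw [← cancel_mono ((F.rightDerived 0).map a), Category.assoc]
    erw [← F.toRightDerivedZero.naturality, reassoc_of% hq, hz, Category.id_comp]
  have : Mono (t.app X) := mono_toRightDerivedZero F I h1 h2 X hX
  have : IsSplitEpi (t.app X) := ⟨⟨⟨q, hid⟩⟩⟩
  exact isIso_of_mono_of_epi _

theorem isZero_rightDerived (n : ℕ) : ∀ (X : A), I X → IsZero ((F.rightDerived (n + 1)).obj X) := by
  induction n with
  | zero =>
    intro X hX
    obtain ⟨Y, j, R, g, w, hY, hR, -, hS, hF⟩ := exists_seq F I h1 h2 X hX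
    have := isIso_toRightDerivedZero F I h1 h2 R hR
    have hg : Epi (F.map g) := hF.epi_g
    have : Epi ((F.rightDerived 0).map g) := by
      have : Epi (F.toRightDerivedZero.app Y ≫ (F.rightDerived 0).map g) := by
        rw [← F.toRightDerivedZero.naturality]; infer_instance
      exact epi_of_epi (F.toRightDerivedZero.app Y) _
    exact key 0 X Y j R g w hS this
  | succ n ih =>
    intro X hX
    obtain ⟨Y, j, R, g, w, hY, hR, -, hS, hF⟩ := exists_seq F I h1 h2 X hX
    exact key (n + 1) X Y j R g w hS ⟨fun _ _ _ => (ih R hR).eq_of_src _ _⟩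
where
  key (n : ℕ) (X Y : A) (j : Injective.under X ⟶ Y) (R : A) (g : Y ⟶ R)
      (w : (Injective.ι X ≫ j) ≫ g = 0)
      (hS : (ShortComplex.mk (Injective.ι X ≫ j) g w).ShortExact)
      (he : Epi ((F.rightDerived n).map g)) : IsZero ((F.rightDerived (n + 1)).obj X) := by
    obtain ⟨L⟩ := Groth.RDerLib.exists_derivedLES F
    have hδ : L.δ _ hS n (n + 1) rfl = 0 := by
      rw [← cancel_epi ((F.rightDerived n).map g), comp_zero]
      exact L.comp_δ _ hS n (n + 1) rfl
    have hm : Mono ((F.rightDerived (n + 1)).map (Injective.ι X ≫ j)) :=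
      (L.exact₁ _ hS n (n + 1) rfl).mono_g hδ
    apply IsZero.of_mono_eq_zero ((F.rightDerived (n + 1)).map (Injective.ι X ≫ j))
    rw [Functor.map_comp,
      (F.isZero_rightDerived_obj_injective_succ n (Injective.under X)).eq_of_tgt
        ((F.rightDerived (n + 1)).map (Injective.ι X)) 0, zero_comp]

end Groth.Agent.RPlusAdapted
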