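import Groth.Agent.KTheory.RegSheaf
import Groth.Agent.Variety2.Reg.Pn
import Groth.Agent.PicAux.TensorLift
import Groth.Agent.PicAux.Pullback

/-!
# Koszul complex on relative projective space and the vanishing range of regular sheaves
-/

universe u

open CategoryTheory CategoryTheory.Limits AlgebraicGeometry Opposite TopologicalSpace
open Groth.PicAux Groth.Ega2Proj Groth.CohBase Groth.Variety2.Reg
open CategoryTheory.Abelian (Ext)

namespace Groth.KTheory.RegKoszul

variable {n : ℕ} {T : Scheme.{u}} (F : (KRR.PY n T).Modules)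

/-- The projection to projective space over the integers. -/
noncomputable abbrev prZ (n : ℕ) (T : Scheme.{u}) :
    KRR.PY n T ⟶ CohB1.ProjSpace n (ULift.{u} ℤ) :=
  pullback.fst (CohB1.ProjSpace.toSpec n (ULift.{u} ℤ)) (specULiftZIsTerminal.from T)

/-- `F ⊗ O(a)`. -/
noncomputable abbrev G (a : ℤ) : (KRR.PY n T).Modules :=
  CohB1.tensorMod F (Twist.twistOver n T a)

theorem nonempty_G_iso_twF (a : ℤ) : Nonempty (G F a ≅ KRR.twF n T a F) :=
  ⟨(exists_braiding _ _).choose⟩

theorem Xmem (t : ℕ) : (MvPolynomial.X (Fin.ofNat (n + 1) t) : MvPolynomial (Fin (n + 1)) (ULift.{u} ℤ))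
    ∈ CohB1.polyGrading n (ULift.{u} ℤ) 1 :=
  (MvPolynomial.mem_homogeneousSubmodule _ _).mpr (MvPolynomial.isHomogeneous_X _ _)

/-- Multiplication by a coordinate on `O(a)`. -/
noncomputable def mulZ (t : ℕ) (a b : ℤ) (h : b = a + 1) :
    Twist.twistProjSpace n (ULift.{u} ℤ) a ⟶ Twist.twistProjSpace n (ULift.{u} ℤ) b :=
  mulG (𝒜 := CohB1.polyGrading n (ULift.{u} ℤ)) (Xmem t) a b h

variable (n T) in
/-- Its pullback to relative projective space. -/
noncomputable def mulT (t : ℕ) (a b : ℤ) (h : b = a + 1) :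
    Twist.twistOver n T a ⟶ Twist.twistOver n T b :=
  (Scheme.Modules.pullback (prZ n T)).map (mulZ t a b h)

/-- Multiplication by the `t`-th coordinate. -/
noncomputable def op (t : ℕ) (a b : ℤ) (h : b = a + 1) : G F a ⟶ G F b :=
  KoszTw.tensorMap (𝟙 F) (mulT n T t a b h)

theorem op_tmulSec (t : ℕ) (a b : ℤ) (h : b = a + 1) (W : (KRR.PY n T).Opens) (y : Γ(F, W))
    (s : Γ(Twist.twistOver n T a, W)) :
    (op F t a b h).app W (tmulSec y s) = tmulSec y ((mulT n T t a b h).app W s) :=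
  (tensorMap_app_tmulSec (𝟙 F) _ W y s).trans rfl

theorem mulT_comm (t t' : ℕ) (a b b' c : ℤ) (hab : b = a + 1) (hab' : b' = a + 1) (hbc : c = b + 1)
    (hbc' : c = b' + 1) :
    mulT n T t a b hab ≫ mulT n T t' b c hbc = mulT n T t' a b' hab' ≫ mulT n T t b' c hbc' :=
  (((Scheme.Modules.pullback (prZ n T)).map_comp _ _).symm.trans
    (congrArg (Scheme.Modules.pullback (prZ n T)).map
    (mulG_comm (𝒜 := CohB1.polyGrading n (ULift.{u} ℤ)) (Xmem t) (Xmem t') a b b' c hab hab' hbc hbc'))).trans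
    ((Scheme.Modules.pullback (prZ n T)).map_comp _ _)

theorem op_comm (t t' : ℕ) (a b b' c : ℤ) (hab : b = a + 1) (hab' : b' = a + 1) (hbc : c = b + 1)
    (hbc' : c = b' + 1) :
    op F t a b hab ≫ op F t' b c hbc = op F t' a b' hab' ≫ op F t b' c hbc' := by
  refine tensor_hom_ext fun W y s => ?_
  have h2 := congr(($(mulT_comm (n := n) (T := T) t t' a b b' c hab hab' hbc hbc')).app W s)
  simp only [Scheme.Modules.Hom.comp_app, ConcreteCategory.comp_apply] at h2 ⊢
  rw [op_tmulSec F t a b hab, op_tmulSec F t' a b' hab', op_tmulSec F t' b c hbc,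
    op_tmulSec F t b' c hbc', h2]

/-- The open where the `t`-th coordinate does not vanish. -/
noncomputable abbrev U (n : ℕ) (T : Scheme.{u}) (t : ℕ) : (KRR.PY n T).Opens :=
  prZ n T ⁻¹ᵁ Proj.basicOpen (CohB1.polyGrading n (ULift.{u} ℤ))
    (MvPolynomial.X (Fin.ofNat (n + 1) t))

theorem exists_mem_U (x : KRR.PY n T) : ∃ i < n + 1, x ∈ U n T i := by
  obtain ⟨i, hi⟩ := Opens.mem_iSup.mp ((PnCoh.isAcyclicCover_stdOpen n (ULift.{u} ℤ)).cover.ge
    (show prZ n T x ∈ (⊤ : (CohB1.ProjSpace n (ULift.{u} ℤ)).Opens) from trivial))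
  refine ⟨i.down, i.down.isLt, ?_⟩
  change prZ n T x ∈ Proj.basicOpen _ _
  rw [show Fin.ofNat (n + 1) (i.down : ℕ) = i.down from Fin.ext (Nat.mod_eq_of_lt i.down.isLt)]
  exact hi

theorem op_bijective (t : ℕ) (a b : ℤ) (h : b = a + 1) {W : (KRR.PY n T).Opens} (hW : W ≤ U n T t) :
    Function.Bijective ((op F t a b h).app W) := by
  let O := Proj.basicOpen (CohB1.polyGrading n (ULift.{u} ℤ)) (MvPolynomial.X (Fin.ofNat (n + 1) t))
  let ea := pwSec (𝒜 := CohB1.polyGrading n (ULift.{u} ℤ)) (N := a) (Xmem t) a (by simp)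
    (U := O) fun x hx => hx
  let eb := pwSec (𝒜 := CohB1.polyGrading n (ULift.{u} ℤ)) (N := b) (Xmem t) b (by simp)
    (U := O) fun x hx => hx
  have ga : Gen (Twist.twistOver n T a) (U n T t) (pullSec (prZ n T) _ ea) :=
    (gen_pwSec (N := a) (Xmem t) a (by simp) fun x hx => hx).pull (prZ n T)
  have gb : Gen (Twist.twistOver n T b) (U n T t) (pullSec (prZ n T) _ eb) :=
    (gen_pwSec (N := b) (Xmem t) b (by simp) fun x hx => hx).pull (prZ n T)
  refine (Function.Bijective.of_comp_iff _ (tmulSec_bijective (M := F) hW ga)).mp ?_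
  convert tmulSec_bijective (M := F) hW gb using 1
  funext y
  refine (op_tmulSec F t a b h W y _).trans (congrArg (tmulSec y) ?_)
  refine Eq.trans (PicAux.app_res (mulT n T t a b h) hW (pullSec (prZ n T) _ ea)) ?_
  refine congrArg (PicAux.res _ hW) ((pullSec_map (prZ n T) (mulZ t a b h) ea).trans ?_)
  exact congrArg (pullSec (prZ n T) _) (mulG_pwSec (Xmem t) h fun x hx => hx)

theorem op_stalk_bijective (x : KRR.PY n T) :
    ∃ i < n + 1, ∀ (a b : ℤ) (h : b = a + 1),
      Function.Bijective ((QCohMod.stalk x).map (op F i a b h)) := by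
  obtain ⟨i, hi, hx⟩ := exists_mem_U x
  exact ⟨i, hi, fun a b h => stalk_bijective _ hx fun W hW => op_bijective F i a b h hW⟩

section Vanish

variable {X : Scheme.{u}} (W : X.Opens)

/-- Vanishing of cohomology on an open. -/
abbrev HV (M : X.Modules) (q : ℕ) : Prop := HVanish (X := X.toTopCat) (abSheaf M) q W

variable {W}

theorem HV.of_iso {M N : X.Modules} (e : M ≅ N) {q : ℕ} (h : HV W M q) : HV W N q := by
  let G' := (Sheaf.cohomologyPresheafFunctor.{u} (J := Opens.grothendieckTopology X.toTopCat) q)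
  exact ((G'.mapIso ((toAbF X).mapIso e)).app
    (Opposite.op W)).addCommGroupIsoToAddEquiv.symm.toEquiv.subsingleton

theorem HV.of_isZero {M : X.Modules} (h : IsZero M) (q : ℕ) : HV W M q := by
  have hz : IsZero ((toAbF X).obj M) := (toAbF X).map_isZero h
  refine subsingleton_of_forall_eq 0 fun x => ?_
  have e : (Ext.mk₀ (𝟙 ((toAbF X).obj M))) = 0 := by rw [hz.eq_of_src (𝟙 _) 0, Ext.mk₀_zero]
  rw [← Ext.comp_mk₀_id x, e, Ext.comp_zero]; rfl

theorem HV.biprod {A B : X.Modules} {q : ℕ} (hA : HV W A q) (hB : HV W B q) : HV W (A ⊞ B) q :=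
  hVanish_middle (shortExact_toAb (S := ShortComplex.mk (biprod.inl : A ⟶ A ⊞ B) biprod.snd biprod.inl_snd)
    (ShortComplex.Splitting.ofHasBinaryBiproduct A B).shortExact) hA hB

variable {G : ℤ → X.Modules}

theorem hv_kosz : ∀ (s j : ℕ) (a : ℤ) (q : ℕ), HV W (G (a - j)) q → HV W (Kosz.obj G s j a) q
  | 0, 0, a, q, h => by
    simp only [Nat.cast_zero, sub_zero] at h
    exact h
  | 0, _ + 1, _, q, _ => HV.of_isZero (isZero_zero _) q
  | s + 1, 0, a, q, h => hv_kosz s 0 a q h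
  | s + 1, j + 1, a, q, h => HV.biprod (hv_kosz s (j + 1) a q h)
      (hv_kosz s j (a - 1) q (by rwa [show a - 1 - (j : ℤ) = a - ((j + 1 : ℕ) : ℤ) by omega]))

variable (op : ∀ (_ : ℕ) (a b : ℤ), b = a + 1 → (G a ⟶ G b)) (s : ℕ)
  (hcomm : ∀ (t t' : ℕ) (a b b' c : ℤ) (hab : b = a + 1) (hab' : b' = a + 1) (hbc : c = b + 1)
    (hbc' : c = b' + 1), op t a b hab ≫ op t' b c hbc = op t' a b' hab' ≫ op t b' c hbc')
  (hiso : ∀ x : X, ∃ i < s, ∀ (a b : ℤ) (h : b = a + 1),
    Function.Bijective ((QCohMod.stalk x).map (op i a b h)))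

include hcomm hiso in
theorem hv_cycles (q : ℕ) (a : ℤ) (h : ∀ j : ℕ, 1 ≤ j → HV W (G (a - 1 - j)) (q + j)) :
    HV W (kernel (Kosz.d op s 0 a)) (q + 1) := by
  suffices H : ∀ (n j : ℕ), s ≤ j + n → HV W (kernel (Kosz.d op s j a)) (q + j + 1) by
    simpa using H s 0 (by omega)
  intro n
  induction n with
  | zero =>
    intro j hj
    exact HV.of_isZero
      (IsZero.of_mono (kernel.ι (Kosz.d op s j a)) (isZero_kosz s (j + 1) a (by omega))) _
  | succ n ih =>
    intro j hj
    obtain ⟨w, hw⟩ := shortExact_cycles op s hcomm hiso j a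
    refine hVanish_third (shortExact_toAb hw) (ih (j + 1) (by omega)) (hv_kosz s (j + 2) a _ ?_)
    have := h (j + 1) (by omega)
    rwa [show a - 1 - ((j + 1 : ℕ) : ℤ) = a - ((j + 2 : ℕ) : ℤ) by omega,
      show q + (j + 1) = q + j + 1 by omega] at this

include hcomm hiso in
theorem hv_of_kosz (q : ℕ) (a : ℤ) (h : ∀ j : ℕ, HV W (G (a - 1 - j)) (q + j)) :
    HV W (G a) q := by
  have := epi_kosz op s hcomm hiso a
  refine HV.of_iso (Kosz.obj0Iso (G := G) s a) ?_
  refine hVanish_third (shortExact_toAb (kernel_shortExact (Kosz.d op s 0 a)))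
    (hv_cycles op s hcomm hiso q a fun j _ => h j) (hv_kosz s 1 a q ?_)
  simpa using h 0

end Vanish

variable {F}

/-- A regular sheaf has no higher cohomology of `F(r)` in degree `q` for `r ≥ -q`. -/
theorem van_of_regular (hF : Coh.IsQCoh F) (hreg : KRR.IsRegSheaf n T F) {q : ℕ} (hq : 1 ≤ q)
    {r : ℤ} (hr : -(q : ℤ) ≤ r) : RegSheaf.Van n T (KRR.twF n T r F) q := by
  intro V hV
  suffices H : ∀ (e q : ℕ), 1 ≤ q → HV (KRR.pr n T ⁻¹ᵁ V) (G F (-(q : ℤ) + e)) q by
    have := H (r + q).toNat q hq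
    rw [Int.toNat_of_nonneg (by omega), show -(q : ℤ) + (r + q) = r by ring] at this
    exact HV.of_iso (nonempty_G_iso_twF F r).some this
  intro e
  induction e with
  | zero =>
    intro q hq
    rw [Nat.cast_zero, add_zero]
    exact HV.of_iso (nonempty_G_iso_twF F _).some.symm (RegSheaf.van_of_isRegSheaf hF hreg q hq V hV)
  | succ e ih =>
    intro q hq
    refine hv_of_kosz (G := G F) (op F) (n + 1) (op_comm F) (op_stalk_bijective F) q _ fun j => ?_
    have := ih (q + j) (by omega)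
    rwa [show -((q + j : ℕ) : ℤ) + (e : ℤ) = -(q : ℤ) + ((e + 1 : ℕ) : ℤ) - 1 - (j : ℤ) by
      push_cast; ring] at this

/-- Nonnegative twists of a regular sheaf are regular. -/
theorem isRegSheaf_twF (hF : Coh.IsQCoh F) (hreg : KRR.IsRegSheaf n T F) (m : ℕ) :
    KRR.IsRegSheaf n T (KRR.twF n T (m : ℤ) F) :=
  RegSheaf.isRegSheaf_of_van (RegSheaf.isQCoh_twF _ hF) fun i hi =>
    (van_of_regular hF hreg hi (r := -(i : ℤ) + m) (by omega)).of_iso
      (RegSheaf.nonempty_twF_twF n T _ _ _ rfl F).some.symm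

/-- A regular sheaf has no higher direct images. -/
theorem isZero_Rpush (hF : Coh.IsQCoh F) (hreg : KRR.IsRegSheaf n T F) (i : ℕ) (hi : 1 ≤ i) :
    IsZero ((Coh.RpushAb (KRR.pr n T) i).obj (Coh.toAb F)) := by
  have : F.IsQuasicoherent := hF
  have hv : RegSheaf.Van n T F i :=
    (van_of_regular hF hreg hi (r := 0) (by omega)).of_iso (RegSheaf.nonempty_twF_zero n T F).some
  let J := injectiveResolution F
  obtain ⟨a⟩ := nonempty_RpushAb_iso_homology (KRR.pr n T) J i
  have hz := isZero_homology_pushCx (KRR.pr n T) J i fun x => by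
    obtain ⟨U, hU, hx⟩ := Groth.QCohMod.exists_affine_mem x
    exact ⟨U, hU, hx, hv U hU⟩
  have : (toAbF T).Additive := inferInstance
  exact ((toAbF T).map_isZero hz).of_iso a

end Groth.KTheory.RegKoszul
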