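import Groth.Agent.KTheory.RegKoszulGen
import Groth.Agent.Misc4.PushSum
import Groth.Agent.PnCoh.OverAffine
import Groth.Agent.Misc13.ProjFactor
import Groth.Agent.SchemeMorphisms.PrinParts.FlatExact
import Groth.Agent.PicAux.PullTensor
import Groth.Agent.QCohMod.PullbackQCoh

/-!
# Cohomology of twists of modules coming from the base of a projective space
-/

universe u

open CategoryTheory CategoryTheory.Limits AlgebraicGeometry Opposite TopologicalSpace
open Groth.PicAux Groth.CohBase Groth.Variety2.Reg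
open CategoryTheory.Abelian (Ext)
open CoproductsFromFiniteFiltered

namespace Groth.KTheory.RegKoszul

section Sums

variable {X : Scheme.{u}}

theorem hv_biproduct {W : X.Opens} {s : Type} [Fintype s] (M : s → X.Modules) [HasBiproduct M] {q : ℕ}
    (h : ∀ t, HV W (M t) q) : HV W (⨁ M) q := by
  classical
  refine subsingleton_of_forall_eq 0 fun x => ?_
  let m : (⨁ M ⟶ ⨁ M) →+ Sheaf.H' (abSheaf (⨁ M)) q W :=
    AddMonoidHom.mk' (fun φ => (x : Ext _ _ q).comp (Ext.mk₀ ((toAbF X).map φ)) (add_zero q))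
      fun φ ψ => by rw [(toAbF X).map_add, Ext.mk₀_add, Ext.comp_add]; rfl
  have e : m (𝟙 _) = x := by
    change (x : Ext _ _ q).comp _ (add_zero q) = _
    rw [CategoryTheory.Functor.map_id]
    exact Ext.comp_mk₀_id x
  rw [← e, ← biproduct.total (f := M), map_sum]
  refine Finset.sum_eq_zero fun t _ => ?_
  have h0 : (x : Ext _ _ q).comp (Ext.mk₀ ((toAbF X).map (biproduct.π M t))) (add_zero q) = 0 :=
    (h t).elim _ _
  have h1 : (x : Ext _ _ q).comp (Ext.mk₀ ((toAbF X).map (biproduct.π M t ≫ biproduct.ι M t)))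
      (add_zero q) = 0 := by
    rw [Functor.map_comp, ← Ext.mk₀_comp_mk₀, ← Ext.comp_assoc_of_second_deg_zero, h0, Ext.zero_comp]
  exact h1

theorem hv_finset_sigma {W : X.Opens} {ι : Type u} (s : Finset ι) (M : {x // x ∈ s} → X.Modules) {q : ℕ}
    (h : ∀ t, HV W (M t) q) : HV W (∐ M) q := by
  haveI := Abelian.hasFiniteBiproducts (C := X.Modules)
  let e := Fintype.equivFin s
  refine HV.of_iso ((biproduct.isoCoproduct (fun k => M (e.symm k))) ≪≫ Sigma.reindex e.symm M) ?_
  exact hv_biproduct _ fun k => h _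

/-- Cohomology on a quasi-compact quasi-separated open commutes with sums, as vanishing. -/
theorem hv_sigma (W : X.Opens) (hW : IsCompact (W : Set X)) (hW' : IsQuasiSeparated (W : Set X))
    {T : Type u} (M : T → X.Modules) {q : ℕ} (h : ∀ t, HV W (M t) q) : HV W (∐ M) q := by
  classical
  haveI : PrespectralSpace ↑X.toTopCat := inferInstanceAs (PrespectralSpace X)
  have hc := isColimitFiniteSubproductsCocone M
  have hc' := ((Groth.CohTwo.preservesColimitsOfShape_toSheaf (X := X)
    (Finset (Discrete T))).preservesColimit.preserves hc).some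
  let H := (Sheaf.cohomologyPresheafFunctor (Opens.grothendieckTopology X.toTopCat) q).flip.obj (Opposite.op W)
  have hp : PreservesColimit (liftToFinsetObj (Discrete.functor M) ⋙ SheafOfModules.toSheaf.{u} X.ringCatSheaf) H :=
    Groth.FlatMor2.ColimCoh.preservesColimit_HU_space (X := X.toTopCat) W hW hW' q _
  have hz : IsZero (H.obj ((SheafOfModules.toSheaf.{u} X.ringCatSheaf).obj (∐ M))) :=
    Groth.Misc4.CompactAcyclic.isZero_of_isColimit_zero _ (hp.preserves hc').some fun s => by
      haveI : Subsingleton ↑(H.obj ((SheafOfModules.toSheaf.{u} X.ringCatSheaf).obj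
          ((liftToFinsetObj (Discrete.functor M)).obj s))) :=
        hv_finset_sigma s (fun x => (Discrete.functor M).obj x) fun x => h _
      exact (AddCommGrpCat.isZero_of_subsingleton
        (H.obj ((SheafOfModules.toSheaf.{u} X.ringCatSheaf).obj ((liftToFinsetObj (Discrete.functor M)).obj s))) :)
  exact AddCommGrpCat.subsingleton_of_isZero hz

end Sums

/-! ## Over an affine base -/

section Affine

variable (n : ℕ) (R : Type u) [CommRing R]

/-- `toSpec^* E ⊗ O(d)`. -/
noncomputable abbrev baseTw (d : ℤ) : (Spec (CommRingCat.of R)).Modules ⥤ (CohB1.ProjSpace n R).Modules :=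
  Scheme.Modules.pullback (CohB1.ProjSpace.toSpec n R) ⋙
    DCoh.tensorRightMod (Twist.twistProjSpace n R d)

theorem exists_epi_free_module {R : Type u} [CommRing R] (M : ModuleCat.{u} R) :
    ∃ p : ModuleCat.of R ((M : Type u) →₀ R) ⟶ M, Epi p :=
  ⟨ModuleCat.ofHom (Finsupp.linearCombination R (id : M → M)),
    (ModuleCat.epi_iff_surjective _).mpr (Finsupp.linearCombination_id_surjective R M)⟩

theorem exists_free_epi {R : CommRingCat.{u}} (E : (Spec R).Modules) [E.IsQuasicoherent] :
    ∃ (I : Type u) (π : (SheafOfModules.free.{u} I : (Spec R).Modules) ⟶ E), Epi π := by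
  obtain ⟨p, hp⟩ := exists_epi_free_module ((moduleSpecΓFunctor (R := R)).obj E)
  haveI hE : IsIso E.fromTildeΓ := inferInstance
  haveI : Epi ((tilde.functor R).map p) := inferInstance
  have h2 := @epi_comp _ _ _ _ _ ((tilde.functor R).map p) inferInstance E.fromTildeΓ
    (@IsIso.epi_of_iso _ _ _ _ _ hE)
  exact ⟨_, (tildeFinsupp (R := R) _).inv ≫ (tilde.functor _).map p ≫ E.fromTildeΓ,
    @epi_comp _ _ _ _ _ (tildeFinsupp (R := R) _).inv inferInstance _ h2⟩

theorem flat_toSpec : Flat (CohB1.ProjSpace.toSpec n R) := by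
  have h : Smooth (CohB1.ProjSpace.toSpec n (ULift.{u} ℤ)) :=
    Misc13.ProjFactor.smooth_projSpace_toSpec n
  exact MorphismProperty.of_isPullback (P := @Flat) (PnCoh.isPullback_toInt n R) inferInstance

theorem subsingleton_baseTw_free (d : ℤ) (I : Type u) {i : ℕ}
    (h : Subsingleton (Coh.HH (CohB1.ProjSpace n R) (Twist.twistProjSpace n R d) i)) :
    HV (⊤ : (CohB1.ProjSpace n R).Opens) ((baseTw n R d).obj (SheafOfModules.free.{u} I)) i := by
  haveI := isEquivalence_tensorRightMod_of_isInvertible (PnCoh.isInvertible_twist n R d)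
  haveI : CompactSpace (CohB1.ProjSpace n R) :=
    QuasiCompact.compactSpace_of_compactSpace (CohB1.ProjSpace.toSpec n R)
  haveI : QuasiSeparatedSpace (CohB1.ProjSpace n R) :=
    quasiSeparatedSpace_of_quasiSeparated (CohB1.ProjSpace.toSpec n R)
  refine HV.of_iso (PreservesCoproduct.iso (baseTw n R d) (fun _ : I => Coh.structureModule _)).symm ?_
  refine hv_sigma _ isCompact_univ isQuasiSeparated_univ _ fun t => ?_
  have := isIso_pullUnit (CohB1.ProjSpace.toSpec n R)
  refine HV.of_iso ((exists_leftUnitor _).choose.symm ≪≫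
    PicGrp.tensorModIso (asIso (pullUnit (CohB1.ProjSpace.toSpec n R))).symm (Iso.refl _)) ?_
  exact (subsingleton_H_iff _ i).1 h

/-- Vanishing of the cohomology of `toSpec^* E (d)`. -/
theorem hv_baseTw (d : ℤ) : ∀ (e i : ℕ), (1 ≤ i ∨ d < 0) → (n < i + e) → (-(n : ℤ) ≤ d ∨ n < i) →
    ∀ (E : (Spec (CommRingCat.of R)).Modules), E.IsQuasicoherent →
      HV (⊤ : (CohB1.ProjSpace n R).Opens) ((baseTw n R d).obj E) i := by
  intro e
  induction e with
  | zero =>
    intro i hi hn _ E hE
    haveI := hE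
    haveI : ((baseTw n R d).obj E).IsQuasicoherent :=
      haveI := PnCoh.isQCoh_twist n R d
      Groth.QCohMod.isQCoh_tensorMod
    exact (subsingleton_H_iff _ i).1 (PnCoh.subsingleton_HH_of_lt n R _ (by omega))
  | succ e ih =>
    intro i hi hn hd E hE
    haveI := hE
    obtain ⟨I, π, hπ⟩ := exists_free_epi E
    haveI := hπ
    haveI : (SheafOfModules.free.{u} I : (Spec (CommRingCat.of R)).Modules).IsQuasicoherent :=
      Groth.QCohMod.isQCoh_sigma (fun _ : I => Coh.structureModule _)
    haveI := flat_toSpec n R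
    haveI := PrinPartsAux.preservesFiniteLimits_pullback (CohB1.ProjSpace.toSpec n R)
    have hS := shortExact_tensorRightMod (PnCoh.isInvertible_twist n R d)
      ((@kernel_shortExact _ _ _ π hπ).map_of_exact (Scheme.Modules.pullback (CohB1.ProjSpace.toSpec n R)))
    refine hVanish_third (shortExact_toAb hS) (ih (i + 1) (Or.inl (by omega)) (by omega)
      (hd.imp_right fun h => by omega) (kernel π) inferInstance) ?_
    exact subsingleton_baseTw_free n R d I
      (PnCoh.subsingleton_HH_twist d i (by omega) (by omega))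

end Affine

/-! ## Over any base -/

variable {n : ℕ} {T : Scheme.{u}}

/-- The chart of relative projective space over an affine open of the base. -/
theorem exists_chart {V : T.Opens} (hV : IsAffineOpen V) :
    ∃ (ι : CohB1.ProjSpace n Γ(T, V) ⟶ KRR.PY n T) (_ : IsOpenImmersion ι),
      ι ≫ prZ n T = PnCoh.toInt n Γ(T, V) ∧
      ι ≫ KRR.pr n T = CohB1.ProjSpace.toSpec n Γ(T, V) ≫ hV.fromSpec ∧
      ι ''ᵁ ⊤ = KRR.pr n T ⁻¹ᵁ V := by
  let R := Γ(T, V)
  let j : Spec (CommRingCat.of R) ⟶ T := hV.fromSpec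
  let ι : CohB1.ProjSpace n R ⟶ KRR.PY n T :=
    pullback.lift (PnCoh.toInt n R) (CohB1.ProjSpace.toSpec n R ≫ j)
      ((PnCoh.isPullback_toInt n R).w.trans (by
        rw [Category.assoc]; exact congrArg _ (specULiftZIsTerminal.hom_ext _ _)))
  have hι1 : ι ≫ prZ n T = PnCoh.toInt n R := pullback.lift_fst _ _ _
  have hι2 : ι ≫ KRR.pr n T = CohB1.ProjSpace.toSpec n R ≫ j := pullback.lift_snd _ _ _
  have sq : IsPullback ι (CohB1.ProjSpace.toSpec n R) (KRR.pr n T) j := by
    refine IsPullback.of_right ?_ hι2 (IsPullback.of_hasPullback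
      (CohB1.ProjSpace.toSpec n (ULift.{u} ℤ)) (specULiftZIsTerminal.from T))
    rw [hι1, specULiftZIsTerminal.hom_ext (j ≫ specULiftZIsTerminal.from T)
      (specULiftZIsTerminal.from (Spec (CommRingCat.of R)))]
    exact PnCoh.isPullback_toInt n R
  haveI : IsOpenImmersion j := inferInstanceAs (IsOpenImmersion hV.fromSpec)
  haveI : IsOpenImmersion ι :=
    MorphismProperty.of_isPullback (P := @IsOpenImmersion) sq.flip inferInstance
  have hr : ι ''ᵁ ⊤ = KRR.pr n T ⁻¹ᵁ V := by
    ext x
    rw [Scheme.Hom.image_top_eq_opensRange]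
    change x ∈ Set.range ι ↔ KRR.pr n T x ∈ V
    constructor
    · rintro ⟨y, rfl⟩
      rw [← Scheme.Hom.comp_apply, hι2, ← hV.opensRange_fromSpec]
      exact ⟨_, rfl⟩
    · intro hx
      obtain ⟨s, hs⟩ := hV.range_fromSpec.ge hx
      obtain ⟨z, hz, -⟩ := Scheme.Pullback.exists_preimage_pullback (f := KRR.pr n T) (g := j) x s hs.symm
      refine ⟨sq.isoPullback.inv z, ?_⟩
      rw [← Scheme.Hom.comp_apply, sq.isoPullback_inv_fst]
      exact hz
  exact ⟨ι, inferInstance, hι1, hι2, hr⟩

/-- `pr^* E (d)` has no cohomology on `pr⁻¹V` in degree `i` if `d ≥ -n`, and `i ≥ 1` or `d < 0`. -/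
theorem van_twF_pullback' (E : T.Modules) (hE : Coh.IsQCoh E) {i : ℕ} {d : ℤ} (hi : 1 ≤ i ∨ d < 0)
    (hd : -(n : ℤ) ≤ d ∨ n < i) :
    RegSheaf.Van n T (KRR.twF n T d ((Scheme.Modules.pullback (KRR.pr n T)).obj E)) i := by
  intro V hV
  haveI : E.IsQuasicoherent := hE
  let R := Γ(T, V)
  let j : Spec (CommRingCat.of R) ⟶ T := hV.fromSpec
  obtain ⟨ι, _, hι1, hι2', hr⟩ := exists_chart (n := n) hV
  have hι2 : ι ≫ KRR.pr n T = CohB1.ProjSpace.toSpec n R ≫ j := hι2'
  rw [← hr]
  refine (hVanish_restrict_iff ι _ i ⊤).1 ?_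
  refine HV.of_iso ?_ (hv_baseTw n R d (n + 1) i hi (by omega) hd
    ((Scheme.Modules.pullback j).obj E) inferInstance)
  exact (PicGrp.tensorModIso
      ((Scheme.Modules.pullbackComp (CohB1.ProjSpace.toSpec n R) j).app E ≪≫
        (Scheme.Modules.pullbackCongr hι2.symm).app E ≪≫
        ((Scheme.Modules.pullbackComp ι (KRR.pr n T)).app E).symm)
      (((PnCoh.nonempty_pullback_overIso_twist n R d).some).symm ≪≫
        ((Scheme.Modules.pullbackComp _ _).app _) ≪≫
        (Scheme.Modules.pullbackCongr ((PnCoh.overIso_hom_fst n R).trans hι1.symm)).app _ ≪≫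
        ((Scheme.Modules.pullbackComp ι (prZ n T)).app _).symm)) ≪≫
    (exists_braiding _ _).choose ≪≫ (exists_pullback_tensorMod ι _ _).choose.symm ≪≫
    ((Scheme.Modules.restrictFunctorIsoPullback ι).app _).symm

/-- `pr^* E (d)` has no cohomology in degree `i` on `pr⁻¹V` for `i ≥ 1` and `d ≥ -n`. -/
theorem van_twF_pullback (E : T.Modules) (hE : Coh.IsQCoh E) {i : ℕ} (hi : 1 ≤ i) {d : ℤ}
    (hd : -(n : ℤ) ≤ d ∨ n < i) :
    RegSheaf.Van n T (KRR.twF n T d ((Scheme.Modules.pullback (KRR.pr n T)).obj E)) i :=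
  van_twF_pullback' E hE (Or.inl hi) hd

/-- The twisted kernel of the counit of a regular sheaf is regular. -/
theorem isRegSheaf_kernel_counit {F : (KRR.PY n T).Modules} (hF : Coh.IsQCoh F)
    (hreg : KRR.IsRegSheaf n T F) :
    KRR.IsRegSheaf n T (KRR.twF n T 1
      (kernel ((Scheme.Modules.pullbackPushforwardAdjunction (KRR.pr n T)).counit.app F))) := by
  haveI : F.IsQuasicoherent := hF
  haveI : ((Scheme.Modules.pushforward (KRR.pr n T)).obj F).IsQuasicoherent :=
    Groth.QCohMod.isQCoh_pushforward F (KRR.pr n T)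
  let ε : (Scheme.Modules.pullback (KRR.pr n T)).obj ((Scheme.Modules.pushforward (KRR.pr n T)).obj F) ⟶ F :=
    (Scheme.Modules.pullbackPushforwardAdjunction (KRR.pr n T)).counit.app F
  haveI : Epi ε := epi_counit F hF hreg
  haveI : IsSplitEpi ((Scheme.Modules.pushforward (KRR.pr n T)).map ε) :=
    IsSplitEpi.mk' ⟨(Scheme.Modules.pullbackPushforwardAdjunction (KRR.pr n T)).unit.app _,
      (Scheme.Modules.pullbackPushforwardAdjunction (KRR.pr n T)).right_triangle_components F⟩
  change KRR.IsRegSheaf n T (KRR.twF n T 1 (kernel ε))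
  refine RegSheaf.isRegSheaf_left (S := ShortComplex.mk (kernel.ι ε) ε (kernel.condition ε))
    (kernel_shortExact ε) ?_ ?_ hF ?_ hreg inferInstance
  · exact (inferInstance : (kernel ε).IsQuasicoherent)
  · exact Groth.QCohMod.isQCoh_pullback_obj (KRR.pr n T) _
  · refine RegSheaf.isRegSheaf_of_van (RegSheaf.isQCoh_twF 1 (Groth.QCohMod.isQCoh_pullback_obj (KRR.pr n T) _))
      fun i hi => RegSheaf.Van.of_iso (RegSheaf.nonempty_twF_twF n T (-(i : ℤ)) 1 _ rfl _).some.symm ?_
    refine van_twF_pullback _ inferInstance hi ?_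
    rcases le_or_gt i n with h | h
    · exact Or.inl (by omega)
    · exact Or.inr h

end Groth.KTheory.RegKoszul
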