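import Groth.Agent.KTheory.RegKoszul
import Groth.Agent.QCohMod.QCQS

/-!
# Regular sheaves on relative projective space are generated by their direct image
-/

universe u

open CategoryTheory CategoryTheory.Limits AlgebraicGeometry Opposite TopologicalSpace
open Groth.PicAux Groth.Ega2Proj Groth.CohBase Groth.Variety2.Reg

namespace Groth.KTheory.RegKoszul

/-! ## Ratios of coordinates -/

variable {n : ℕ} {T : Scheme.{u}}

/-- The open of `P^n_ℤ` where the `t`-th coordinate does not vanish. -/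
noncomputable abbrev OZ (n : ℕ) (t : ℕ) : (Proj (CohB1.polyGrading n (ULift.{u} ℤ))).Opens :=
  Proj.basicOpen (CohB1.polyGrading n (ULift.{u} ℤ)) (MvPolynomial.X (Fin.ofNat (n + 1) t))

theorem isUnit_X_of_isUnit {i : ℕ} {y : ProjectiveSpectrum (CohB1.polyGrading n (ULift.{u} ℤ))}
    (h : IsUnit (algebraMap (MvPolynomial (Fin (n + 1)) (ULift.{u} ℤ))
      (Twist.Loc (CohB1.polyGrading n (ULift.{u} ℤ)) y) (MvPolynomial.X (Fin.ofNat (n + 1) i)))) :
    y ∈ OZ n i := by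
  intro hm
  exact ((IsLocalization.AtPrime.isUnit_to_map_iff (Twist.Loc (CohB1.polyGrading n (ULift.{u} ℤ)) y)
    y.asHomogeneousIdeal.toIdeal _).1 h) hm

theorem exists_ratioZ (i j : ℕ) :
    ∃ r : Γ(Proj (CohB1.polyGrading n (ULift.{u} ℤ)), OZ n j),
      (∀ (a b : ℤ) (h : b = a + 1) (s : Γ(Twist.twist (CohB1.polyGrading n (ULift.{u} ℤ)) a, OZ n j)),
        (mulG (Xmem i) a b h).app (OZ n j) s = r • (mulG (Xmem j) a b h).app (OZ n j) s) ∧
      (Proj (CohB1.polyGrading n (ULift.{u} ℤ))).basicOpen r = OZ n i ⊓ OZ n j := by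
  obtain ⟨r, hr⟩ := exists_mulG_eq_smul (𝒜 := CohB1.polyGrading n (ULift.{u} ℤ)) (Xmem j) (Xmem i)
    (U := OZ n j) fun x hx => hx
  obtain ⟨r', hr'⟩ := exists_mulG_eq_smul (𝒜 := CohB1.polyGrading n (ULift.{u} ℤ)) (Xmem i) (Xmem j)
    (U := OZ n i ⊓ OZ n j) fun x hx => hx.1
  refine ⟨r, hr, le_antisymm (le_inf ?_ (Scheme.basicOpen_le _ r)) ?_⟩
  · intro y hy
    have hu := (RingedSpace.isUnit_res_basicOpen _ r :
      IsUnit (resX _ (Scheme.basicOpen_le _ r) r))
    have hyj : y ∈ OZ n j := Scheme.basicOpen_le _ r hy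
    have h1 := congrArg (fun s => wval s y hyj)
      (hr 0 1 rfl (pwSec (Xmem j) 0 (by simp) fun x hx => hx))
    simp only [wval_mulG, wval_smul, wval_pwSec, zpow_zero, Units.val_one, mul_one] at h1
    refine isUnit_X_of_isUnit ?_
    rw [h1]
    refine IsUnit.mul ?_ (IsLocalization.map_units _ (⟨_, hyj⟩ : y.asHomogeneousIdeal.toIdeal.primeCompl))
    refine (HomogeneousLocalization.isUnit_iff_isUnit_val _ _ _).2 ?_
    exact IsUnit.of_mul_eq_one _ (congrArg (fun z => z.1 ⟨y, hy⟩) hu.mul_val_inv)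
  · have hg := gen_pwSec (𝒜 := CohB1.polyGrading n (ULift.{u} ℤ)) (N := 1) (Xmem i) 1 (by simp)
      (U := OZ n i ⊓ OZ n j) fun x (hx : x ∈ OZ n i ⊓ OZ n j) => hx.1
    let p := pwSec (𝒜 := CohB1.polyGrading n (ULift.{u} ℤ)) (N := 0) (Xmem i) 0 (by simp)
      (U := OZ n i ⊓ OZ n j) fun x (hx : x ∈ OZ n i ⊓ OZ n j) => hx.1
    have e1 : resX _ inf_le_right r * r' = 1 := by
      refine hg.smul_inj le_rfl ?_
      rw [PicAux.res_self, one_smul, mul_smul, ← mulG_pwSec (Xmem i) (a := 0) (b := 1) rfl fun x (hx : x ∈ OZ n i ⊓ OZ n j) => hx.1,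
        ← hr' 0 1 rfl p]
      refine wval_ext fun x hx => ?_
      have h3 := congrArg (fun s => wval s x hx.2)
        (hr 0 1 rfl (pwSec (Xmem j) 0 (by simp) fun x hx => hx))
      simp only [wval_mulG, wval_smul, wval_pwSec, zpow_zero, Units.val_one, mul_one] at h3
      rw [wval_smul, wval_mulG, wval_mulG, wval_pwSec, zpow_zero, Units.val_one, mul_one, mul_one]
      exact h3.symm
    intro y hy
    have h4 := Scheme.basicOpen_of_isUnit _ (IsUnit.of_mul_eq_one r' e1)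
    have h5 := (Proj (CohB1.polyGrading n (ULift.{u} ℤ))).basicOpen_res r
      (homOfLE (inf_le_right : OZ n i ⊓ OZ n j ≤ OZ n j)).op
    exact ((h4.ge.trans h5.le) hy).2

variable (n T) in
theorem exists_ratio (i j : ℕ) :
    ∃ r : Γ(KRR.PY n T, U n T j),
      (∀ (F : (KRR.PY n T).Modules) (a b : ℤ) (h : b = a + 1) (W : (KRR.PY n T).Opens)
        (hW : W ≤ U n T j) (y : Γ(G F a, W)),
        (op F i a b h).app W y = resX _ hW r • (op F j a b h).app W y) ∧
      (KRR.PY n T).basicOpen r = U n T i ⊓ U n T j := by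
  obtain ⟨r, hr, hb⟩ := exists_ratioZ (n := n) i j
  refine ⟨(prZ n T).app (OZ n j) r, fun F a b h W hW y => ?_, ?_⟩
  · let ea := pwSec (𝒜 := CohB1.polyGrading n (ULift.{u} ℤ)) (N := a) (Xmem j) a (by simp)
      (U := OZ n j) fun x hx => hx
    have ga : Gen (Twist.twistOver n T a) (U n T j) (pullSec (prZ n T) _ ea) :=
      (gen_pwSec (N := a) (Xmem j) a (by simp) fun x hx => hx).pull (prZ n T)
    obtain ⟨y₀, rfl⟩ := (tmulSec_bijective (M := F) hW ga).2 y
    simp only [op_tmulSec]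
    rw [← tmulSec_smul_right]
    refine congrArg (tmulSec y₀) ?_
    have h1 : (mulT n T i a b h).app (U n T j) (pullSec (prZ n T) _ ea) =
        (prZ n T).app (OZ n j) r • (mulT n T j a b h).app (U n T j) (pullSec (prZ n T) _ ea) :=
      (pullSec_map (prZ n T) (mulZ i a b h) ea).trans
        ((congrArg (pullSec (prZ n T) _) (hr a b h ea)).trans
          ((pullSec_smul (prZ n T) _ r _).trans
            (congrArg (_ • ·) (pullSec_map (prZ n T) (mulZ j a b h) ea).symm)))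
    exact (PicAux.app_res _ hW _).trans ((congrArg (PicAux.res _ hW) h1).trans
      ((res_smul hW _ _).trans (congrArg (_ • ·) (PicAux.app_res _ hW _).symm)))
  · have h2 := congrArg (fun O => prZ n T ⁻¹ᵁ O) hb
    exact (Scheme.preimage_basicOpen (prZ n T) r).symm.trans h2

/-! ## The standard affine pieces -/

theorem isAffineOpen_piece {V : T.Opens} (hV : IsAffineOpen V) (i : ℕ) :
    IsAffineOpen (U n T i ⊓ KRR.pr n T ⁻¹ᵁ V) := by
  have hO : IsAffineOpen (OZ.{u} n i) :=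
    Proj.isAffineOpen_basicOpen _ _ (Xmem i) Nat.one_pos
  have hopen : IsAffineHom ((OZ.{u} n i).ι ≫ CohB1.ProjSpace.toSpec n (ULift.{u} ℤ)) := by
    exact @isAffineHom_of_isAffine _ _ ((OZ.{u} n i).ι ≫ CohB1.ProjSpace.toSpec n (ULift.{u} ℤ)) hO inferInstance
  have sq : IsPullback ((U n T i).ι ≫ KRR.pr n T) (prZ n T ∣_ OZ n i)
      (specULiftZIsTerminal.from T) ((OZ.{u} n i).ι ≫ CohB1.ProjSpace.toSpec n (ULift.{u} ℤ)) :=
    (((isPullback_morphismRestrict (prZ n T) (OZ n i)).flip).paste_horiz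
      (IsPullback.of_hasPullback _ _).flip)
  haveI : IsAffineHom ((U n T i).ι ≫ KRR.pr n T) :=
    MorphismProperty.of_isPullback (P := @IsAffineHom) sq.flip hopen
  have h := (hV.preimage ((U n T i).ι ≫ KRR.pr n T)).image_of_isOpenImmersion (U n T i).ι
  rwa [Scheme.Hom.comp_preimage, Scheme.Hom.image_preimage_eq_opensRange_inf,
    Scheme.Opens.opensRange_ι] at h

/-! ## Sections over `pr⁻¹V` -/

section Sum

variable {X : Scheme.{u}} {W : X.Opens} {G : ℤ → X.Modules}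
  (op : ∀ (_ : ℕ) (a b : ℤ), b = a + 1 → (G a ⟶ G b)) (s : ℕ)
  (hcomm : ∀ (t t' : ℕ) (a b b' c : ℤ) (hab : b = a + 1) (hab' : b' = a + 1) (hbc : c = b + 1)
    (hbc' : c = b' + 1), op t a b hab ≫ op t' b c hbc = op t' a b' hab' ≫ op t b' c hbc')
  (hiso : ∀ x : X, ∃ i < s, ∀ (a b : ℤ) (h : b = a + 1),
    Function.Bijective ((QCohMod.stalk x).map (op i a b h)))

include hcomm hiso in
theorem hv_exists_sum (a : ℤ) (h : ∀ j : ℕ, 1 ≤ j → HV W (G (a - 1 - j)) j)
    (P : Γ(G a, W) → Prop) (P0 : P 0) (Padd : ∀ u v, P u → P v → P (u + v))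
    (Pop : ∀ t < s, ∀ v, P ((op t (a - 1) a (by omega)).app W v)) (z : Γ(G a, W)) : P z := by
  have key : ∀ (r : ℕ), r ≤ s → ∀ w : Γ(Kosz.obj G r 1 a, W),
      P ((Kosz.obj0Iso (G := G) r a).hom.app W ((Kosz.d op r 0 a).app W w)) := by
    intro r
    induction r with
    | zero =>
      intro _ w
      simpa [Kosz.d] using P0
    | succ r ih =>
      intro hr w
      have e : (Kosz.obj0Iso (G := G) r a).hom.app W ((Kosz.act op r r 0 (a - 1) a (by omega)).app W
          ((Kosz.π₂ G r 0 a).app W w)) =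
          (op r (a - 1) a (by omega)).app W
            ((Kosz.obj0Iso (G := G) r (a - 1)).hom.app W ((Kosz.π₂ G r 0 a).app W w)) := by
        exact congr(($(Kosz.act_obj0Iso op r r (a - 1) a (by omega))).app W ((Kosz.π₂ G r 0 a).app W w))
      have hsum : (Kosz.obj0Iso (G := G) (r + 1) a).hom.app W ((Kosz.d op (r + 1) 0 a).app W w) =
          (Kosz.obj0Iso (G := G) r a).hom.app W ((Kosz.d op r 0 a).app W ((Kosz.π₁ G r 0 a).app W w)) +
          (Kosz.obj0Iso (G := G) r a).hom.app W ((Kosz.act op r r 0 (a - 1) a (by omega)).app W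
            ((Kosz.π₂ G r 0 a).app W w)) := by
        have e1 : Kosz.d op (r + 1) 0 a ≫ (Kosz.obj0Iso (G := G) (r + 1) a).hom =
            Kosz.π₁ G r 0 a ≫ Kosz.d op r 0 a ≫ (Kosz.obj0Iso (G := G) r a).hom +
              Kosz.π₂ G r 0 a ≫ Kosz.act op r r 0 (a - 1) a (by omega) ≫ (Kosz.obj0Iso (G := G) r a).hom := by
          simp [Kosz.d, Kosz.obj0Iso]
        exact congr(($e1).app W w)
      rw [hsum, e]
      exact Padd _ _ (ih (by omega) _) (Pop r (by omega) _)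
  have := epi_kosz op s hcomm hiso a
  have hh : HV W (kernel (Kosz.d op s 0 a)) 1 :=
    hv_cycles op s hcomm hiso 0 a (by simpa using h)
  obtain ⟨w, hw⟩ := (mem_ker_deltaSec (shortExact_toAb (kernel_shortExact (Kosz.d op s 0 a))) W
    ((Kosz.obj0Iso (G := G) s a).inv.app W z)).mp (hh.elim _ _)
  have hw' : (Kosz.d op s 0 a).app W w = (Kosz.obj0Iso (G := G) s a).inv.app W z := hw
  have hz : (Kosz.obj0Iso (G := G) s a).hom.app W ((Kosz.obj0Iso (G := G) s a).inv.app W z) = z := by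
    rw [← ConcreteCategory.comp_apply, ← Scheme.Modules.Hom.comp_app, Iso.inv_hom_id]
    rfl
  rw [← hz, ← hw']
  exact key s le_rfl w

end Sum

variable (F : (KRR.PY n T).Modules)

/-- `F(m)` for natural `m`. -/
noncomputable abbrev H (m : ℕ) : (KRR.PY n T).Modules := G F (m : ℤ)

/-- The coordinate operator between natural twists. -/
noncomputable def o (t m : ℕ) : H F m ⟶ H F (m + 1) := op F t (m : ℤ) ((m + 1 : ℕ) : ℤ) (by push_cast; rfl)

/-- Powers of a coordinate operator. -/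
noncomputable def P (t : ℕ) : ∀ e : ℕ, H F 0 ⟶ H F e
  | 0 => 𝟙 _
  | e + 1 => P t e ≫ o F t e

theorem P_zero_app (t : ℕ) (W : (KRR.PY n T).Opens) (y : Γ(H F 0, W)) : (P F t 0).app W y = y := by
  rw [P]; rfl

theorem P_succ_app (t e : ℕ) (W : (KRR.PY n T).Opens) (y : Γ(H F 0, W)) :
    (P F t (e + 1)).app W y = (o F t e).app W ((P F t e).app W y) := by
  rw [P]; rfl

theorem P_bijective (t : ℕ) {W : (KRR.PY n T).Opens} (hW : W ≤ U n T t) :
    ∀ e : ℕ, Function.Bijective ((P F t e).app W)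
  | 0 => by
    rw [show ((P F t 0).app W : Γ(H F 0, W) → Γ(H F 0, W)) = id from funext (P_zero_app F t W)]
    exact Function.bijective_id
  | e + 1 => by
    rw [show ((P F t (e + 1)).app W : Γ(H F 0, W) → Γ(H F (e + 1), W)) =
      (o F t e).app W ∘ (P F t e).app W from funext (P_succ_app F t e W)]
    exact (op_bijective F t _ _ _ hW).comp (P_bijective t hW e)

theorem o_ratio {i j : ℕ} {r : Γ(KRR.PY n T, U n T j)}
    (hr : ∀ (F : (KRR.PY n T).Modules) (a b : ℤ) (h : b = a + 1) (W : (KRR.PY n T).Opens)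
      (hW : W ≤ U n T j) (y : Γ(G F a, W)),
      (op F i a b h).app W y = resX _ hW r • (op F j a b h).app W y)
    {W : (KRR.PY n T).Opens} (hW : W ≤ U n T j) (e : ℕ) (y : Γ(H F e, W)) :
    (o F i e).app W y = resX _ hW r • (o F j e).app W y :=
  hr F _ _ _ W hW y

theorem P_ratio {i j : ℕ} {r : Γ(KRR.PY n T, U n T j)}
    (hr : ∀ (F : (KRR.PY n T).Modules) (a b : ℤ) (h : b = a + 1) (W : (KRR.PY n T).Opens)
      (hW : W ≤ U n T j) (y : Γ(G F a, W)),
      (op F i a b h).app W y = resX _ hW r • (op F j a b h).app W y)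
    {W : (KRR.PY n T).Opens} (hW : W ≤ U n T j) :
    ∀ (e : ℕ) (y : Γ(H F 0, W)), (P F i e).app W y = resX _ hW r ^ e • (P F j e).app W y
  | 0, y => by rw [pow_zero, one_smul, P_zero_app, P_zero_app]
  | e + 1, y => by
    rw [P_succ_app, P_succ_app, P_ratio hr hW e y, Scheme.Modules.Hom.app_smul, o_ratio F hr hW,
      ← mul_smul, pow_succ]

/-- Gluing of sections after scaling. -/
theorem exists_glue_scaled {X : Scheme.{u}} {ι : Type} [Fintype ι] {M : X.Modules} [M.IsQuasicoherent]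
    (A : ι → X.Opens) (hA : ∀ j, IsAffineOpen (A j))
    (hcpt : ∀ j l, IsCompact ((A j ⊓ A l : X.Opens) : Set X))
    (c : ∀ j, Γ(X, A j)) (ρ : ∀ j l, Γ(X, A j ⊓ A l)) (B : X.Opens)
    (hB : ∀ j, X.basicOpen (c j) ≤ B) (hcb : ∀ j l, X.basicOpen (c j) ⊓ A l ≤ X.basicOpen (c l))
    (hρ : ∀ j l (V : X.Opens) (hV : V ≤ A j ⊓ A l) (m : ℕ) (y : Γ(M, V)),
      (resX X hV (ρ j l) * resX X (hV.trans inf_le_right) (c l)) ^ m • y =
        resX X (hV.trans inf_le_left) (c j) ^ m • y)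
    (s : Γ(M, B)) :
    ∃ (N : ℕ) (t : ∀ j, Γ(M, A j)),
      (∀ j, PicAux.res M (X.basicOpen_le (c j)) (t j) =
        resX X (X.basicOpen_le (c j)) (c j) ^ N • PicAux.res M (hB j) s) ∧
      ∀ j l, PicAux.res M (inf_le_left : A j ⊓ A l ≤ A j) (t j) =
        ρ j l ^ N • PicAux.res M (inf_le_right : A j ⊓ A l ≤ A l) (t l) := by
  classical
  choose m₀ t₀ ht₀ using fun j => QCohMod.exists_pow_smul_eq_res M (hA j) (c j) (PicAux.res M (hB j) s)
  let m := Finset.univ.sup m₀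
  obtain ⟨t₁, ht₁⟩ : ∃ t₁ : ∀ j, Γ(M, A j), ∀ j, PicAux.res M (X.basicOpen_le (c j)) (t₁ j) =
      resX X (X.basicOpen_le (c j)) (c j) ^ m • PicAux.res M (hB j) s := by
    refine ⟨fun j => c j ^ (m - m₀ j) • t₀ j, fun j => ?_⟩
    refine (PicAux.res_smul _ _ _).trans ?_
    rw [show PicAux.res M (X.basicOpen_le (c j)) (t₀ j) =
      resX X (X.basicOpen_le (c j)) (c j) ^ m₀ j • PicAux.res M (hB j) s from ht₀ j,
      map_pow, ← mul_smul, ← pow_add,
      Nat.sub_add_cancel (Finset.le_sup (f := m₀) (Finset.mem_univ j))]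
  have hkill : ∀ p : ι × ι, ∃ k : ℕ,
      resX X (inf_le_left : A p.1 ⊓ A p.2 ≤ A p.1) (c p.1) ^ k •
        (PicAux.res M (inf_le_left : A p.1 ⊓ A p.2 ≤ A p.1) (t₁ p.1) -
          ρ p.1 p.2 ^ m • PicAux.res M (inf_le_right : A p.1 ⊓ A p.2 ≤ A p.2) (t₁ p.2)) = 0 := fun p => by
    refine QCohMod.exists_pow_smul_eq_zero_of_isCompact M (hcpt p.1 p.2) _ _ ?_
    set D := X.basicOpen (resX X (inf_le_left : A p.1 ⊓ A p.2 ≤ A p.1) (c p.1))
    have hD : D ≤ A p.1 ⊓ A p.2 := X.basicOpen_le _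
    have hD1 : D ≤ X.basicOpen (c p.1) :=
      (X.basicOpen_res (c p.1) (homOfLE inf_le_left).op).le.trans inf_le_right
    have hD2 : D ≤ X.basicOpen (c p.2) :=
      (le_inf hD1 (hD.trans inf_le_right)).trans (hcb p.1 p.2)
    change PicAux.res M (X.basicOpen_le _) _ = 0
    rw [sub_eq_add_neg, PicAux.res_add, ← neg_one_smul Γ(X, A p.1 ⊓ A p.2)
      (ρ p.1 p.2 ^ m • PicAux.res M (inf_le_right : A p.1 ⊓ A p.2 ≤ A p.2) (t₁ p.2)), PicAux.res_smul,
      PicAux.res_smul, PicAux.res_res, PicAux.res_res, map_neg, map_one, neg_one_smul,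
      ← sub_eq_add_neg, sub_eq_zero, map_pow]
    have e1 := congrArg (PicAux.res M hD1) (ht₁ p.1)
    have e2 := congrArg (PicAux.res M hD2) (ht₁ p.2)
    rw [PicAux.res_res, PicAux.res_smul, PicAux.res_res, map_pow, resX_resX] at e1 e2
    rw [e1, e2, ← mul_smul, ← mul_pow, hρ p.1 p.2 D hD m]
  choose k₀ hk₀ using hkill
  let k := Finset.univ.sup k₀
  have hk : ∀ j l, resX X (inf_le_left : A j ⊓ A l ≤ A j) (c j) ^ k •
      PicAux.res M (inf_le_left : A j ⊓ A l ≤ A j) (t₁ j) =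
      resX X (inf_le_left : A j ⊓ A l ≤ A j) (c j) ^ k •
        (ρ j l ^ m • PicAux.res M (inf_le_right : A j ⊓ A l ≤ A l) (t₁ l)) := fun j l => by
    have hle : k₀ (j, l) ≤ k := Finset.le_sup (f := k₀) (Finset.mem_univ (j, l))
    have h := congrArg (fun z => resX X (inf_le_left : A j ⊓ A l ≤ A j) (c j) ^ (k - k₀ (j, l)) • z)
      (hk₀ (j, l))
    rwa [smul_zero, smul_smul, ← pow_add, Nat.sub_add_cancel hle, smul_sub, sub_eq_zero] at h
  refine ⟨k + m, fun j => c j ^ k • t₁ j, fun j => ?_, fun j l => ?_⟩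
  · rw [PicAux.res_smul, ht₁ j, map_pow, ← mul_smul, ← pow_add]
  · have h1 := hρ j l (A j ⊓ A l) le_rfl k (ρ j l ^ m • PicAux.res M inf_le_right (t₁ l))
    simp only [resX_self] at h1
    rw [PicAux.res_smul, PicAux.res_smul, map_pow, map_pow, hk j l, ← h1, ← mul_smul, ← mul_smul,
      pow_add, mul_pow]
    congr 1
    ring

/-- Sections over a standard piece extend to twisted sections over `pr⁻¹V`. -/
theorem exists_extend [F.IsQuasicoherent] {V : T.Opens} (hV : IsAffineOpen V) (i : ℕ)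
    (s : Γ(H F 0, U n T i ⊓ KRR.pr n T ⁻¹ᵁ V)) :
    ∃ (e : ℕ) (z : Γ(H F e, KRR.pr n T ⁻¹ᵁ V)),
      PicAux.res _ inf_le_right z = (P F i e).app (U n T i ⊓ KRR.pr n T ⁻¹ᵁ V) s := by
  classical
  haveI : (H F 0).IsQuasicoherent :=
    haveI := KTheory.LocFree.isQCoh (RegSheaf.isFinLocFree_twistOver n T ((0 : ℕ) : ℤ))
    Groth.QCohMod.isQCoh_tensorMod
  let A : Fin (n + 1) → (KRR.PY n T).Opens := fun j => U n T j ⊓ (KRR.pr n T ⁻¹ᵁ V)
  have hA : ∀ j, IsAffineOpen (A j) := fun j => isAffineOpen_piece hV j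
  have hAU : ∀ j : Fin (n + 1), A j ≤ U n T j := fun j => inf_le_left
  have hcov : (KRR.pr n T ⁻¹ᵁ V) ≤ iSup A := fun x hx => by
    obtain ⟨l, hl, hxl⟩ := exists_mem_U x
    exact Opens.mem_iSup.2 ⟨⟨l, hl⟩, hxl, hx⟩
  choose r hr hrb using fun j : Fin (n + 1) => exists_ratio n T i (j : ℕ)
  choose q hq hqb using fun j l : Fin (n + 1) => exists_ratio n T (l : ℕ) (j : ℕ)
  let c : ∀ j, Γ(KRR.PY n T, A j) := fun j => resX _ (hAU j) (r j)
  have hc : ∀ j, (KRR.PY n T).basicOpen (c j) = U n T i ⊓ A j := fun j => by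
    refine ((KRR.PY n T).basicOpen_res (r j) (homOfLE (hAU j)).op).trans ?_
    rw [hrb j]
    exact le_antisymm (le_inf (inf_le_right.trans inf_le_left) inf_le_left)
      (le_inf inf_le_right (le_inf inf_le_left (inf_le_right.trans (hAU j))))
  have hci : ∀ j, (KRR.PY n T).basicOpen (c j) ≤ U n T i ⊓ (KRR.pr n T ⁻¹ᵁ V) := fun j =>
    (hc j).le.trans (inf_le_inf_left _ inf_le_right)
  have hcpt : ∀ j l, IsCompact ((A j ⊓ A l : (KRR.PY n T).Opens) : Set (KRR.PY n T)) := fun j l => by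
    haveI : IsAffine (V : Scheme.{u}) := hV
    have hqs : QuasiSeparatedSpace ((KRR.pr n T ⁻¹ᵁ V : (KRR.PY n T).Opens) : Scheme.{u}) :=
      quasiSeparatedSpace_of_quasiSeparated (KRR.pr n T ∣_ V)
    have hqs' : IsQuasiSeparated ((KRR.pr n T ⁻¹ᵁ V : (KRR.PY n T).Opens) : Set (KRR.PY n T)) :=
      (isQuasiSeparated_iff_quasiSeparatedSpace _ (KRR.pr n T ⁻¹ᵁ V).2).2 hqs
    exact hqs' _ _ (fun x hx => hx.2) (A j).2 (hA j).isCompact (fun x hx => hx.2) (A l).2
      (hA l).isCompact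
  obtain ⟨N, t, ht, htt⟩ := exists_glue_scaled (M := H F 0) A hA hcpt c (fun j l => resX _ (inf_le_left.trans (hAU j)) (q j l))
    (U n T i ⊓ (KRR.pr n T ⁻¹ᵁ V)) hci (fun j l => by
      rw [hc j, hc l]; exact le_inf (inf_le_left.trans inf_le_left) inf_le_right) (fun j l W hW m y => by
      refine (P_bijective F (j : ℕ) (hW.trans (inf_le_left.trans (hAU j))) m).1 ?_
      rw [Scheme.Modules.Hom.app_smul, Scheme.Modules.Hom.app_smul, resX_resX, resX_resX, resX_resX,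
        mul_comm, mul_pow, mul_smul, ← P_ratio F (hq j l) (hW.trans (inf_le_left.trans (hAU j))) m y,
        ← P_ratio F (hr j) (hW.trans (inf_le_left.trans (hAU j))) m y,
        P_ratio F (hr l) (hW.trans (inf_le_right.trans (hAU l))) m y]) s
  obtain ⟨z, hz, -⟩ := res_glue A (fun j => inf_le_right) hcov
    (fun j => (P F (j : ℕ) N).app (A j) (t j)) fun j l => by
      rw [← PicAux.app_res, ← PicAux.app_res, htt j l, Scheme.Modules.Hom.app_smul]
      exact (P_ratio F (hq j l) _ N _).symm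
  refine ⟨N, z, res_ext (fun j => U n T i ⊓ A j) (fun j => inf_le_inf_left _ inf_le_right)
    (fun x hx => ?_) fun j => ?_⟩
  · obtain ⟨l, hl⟩ := Opens.mem_iSup.1 (hcov hx.2)
    exact Opens.mem_iSup.2 ⟨l, hx.1, hl⟩
  · have e1 := congrArg (PicAux.res (H F 0) (hc j).ge) (ht j)
    rw [PicAux.res_res, PicAux.res_smul, PicAux.res_res, map_pow, resX_resX] at e1
    rw [PicAux.res_res, ← PicAux.res_res (inf_le_right : A j ≤ KRR.pr n T ⁻¹ᵁ V)
      (inf_le_right : U n T i ⊓ A j ≤ A j), hz j, ← PicAux.app_res, ← PicAux.app_res, e1,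
      Scheme.Modules.Hom.app_smul, resX_resX, ← P_ratio F (hr j)]

/-- On a standard piece the sections of a regular sheaf are spanned by sections over `pr⁻¹V`. -/
theorem span_res_eq_top [F.IsQuasicoherent] (hreg : KRR.IsRegSheaf n T F) {V : T.Opens}
    (hV : IsAffineOpen V) (i : ℕ) :
    Submodule.span Γ(KRR.PY n T, U n T i ⊓ KRR.pr n T ⁻¹ᵁ V)
      (Set.range (PicAux.res (H F 0) (inf_le_right : U n T i ⊓ KRR.pr n T ⁻¹ᵁ V ≤ KRR.pr n T ⁻¹ᵁ V))) = ⊤ := by
  set W₀ := KRR.pr n T ⁻¹ᵁ V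
  set A := U n T i ⊓ W₀
  set N := Submodule.span Γ(KRR.PY n T, A) (Set.range (PicAux.res (H F 0) (inf_le_right : A ≤ W₀)))
  have claim : ∀ (e : ℕ) (z : Γ(H F e, W₀)),
      ∃ w ∈ N, (P F i e).app A w = PicAux.res _ inf_le_right z := by
    intro e
    induction e with
    | zero => exact fun z => ⟨_, Submodule.subset_span ⟨z, rfl⟩, P_zero_app F i _ _⟩
    | succ e ih =>
      intro z
      refine hv_exists_sum (G := G F) (W := W₀) (op F) (n + 1) (op_comm F) (op_stalk_bijective F)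
        (((e + 1 : ℕ) : ℤ)) (fun j hj => ?_)
        (fun z : Γ(H F (e + 1), W₀) => ∃ w ∈ N, (P F i (e + 1)).app A w =
          PicAux.res _ inf_le_right z) ?_ ?_ (fun t _ v => ?_) z
      · exact HV.of_iso (nonempty_G_iso_twF F _).some.symm
          (van_of_regular ‹F.IsQuasicoherent› hreg hj (by push_cast; omega) V hV)
      · exact ⟨0, zero_mem _, by rw [map_zero, PicAux.res_zero]⟩
      · rintro u v ⟨w₁, hw₁, e₁⟩ ⟨w₂, hw₂, e₂⟩
        exact ⟨w₁ + w₂, add_mem hw₁ hw₂, by rw [map_add, e₁, e₂, PicAux.res_add]⟩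
      · suffices key : ∀ (q : ℤ) (h : ((e + 1 : ℕ) : ℤ) = q + 1) (v : Γ(G F q, W₀)),
            ∃ w ∈ N, (P F i (e + 1)).app A w =
              PicAux.res _ inf_le_right ((op F t q ((e + 1 : ℕ) : ℤ) h).app W₀ v) from
          key _ (by omega) v
        intro q h
        obtain rfl : q = ((e : ℕ) : ℤ) := by omega
        intro v
        obtain ⟨w, hw, hwe⟩ := ih v
        obtain ⟨r, hr, -⟩ := exists_ratio n T t i
        refine ⟨resX _ (inf_le_left : A ≤ U n T i) r • w, N.smul_mem _ hw, ?_⟩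
        rw [Scheme.Modules.Hom.app_smul, P_succ_app, hwe, ← PicAux.app_res]
        exact (o_ratio F hr (inf_le_left : A ≤ U n T i) e _).symm
  refine eq_top_iff.2 fun s _ => ?_
  obtain ⟨e, z, hz⟩ := exists_extend F hV i s
  obtain ⟨w, hw, hwe⟩ := claim e z
  obtain rfl : w = s := (P_bijective F i (inf_le_left : A ≤ U n T i) e).1 (hwe.trans hz)
  exact hw

/-- A regular sheaf is generated by its direct image. -/
theorem epi_counit (hF : Coh.IsQCoh F) (hreg : KRR.IsRegSheaf n T F) :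
    Epi ((Scheme.Modules.pullbackPushforwardAdjunction (KRR.pr n T)).counit.app F) := by
  haveI : F.IsQuasicoherent := hF
  obtain ⟨e⟩ : Nonempty (H F 0 ≅ F) :=
    ⟨(nonempty_G_iso_twF F _).some ≪≫ (RegSheaf.nonempty_twF_zero n T F).some⟩
  let ε : (Scheme.Modules.pullback (KRR.pr n T)).obj ((Scheme.Modules.pushforward (KRR.pr n T)).obj F) ⟶ F :=
    (Scheme.Modules.pullbackPushforwardAdjunction (KRR.pr n T)).counit.app F
  change Epi ε
  refine (QCohMod.epi_iff_stalk ε).mpr fun x t => ?_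
  obtain ⟨V, hV, hxV⟩ := Groth.QCohMod.exists_affine_mem (KRR.pr n T x)
  obtain ⟨i, -, hxi⟩ := exists_mem_U x
  set A := U n T i ⊓ KRR.pr n T ⁻¹ᵁ V
  have hA : IsAffineOpen A := isAffineOpen_piece hV i
  have hxA : x ∈ A := ⟨hxi, hxV⟩
  have hsurj : Function.Surjective (ε.app A) := fun s => by
    have hs : e.inv.app A s ∈ (⊤ : Submodule Γ(KRR.PY n T, A) Γ(H F 0, A)) := Submodule.mem_top
    rw [← span_res_eq_top F hreg hV i] at hs
    have hid : e.hom.app A (e.inv.app A s) = s := congr(($(e.inv_hom_id)).app A s)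
    rw [← hid]
    generalize e.inv.app A s = s' at hs
    induction hs using Submodule.span_induction with
    | mem y hy =>
      obtain ⟨z, rfl⟩ := hy
      refine ⟨PicAux.res _ inf_le_right (pullSec (KRR.pr n T)
        ((Scheme.Modules.pushforward (KRR.pr n T)).obj F)
        (e.hom.app (KRR.pr n T ⁻¹ᵁ V) z : Γ((Scheme.Modules.pushforward (KRR.pr n T)).obj F, V))), ?_⟩
      rw [PicAux.app_res, PicAux.app_res]
      refine congrArg (PicAux.res F inf_le_right) ?_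
      exact congr(($((Scheme.Modules.pullbackPushforwardAdjunction
        (KRR.pr n T)).right_triangle_components F)).app V (e.hom.app (KRR.pr n T ⁻¹ᵁ V) z))
    | zero => exact ⟨0, by rw [map_zero, map_zero]⟩
    | add a b _ _ ha hb =>
      obtain ⟨u, hu⟩ := ha
      obtain ⟨v, hv⟩ := hb
      exact ⟨u + v, by rw [map_add, map_add, hu, hv]⟩
    | smul c a _ ha =>
      obtain ⟨u, hu⟩ := ha
      exact ⟨c • u, by rw [Scheme.Modules.Hom.app_smul, Scheme.Modules.Hom.app_smul, hu]⟩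
  obtain ⟨O, hxO, m, rfl⟩ := QCohMod.exists_germ F x t
  obtain ⟨f, hfO, hxf⟩ := hA.exists_basicOpen_le (V := O) ⟨x, hxO⟩ hxA
  obtain ⟨k, t', ht'⟩ := QCohMod.exists_pow_smul_eq_res F hA f (PicAux.res F hfO m)
  obtain ⟨u, hu⟩ := hsurj t'
  obtain ⟨v, hv⟩ : IsUnit (resX (KRR.PY n T) ((KRR.PY n T).basicOpen_le f) f ^ k) :=
    IsUnit.pow k (RingedSpace.isUnit_res_basicOpen _ f)
  refine ⟨QCohMod.germ _ x hxf ((↑v⁻¹ : Γ(KRR.PY n T, (KRR.PY n T).basicOpen f)) •
    PicAux.res _ ((KRR.PY n T).basicOpen_le f) u), ?_⟩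
  refine (QCohMod.stalk_map_germ ε x hxf _).trans ?_
  have key : PicAux.res F ((KRR.PY n T).basicOpen_le f) t' =
      (v : Γ(KRR.PY n T, (KRR.PY n T).basicOpen f)) • PicAux.res F hfO m := by
    rw [hv]; exact ht'
  rw [Scheme.Modules.Hom.app_smul, PicAux.app_res, hu, key, ← mul_smul, Units.inv_mul, one_smul]
  exact QCohMod.germ_res F hfO x hxf m

end Groth.KTheory.RegKoszul
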