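import Groth.Agent.KTheory.Basic
import Groth.Prelude.Def_SGA6
import Mathlib.CategoryTheory.Abelian.Basic
import Mathlib.Algebra.Homology.ShortComplex.ShortExact
import Mathlib.Algebra.Homology.ShortComplex.HomologicalComplex
import Mathlib.Tactic

/-!
# The resolution theorem for `K₀`

`P₀ ⊆ P₁` are classes of objects of an abelian category, closed under extensions and kernels of
epimorphisms, such that every diagram `A ↠ B ← D` in `P₁` can be completed by an object of `P₀`.
`Res n` is the class of objects with a resolution of length `≤ n`; its Euler characteristic is the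
inverse of `K₀(P₀) → K₀(P₁)`.
-/

set_option autoImplicit false
universe v u

open CategoryTheory CategoryTheory.Limits ZeroObject

namespace Groth.KTheory.Resolution

variable {C : Type u} [Category.{v} C] [Abelian C]

/-- The kernel of an epimorphism gives a short exact sequence. -/
theorem shortExact_kernel {X Y : C} (f : X ⟶ Y) [Epi f] :
    (ShortComplex.mk (kernel.ι f) f (kernel.condition f)).ShortExact :=
  { exact := ShortComplex.exact_of_f_is_kernel _ (kernelIsKernel f)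
    mono_f := inferInstance
    epi_g := inferInstance }

theorem shortExact_of_isPullback {K L L' A M : C} {i : K ⟶ L} {p : L ⟶ A} {w : i ≫ p = 0}
    (hS : (ShortComplex.mk i p w).ShortExact) {p' : L' ⟶ A} {a : M ⟶ L} {b : M ⟶ L'}
    (h : IsPullback a b p p') (hb : Epi b) :
    (ShortComplex.mk (h.lift i 0 (by simpa using w)) b (by simp)).ShortExact := by
  have := hS.mono_f
  refine
    { exact := ShortComplex.exact_of_f_is_kernel _ ?_
      mono_f := mono_of_mono_fac (h.lift_fst i 0 (by simpa using w))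
      epi_g := hb }
  have := mono_of_mono_fac (h.lift_fst i 0 (by simpa using w))
  refine KernelFork.IsLimit.ofι' _ _ fun {W} k hk => ?_
  have hka : (k ≫ a) ≫ p = 0 := by
    rw [Category.assoc, h.w, ← Category.assoc]
    exact (hk =≫ p').trans zero_comp
  refine ⟨hS.exact.lift (k ≫ a) hka, h.hom_ext ?_ ?_⟩
  · rw [Category.assoc, h.lift_fst]
    exact hS.exact.lift_f _ hka
  · simp only [Category.assoc, IsPullback.lift_snd, comp_zero]
    exact hk.symm

/-- The middle epimorphism of the horseshoe. -/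
theorem horseshoe {A' A A'' L' L'' : C} {f : A' ⟶ A} {g : A ⟶ A''} {w : f ≫ g = 0}
    (hS : (ShortComplex.mk f g w).ShortExact) (p' : L' ⟶ A') [Epi p'] (q : L'' ⟶ A) [Epi (q ≫ g)] :
    Epi (biprod.desc (p' ≫ f) q) ∧
      ∃ (a : kernel p' ⟶ kernel (biprod.desc (p' ≫ f) q))
        (b : kernel (biprod.desc (p' ≫ f) q) ⟶ kernel (q ≫ g)) (wab : a ≫ b = 0),
        (ShortComplex.mk a b wab).ShortExact := by
  set p := biprod.desc (p' ≫ f) q with hp
  have : Mono f := hS.mono_f
  have : Epi g := hS.epi_g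
  have hpg : p ≫ g = biprod.snd ≫ q ≫ g := by
    ext <;> simp [hp, w]
  refine ⟨Preadditive.epi_of_cancel_zero _ fun {W} c hc => ?_, ?_⟩
  · have h1 : p' ≫ f ≫ c = 0 := by simpa [hp] using biprod.inl ≫= hc
    have h2 : q ≫ c = 0 := by simpa [hp] using biprod.inr ≫= hc
    have hfc : f ≫ c = 0 := by rwa [← cancel_epi p', comp_zero]
    have hd : g ≫ hS.exact.desc c hfc = c := hS.exact.g_desc c hfc
    rw [← hd] at h2 ⊢
    rw [show hS.exact.desc c hfc = 0 from by rw [← cancel_epi (q ≫ g), comp_zero, Category.assoc]; exact h2,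
      comp_zero]
  let a : kernel p' ⟶ kernel p := kernel.lift p (kernel.ι p' ≫ biprod.inl) (by simp [hp])
  let b : kernel p ⟶ kernel (q ≫ g) := kernel.lift (q ≫ g) (kernel.ι p ≫ biprod.snd) (by
    rw [Category.assoc, ← hpg, kernel.condition_assoc, zero_comp])
  have hab : a ≫ b = 0 := by rw [← cancel_mono (kernel.ι (q ≫ g))]; simp [a, b]
  refine ⟨a, b, hab, ?_⟩
  have hma : Mono a := mono_of_mono_fac (kernel.lift_ι p (kernel.ι p' ≫ biprod.inl) _)
  refine { exact := ShortComplex.exact_of_f_is_kernel _ ?_, mono_f := hma, epi_g := ?_ }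
  · refine KernelFork.IsLimit.ofι' _ _ fun {W} k hk => ?_
    have hsnd : k ≫ kernel.ι p ≫ biprod.snd = 0 := by
      have := hk =≫ kernel.ι (q ≫ g)
      simpa [b] using this
    have hfst : (k ≫ kernel.ι p ≫ biprod.fst) ≫ biprod.inl = k ≫ kernel.ι p := by
      ext
      · simp
      · simpa using hsnd.symm
    refine ⟨kernel.lift p' (k ≫ kernel.ι p ≫ biprod.fst) ?_, ?_⟩
    · rw [← cancel_mono f, zero_comp]
      have := congrArg (· ≫ p) hfst
      simp only [Category.assoc, kernel.condition, comp_zero] at this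
      simpa [hp] using this
    · rw [← cancel_mono (kernel.ι p)]
      simpa [a] using hfst
  · have ht : (kernel.ι (q ≫ g) ≫ q) ≫ g = 0 := by rw [Category.assoc, kernel.condition]
    let t := hS.exact.lift (kernel.ι (q ≫ g) ≫ q) ht
    have htf : t ≫ f = kernel.ι (q ≫ g) ≫ q := hS.exact.lift_f _ ht
    let k : pullback t p' ⟶ kernel p := kernel.lift p
      (biprod.lift (-pullback.snd t p') (pullback.fst t p' ≫ kernel.ι (q ≫ g))) (by
        rw [hp, biprod.lift_desc, Category.assoc, ← htf, Preadditive.neg_comp,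
          pullback.condition_assoc, neg_add_cancel])
    exact epi_of_epi_fac (f := k) (g := b) (h := pullback.fst t p')
      (by rw [← cancel_mono (kernel.ι (q ≫ g))]; simp [k, b])

variable (P₀ P₁ : ObjectProperty C)

/-- The hypotheses of the resolution theorem. -/
structure Setup : Prop where
  le : ∀ X, P₀ X → P₁ X
  ext₀ : ∀ S : ShortComplex C, S.ShortExact → P₀ S.X₁ → P₀ S.X₃ → P₀ S.X₂
  ext₁ : ∀ S : ShortComplex C, S.ShortExact → P₁ S.X₁ → P₀ S.X₃ → P₁ S.X₂
  ker₀ : ∀ S : ShortComplex C, S.ShortExact → P₀ S.X₂ → P₀ S.X₃ → P₀ S.X₁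
  ker₁ : ∀ S : ShortComplex C, S.ShortExact → P₁ S.X₂ → P₁ S.X₃ → P₁ S.X₁
  cover : ∀ (A B D : C) (u : A ⟶ B) (v : D ⟶ B), Epi u → P₁ A → P₁ B → P₁ D →
    ∃ (L : C) (u' : L ⟶ D) (v' : L ⟶ A), P₀ L ∧ Epi u' ∧ u' ≫ v = v' ≫ u

/-- Objects of `P₁` with a `P₀`-resolution of length `≤ n`. -/
def Res : ℕ → ObjectProperty C
  | 0 => P₀
  | n + 1 => fun A => P₁ A ∧ ∃ (K L : C) (i : K ⟶ L) (p : L ⟶ A) (w : i ≫ p = 0),
      (ShortComplex.mk i p w).ShortExact ∧ P₀ L ∧ Res n K

/-- An Euler characteristic on objects with resolutions of length `≤ n`. -/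
structure IsEuler (n : ℕ) (χ : C → KZero.K0sub P₀) : Prop where
  eq : ∀ X, P₀ X → χ X = KZero.clSub P₀ X
  add : ∀ S : ShortComplex C, S.ShortExact → Res P₀ P₁ n S.X₁ → Res P₀ P₁ n S.X₂ →
    Res P₀ P₁ n S.X₃ → χ S.X₂ = χ S.X₁ + χ S.X₃

variable {P₀ P₁}

namespace Setup

variable (h : Setup P₀ P₁)
include h

theorem res_le {n : ℕ} {A : C} (hA : Res P₀ P₁ n A) : P₁ A := by
  cases n with
  | zero => exact h.le A hA
  | succ n => exact hA.1

theorem isZero_mem {A Z : C} (hA : P₀ A) (hZ : IsZero Z) : P₀ Z :=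
  h.ker₀ (ShortComplex.mk (0 : Z ⟶ A) (𝟙 A) zero_comp)
    { exact := (ShortComplex.exact_iff_mono _ rfl).mpr (inferInstanceAs (Mono (𝟙 A)))
      mono_f := ⟨fun _ _ _ => hZ.eq_of_tgt _ _⟩
      epi_g := inferInstanceAs (Epi (𝟙 A)) } hA hA

theorem res_succ : ∀ {n : ℕ} {A : C}, Res P₀ P₁ n A → Res P₀ P₁ (n + 1) A
  | 0, A, hA => ⟨h.le A hA, kernel (𝟙 A), A, _, 𝟙 A, _, shortExact_kernel (𝟙 A), hA,
      h.isZero_mem hA (isZero_kernel_of_mono _)⟩
  | n + 1, _, ⟨h₁, K, L, i, p, w, hS, hL, hK⟩ => ⟨h₁, K, L, i, p, w, hS, hL, res_succ hK⟩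

theorem res_mono {m n : ℕ} (hmn : m ≤ n) {A : C} (hA : Res P₀ P₁ m A) : Res P₀ P₁ n A := by
  induction hmn with
  | refl => exact hA
  | step _ ih => exact h.res_succ ih

theorem biprod_mem {X Y : C} (hX : P₀ X) (hY : P₀ Y) : P₀ (X ⊞ Y) :=
  h.ext₀ (ShortComplex.mk (biprod.inl : X ⟶ X ⊞ Y) biprod.snd (by simp))
    (ShortComplex.Splitting.shortExact { r := biprod.fst, s := biprod.inr }) hX hY

theorem clSub_biprod {X Y : C} (hX : P₀ X) (hY : P₀ Y) :
    KZero.clSub P₀ (X ⊞ Y) = KZero.clSub P₀ X + KZero.clSub P₀ Y :=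
  clSub_rel (ShortComplex.mk (biprod.inl : X ⟶ X ⊞ Y) biprod.snd (by simp))
    (ShortComplex.Splitting.shortExact { r := biprod.fst, s := biprod.inr }) hX (h.biprod_mem hX hY) hY

theorem res_sub {n : ℕ} {A' A A'' : C} {f : A' ⟶ A} {g : A ⟶ A''} {w : f ≫ g = 0}
    (hS : (ShortComplex.mk f g w).ShortExact) (h' : P₀ A'') (hA : Res P₀ P₁ n A) :
    Res P₀ P₁ n A' := by
  cases n with
  | zero => exact h.ker₀ _ hS hA h'
  | succ n =>
    obtain ⟨hA1, K, L, i, p, wp, hp, hL, hK⟩ := hA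
    have : Mono f := hS.mono_f
    have : Epi g := hS.epi_g
    have : Epi p := hp.epi_g
    let b : kernel (p ≫ g) ⟶ A' := hS.exact.lift (kernel.ι (p ≫ g) ≫ p)
      (by rw [Category.assoc, kernel.condition])
    have hbf : b ≫ f = kernel.ι (p ≫ g) ≫ p := hS.exact.lift_f _ _
    have hsq : IsPullback (kernel.ι (p ≫ g)) b p f := by
      refine IsPullback.of_isLimit' ⟨hbf.symm⟩ (PullbackCone.IsLimit.mk _
        (fun s => kernel.lift (p ≫ g) s.fst (by rw [← Category.assoc, s.condition, Category.assoc, w, comp_zero]))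
        (fun s => kernel.lift_ι _ _ _) (fun s => ?_) (fun s m h1 _ => ?_))
      · rw [← cancel_mono f, Category.assoc, hbf, ← Category.assoc, kernel.lift_ι, s.condition]
      · rw [← cancel_mono (kernel.ι (p ≫ g)), h1, kernel.lift_ι]
    have hb : Epi b := by
      have := Abelian.epi_snd_of_isLimit p f hsq.isLimit
      exact this
    exact ⟨h.ker₁ _ hS hA1 (h.le _ h'), K, kernel (p ≫ g), _, b, _,
      shortExact_of_isPullback hp hsq hb, h.ker₀ _ (shortExact_kernel (p ≫ g)) hL h', hK⟩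

theorem res_ext : ∀ {n : ℕ} {A' A A'' : C} {f : A' ⟶ A} {g : A ⟶ A''} {w : f ≫ g = 0},
    (ShortComplex.mk f g w).ShortExact → Res P₀ P₁ n A' → P₀ A'' → Res P₀ P₁ n A
  | 0, _, _, _, _, _, _, hS, h', h'' => h.ext₀ _ hS h' h''
  | n + 1, A', A, A'', f, g, w, hS, ⟨hA'1, K', L', i', p', w', hp', hL', hK'⟩, h'' => by
    have hA1 : P₁ A := h.ext₁ _ hS hA'1 h''
    obtain ⟨L'', u, q, hL'', hu, huq⟩ := h.cover A A'' A'' g (𝟙 _) hS.epi_g hA1 (h.le _ h'') (h.le _ h'')
    rw [Category.comp_id] at huq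
    have : Epi (q ≫ g) := huq ▸ hu
    have : Epi p' := hp'.epi_g
    obtain ⟨hep, a, b, wab, hab⟩ := horseshoe hS p' q
    refine ⟨hA1, kernel (biprod.desc (p' ≫ f) q), L' ⊞ L'', _, _, _, shortExact_kernel _,
      h.biprod_mem hL' hL'', ?_⟩
    have hkk : Res P₀ P₁ n (kernel p') := by
      have e : (ShortComplex.mk (kernel.lift p' i' w' ≫ 𝟙 _) (0 : kernel p' ⟶ (0 : C)) comp_zero).ShortExact := by
        have := hp'.mono_f
        have hi : IsIso (kernel.lift p' i' w') := by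
          refine ⟨hp'.exact.lift (kernel.ι p') (kernel.condition p'), ?_, ?_⟩
          · rw [← cancel_mono i', Category.assoc]
            erw [hp'.exact.lift_f]
            simp
          · rw [← cancel_mono (kernel.ι p'), Category.assoc, kernel.lift_ι]
            erw [hp'.exact.lift_f]
            simp
        exact Groth.KTheory.shortExact_id_left (asIso (kernel.lift p' i' w') ≪≫ Iso.refl _) (isZero_zero C)
      exact res_ext e hK' (h.isZero_mem hL' (isZero_zero C))
    exact res_ext hab hkk (h.ker₀ _ (shortExact_kernel (q ≫ g)) hL'' h'')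

theorem res_iso {n : ℕ} {X Y : C} (e : X ≅ Y) (hX : Res P₀ P₁ n X) {Z : C} (hZ : P₀ Z) :
    Res P₀ P₁ n Y :=
  h.res_ext (Groth.KTheory.shortExact_id_left e (isZero_zero C)) hX (h.isZero_mem hZ (isZero_zero C))

/-- The kernel of any cover has resolution length one less. -/
theorem res_kernel {n : ℕ} {K L A : C} {i : K ⟶ L} {p : L ⟶ A} {w : i ≫ p = 0}
    (hS : (ShortComplex.mk i p w).ShortExact) (hL : P₀ L) (hA : Res P₀ P₁ (n + 1) A) :
    Res P₀ P₁ n K := by
  obtain ⟨hA1, K', L', i', p', w', hp', hL', hK'⟩ := hA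
  have : Epi p := hS.epi_g
  have : Epi p' := hp'.epi_g
  have hsq := IsPullback.of_hasPullback p p'
  exact h.res_sub (shortExact_of_isPullback hS hsq inferInstance) hL'
    (h.res_ext (shortExact_of_isPullback hp' hsq.flip inferInstance) hK' hL)

theorem euler_mono {m n : ℕ} (hmn : m ≤ n) {χ : C → KZero.K0sub P₀}
    (hχ : IsEuler P₀ P₁ n χ) : IsEuler P₀ P₁ m χ :=
  ⟨hχ.eq, fun S hS h1 h2 h3 => hχ.add S hS (h.res_mono hmn h1) (h.res_mono hmn h2) (h.res_mono hmn h3)⟩

theorem isEuler_unique : ∀ {n : ℕ} {χ χ' : C → KZero.K0sub P₀}, IsEuler P₀ P₁ n χ → IsEuler P₀ P₁ n χ' →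
    ∀ A, Res P₀ P₁ n A → χ A = χ' A
  | 0, _, _, hχ, hχ', A, hA => (hχ.eq A hA).trans (hχ'.eq A hA).symm
  | n + 1, χ, χ', hχ, hχ', A, hA => by
    obtain ⟨hA1, K, L, i, p, w, hS, hL, hK⟩ := hA
    have hA' : Res P₀ P₁ (n + 1) A := ⟨hA1, K, L, i, p, w, hS, hL, hK⟩
    have hL' : Res P₀ P₁ (n + 1) L := h.res_mono (Nat.zero_le _) hL
    have e := hχ.add _ hS (h.res_succ hK) hL' hA'
    have e' := hχ'.add _ hS (h.res_succ hK) hL' hA'
    have eK := isEuler_unique (h.euler_mono (Nat.le_succ n) hχ) (h.euler_mono (Nat.le_succ n) hχ') K hK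
    change χ L = χ K + χ A at e
    change χ' L = χ' K + χ' A at e'
    rw [eK, hχ.eq L hL] at e
    rw [hχ'.eq L hL] at e'
    exact add_left_cancel (e.symm.trans e')

theorem exists_isEuler : ∀ n : ℕ, ∃ χ, IsEuler P₀ P₁ n χ
  | 0 => ⟨KZero.clSub P₀, fun _ _ => rfl, fun S hS h1 h2 h3 => clSub_rel S hS h1 h2 h3⟩
  | n + 1 => by
    classical
    obtain ⟨χ, hχ⟩ := exists_isEuler n
    let χ' : C → KZero.K0sub P₀ := fun A =>
      if hA : Res P₀ P₁ (n + 1) A then
        KZero.clSub P₀ hA.2.choose_spec.choose - χ hA.2.choose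
      else 0
    have hχ' : ∀ {K L A : C} (i : K ⟶ L) (p : L ⟶ A) (w : i ≫ p = 0),
        (ShortComplex.mk i p w).ShortExact → P₀ L → Res P₀ P₁ (n + 1) A →
        χ' A = KZero.clSub P₀ L - χ K := by
      intro K L A i p w hS hL hA
      simp only [χ', dif_pos hA]
      obtain ⟨i', p', w', hp', hL', hK'⟩ := hA.2.choose_spec.choose_spec
      generalize hA.2.choose_spec.choose = L' at *
      generalize hA.2.choose = K' at *
      have hK : Res P₀ P₁ n K := h.res_kernel hS hL hA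
      have : Epi p := hS.epi_g
      have : Epi p' := hp'.epi_g
      have hsq := IsPullback.of_hasPullback p p'
      have s1 := shortExact_of_isPullback hS hsq inferInstance
      have s2 := shortExact_of_isPullback hp' hsq.flip inferInstance
      have hM : Res P₀ P₁ n (pullback p p') := h.res_ext s1 hK hL'
      have e1 := hχ.add _ s1 hK hM (h.res_mono (Nat.zero_le _) hL')
      have e2 := hχ.add _ s2 hK' hM (h.res_mono (Nat.zero_le _) hL)
      simp only [hχ.eq _ hL'] at e1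
      simp only [hχ.eq _ hL] at e2
      rw [sub_eq_sub_iff_add_eq_add, add_comm (KZero.clSub P₀ L'), ← e1, e2, add_comm]
    refine ⟨χ', fun X hX => ?_, fun S hS h1 h2 h3 => ?_⟩
    · have hX1 : Res P₀ P₁ (n + 1) X := h.res_mono (Nat.zero_le _) hX
      have hz := isZero_kernel_of_mono (𝟙 X)
      rw [hχ' _ _ _ (shortExact_kernel (𝟙 X)) hX hX1, hχ.eq _ (h.isZero_mem hX hz),
        clSub_zero hz (h.isZero_mem hX hz), sub_zero]
    · obtain @⟨A', A, A'', f, g, w⟩ := S
      change χ' A = χ' A' + χ' A''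
      obtain ⟨h11, K', L', i', p', w', hp', hL', -⟩ := id h1
      obtain ⟨L'', u, q, hL'', hu, huq⟩ := h.cover A A'' A'' g (𝟙 _) hS.epi_g
        (h.res_le h2) (h.res_le h3) (h.res_le h3)
      rw [Category.comp_id] at huq
      have : Epi (q ≫ g) := huq ▸ hu
      have : Epi p' := hp'.epi_g
      obtain ⟨hep, a, b, wab, hab⟩ := horseshoe hS p' q
      have hb := h.biprod_mem hL' hL''
      have e := hχ.add _ hab (h.res_kernel (shortExact_kernel p') hL' h1)
        (h.res_kernel (shortExact_kernel _) hb h2) (h.res_kernel (shortExact_kernel (q ≫ g)) hL'' h3)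
      rw [hχ' _ _ _ (shortExact_kernel p') hL' h1, hχ' _ _ _ (shortExact_kernel (q ≫ g)) hL'' h3,
        hχ' _ _ _ (shortExact_kernel (biprod.desc (p' ≫ f) q)) hb h2, h.clSub_biprod hL' hL'', e]
      abel

/-- The resolution theorem: `K₀(P₀) → K₀(P₁)` is bijective if all objects of `P₁` have finite
`P₀`-resolutions. -/
theorem mapSub_bijective (hres : ∀ A, P₁ A → ∃ n, Res P₀ P₁ n A) :
    Function.Bijective (SGA6.mapSub (𝟭 C) P₀ P₁ h.le) := by
  set F := SGA6.mapSub (𝟭 C) P₀ P₁ h.le with hF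
  have hFcl : ∀ X, P₀ X → F (KZero.clSub P₀ X) = KZero.clSub P₁ X := by
    intro X hX
    rw [hF, clSub_of hX, clSub_of (h.le X hX)]
    simp [SGA6.mapSub, SGA6.objMap]
  choose χ hχ using h.exists_isEuler
  choose N hN using hres
  classical
  let E : C → KZero.K0sub P₀ := fun A => if hA : P₁ A then χ (N A hA) A else 0
  have hE : ∀ {m : ℕ} {A : C}, Res P₀ P₁ m A → E A = χ m A := by
    intro m A hA
    have h1 : P₁ A := h.res_le hA
    simp only [E, dif_pos h1]
    rcases le_total (N A h1) m with hle | hle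
    · exact (h.isEuler_unique (h.euler_mono hle (hχ m)) (hχ _) A (hN A h1)).symm
    · exact h.isEuler_unique (h.euler_mono hle (hχ _)) (hχ m) A hA
  let G : KZero.K0sub P₁ →+ KZero.K0sub P₀ := liftSub P₁ E fun S hS h1 h2 h3 => by
    have r1 := h.res_mono (Nat.le_add_right (N _ h1) (N _ h2 + N _ h3)) (hN _ h1)
    have r2 := h.res_mono (show N _ h2 ≤ N _ h1 + (N _ h2 + N _ h3) by omega) (hN _ h2)
    have r3 := h.res_mono (show N _ h3 ≤ N _ h1 + (N _ h2 + N _ h3) by omega) (hN _ h3)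
    rw [hE r1, hE r2, hE r3]
    exact (hχ _).add S hS r1 r2 r3
  have hGF : G.comp F = AddMonoidHom.id _ := by
    apply k0sub_hom_ext
    intro X hX
    rw [AddMonoidHom.comp_apply, hFcl X hX, liftSub_clSub _ _ (h.le X hX), AddMonoidHom.id_apply,
      hE (m := 0) hX, (hχ 0).eq X hX]
  refine ⟨Function.LeftInverse.injective (g := G) (DFunLike.congr_fun hGF), ?_⟩
  rw [← AddMonoidHom.range_eq_top, eq_top_iff]
  intro x hx
  clear hx
  induction x using k0sub_induction with
  | h0 => exact zero_mem _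
  | hadd a b ha hb => exact add_mem ha hb
  | hneg a ha => exact neg_mem ha
  | hcl A hA =>
    have key : ∀ n A, Res P₀ P₁ n A → KZero.clSub P₁ A ∈ F.range := by
      intro n
      induction n with
      | zero => exact fun A hA => ⟨_, hFcl A hA⟩
      | succ n ih =>
        rintro A ⟨hA1, K, L, i, p, w, hS, hL, hK⟩
        have e := clSub_rel _ hS (h.res_le hK) (h.le L hL) hA1
        change KZero.clSub P₁ L = _ + _ at e
        rw [eq_sub_of_add_eq' e.symm]
        exact sub_mem ⟨_, hFcl L hL⟩ (ih K hK)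
    exact key _ A (hN A hA)

/-- If a cycle object of every resolution lies in `P₀`, all objects have finite resolutions. -/
theorem exists_res_of_cycles
    (h3 : ∀ A : C, P₁ A → ∃ d : ℕ, ∀ L : ChainComplex C ℕ, (∀ i, P₀ (L.X i)) →
      (∀ i, 1 ≤ i → L.ExactAt i) → Nonempty (L.homology 0 ≅ A) → P₀ (L.cycles (d + 1)))
    (A : C) (hA : P₁ A) : ∃ n, Res P₀ P₁ n A := by
  classical
  obtain ⟨d, hd⟩ := h3 A hA
  have hcov : ∀ X : Subtype P₁, ∃ (L : C) (p : L ⟶ X.1), P₀ L ∧ Epi p := fun X => by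
    obtain ⟨L, u, -, hL, hu, -⟩ := h.cover X.1 X.1 X.1 (𝟙 _) (𝟙 _) inferInstance X.2 X.2 X.2
    exact ⟨L, u, hL, hu⟩
  choose cov π hcov₀ hπ using hcov
  let next : Subtype P₁ → Subtype P₁ := fun X =>
    ⟨kernel (π X), h.ker₁ _ (haveI := hπ X; shortExact_kernel (π X)) (h.le _ (hcov₀ X)) X.2⟩
  let K : ℕ → Subtype P₁ := fun n => Nat.rec ⟨A, hA⟩ (fun _ X => next X) n
  let ι : ∀ n, (K (n + 1)).1 ⟶ cov (K n) := fun n => kernel.ι (π (K n))
  have hιπ : ∀ n, ι n ≫ π (K n) = 0 := fun n => kernel.condition _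
  let L : ChainComplex C ℕ := ChainComplex.of (fun n => cov (K n))
    (fun n => π (K (n + 1)) ≫ ι n) (fun n => by
      simp [reassoc_of% (hιπ (n + 1))])
  have hd' : ∀ n, L.d (n + 1) n = π (K (n + 1)) ≫ ι n := fun n => ChainComplex.of_d (fun n => cov (K n)) (fun n => π (K (n + 1)) ≫ ι n) n
  have hex : ∀ i, 1 ≤ i → L.ExactAt i := by
    intro i hi
    obtain ⟨m, rfl⟩ : ∃ m, i = m + 1 := ⟨i - 1, by omega⟩
    rw [L.exactAt_iff' (m + 2) (m + 1) m (by simp) (by simp)]
    have := hπ (K (m + 2))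
    let S0 : ShortComplex C := ShortComplex.mk (ι (m + 1)) (π (K (m + 1))) (hιπ (m + 1))
    have hS0 : S0.Exact := ShortComplex.exact_of_f_is_kernel _ (kernelIsKernel _)
    rw [ShortComplex.exact_iff_exact_up_to_refinements]
    intro W x hx
    change x ≫ L.d (m + 1) m = 0 at hx
    have hx'' : (show W ⟶ cov (K (m + 1)) from x) ≫ π (K (m + 1)) ≫ ι m = 0 := by rw [← hd']; exact hx
    have hx' : (show W ⟶ cov (K (m + 1)) from x) ≫ π (K (m + 1)) = 0 :=
      (cancel_mono (ι m)).mp ((Category.assoc _ _ _).trans (hx''.trans zero_comp.symm))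
    have : Epi (π (K (m + 2))) := hπ _
    refine ⟨_, pullback.fst (hS0.lift x hx') (π (K (m + 2))), inferInstance,
      pullback.snd (hS0.lift x hx') (π (K (m + 2))), ?_⟩
    change _ = _ ≫ L.d (m + 2) (m + 1)
    rw [hd', ← Category.assoc, ← pullback.condition, Category.assoc]
    erw [hS0.lift_f]
    rfl
  have hiso : Nonempty (L.homology 0 ≅ A) := by
    have hp : Epi (π (K 0)) := hπ _
    have h1 : Epi (π (K 1)) := hπ _
    have w0 : L.d 1 0 ≫ π (K 0) = 0 := by rw [hd', Category.assoc, hιπ, comp_zero]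
    let S1 : ShortComplex C := ShortComplex.mk (L.d 1 0) (π (K 0)) w0
    have hS1 : S1.Exact := by
      let S0 : ShortComplex C := ShortComplex.mk (ι 0) (π (K 0)) (hιπ 0)
      let φ : S1 ⟶ S0 := { τ₁ := π (K 1), τ₂ := 𝟙 _, τ₃ := 𝟙 _, comm₁₂ := by simp [S1, S0, hd'], comm₂₃ := by simp [S1, S0] }
      have : Epi φ.τ₁ := h1
      have : IsIso φ.τ₂ := inferInstanceAs (IsIso (𝟙 _))
      have : Mono φ.τ₃ := inferInstanceAs (Mono (𝟙 _))
      exact (ShortComplex.exact_iff_of_epi_of_isIso_of_mono φ).mpr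
        (ShortComplex.exact_of_f_is_kernel _ (kernelIsKernel _))
    exact ⟨L.isoHomologyι₀ ≪≫ (L.opcyclesIsCokernel 1 0 (by simp)).coconePointUniqueUpToIso hS1.gIsCokernel⟩
  have hcyc := hd L (fun i => hcov₀ _) hex hiso
  have hK : P₀ (K (d + 2)).1 := by
    let e : L.cycles (d + 1) ≅ (K (d + 2)).1 :=
      (L.cyclesIsKernel (d + 1) d (by simp)).conePointUniqueUpToIso (kernelIsKernel (L.d (d + 1) d)) ≪≫
        kernelIsoOfEq (hd' d) ≪≫ kernelCompMono (π (K (d + 1))) (ι d)
    exact h.res_iso (n := 0) e hcyc hcyc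
  refine ⟨d + 2, ?_⟩
  have key : ∀ j m, m + j = d + 2 → Res P₀ P₁ j (K m).1 := by
    intro j
    induction j with
    | zero => intro m hm; obtain rfl : m = d + 2 := by omega
              exact hK
    | succ j ih =>
      intro m hm
      have := hπ (K m)
      exact ⟨(K m).2, _, _, _, _, _, shortExact_kernel (π (K m)), hcov₀ _, ih (m + 1) (by omega)⟩
  exact key (d + 2) 0 (by omega)

end Setup

end Groth.KTheory.Resolution
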