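import Mathlib.Algebra.Homology.DerivedCategory.Fractions

/-!
# Roofs between bounded complexes
-/

set_option autoImplicit false
universe w v u

open CategoryTheory Limits ComplexShape

namespace Groth.RoofBounded

variable {A : Type u} [Category.{v} A] [Abelian A]

/-- `ιTruncLE` is an isomorphism below the boundary degree. -/
theorem isIso_ιTruncLE_f (M : CochainComplex A ℤ) (n j : ℤ) (hj : j < n) :
    IsIso ((M.ιTruncLE n).f j) := by
  obtain ⟨k, hk⟩ := Int.le.dest hj.le
  have hk' : (embeddingUpIntLE n).f k = j := by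
    change n - (k : ℤ) = j
    omega
  have hb : ¬ (embeddingUpIntLE n).op.BoundaryGE k := by
    rw [ComplexShape.Embedding.op_boundaryGE_iff, boundaryLE_embeddingUpIntLE_iff]
    omega
  have h1 := M.op.isIso_restrictionToTruncGE' (embeddingUpIntLE n).op k hb
  have h2 : IsIso ((M.op.πTruncGE (embeddingUpIntLE n).op).f j) := by
    exact ((embeddingUpIntLE n).op.isIso_liftExtend_f_iff _ _ hk').2 h1
  exact inferInstanceAs (IsIso ((M.op.πTruncGE (embeddingUpIntLE n).op).f j).unop)

instance mono_ιTruncLE_f (M : CochainComplex A ℤ) (n j : ℤ) : Mono ((M.ιTruncLE n).f j) :=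
  inferInstanceAs (Mono ((HomologicalComplex.ιTruncLE M (embeddingUpIntLE n)).f j))

/-- Maps from a complex strictly below `n` into a truncation which become homotopic, are homotopic. -/
theorem nonempty_homotopy_of_comp_ιTruncLE {K M : CochainComplex A ℤ} (n : ℤ) [K.IsStrictlyLE n]
    {f g : K ⟶ M.truncLE n} (h : Homotopy (f ≫ M.ιTruncLE n) (g ≫ M.ιTruncLE n)) :
    Nonempty (Homotopy f g) := by
  classical
  let H : ∀ i j, K.X i ⟶ (M.truncLE n).X j := fun i j =>
    if hj : j < n then (haveI := isIso_ιTruncLE_f M n j hj; h.hom i j ≫ inv ((M.ιTruncLE n).f j))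
    else 0
  have hH : ∀ i j, h.hom i j = H i j ≫ (M.ιTruncLE n).f j := by
    intro i j
    by_cases hj : j < n
    · simp [H, hj]
    · simp only [H, dif_neg hj, zero_comp]
      by_cases hr : (ComplexShape.up ℤ).Rel j i
      · exact (K.isZero_of_isStrictlyLE n i (by simp at hr; omega)).eq_of_src _ _
      · exact h.zero i j hr
  refine ⟨{ hom := H, zero := fun i j hij => ?_, comm := fun i => ?_ }⟩
  · rw [← cancel_mono ((M.ιTruncLE n).f j), ← hH, zero_comp, h.zero i j hij]
  · have : (fun i j => h.hom i j) = fun i j => H i j ≫ (M.ιTruncLE n).f j := funext₂ hH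
    have e := h.comm i
    rw [show h.hom = fun i j => H i j ≫ (M.ιTruncLE n).f j from this, dNext_comp_right,
      prevD_comp_right] at e
    rw [← cancel_mono ((M.ιTruncLE n).f i)]
    simpa using e

variable [HasDerivedCategory.{w} A]

local notation "q" => HomotopyCategory.quotient A (ComplexShape.up ℤ)

theorem mem_quasiIso_iff {K L : CochainComplex A ℤ} (s : K ⟶ L) :
    HomotopyCategory.quasiIso A (ComplexShape.up ℤ) ((q).map s) ↔
      IsIso (DerivedCategory.Q.map s) := by
  rw [← DerivedCategory.isIso_Qh_map_iff]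
  exact NatIso.isIso_map_iff (DerivedCategory.quotientCompQhIso A) s

theorem exists_left_roof (K L : CochainComplex A ℤ) (a b : ℤ) [K.IsStrictlyLE b]
    [L.IsStrictlyGE a] [L.IsStrictlyLE b]
    (φ : DerivedCategory.Qh.obj ((q).obj K) ⟶ DerivedCategory.Qh.obj ((q).obj L)) :
    ∃ (L' : CochainComplex A ℤ) (_ : L'.IsStrictlyGE a) (_ : L'.IsStrictlyLE b) (f : K ⟶ L')
      (t : L ⟶ L'), HomotopyCategory.quasiIso A (ComplexShape.up ℤ) ((q).map t) ∧
        φ ≫ DerivedCategory.Qh.map ((q).map t) = DerivedCategory.Qh.map ((q).map f) := by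
  let e := DerivedCategory.quotientCompQhIso A
  obtain ⟨L', h1, h2, g, s, hs, fac⟩ := DerivedCategory.left_fac_of_isStrictlyLE_of_isStrictlyGE a b
    (e.inv.app K ≫ φ ≫ e.hom.app L)
  refine ⟨L', h1, h2, g, s, (mem_quasiIso_iff s).2 hs, ?_⟩
  rw [← cancel_mono (e.hom.app L'), Category.assoc,
    DerivedCategory.quotientCompQhIso_hom_naturality,
    DerivedCategory.quotientCompQhIso_hom_naturality, ← cancel_epi (e.inv.app K)]
  have := congrArg (fun z => z ≫ DerivedCategory.Q.map s) fac
  simp only [Category.assoc, IsIso.inv_hom_id, Category.comp_id] at this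
  rw [this, Iso.inv_hom_id_app_assoc]

theorem exists_right_roof (K L : CochainComplex A ℤ) (n : ℤ) [K.IsStrictlyLE n]
    (φ : DerivedCategory.Qh.obj ((q).obj K) ⟶ DerivedCategory.Qh.obj ((q).obj L)) :
    ∃ (K' : CochainComplex A ℤ) (_ : K'.IsStrictlyLE n) (s : K' ⟶ K) (f : K' ⟶ L),
      HomotopyCategory.quasiIso A (ComplexShape.up ℤ) ((q).map s) ∧
        DerivedCategory.Qh.map ((q).map s) ≫ φ = DerivedCategory.Qh.map ((q).map f) := by
  let e := DerivedCategory.quotientCompQhIso A
  obtain ⟨K', h1, s, hs, g, fac⟩ := DerivedCategory.right_fac_of_isStrictlyLE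
    (e.inv.app K ≫ φ ≫ e.hom.app L) n
  refine ⟨K', h1, s, g, (mem_quasiIso_iff s).2 hs, ?_⟩
  rw [← cancel_mono (e.hom.app L), DerivedCategory.quotientCompQhIso_hom_naturality, Category.assoc]
  have := congrArg (fun z => DerivedCategory.Q.map s ≫ z) fac
  simp only [IsIso.hom_inv_id_assoc] at this
  rw [← this, ← reassoc_of% (DerivedCategory.quotientCompQhIso_hom_naturality s),
    Iso.hom_inv_id_app_assoc]

theorem exists_precomp_eq (K L : CochainComplex A ℤ) (n : ℤ) [K.IsStrictlyLE n]
    (f₁ f₂ : (q).obj K ⟶ (q).obj L)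
    (h : DerivedCategory.Qh.map f₁ = DerivedCategory.Qh.map f₂) :
    ∃ (K' : CochainComplex A ℤ) (_ : K'.IsStrictlyLE n) (s : (q).obj K' ⟶ (q).obj K),
      HomotopyCategory.quasiIso A (ComplexShape.up ℤ) s ∧ s ≫ f₁ = s ≫ f₂ := by
  obtain ⟨Z, s, hs, e⟩ := (MorphismProperty.map_eq_iff_precomp DerivedCategory.Qh
    (HomotopyCategory.quasiIso A (ComplexShape.up ℤ)) f₁ f₂).1 h
  obtain ⟨(Z : CochainComplex A ℤ), rfl⟩ := HomotopyCategory.quotient_obj_surjective Z
  obtain ⟨s, rfl⟩ := (q).map_surjective s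
  have hs' := (mem_quasiIso_iff s).1 hs
  have : IsIso (DerivedCategory.Q.map (CochainComplex.truncLEMap s n ≫ K.ιTruncLE n)) := by
    rw [Functor.map_comp]
    have : IsIso (DerivedCategory.Q.map (CochainComplex.truncLEMap s n)) := by
      rw [DerivedCategory.isIso_Q_map_iff_quasiIso, CochainComplex.quasiIso_truncLEMap_iff]
      rw [DerivedCategory.isIso_Q_map_iff_quasiIso] at hs'
      infer_instance
    infer_instance
  rw [CochainComplex.ιTruncLE_naturality] at this
  refine ⟨Z.truncLE n, inferInstance, (q).map (Z.ιTruncLE n ≫ s), (mem_quasiIso_iff _).2 this, ?_⟩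
  rw [Functor.map_comp, Category.assoc, Category.assoc, e]

theorem exists_postcomp_eq (K L : CochainComplex A ℤ) (a b : ℤ) [K.IsStrictlyLE b]
    [L.IsStrictlyGE a] [L.IsStrictlyLE b] (f₁ f₂ : (q).obj K ⟶ (q).obj L)
    (h : DerivedCategory.Qh.map f₁ = DerivedCategory.Qh.map f₂) :
    ∃ (L' : CochainComplex A ℤ) (_ : L'.IsStrictlyGE a) (_ : L'.IsStrictlyLE b)
      (t : (q).obj L ⟶ (q).obj L'),
      HomotopyCategory.quasiIso A (ComplexShape.up ℤ) t ∧ f₁ ≫ t = f₂ ≫ t := by
  obtain ⟨Z, s, hs, e⟩ := (MorphismProperty.map_eq_iff_postcomp DerivedCategory.Qh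
    (HomotopyCategory.quasiIso A (ComplexShape.up ℤ)) f₁ f₂).1 h
  obtain ⟨(Z : CochainComplex A ℤ), rfl⟩ := HomotopyCategory.quotient_obj_surjective Z
  obtain ⟨s, rfl⟩ := (q).map_surjective s
  obtain ⟨f₁, rfl⟩ := (q).map_surjective f₁
  obtain ⟨f₂, rfl⟩ := (q).map_surjective f₂
  have hs' := (mem_quasiIso_iff s).1 hs
  rw [DerivedCategory.isIso_Q_map_iff_quasiIso] at hs'
  let t₁ : L ⟶ Z.truncGE a := s ≫ Z.πTruncGE a
  have ht₁ : QuasiIso t₁ := by
    have : QuasiIso (CochainComplex.truncGEMap s a) := by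
      rw [CochainComplex.quasiIso_truncGEMap_iff]; infer_instance
    change QuasiIso (s ≫ Z.πTruncGE a)
    rw [← CochainComplex.πTruncGE_naturality]
    infer_instance
  let t : L ⟶ (Z.truncGE a).truncLE b := inv (L.ιTruncLE b) ≫ CochainComplex.truncLEMap t₁ b
  have ht : t ≫ (Z.truncGE a).ιTruncLE b = t₁ := by
    rw [Category.assoc, CochainComplex.ιTruncLE_naturality, IsIso.inv_hom_id_assoc]
  have htq : QuasiIso t := by
    have : QuasiIso (CochainComplex.truncLEMap t₁ b) := by
      rw [CochainComplex.quasiIso_truncLEMap_iff]; infer_instance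
    infer_instance
  refine ⟨(Z.truncGE a).truncLE b, inferInstance, inferInstance, (q).map t,
    (mem_quasiIso_iff t).2 ((DerivedCategory.isIso_Q_map_iff_quasiIso (C := A) t).2 htq), ?_⟩
  rw [← Functor.map_comp, ← Functor.map_comp] at e ⊢
  refine HomotopyCategory.eq_of_homotopy _ _ (Classical.choice ?_)
  refine nonempty_homotopy_of_comp_ιTruncLE b (Homotopy.trans (.ofEq (show _ = (f₁ ≫ s) ≫ Z.πTruncGE a by rw [Category.assoc, ht, Category.assoc]))
    (((HomotopyCategory.homotopyOfEq _ _ e).compRight (Z.πTruncGE a)).trans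
      (.ofEq (by simp [t₁, Category.assoc, ht]))))

end Groth.RoofBounded
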