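import Groth.Agent.KTheory.SubLine
import Groth.Agent.GrassSub.Plucker
import Groth.Prelude.Def_GrassD

/-!
# The splitting principle for bundles on a quasi-compact scheme
-/

set_option autoImplicit false
set_option linter.style.haveILetI false
universe u

open CategoryTheory CategoryTheory.Limits AlgebraicGeometry TopologicalSpace
open Groth.PicAux

namespace Groth.KTheory.SplitVb

open Groth.LocFree LambdaVb SubLine KvbModel
open Groth.KTheory.KvbPull (pullHom pullHom_kcl)

variable {S : Scheme.{u}}

/-- The subgroup spanned by the classes of modules of rank at most one. -/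
noncomputable def lineSpan (S : Scheme.{u}) : AddSubgroup (SGA6.Kvb S) :=
  AddSubgroup.closure {x | ∃ L : S.Modules, IsSubLine L ∧ kcl L = x}

theorem mem_lineSpan {L : S.Modules} (h : IsSubLine L) : kcl L ∈ lineSpan S :=
  AddSubgroup.subset_closure ⟨L, h, rfl⟩

theorem pullHom_mem_lineSpan {T : Scheme.{u}} (f : T ⟶ S) {x : SGA6.Kvb S} (hx : x ∈ lineSpan S) :
    pullHom f x ∈ lineSpan T := by
  induction hx using AddSubgroup.closure_induction with
  | mem x hx =>
    obtain ⟨L, hL, rfl⟩ := hx
    rw [pullHom_kcl f hL.isFinLocFree]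
    exact mem_lineSpan (hL.pullback f)
  | zero => rw [map_zero]; exact zero_mem _
  | add a b _ _ ha hb => rw [map_add]; exact add_mem ha hb
  | neg a _ ha => rw [map_neg]; exact neg_mem ha

theorem pullHom_comp {T U : Scheme.{u}} (g : U ⟶ T) (f : T ⟶ S) :
    pullHom (g ≫ f) = (pullHom g).comp (pullHom f) := by
  refine k0sub_hom_ext fun M hM => ?_
  change pullHom (g ≫ f) (kcl M) = pullHom g (pullHom f (kcl M))
  rw [pullHom_kcl _ hM, pullHom_kcl f hM, pullHom_kcl g (isFinLocFree_pullback f hM)]
  exact (kcl_iso ((Scheme.Modules.pullbackComp g f).app M)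
    (isFinLocFree_pullback g (isFinLocFree_pullback f hM))).symm

theorem pullHom_id : pullHom (𝟙 S) = AddMonoidHom.id _ := by
  refine k0sub_hom_ext fun M hM => ?_
  change pullHom (𝟙 S) (kcl M) = kcl M
  rw [pullHom_kcl _ hM]
  exact kcl_iso ((Scheme.Modules.pullbackId S).app M) (isFinLocFree_pullback _ hM)

/-- Completion of a bundle to one of constant rank. -/
theorem exists_completion [CompactSpace S] {E : S.Modules} (hE : FlatMod.IsFinLocFree E) :
    ∃ (m : ℕ) (E' : S.Modules), FlatMod.IsFinLocFreeOfRank m E' ∧ kcl E' - kcl E ∈ lineSpan S := by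
  have hlc := isLocallyConstant_finrank hE
  obtain ⟨m, hm⟩ := hlc.range_finite.bddAbove
  let W : ℕ → S.Opens := fun k =>
    ⟨_, hlc {a | a < k}⟩
  have hWc : ∀ k, IsSubLine (piece (W k)) := fun k => isSubLine_piece ⟨hlc {a | a < k}ᶜ⟩
  let E' : ℕ → S.Modules := fun k => Nat.rec E (fun j M => M ⊞ piece (W (j + 1))) k
  have hr : ∀ k (U : S.Opens) (r : ℕ), RankOn E U r →
      (∀ y ∈ U, Module.finrank (S.presheaf.stalk y) (E.presheaf.stalk y) = r) →
        RankOn (E' k) U (max r k) := by
    intro k
    induction k with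
    | zero => intro U r h _; simpa [E'] using h
    | succ k ih =>
      intro U r h hc
      rcases Nat.lt_or_ge r (k + 1) with hlt | hge
      · rw [show max r (k + 1) = max r k + 1 by omega]
        refine (ih U r h hc).biprod (rankOn_piece_of_le fun y hy => ?_)
        change Module.finrank (S.presheaf.stalk y) (E.presheaf.stalk y) < k + 1
        rw [hc y hy]
        exact hlt
      · rw [show max r (k + 1) = max r k + 0 by omega]
        refine (ih U r h hc).biprod (rankOn_piece_of_disjoint ?_)
        rw [eq_bot_iff]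
        rintro y ⟨hy, hy' : Module.finrank (S.presheaf.stalk y) (E.presheaf.stalk y) < k + 1⟩
        rw [hc y hy] at hy'
        omega
  have hk : ∀ k, FlatMod.IsFinLocFree (E' k) ∧ kcl (E' k) - kcl E ∈ lineSpan S := by
    intro k
    induction k with
    | zero => exact ⟨hE, by change kcl E - kcl E ∈ _; rw [sub_self]; exact zero_mem _⟩
    | succ k ih =>
      refine ⟨KvbModel.isFinLocFree_biprod ih.1 (hWc _).isFinLocFree, ?_⟩
      have e : kcl (E' (k + 1)) = kcl (E' k) + kcl (piece (W (k + 1))) :=
        kcl_biprod ih.1 (hWc (k + 1)).isFinLocFree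
      rw [e, add_sub_right_comm]
      exact add_mem ih.2 (mem_lineSpan (hWc _))
  refine ⟨m, E' m, isFinLocFreeOfRank_of_rankOn fun x => ?_, (hk m).2⟩
  obtain ⟨U, r, hx, hU, hc⟩ := exists_rankOn hE x
  have hrm : r ≤ m := hm ⟨x, hc x hx⟩
  exact ⟨U, hx, by simpa [max_eq_right hrm] using hr m U r hU hc⟩

/-- A bundle of constant rank splits over an iterated projective bundle. -/
theorem exists_split_ofRank : ∀ (m : ℕ) (S : Scheme.{u}) [CompactSpace S] (E : S.Modules),
    FlatMod.IsFinLocFreeOfRank m E →
    ∃ (F : Scheme.{u}) (_ : CompactSpace F) (h : F ⟶ S),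
      Function.Injective (pullHom h) ∧ pullHom h (kcl E) ∈ lineSpan F
  | 0, S, _, E, hE => ⟨S, inferInstance, 𝟙 S, by rw [pullHom_id]; exact Function.injective_id,
      by rw [kcl_zero (isZero_of_rank_zero hE), map_zero]; exact zero_mem _⟩
  | m + 1, S, _, E, hE => by
    have hEf := isFinLocFree_of_rank hE
    obtain ⟨P, π, O1, q, hp, hG⟩ := Groth.GrassSub.exists_isGrass (KTheory.LocFree.isCoh hEf) 1
    have hPB : KRR.IsProjBundle π E O1 q := Grass.isGrass_one_iff.mp hG
    haveI : CompactSpace P := QuasiCompact.compactSpace_of_compactSpace π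
    obtain ⟨M, hM, hM'⟩ := exists_isInverseOf (isInvertible_iff_ofRank_one.2 hPB.invertible)
    have hMf : ∀ i : ℕ, FlatMod.IsFinLocFree (CohB1.tensorPow M i) := fun i =>
      isFinLocFree_of_rank (isInvertible_iff_ofRank_one.1 (isInvertible_tensorPow hM i))
    let G : Fin (m + 1) → (SGA6.Kvb S →+ SGA6.Kvb P) := fun i =>
      (LambdaVb.mulHom (kcl (CohB1.tensorPow M (i : ℕ)))).comp (pullHom π)
    have hB := ProjBdl.bijective_of_isProjBundle hE hPB (isInverseOf_symm hM') G fun i N hN => by
      change LambdaVb.mulHom _ (pullHom π (kcl N)) = _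
      rw [pullHom_kcl π hN, mulHom_kcl (hMf _) (isFinLocFree_pullback π hN)]
    have hinj : Function.Injective (pullHom π) := by
      refine (injective_iff_map_eq_zero _).2 fun x hx => ?_
      have := hB.1 (a₁ := Pi.single (0 : Fin (m + 1)) x) (a₂ := 0) (by
        simp only [Pi.zero_apply, map_zero, Finset.sum_const_zero]
        rw [Finset.sum_eq_single (0 : Fin (m + 1))]
        · rw [Pi.single_eq_same]
          change LambdaVb.mulHom _ (pullHom π x) = 0
          rw [hx, map_zero]
        · intro j _ hj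
          rw [Pi.single_eq_of_ne hj, map_zero]
        · exact fun h => absurd (Finset.mem_univ _) h)
      simpa using congrFun this 0
    haveI := hPB.epi
    have hS := Groth.Variety2.Reg.kernel_shortExact q
    have hE' := isFinLocFreeOfRank_pullback π hE
    have hK : FlatMod.IsFinLocFreeOfRank m (kernel q) :=
      isFinLocFreeOfRank_left (S := ShortComplex.mk _ _ (kernel.condition q)) hS hE' hPB.invertible
    obtain ⟨F, hF, h, hh, hs⟩ := exists_split_ofRank m P (kernel q) hK
    refine ⟨F, hF, h ≫ π, ?_, ?_⟩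
    · rw [pullHom_comp]
      exact hh.comp hinj
    · rw [pullHom_comp, AddMonoidHom.comp_apply, pullHom_kcl π hEf,
        show kcl ((Scheme.Modules.pullback π).obj E) = kcl (kernel q) + kcl O1 from
          ProjBdl.kcl_rel hS (isFinLocFree_of_rank hK) (isFinLocFree_of_rank hE')
            (isFinLocFree_of_rank hPB.invertible), map_add]
      exact add_mem hs (pullHom_mem_lineSpan h (mem_lineSpan (isSubLine_of_rank hPB.invertible)))

theorem exists_split_bundle [CompactSpace S] {E : S.Modules} (hE : FlatMod.IsFinLocFree E) :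
    ∃ (F : Scheme.{u}) (_ : CompactSpace F) (h : F ⟶ S),
      Function.Injective (pullHom h) ∧ pullHom h (kcl E) ∈ lineSpan F := by
  obtain ⟨m, E', hE', hd⟩ := exists_completion hE
  obtain ⟨F, hF, h, hi, hs⟩ := exists_split_ofRank m S E' hE'
  refine ⟨F, hF, h, hi, ?_⟩
  have := sub_mem hs (pullHom_mem_lineSpan h hd)
  rwa [← map_sub, sub_sub_cancel] at this

/-- Every class splits over a scheme with injective pullback, compatibly with further pullbacks. -/
theorem exists_split [CompactSpace S] (x : SGA6.Kvb S) :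
    ∀ (T : Scheme.{u}) [CompactSpace T] (f : T ⟶ S), ∃ (F : Scheme.{u}) (_ : CompactSpace F) (h : F ⟶ T),
      Function.Injective (pullHom h) ∧ pullHom (h ≫ f) x ∈ lineSpan F := by
  induction x using k0sub_induction with
  | h0 =>
    intro T _ f
    exact ⟨T, inferInstance, 𝟙 T, by rw [pullHom_id]; exact Function.injective_id,
      by rw [map_zero]; exact zero_mem _⟩
  | hcl E hE =>
    intro T _ f
    obtain ⟨F, hF, h, hi, hs⟩ := exists_split_bundle (isFinLocFree_pullback f hE)
    refine ⟨F, hF, h, hi, ?_⟩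
    rw [pullHom_comp, AddMonoidHom.comp_apply]
    change pullHom h (pullHom f (kcl E)) ∈ _
    rwa [pullHom_kcl f hE]
  | hadd a b ha hb =>
    intro T _ f
    obtain ⟨F₁, hF₁, h₁, hi₁, hs₁⟩ := ha T f
    obtain ⟨F₂, hF₂, h₂, hi₂, hs₂⟩ := hb F₁ (h₁ ≫ f)
    refine ⟨F₂, hF₂, h₂ ≫ h₁, ?_, ?_⟩
    · rw [pullHom_comp]
      exact hi₂.comp hi₁
    · rw [map_add, Category.assoc]
      refine add_mem ?_ hs₂
      rw [pullHom_comp]
      exact pullHom_mem_lineSpan h₂ hs₁
  | hneg a ha =>
    intro T _ f
    obtain ⟨F, hF, h, hi, hs⟩ := ha T f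
    exact ⟨F, hF, h, hi, by rw [map_neg]; exact neg_mem hs⟩

end Groth.KTheory.SplitVb
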