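import Groth.Agent.KTheory.LambdaSpecial
import Groth.Agent.KTheory.SplitVb

/-!
# `K₀` of bundles is a special λ-ring
-/

set_option autoImplicit false
set_option linter.style.haveILetI false
universe v u

open CategoryTheory CategoryTheory.Limits AlgebraicGeometry
open LambdaRing (LambdaOps)

namespace Groth.KTheory.SpecialVb

open Groth.LocFree LambdaVb SubLine SplitVb
open Groth.KTheory.KvbPull (pullHom pullHom_kcl)

/-- Specialness of a model of `K₀(Vect S)`. -/
theorem isSpecial_of_model {S : Scheme.{u}} [CompactSpace S] {K : Type v} [CommRing K] [LambdaOps K]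
    (φ : SGA6.Kvb S →+ K) (hφ : Function.Bijective φ)
    (h1 : φ (kcl (Coh.structureModule S)) = 1)
    (hmul : ∀ E F : S.Modules, FlatMod.IsFinLocFree E → FlatMod.IsFinLocFree F →
      φ (kcl E) * φ (kcl F) = φ (kcl (CohB1.tensorMod E F)))
    (hlam : ∀ (i : ℕ) (E L : S.Modules), FlatMod.IsFinLocFree E → FlatMod.IsFinLocFree L →
      ExtPow.IsExtPow i E L → LambdaOps.lam i (φ (kcl E)) = φ (kcl L)) :
    LambdaRing.IsSpecial K := by
  have hbundle : ∀ (i : ℕ) (E : S.Modules), FlatMod.IsFinLocFree E →
      LambdaOps.lam i (φ (kcl E)) = φ (kcl (extPow i E)) := fun i E hE =>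
    haveI := KTheory.LocFree.isQCoh hE
    hlam i E _ hE (isFinLocFree_extPow hE i) (isExtPow_extPow i E)
  refine LambdaSpecial.isSpecial_of_split.{v, u + 1} (fun n hn => ?_) fun x y => ?_
  · rw [← h1, hbundle n _ (isFinLocFree_unit S), KvbModel.kcl_zero (isSubLine_unit.isZero_extPow hn), map_zero]
  let e := AddEquiv.ofBijective φ hφ
  obtain ⟨F₁, hF₁, h₁, hi₁, hs₁⟩ := exists_split (e.symm x) S (𝟙 S)
  obtain ⟨F, hF, h₂, hi₂, hs₂⟩ := exists_split (e.symm y) F₁ h₁
  let h : F ⟶ S := h₂ ≫ h₁
  have hi : Function.Injective (pullHom h) := by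
    rw [show h = h₂ ≫ h₁ from rfl, pullHom_comp]
    exact hi₂.comp hi₁
  have hx : pullHom h (e.symm x) ∈ lineSpan F := by
    rw [show h = h₂ ≫ h₁ from rfl, pullHom_comp]
    rw [Category.comp_id] at hs₁
    exact pullHom_mem_lineSpan h₂ hs₁
  obtain ⟨mul, lam, -, -, hone, hmul', hlam', h0, h1', hadd⟩ := exists_lambdaStructure (X := F)
  obtain rfl : mul = LambdaVb.mulHom := k0sub_hom_ext fun A hA => k0sub_hom_ext fun B hB =>
    (hmul' A B hA hB).trans (mulHom_kcl hA hB).symm
  letI := kvbRing F
  letI ops : LambdaOps (SGA6.Kvb F) := { lam := lam, lam_zero := h0, lam_one := h1', lam_add := hadd }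
  have hmulF : ∀ {A B : F.Modules}, FlatMod.IsFinLocFree A → FlatMod.IsFinLocFree B →
      kcl A * kcl B = kcl (CohB1.tensorMod A B) := fun hA hB => mulHom_kcl hA hB
  let g₀ : K →+ SGA6.Kvb F := (pullHom h).comp e.symm.toAddMonoidHom
  have hg₀ : ∀ A, FlatMod.IsFinLocFree A → g₀ (φ (kcl A)) = kcl ((Scheme.Modules.pullback h).obj A) :=
    fun A hA => by
      change pullHom h (e.symm (e (kcl A))) = _
      rw [e.symm_apply_apply, pullHom_kcl h hA]
  have gone : g₀ 1 = 1 := by
    rw [← h1, hg₀ _ (isFinLocFree_unit S)]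
    exact kcl_iso (PicLoc.pullbackStructureIso h) (isFinLocFree_pullback h (isFinLocFree_unit S))
  have gmul : ∀ a b : K, g₀ (a * b) = g₀ a * g₀ b := by
    intro a b
    obtain ⟨a, rfl⟩ := hφ.2 a
    induction a using k0sub_induction with
    | h0 => simp
    | hadd p q hp hq => simp only [map_add, add_mul, hp, hq]
    | hneg p hp => simp only [map_neg, neg_mul, hp]
    | hcl A hA =>
      obtain ⟨b, rfl⟩ := hφ.2 b
      induction b using k0sub_induction with
      | h0 => simp
      | hadd p q hp hq => simp only [map_add, mul_add, hp, hq]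
      | hneg p hp => simp only [map_neg, mul_neg, hp]
      | hcl B hB =>
        change g₀ (φ (kcl A) * φ (kcl B)) = g₀ (φ (kcl A)) * g₀ (φ (kcl B))
        rw [hmul A B hA hB, hg₀ _ (isFinLocFree_tensorMod hA hB), hg₀ A hA, hg₀ B hB,
          hmulF (isFinLocFree_pullback h hA) (isFinLocFree_pullback h hB)]
        exact kcl_iso (Groth.PicAux.exists_pullback_tensorMod h A B).choose
          (isFinLocFree_pullback h (isFinLocFree_tensorMod hA hB))
  let g : K →+* SGA6.Kvb F :=
    { g₀ with toFun := g₀, map_one' := gone, map_mul' := gmul }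
  have hgb : ∀ A, FlatMod.IsFinLocFree A → g (φ (kcl A)) = kcl ((Scheme.Modules.pullback h).obj A) := hg₀
  have hgl : ∀ (z : SGA6.Kvb S) (i : ℕ), g (LambdaOps.lam i (φ z)) = LambdaOps.lam i (g (φ z)) := by
    intro z
    induction z using k0sub_induction with
    | h0 =>
      intro i
      rw [map_zero φ, map_zero g]
      rcases i with _ | i
      · rw [LambdaOps.lam_zero, LambdaOps.lam_zero, map_one]
      · rw [LambdaCore.lam_zero_of_pos (by omega), LambdaCore.lam_zero_of_pos (by omega), map_zero]
    | hcl A hA =>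
      intro i
      haveI := KTheory.LocFree.isQCoh hA
      change g (LambdaOps.lam i (φ (kcl A))) = LambdaOps.lam i (g (φ (kcl A)))
      rw [hbundle i A hA, hgb _ (isFinLocFree_extPow hA i), hgb A hA]
      exact (hlam' i _ _ (isFinLocFree_pullback h hA) (isExtPow_pullback h (isExtPow_extPow i A))).symm
    | hadd p q hp hq =>
      intro i
      simp only [map_add, LambdaOps.lam_add, map_sum, map_mul, hp, hq]
    | hneg p hp =>
      intro i
      rw [map_neg φ, map_neg g]
      induction i using Nat.strong_induction_on with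
      | _ i ih =>
        rcases i with _ | i
        · rw [LambdaOps.lam_zero, LambdaOps.lam_zero, map_one]
        · rw [LambdaSpecial.lam_neg_eq, LambdaSpecial.lam_neg_eq, map_neg, map_sum]
          congr 1
          exact Finset.sum_congr rfl fun j hj => by rw [map_mul, hp, ih _ (by omega)]
  let V := {L : F.Modules // IsSubLine L}
  let f : MvPolynomial V ℤ →+* SGA6.Kvb F :=
    MvPolynomial.eval₂Hom (Int.castRingHom _) fun L => kcl L.1
  have hmon : ∀ d : V →₀ ℕ, ∃ L : F.Modules, IsSubLine L ∧ f (MvPolynomial.monomial d 1) = kcl L := by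
    intro d
    induction d using Finsupp.induction with
    | zero => exact ⟨_, isSubLine_unit, by simp [f]; rfl⟩
    | single_add a b d _ _ ih =>
      obtain ⟨L, hL, hd⟩ := ih
      rw [MvPolynomial.monomial_single_add, map_mul, map_pow, hd]
      have hX : f (MvPolynomial.X a) = kcl a.1 := by simp [f]
      rw [hX]
      have key : ∀ (b : ℕ) (L : F.Modules), IsSubLine L →
          ∃ M : F.Modules, IsSubLine M ∧ kcl a.1 ^ b * kcl L = kcl M := by
        intro b
        induction b with
        | zero => intro L hL; exact ⟨L, hL, by rw [pow_zero, one_mul]⟩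
        | succ b ihb =>
          intro L hL
          obtain ⟨M, hM, he⟩ := ihb (CohB1.tensorMod a.1 L) (a.2.tensor hL)
          exact ⟨M, hM, by rw [pow_succ, mul_assoc, hmulF a.2.isFinLocFree hL.isFinLocFree, he]⟩
      exact key b L hL
  have hrange : ∀ z ∈ lineSpan F, z ∈ f.range := fun z hz => by
    induction hz using AddSubgroup.closure_induction with
    | mem z hz =>
      obtain ⟨L, hL, rfl⟩ := hz
      exact ⟨MvPolynomial.X ⟨L, hL⟩, by simp [f]⟩
    | zero => exact zero_mem _
    | add a b _ _ ha hb => exact add_mem ha hb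
    | neg a _ ha => exact neg_mem ha
  refine ⟨SGA6.Kvb F, inferInstance, ops, g, V, f, ?_, fun i z => ?_, fun d i hi => ?_, hrange _ hx, hrange _ hs₂⟩
  · exact hi.comp e.symm.injective
  · obtain ⟨z, rfl⟩ := hφ.2 z
    exact hgl z i
  · obtain ⟨L, hL, hd⟩ := hmon d
    haveI := KTheory.LocFree.isQCoh hL.isFinLocFree
    rw [hd]
    refine (hlam' i L _ hL.isFinLocFree (isExtPow_extPow i L)).trans ?_
    exact KvbModel.kcl_zero (hL.isZero_extPow hi)

end Groth.KTheory.SpecialVb
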