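import Groth.Agent.KTheory.ProjBdlMain
import Groth.Agent.KTheory.KvbPull
import Groth.Agent.LocFree.ExtPullback

/-!
# Modules of rank at most one, and completion of a bundle to constant rank
-/

set_option autoImplicit false
set_option linter.style.haveILetI false
universe u

open CategoryTheory CategoryTheory.Limits AlgebraicGeometry TopologicalSpace Opposite
open Groth.PicAux

namespace Groth.KTheory.SubLine

open Groth.LocFree LambdaVb

variable {X Y : Scheme.{u}}

/-- `M` has rank `r` on `U`. -/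
def RankOn (M : X.Modules) (U : X.Opens) (r : ℕ) : Prop :=
  FlatMod.IsFinLocFreeOfRank r ((Scheme.Modules.pullback U.ι).obj M)

theorem RankOn.of_rank {M : X.Modules} {r : ℕ} (h : FlatMod.IsFinLocFreeOfRank r M) (U : X.Opens) :
    RankOn M U r := isFinLocFreeOfRank_pullback _ h

theorem RankOn.of_iso {M N : X.Modules} (e : M ≅ N) {U : X.Opens} {r : ℕ} (h : RankOn M U r) :
    RankOn N U r := isFinLocFreeOfRank_of_iso ((Scheme.Modules.pullback U.ι).mapIso e) h

theorem RankOn.mono {M : X.Modules} {U V : X.Opens} (hle : V ≤ U) {r : ℕ} (h : RankOn M U r) :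
    RankOn M V r :=
  isFinLocFreeOfRank_of_iso ((Scheme.Modules.pullbackComp (X.homOfLE hle) U.ι).app M ≪≫
    (Scheme.Modules.pullbackCongr (X.homOfLE_ι hle)).app M) (isFinLocFreeOfRank_pullback _ h)

theorem RankOn.biprod {M N : X.Modules} {U : X.Opens} {a b : ℕ} (hM : RankOn M U a) (hN : RankOn N U b) :
    RankOn (M ⊞ N) U (a + b) := by
  haveI : PreservesColimitsOfSize.{0, 0} (Scheme.Modules.pullback U.ι) :=
    (Scheme.Modules.pullbackPushforwardAdjunction U.ι).leftAdjoint_preservesColimits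
  haveI := preservesBinaryBiproducts_of_preservesBinaryCoproducts (Scheme.Modules.pullback U.ι)
  exact isFinLocFreeOfRank_of_iso ((Scheme.Modules.pullback U.ι).mapBiprod M N).symm
    (isFinLocFreeOfRank_biprod hM hN)

theorem isFinLocFree_of_rankOn {M : X.Modules}
    (h : ∀ x : X, ∃ (U : X.Opens) (r : ℕ), x ∈ U ∧ RankOn M U r) : FlatMod.IsFinLocFree M :=
  ProjBdl.isFinLocFree_of_local fun x => by
    obtain ⟨U, r, hx, hr⟩ := h x
    exact ⟨U, U.ι, inferInstance, ⟨x, hx⟩, rfl, isFinLocFree_of_rank hr⟩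

theorem isFinLocFreeOfRank_of_rankOn {M : X.Modules} {r : ℕ}
    (h : ∀ x : X, ∃ U : X.Opens, x ∈ U ∧ RankOn M U r) : FlatMod.IsFinLocFreeOfRank r M := by
  intro x
  obtain ⟨W, hx, hW⟩ := h x
  obtain ⟨U, hwU, ⟨e⟩⟩ := hW ⟨x, hx⟩
  let U' : X.Opens := W.ι ''ᵁ U
  have hr : Set.range (U.ι ≫ W.ι).base = Set.range U'.ι.base := by
    rw [Scheme.Hom.comp_base, TopCat.coe_comp, Set.range_comp, Scheme.Opens.range_ι, Scheme.Opens.range_ι]
    rfl
  let g := (IsOpenImmersion.isoOfRangeEq (U.ι ≫ W.ι) U'.ι hr).inv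
  have hg : g ≫ U.ι ≫ W.ι = U'.ι := IsOpenImmersion.isoOfRangeEq_inv_fac _ _ hr
  exact ⟨U', ⟨⟨x, hx⟩, hwU, rfl⟩, ⟨(Scheme.Modules.restrictFunctorIsoPullback U'.ι).app M ≪≫
    (Scheme.Modules.pullbackCongr hg.symm).app M ≪≫ ((Scheme.Modules.pullbackComp g (U.ι ≫ W.ι)).app M).symm ≪≫
    (Scheme.Modules.pullback g).mapIso (((Scheme.Modules.pullbackComp U.ι W.ι).app M).symm ≪≫
      ((Scheme.Modules.restrictFunctorIsoPullback U.ι).app _).symm ≪≫ e) ≪≫
    (ProjBdl.nonempty_pullback_freeMod g r).some⟩⟩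

theorem exists_rankOn {M : X.Modules} (hM : FlatMod.IsFinLocFree M) (x : X) :
    ∃ (U : X.Opens) (r : ℕ), x ∈ U ∧ RankOn M U r ∧
      ∀ y ∈ U, Module.finrank (X.presheaf.stalk y) (M.presheaf.stalk y) = r := by
  haveI := KTheory.LocFree.isQCoh hM
  obtain ⟨U, r, s, -, hx, hs⟩ := exists_affine_basis hM x
  exact ⟨U, r, hx, isFinLocFreeOfRank_of_iso ((nonempty_iso_of_basis hs).some.symm ≪≫
      (Scheme.Modules.restrictFunctorIsoPullback U.ι).app M) (isFinLocFreeOfRank_freeMod _ r),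
    fun y hy => finrank_stalk_of_basis hs hy⟩

/-- Rank at most one everywhere. -/
def IsSubLine (M : X.Modules) : Prop :=
  ∀ x : X, ∃ (U : X.Opens) (r : ℕ), r ≤ 1 ∧ x ∈ U ∧ RankOn M U r

theorem IsSubLine.isFinLocFree {M : X.Modules} (h : IsSubLine M) : FlatMod.IsFinLocFree M :=
  isFinLocFree_of_rankOn fun x => let ⟨U, r, _, hx, hr⟩ := h x; ⟨U, r, hx, hr⟩

theorem isSubLine_of_rank {M : X.Modules} (h : FlatMod.IsFinLocFreeOfRank 1 M) : IsSubLine M :=
  fun _ => ⟨⊤, 1, le_rfl, trivial, RankOn.of_rank h ⊤⟩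

theorem isSubLine_unit : IsSubLine (Coh.structureModule X) :=
  isSubLine_of_rank (isFinLocFreeOfRank_unit X)

theorem IsSubLine.tensor {M N : X.Modules} (hM : IsSubLine M) (hN : IsSubLine N) :
    IsSubLine (CohB1.tensorMod M N) := fun x => by
  obtain ⟨U, a, ha, hx, hU⟩ := hM x
  obtain ⟨V, b, hb, hx', hV⟩ := hN x
  refine ⟨U ⊓ V, a * b, by nlinarith, ⟨hx, hx'⟩, ?_⟩
  exact isFinLocFreeOfRank_of_iso (exists_pullback_tensorMod _ M N).choose.symm
    (isFinLocFreeOfRank_tensorMod (hU.mono inf_le_left) (hV.mono inf_le_right))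

theorem IsSubLine.pullback {M : X.Modules} (hM : IsSubLine M) (f : Y ⟶ X) :
    IsSubLine ((Scheme.Modules.pullback f).obj M) := fun y => by
  obtain ⟨U, a, ha, hx, hU⟩ := hM (f y)
  refine ⟨f ⁻¹ᵁ U, a, ha, hx, ?_⟩
  exact isFinLocFreeOfRank_of_iso ((Scheme.Modules.pullbackComp (f ∣_ U) U.ι).app M ≪≫
    (Scheme.Modules.pullbackCongr (morphismRestrict_ι f U)).app M ≪≫
    ((Scheme.Modules.pullbackComp (f ⁻¹ᵁ U).ι f).app M).symm) (isFinLocFreeOfRank_pullback (f ∣_ U) hU)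

theorem IsSubLine.isZero_extPow {M : X.Modules} (hM : IsSubLine M) {k : ℕ} (hk : 2 ≤ k) :
    IsZero (extPow k M) := by
  have hf := hM.isFinLocFree
  haveI := KTheory.LocFree.isQCoh hf
  haveI : (extPow k M).IsQuasicoherent := KTheory.LocFree.isQCoh (isFinLocFree_extPow hf k)
  refine ProjBdl.isZero_of_local fun x => ?_
  obtain ⟨U, a, ha, hx, hU⟩ := hM x
  refine ⟨U, U.ι, inferInstance, ⟨x, hx⟩, rfl, ?_⟩
  have h := isFinLocFreeOfRank_extPow hU k
  rw [Nat.choose_eq_zero_of_lt (by omega)] at h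
  exact IsZero.of_iso (KvbModel.isZero_of_rank_zero h) (asIso (pullExtHom U.ι k M))

/-- The structure module of an open, extended by zero, for a clopen open. -/
noncomputable abbrev piece (W : X.Opens) : X.Modules :=
  (Scheme.Modules.pushforward W.ι).obj (Coh.structureModule (W : Scheme.{u}))

theorem rankOn_piece_of_le {W U : X.Opens} (h : U ≤ W) : RankOn (piece W) U 1 :=
  RankOn.mono h (isFinLocFreeOfRank_of_iso
    (((asIso (Scheme.Modules.restrictAdjunction W.ι).counit).app (Coh.structureModule (W : Scheme.{u}))).symm ≪≫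
      (Scheme.Modules.restrictFunctorIsoPullback W.ι).app (piece W)) (isFinLocFreeOfRank_unit _))

theorem rankOn_piece_of_disjoint {W U : X.Opens} (h : U ⊓ W = ⊥) : RankOn (piece W) U 0 := by
  have hz : IsZero ((Scheme.Modules.restrictFunctor U.ι).obj (piece W)) := by
    rw [IsZero.iff_id_eq_zero]
    ext V x
    have hemp : ∀ w : (W : Scheme.{u}), w ∈ W.ι ⁻¹ᵁ (U.ι ''ᵁ V) → False := fun w hw => by
      obtain ⟨v, -, hv⟩ := hw
      have : W.ι w ∈ U ⊓ W := ⟨hv ▸ v.2, w.2⟩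
      rw [h] at this
      exact this
    haveI : Subsingleton Γ(Coh.structureModule (W : Scheme.{u}), W.ι ⁻¹ᵁ (U.ι ''ᵁ V)) := by
      refine subsingleton_of_forall_eq 0 fun z => ?_
      exact res_ext (fun e : Empty => e.elim) (fun e => e.elim) (fun w hw => (hemp w hw).elim) fun e => e.elim
    exact @Subsingleton.elim Γ(Coh.structureModule (W : Scheme.{u}), W.ι ⁻¹ᵁ (U.ι ''ᵁ V)) _ _ _
  refine isFinLocFreeOfRank_of_iso ((Scheme.Modules.restrictFunctorIsoPullback U.ι).app (piece W)) ?_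
  rw [isFinLocFreeOfRank_iff_finrank]
  refine ⟨KTheory.LocFree.isFinLocFree_zero hz, fun u => ?_⟩
  haveI : Subsingleton (((Scheme.Modules.restrictFunctor U.ι).obj (piece W)).presheaf.stalk u) :=
    AddCommGrpCat.subsingleton_of_isZero ((QCohMod.stalk u).map_isZero hz)
  exact Module.finrank_zero_of_subsingleton

theorem isSubLine_piece {W : X.Opens} (hW : IsClosed (W : Set X)) : IsSubLine (piece W) := fun x => by
  by_cases hx : x ∈ W
  · exact ⟨W, 1, le_rfl, hx, rankOn_piece_of_le le_rfl⟩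
  · refine ⟨⟨(W : Set X)ᶜ, hW.isOpen_compl⟩, 0, Nat.zero_le _, hx, rankOn_piece_of_disjoint ?_⟩
    ext y
    simp

end Groth.KTheory.SubLine
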