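import Mathlib.Algebra.Homology.DerivedCategory.TStructure
import Mathlib.Algebra.Homology.DerivedCategory.FullyFaithful
import Mathlib.Algebra.Homology.DerivedCategory.HomologySequence
import Mathlib.CategoryTheory.Triangulated.TStructure.TruncLTGE

/-!
# Morphisms between objects with two nonzero cohomology objects
-/

set_option autoImplicit false
universe w v u
open CategoryTheory CategoryTheory.Limits CategoryTheory.Pretriangulated

namespace Groth.Agent.TwoStep

variable {C : Type u} [Category.{v} C] [Abelian C] [HasDerivedCategory.{w} C]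

open DerivedCategory.TStructure (t)

lemma eq_zero_of_homology {X Y : DerivedCategory C} (n : ℤ) [X.IsGE n] [X.IsLE n] [Y.IsGE n] [Y.IsLE n]
    (f : X ⟶ Y) (h : (DerivedCategory.homologyFunctor C n).map f = 0) : f = 0 := by
  obtain ⟨A, ⟨eA⟩⟩ := DerivedCategory.exists_iso_singleFunctor_obj_of_isGE_of_isLE X n
  obtain ⟨B, ⟨eB⟩⟩ := DerivedCategory.exists_iso_singleFunctor_obj_of_isGE_of_isLE Y n
  obtain ⟨g, hg⟩ := (DerivedCategory.singleFunctor C n).map_surjective (eA.inv ≫ f ≫ eB.hom)
  let σ := DerivedCategory.singleFunctorCompHomologyFunctorIso C n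
  have h0 : (DerivedCategory.homologyFunctor C n).map ((DerivedCategory.singleFunctor C n).map g) = 0 := by
    rw [hg, Functor.map_comp, Functor.map_comp, h, zero_comp, comp_zero]
  have hg0 : g = 0 := by
    have := NatIso.naturality_1 σ g
    dsimp at this
    rw [h0, zero_comp, comp_zero] at this
    exact this.symm
  rw [hg0, Functor.map_zero] at hg
  rw [← cancel_epi eA.inv, ← cancel_mono eB.hom, Category.assoc, ← hg, comp_zero, zero_comp]

theorem existsUnique_fac (q : ℤ) {A B : DerivedCategory C}
    [A.IsGE (q - 1)] [A.IsLE q] [B.IsGE (q - 1)] [B.IsLE q] (u : A ⟶ B)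
    (h₁ : (DerivedCategory.homologyFunctor C (q - 1)).map u = 0)
    (h₂ : (DerivedCategory.homologyFunctor C q).map u = 0) :
    ∃! L : (t.truncGE q).obj A ⟶ (t.truncLT q).obj B,
      u = (t.truncGEπ q).app A ≫ L ≫ (t.truncLTι q).app B := by
  let TA := (t.triangleLTGE q).obj A
  let TB := (t.triangleLTGE q).obj B
  have hA : TA ∈ distTriang _ := t.triangleLTGE_distinguished q A
  have hB : TB ∈ distTriang _ := t.triangleLTGE_distinguished q B
  have : ((t.truncLT q).obj A).IsLE (q - 1) := inferInstance
  have : ((t.truncLT q).obj B).IsLE (q - 1) := inferInstance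
  have : ((t.truncLT q).obj A).IsGE (q - 1) := inferInstance
  have : ((t.truncLT q).obj B).IsGE (q - 1) := inferInstance
  have : ((t.truncGE q).obj A).IsGE q := inferInstance
  have : ((t.truncGE q).obj B).IsGE q := inferInstance
  have : ((t.truncGE q).obj A).IsLE q := inferInstance
  have : ((t.truncGE q).obj B).IsLE q := inferInstance
  -- the quotient component
  have hepi : Epi ((DerivedCategory.homologyFunctor C q).map ((t.truncGEπ q).app A)) :=
    (DerivedCategory.HomologySequence.epi_homologyMap_mor₂_iff TA hA q (q + 1)).2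
      ((DerivedCategory.isZero_of_isLE ((t.truncLT q).obj A) (q - 1) (q + 1) (by omega)).eq_of_tgt _ _)
  have hv : (t.truncGE q).map u = 0 := eq_zero_of_homology q _ (by
    rw [← cancel_epi ((DerivedCategory.homologyFunctor C q).map ((t.truncGEπ q).app A)), comp_zero,
      ← Functor.map_comp, t.truncGEπ_naturality, Functor.map_comp, h₂, zero_comp])
  obtain ⟨g, hg⟩ : ∃ g : A ⟶ (t.truncLT q).obj B, u = g ≫ (t.truncLTι q).app B := TB.coyoneda_exact₂ hB u (by
    change u ≫ (t.truncGEπ q).app B = 0
    rw [← t.truncGEπ_naturality, hv, comp_zero])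
  -- the sub component
  have hmono : Mono ((DerivedCategory.homologyFunctor C (q - 1)).map ((t.truncLTι q).app B)) :=
    (DerivedCategory.HomologySequence.mono_homologyMap_mor₁_iff TB hB (q - 2) (q - 1)).2
      ((DerivedCategory.isZero_of_isGE ((t.truncGE q).obj B) q (q - 2) (by omega)).eq_of_src _ _)
  have hw : (t.truncLTι q).app A ≫ g = 0 := eq_zero_of_homology (q - 1) _ (by
    rw [← cancel_mono ((DerivedCategory.homologyFunctor C (q - 1)).map ((t.truncLTι q).app B)), zero_comp,
      ← Functor.map_comp, Category.assoc]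
    rw [← hg, Functor.map_comp, h₁, comp_zero])
  obtain ⟨L, hL⟩ : ∃ L : (t.truncGE q).obj A ⟶ (t.truncLT q).obj B, g = (t.truncGEπ q).app A ≫ L :=
    TA.yoneda_exact₂ hA g hw
  refine ⟨L, ?_, ?_⟩
  · dsimp only
    rw [← Category.assoc, ← hL]
    exact hg
  · intro L' hL'
    rw [← sub_eq_zero]
    have h0 : (t.truncGEπ q).app A ≫ (L' - L) ≫ (t.truncLTι q).app B = 0 := by
      rw [Preadditive.sub_comp, Preadditive.comp_sub]
      refine sub_eq_zero.2 (hL'.symm.trans ?_)
      rw [← Category.assoc, ← hL]; exact hg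
    obtain ⟨y, hy⟩ := TA.yoneda_exact₃ hA _ h0
    have h1 : (L' - L) ≫ (t.truncLTι q).app B = 0 := by
      refine hy.trans ?_
      rw [ t.zero_of_isLE_of_isGE y (q - 2) (q - 1) (by omega)
        (t.isLE_shift ((t.truncLT q).obj A) (q - 1) 1 (q - 2) (by omega)) (inferInstanceAs (t.IsGE B (q - 1))), comp_zero]
      rfl
    apply (shiftFunctor (DerivedCategory C) (1 : ℤ)).map_injective
    rw [Functor.map_zero]
    obtain ⟨z, hz⟩ := TB.coyoneda_exact₁ hB ((L' - L)⟦(1 : ℤ)⟧')
      ((((shiftFunctor (DerivedCategory C) (1 : ℤ)).map_comp (L' - L) ((t.truncLTι q).app B)).symm.trans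
        (congrArg _ h1)).trans (Functor.map_zero _ _ _))
    refine hz.trans ?_
    rw [t.zero_of_isLE_of_isGE z (q - 1) q (by omega)
      (t.isLE_shift ((t.truncGE q).obj A) q 1 (q - 1) (by omega)) (inferInstanceAs (t.IsGE ((t.truncGE q).obj B) q)), zero_comp]
    rfl

end Groth.Agent.TwoStep
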