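import Groth.Agent.DerivedAdj.Devissage
import Mathlib.Algebra.Homology.DerivedCategory.SingleTriangle
import Mathlib.CategoryTheory.Abelian.DiagramLemmas.Four

/-!
# Way-out functors
-/

set_option autoImplicit false
universe w₁ w₂ v₁ v₂ u₁ u₂
open CategoryTheory Limits Pretriangulated DerivedCategory

namespace Groth.Agent.WayOut

variable {A : Type u₁} [Category.{v₁} A] [Abelian A] [HasDerivedCategory.{w₁} A]
  {B : Type u₂} [Category.{v₂} B] [Abelian B] [HasDerivedCategory.{w₂} B]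
  {Φ Ψ : DerivedCategory A ⥤ DerivedCategory B} [Φ.CommShift ℤ] [Φ.IsTriangulated]
  [Ψ.CommShift ℤ] [Ψ.IsTriangulated] (τ : Φ ⟶ Ψ) [NatTrans.CommShift τ ℤ]

local notation "tA" => (TStructure.t : Triangulated.TStructure (DerivedCategory A))

omit [Φ.IsTriangulated] [Ψ.IsTriangulated] [NatTrans.CommShift τ ℤ] in
lemma isIso_app_of_isZero [Φ.PreservesZeroMorphisms] [Ψ.PreservesZeroMorphisms]
    (X : DerivedCategory A) (h : IsZero X) : IsIso (τ.app X) :=
  ⟨⟨0, (Φ.map_isZero h).eq_of_src _ _, (Ψ.map_isZero h).eq_of_src _ _⟩⟩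

variable (P : ObjectProperty A)
  (hη : ∀ X : A, P X → IsIso (τ.app ((singleFunctor A 0).obj X)))

include hη in
theorem isIso_of_bounded (X : DerivedCategory A) (a b : ℤ) [X.IsGE a] [X.IsLE b]
    (hX : ∀ i : ℤ, a ≤ i → i ≤ b → P ((homologyFunctor A i).obj X)) : IsIso (τ.app X) := by
  let G : ObjectProperty A := fun M => IsIso (τ.app ((singleFunctor A 0).obj M))
  have hG0 : ∀ M : A, IsZero M → G M :=
    fun M hM => isIso_app_of_isZero τ _ ((singleFunctor A 0).map_isZero hM)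
  have : G.IsClosedUnderIsomorphisms :=
    ⟨fun {M N} e hM => (NatTrans.isIso_app_iff_of_iso τ ((singleFunctor A 0).mapIso e)).1 hM⟩
  refine Groth.DerivedAdj.devissage G (fun Z => IsIso (τ.app Z))
    (fun e hZ => (NatTrans.isIso_app_iff_of_iso τ e).1 hZ)
    (fun Z hZ => isIso_app_of_isZero τ Z hZ)
    (fun T hT => Groth.DerivedAdj.isIso_app_obj₂ τ T hT)
    (fun M hM n => Groth.DerivedAdj.isIso_app_single τ M n hM) X a b (fun q => ?_) hG0
  by_cases hq : a ≤ q ∧ q ≤ b
  · exact hη _ (hX q hq.1 hq.2)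
  · by_cases h : q < a
    · exact hG0 _ (isZero_of_isGE X a q h)
    · exact hG0 _ (isZero_of_isLE X b q (by omega))

variable (hΦ : ∀ n₁ : ℤ, ∃ n₂ : ℤ, ∀ Y : DerivedCategory A, Y.IsGE n₂ → (Φ.obj Y).IsGE n₁)
  (hΨ : ∀ n₁ : ℤ, ∃ n₂ : ℤ, ∀ Y : DerivedCategory A, Y.IsGE n₂ → (Ψ.obj Y).IsGE n₁)

lemma isGE_mono {X : DerivedCategory A} {m n : ℤ} (h : m ≤ n) (hX : X.IsGE n) : X.IsGE m := by
  rw [isGE_iff]
  exact fun i hi => isZero_of_isGE X n i (by omega)

lemma isLE_mono {X : DerivedCategory A} {m n : ℤ} (h : m ≤ n) (hX : X.IsLE m) : X.IsLE n := by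
  rw [isLE_iff]
  exact fun i hi => isZero_of_isLE X m i (by omega)

include hη hΦ hΨ in
theorem isIso_of_isGE (X : DerivedCategory A) (a : ℤ) [X.IsGE a]
    (hX : ∀ i : ℤ, a ≤ i → P ((homologyFunctor A i).obj X)) : IsIso (τ.app X) := by
  rw [DerivedCategory.isIso_iff]
  intro i
  obtain ⟨m₁, hm₁⟩ := hΦ (i + 2)
  obtain ⟨m₂, hm₂⟩ := hΨ (i + 2)
  let N := max m₁ m₂
  let Y := ((tA).truncLE N).obj X
  have hY : IsIso (τ.app Y) := by
    have : Y.IsGE a := Groth.DerivedAdj.isGE_truncLE X N a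
    have hle : Y.IsLE N := inferInstanceAs ((tA).IsLE Y N)
    refine isIso_of_bounded τ (fun M => IsIso (τ.app ((singleFunctor A 0).obj M))) (fun _ h => h) Y a N
      (fun q hq1 hq => ?_)
    have := Groth.DerivedAdj.isIso_homologyMap_truncLE X N q hq
    exact (NatTrans.isIso_app_iff_of_iso τ ((singleFunctor A 0).mapIso
      (asIso ((homologyFunctor A q).map (((tA).truncLEι N).app X))))).2 (hη _ (hX q hq1))
  let T := ((tA).triangleLEGT N).obj X
  have hT : T ∈ distTriang (DerivedCategory A) := (tA).triangleLEGT_distinguished _ X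
  have h3 : T.obj₃.IsGE (N + 1) :=
    inferInstanceAs ((tA).IsGE (((tA).truncGT N).obj X) (N + 1))
  have key : ∀ (F : DerivedCategory A ⥤ DerivedCategory B) [F.CommShift ℤ] [F.IsTriangulated],
      (F.obj T.obj₃).IsGE (i + 2) → IsIso ((homologyFunctor B i).map (F.map T.mor₁)) := by
    intro F _ _ hF
    have : (F.mapTriangle.obj T).obj₃.IsGE (i + 2) := hF
    have : Mono ((homologyFunctor B i).map (F.mapTriangle.obj T).mor₁) :=
      (HomologySequence.mono_homologyMap_mor₁_iff _ (F.map_distinguished T hT) (i - 1) i (by lia)).2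
        ((isZero_of_isGE _ (i + 2) (i - 1) (by lia)).eq_of_src _ _)
    have : Epi ((homologyFunctor B i).map (F.mapTriangle.obj T).mor₁) :=
      (HomologySequence.epi_homologyMap_mor₁_iff _ (F.map_distinguished T hT) i).2
        ((isZero_of_isGE _ (i + 2) i (by lia)).eq_of_tgt _ _)
    exact isIso_of_mono_of_epi ((homologyFunctor B i).map (F.mapTriangle.obj T).mor₁)
  have k1 := key Φ (hm₁ _ (isGE_mono (by omega) h3))
  have k2 := key Ψ (hm₂ _ (isGE_mono (by omega) h3))
  have e := congrArg (homologyFunctor B i).map (τ.naturality T.mor₁)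
  rw [Functor.map_comp, Functor.map_comp] at e
  have : IsIso (τ.app T.obj₁) := hY
  have : IsIso ((homologyFunctor B i).map (Φ.map T.mor₁) ≫ (homologyFunctor B i).map (τ.app T.obj₂)) := by
    rw [e]; exact @IsIso.comp_isIso _ _ _ _ _ _ _ (Functor.map_isIso _ _) k2
  exact @IsIso.of_isIso_comp_left _ _ _ _ _ ((homologyFunctor B i).map (Φ.map T.mor₁)) _ k1 this

variable (hΦ' : ∀ n₁ : ℤ, ∃ n₂ : ℤ, ∀ Y : DerivedCategory A, Y.IsLE n₂ → (Φ.obj Y).IsLE n₁)
  (hΨ' : ∀ n₁ : ℤ, ∃ n₂ : ℤ, ∀ Y : DerivedCategory A, Y.IsLE n₂ → (Ψ.obj Y).IsLE n₁)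

include hη hΦ' hΨ' hΦ hΨ in
theorem isIso_of_both (X : DerivedCategory A)
    (hX : ∀ i : ℤ, P ((homologyFunctor A i).obj X)) : IsIso (τ.app X) := by
  rw [DerivedCategory.isIso_iff]
  intro i
  obtain ⟨m₁, hm₁⟩ := hΦ' (i - 2)
  obtain ⟨m₂, hm₂⟩ := hΨ' (i - 2)
  let N := min m₁ m₂
  let T := ((tA).triangleLEGT N).obj X
  have hT : T ∈ distTriang (DerivedCategory A) := (tA).triangleLEGT_distinguished _ X
  have h1 : T.obj₁.IsLE N := inferInstanceAs ((tA).IsLE (((tA).truncLE N).obj X) N)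
  have h3 : T.obj₃.IsGE (N + 1) :=
    inferInstanceAs ((tA).IsGE (((tA).truncGT N).obj X) (N + 1))
  have hZ : IsIso (τ.app T.obj₃) := by
    refine isIso_of_isGE τ (fun M => IsIso (τ.app ((singleFunctor A 0).obj M))) (fun _ h => h)
      hΦ hΨ T.obj₃ (N + 1) (fun q hq => ?_)
    have : Mono ((homologyFunctor A q).map T.mor₂) :=
      (HomologySequence.mono_homologyMap_mor₂_iff T hT q).2
        ((isZero_of_isLE T.obj₁ N q (by omega)).eq_of_src _ _)
    have : Epi ((homologyFunctor A q).map T.mor₂) :=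
      (HomologySequence.epi_homologyMap_mor₂_iff T hT q (q + 1) rfl).2
        ((isZero_of_isLE T.obj₁ N (q + 1) (by omega)).eq_of_tgt _ _)
    have := isIso_of_mono_of_epi ((homologyFunctor A q).map T.mor₂)
    exact (NatTrans.isIso_app_iff_of_iso τ ((singleFunctor A 0).mapIso
      (asIso ((homologyFunctor A q).map T.mor₂)))).1 (hη _ (hX q))
  have key : ∀ (F : DerivedCategory A ⥤ DerivedCategory B) [F.CommShift ℤ] [F.IsTriangulated],
      (F.obj T.obj₁).IsLE (i - 2) → IsIso ((homologyFunctor B i).map (F.map T.mor₂)) := by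
    intro F _ _ hF
    have : (F.mapTriangle.obj T).obj₁.IsLE (i - 2) := hF
    have : Mono ((homologyFunctor B i).map (F.mapTriangle.obj T).mor₂) :=
      (HomologySequence.mono_homologyMap_mor₂_iff _ (F.map_distinguished T hT) i).2
        ((isZero_of_isLE _ (i - 2) i (by lia)).eq_of_src _ _)
    have : Epi ((homologyFunctor B i).map (F.mapTriangle.obj T).mor₂) :=
      (HomologySequence.epi_homologyMap_mor₂_iff _ (F.map_distinguished T hT) i (i + 1) rfl).2
        ((isZero_of_isLE _ (i - 2) (i + 1) (by lia)).eq_of_tgt _ _)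
    exact isIso_of_mono_of_epi ((homologyFunctor B i).map (F.mapTriangle.obj T).mor₂)
  have k1 := key Φ (hm₁ _ (isLE_mono (by omega) h1))
  have k2 := key Ψ (hm₂ _ (isLE_mono (by omega) h1))
  have e := congrArg (homologyFunctor B i).map (τ.naturality T.mor₂)
  rw [Functor.map_comp, Functor.map_comp] at e
  have : IsIso ((homologyFunctor B i).map (τ.app T.obj₂) ≫ (homologyFunctor B i).map (Ψ.map T.mor₂)) := by
    rw [← e]; exact @IsIso.comp_isIso _ _ _ _ _ _ _ k1 (Functor.map_isIso _ _)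
  exact @IsIso.of_isIso_comp_right _ _ _ _ _ _ ((homologyFunctor B i).map (Ψ.map T.mor₂)) k2 this

section cogenerating

/-- `H^j` of the component of `τ` is an isomorphism. -/
abbrev HIso (Z : DerivedCategory A) (j : ℤ) : Prop := IsIso ((homologyFunctor B j).map (τ.app Z))

lemma isIso_step (T : Triangle (DerivedCategory A)) (hT : T ∈ distTriang (DerivedCategory A))
    (n₀ n₁ : ℤ) (h : n₀ + 1 = n₁) :
    (HIso τ T.obj₂ n₀ → HIso τ T.obj₃ n₀ → HIso τ T.obj₂ n₁ →
      Mono ((homologyFunctor B n₁).map (τ.app T.obj₁))) ∧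
    (HIso τ T.obj₃ n₀ → HIso τ T.obj₂ n₁ → Mono ((homologyFunctor B n₁).map (τ.app T.obj₃)) →
      Epi ((homologyFunctor B n₁).map (τ.app T.obj₁))) := by
  let H := DerivedCategory.homologyFunctor B 0
  let φ : Φ.mapTriangle.obj T ⟶ Ψ.mapTriangle.obj T :=
    Triangle.homMk _ _ (τ.app T.obj₁) (τ.app T.obj₂) (τ.app T.obj₃) (τ.naturality T.mor₁) (τ.naturality T.mor₂)
      (by
        change (Φ.map T.mor₃ ≫ (Φ.commShiftIso (1 : ℤ)).hom.app T.obj₁) ≫ (τ.app T.obj₁)⟦(1 : ℤ)⟧' =
          τ.app T.obj₃ ≫ Ψ.map T.mor₃ ≫ (Ψ.commShiftIso (1 : ℤ)).hom.app T.obj₁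
        rw [Category.assoc, NatTrans.shift_app_comm, ← τ.naturality_assoc])
  let R₁ := H.homologySequenceComposableArrows₅ (Φ.mapTriangle.obj T) n₀ n₁ h
  let R₂ := H.homologySequenceComposableArrows₅ (Ψ.mapTriangle.obj T) n₀ n₁ h
  let f : R₁ ⟶ R₂ := ComposableArrows.homMk₅ ((H.shift n₀).map φ.hom₁) ((H.shift n₀).map φ.hom₂)
    ((H.shift n₀).map φ.hom₃) ((H.shift n₁).map φ.hom₁) ((H.shift n₁).map φ.hom₂) ((H.shift n₁).map φ.hom₃)
    (((H.shift n₀).map_comp _ _).symm.trans ((congrArg (H.shift n₀).map φ.comm₁).trans ((H.shift n₀).map_comp _ _)))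
    (((H.shift n₀).map_comp _ _).symm.trans ((congrArg (H.shift n₀).map φ.comm₂).trans ((H.shift n₀).map_comp _ _)))
    (H.homologySequenceδ_naturality _ _ φ n₀ n₁ h).symm
    (((H.shift n₁).map_comp _ _).symm.trans ((congrArg (H.shift n₁).map φ.comm₁).trans ((H.shift n₁).map_comp _ _)))
    (((H.shift n₁).map_comp _ _).symm.trans ((congrArg (H.shift n₁).map φ.comm₂).trans ((H.shift n₁).map_comp _ _)))
  have e₁ : R₁.Exact :=
    H.homologySequenceComposableArrows₅_exact _ (Φ.map_distinguished T hT) n₀ n₁ h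
  have e₂ : R₂.Exact :=
    H.homologySequenceComposableArrows₅_exact _ (Ψ.map_distinguished T hT) n₀ n₁ h
  refine ⟨fun a b c => ?_, fun a b c => ?_⟩
  · exact Abelian.mono_of_epi_of_mono_of_mono'' (k := 1) (by omega) e₁ e₂ f 1 2 3 4 rfl rfl rfl rfl
      (@IsIso.epi_of_iso _ _ _ _ _ a) (@IsIso.mono_of_iso _ _ _ _ _ b) (@IsIso.mono_of_iso _ _ _ _ _ c)
  · exact Abelian.epi_of_epi_of_epi_of_mono'' (k := 2) (by omega) e₁ e₂ f 2 3 4 5 rfl rfl rfl rfl
      (@IsIso.epi_of_iso _ _ _ _ _ a) (@IsIso.epi_of_iso _ _ _ _ _ b) c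

omit [Φ.IsTriangulated] in
lemma exists_bound (hΦ : ∀ n₁ : ℤ, ∃ n₂ : ℤ, ∀ Y : DerivedCategory A, Y.IsGE n₂ → (Φ.obj Y).IsGE n₁) :
    ∃ c : ℤ, ∀ X : A, (Φ.obj ((singleFunctor A 0).obj X)).IsGE c := by
  obtain ⟨m, hm⟩ := hΦ 0
  refine ⟨-m, fun X => ?_⟩
  rw [isGE_iff]
  intro i hi
  have e : (singleFunctor A 0).obj X ≅ ((singleFunctor A m).obj X)⟦m⟧ :=
    (((singleFunctors A).shiftIso m 0 m (by omega)).app X).symm
  have hge : (Φ.obj ((singleFunctor A m).obj X)).IsGE 0 := hm _ inferInstance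
  exact (isZero_of_isGE (Φ.obj ((singleFunctor A m).obj X)) 0 (m + i) (by omega)).of_iso
    ((homologyFunctor B i).mapIso (Φ.mapIso e ≪≫ (Φ.commShiftIso m).app _) ≪≫
      ((homologyFunctor B 0).shiftIso m i (m + i) rfl).app _)

include hΦ hΨ hη in
theorem isIso_of_cogenerating (hP : ∀ X : A, ∃ (Y : A) (i : X ⟶ Y), P Y ∧ Mono i) (X : A) :
    IsIso (τ.app ((singleFunctor A 0).obj X)) := by
  obtain ⟨c₁, hc₁⟩ := exists_bound hΦ
  obtain ⟨c₂, hc₂⟩ := exists_bound hΨ
  let c := min c₁ c₂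
  have low : ∀ (X : A) (j : ℤ), j < c → HIso τ ((singleFunctor A 0).obj X) j := fun X j hj =>
    have := hc₁ X
    have := hc₂ X
    ⟨⟨0, (isZero_of_isGE (Φ.obj _) c₁ j (by omega)).eq_of_src _ _,
      (isZero_of_isGE (Ψ.obj _) c₂ j (by omega)).eq_of_src _ _⟩⟩
  have all : ∀ (k : ℕ) (j : ℤ), j < c + k → ∀ X : A, HIso τ ((singleFunctor A 0).obj X) j := by
    intro k
    induction k with
    | zero => exact fun j hj X => low X j (by simpa using hj)
    | succ k ih =>
      intro j hj X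
      by_cases hj' : j < c + k
      · exact ih j hj' X
      have hmono : ∀ X : A, Mono ((homologyFunctor B j).map (τ.app ((singleFunctor A 0).obj X))) := by
        intro X
        obtain ⟨Y, i, hY, hi⟩ := hP X
        let S := ShortComplex.mk i (cokernel.π i) (cokernel.condition i)
        have hS : S.ShortExact :=
          { exact := ShortComplex.exact_of_g_is_cokernel _ (cokernelIsCokernel i)
            mono_f := hi
            epi_g := inferInstanceAs (Epi (cokernel.π i)) }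
        have := hη Y hY
        exact (isIso_step τ hS.singleTriangle hS.singleTriangle_distinguished (j - 1) j (by omega)).1
          (ih (j - 1) (by omega) Y) (ih (j - 1) (by omega) _)
          (show IsIso ((homologyFunctor B j).map (τ.app ((singleFunctor A 0).obj Y))) from inferInstance)
      obtain ⟨Y, i, hY, hi⟩ := hP X
      let S := ShortComplex.mk i (cokernel.π i) (cokernel.condition i)
      have hS : S.ShortExact :=
        { exact := ShortComplex.exact_of_g_is_cokernel _ (cokernelIsCokernel i)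
          mono_f := hi
          epi_g := inferInstanceAs (Epi (cokernel.π i)) }
      have := hη Y hY
      have : Epi ((homologyFunctor B j).map (τ.app ((singleFunctor A 0).obj X))) :=
        (isIso_step τ hS.singleTriangle hS.singleTriangle_distinguished (j - 1) j (by omega)).2
          (ih (j - 1) (by omega) _)
          (show IsIso ((homologyFunctor B j).map (τ.app ((singleFunctor A 0).obj Y))) from inferInstance)
          (hmono _)
      have := hmono X
      exact isIso_of_mono_of_epi _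
  rw [DerivedCategory.isIso_iff]
  intro j
  exact all (j - c + 1).toNat j (by omega) X

end cogenerating

end Groth.Agent.WayOut
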